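import Cfsg.Agent.H7.Fi24E12.T

set_option autoImplicit false
set_option linter.unusedVariables false
set_option maxRecDepth 100000
set_option Elab.async false

namespace CfsgH7.Fi24.E12

theorem c0 : TC.rowsOk T 848 12 RT 85 95 307419 12 0 49 = true := by decide +kernel
theorem c49 : TC.rowsOk T 848 12 RT 85 95 307419 12 49 49 = true := by decide +kernel
theorem c98 : TC.rowsOk T 848 12 RT 85 95 307419 12 98 49 = true := by decide +kernel
theorem c147 : TC.rowsOk T 848 12 RT 85 95 307419 12 147 49 = true := by decide +kernel
theorem c196 : TC.rowsOk T 848 12 RT 85 95 307419 12 196 49 = true := by decide +kernel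
theorem c245 : TC.rowsOk T 848 12 RT 85 95 307419 12 245 49 = true := by decide +kernel
theorem c294 : TC.rowsOk T 848 12 RT 85 95 307419 12 294 50 = true := by decide +kernel
theorem c344 : TC.rowsOk T 848 12 RT 85 95 307419 12 344 50 = true := by decide +kernel

end CfsgH7.Fi24.E12
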