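import Cfsg.Agent.H7.Fi24E12.T

set_option autoImplicit false
set_option linter.unusedVariables false
set_option maxRecDepth 100000
set_option Elab.async false

namespace CfsgH7.Fi24.E12

theorem c394 : TC.rowsOk T 848 12 RT 85 95 307419 12 394 51 = true := by decide +kernel
theorem c445 : TC.rowsOk T 848 12 RT 85 95 307419 12 445 49 = true := by decide +kernel
theorem c494 : TC.rowsOk T 848 12 RT 85 95 307419 12 494 52 = true := by decide +kernel
theorem c546 : TC.rowsOk T 848 12 RT 85 95 307419 12 546 49 = true := by decide +kernel
theorem c595 : TC.rowsOk T 848 12 RT 85 95 307419 12 595 49 = true := by decide +kernel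
theorem c644 : TC.rowsOk T 848 12 RT 85 95 307419 12 644 52 = true := by decide +kernel
theorem c696 : TC.rowsOk T 848 12 RT 85 95 307419 12 696 49 = true := by decide +kernel
theorem c745 : TC.rowsOk T 848 12 RT 85 95 307419 12 745 49 = true := by decide +kernel

end CfsgH7.Fi24.E12
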