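import Cfsg.Agent.H7.Fi24E12.T

set_option autoImplicit false
set_option linter.unusedVariables false
set_option maxRecDepth 100000
set_option Elab.async false

namespace CfsgH7.Fi24.E12

theorem c3988 : TC.rowsOk T 848 12 RT 85 95 307419 12 3988 46 = true := by decide +kernel
theorem c4034 : TC.rowsOk T 848 12 RT 85 95 307419 12 4034 48 = true := by decide +kernel
theorem c4082 : TC.rowsOk T 848 12 RT 85 95 307419 12 4082 50 = true := by decide +kernel
theorem c4132 : TC.rowsOk T 848 12 RT 85 95 307419 12 4132 51 = true := by decide +kernel
theorem c4183 : TC.rowsOk T 848 12 RT 85 95 307419 12 4183 44 = true := by decide +kernel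
theorem c4227 : TC.rowsOk T 848 12 RT 85 95 307419 12 4227 43 = true := by decide +kernel
theorem c4270 : TC.rowsOk T 848 12 RT 85 95 307419 12 4270 45 = true := by decide +kernel
theorem c4315 : TC.rowsOk T 848 12 RT 85 95 307419 12 4315 44 = true := by decide +kernel

end CfsgH7.Fi24.E12
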