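import Cfsg.Agent.H7.Fi24E12.T

set_option autoImplicit false
set_option linter.unusedVariables false
set_option maxRecDepth 100000
set_option Elab.async false

namespace CfsgH7.Fi24.E12

theorem c4359 : TC.rowsOk T 848 12 RT 85 95 307419 12 4359 46 = true := by decide +kernel
theorem c4405 : TC.rowsOk T 848 12 RT 85 95 307419 12 4405 49 = true := by decide +kernel
theorem c4454 : TC.rowsOk T 848 12 RT 85 95 307419 12 4454 40 = true := by decide +kernel
theorem c4494 : TC.rowsOk T 848 12 RT 85 95 307419 12 4494 43 = true := by decide +kernel
theorem c4537 : TC.rowsOk T 848 12 RT 85 95 307419 12 4537 43 = true := by decide +kernel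
theorem c4580 : TC.rowsOk T 848 12 RT 85 95 307419 12 4580 47 = true := by decide +kernel
theorem c4627 : TC.rowsOk T 848 12 RT 85 95 307419 12 4627 39 = true := by decide +kernel
theorem c4666 : TC.rowsOk T 848 12 RT 85 95 307419 12 4666 41 = true := by decide +kernel

end CfsgH7.Fi24.E12
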