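import Cfsg.Agent.H7.Fi24E12.T

set_option autoImplicit false
set_option linter.unusedVariables false
set_option maxRecDepth 100000
set_option Elab.async false

namespace CfsgH7.Fi24.E12

theorem c4707 : TC.rowsOk T 848 12 RT 85 95 307419 12 4707 40 = true := by decide +kernel
theorem c4747 : TC.rowsOk T 848 12 RT 85 95 307419 12 4747 39 = true := by decide +kernel
theorem c4786 : TC.rowsOk T 848 12 RT 85 95 307419 12 4786 18 = true := by decide +kernel
theorem n0 : TC.cntLive T 848 12 307419 0 1500 = 95527 := by decide +kernel
theorem n1500 : TC.cntLive T 848 12 307419 1500 1500 = 95990 := by decide +kernel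
theorem n3000 : TC.cntLive T 848 12 307419 3000 1500 = 96000 := by decide +kernel
theorem n4500 : TC.cntLive T 848 12 307419 4500 304 = 19419 := by decide +kernel

end CfsgH7.Fi24.E12
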