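import Cfsg.Agent.H7.Fi24E12.T

set_option autoImplicit false
set_option linter.unusedVariables false
set_option maxRecDepth 100000
set_option Elab.async false

namespace CfsgH7.Fi24.E12

theorem c794 : TC.rowsOk T 848 12 RT 85 95 307419 12 794 52 = true := by decide +kernel
theorem c846 : TC.rowsOk T 848 12 RT 85 95 307419 12 846 51 = true := by decide +kernel
theorem c897 : TC.rowsOk T 848 12 RT 85 95 307419 12 897 48 = true := by decide +kernel
theorem c945 : TC.rowsOk T 848 12 RT 85 95 307419 12 945 49 = true := by decide +kernel
theorem c994 : TC.rowsOk T 848 12 RT 85 95 307419 12 994 52 = true := by decide +kernel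
theorem c1046 : TC.rowsOk T 848 12 RT 85 95 307419 12 1046 52 = true := by decide +kernel
theorem c1098 : TC.rowsOk T 848 12 RT 85 95 307419 12 1098 50 = true := by decide +kernel
theorem c1148 : TC.rowsOk T 848 12 RT 85 95 307419 12 1148 49 = true := by decide +kernel

end CfsgH7.Fi24.E12
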