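import Cfsg.Agent.H7.Fi24E12.T

set_option autoImplicit false
set_option linter.unusedVariables false
set_option maxRecDepth 100000
set_option Elab.async false

namespace CfsgH7.Fi24.E12

theorem c1601 : TC.rowsOk T 848 12 RT 85 95 307419 12 1601 51 = true := by decide +kernel
theorem c1652 : TC.rowsOk T 848 12 RT 85 95 307419 12 1652 48 = true := by decide +kernel
theorem c1700 : TC.rowsOk T 848 12 RT 85 95 307419 12 1700 48 = true := by decide +kernel
theorem c1748 : TC.rowsOk T 848 12 RT 85 95 307419 12 1748 49 = true := by decide +kernel
theorem c1797 : TC.rowsOk T 848 12 RT 85 95 307419 12 1797 50 = true := by decide +kernel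
theorem c1847 : TC.rowsOk T 848 12 RT 85 95 307419 12 1847 54 = true := by decide +kernel
theorem c1901 : TC.rowsOk T 848 12 RT 85 95 307419 12 1901 52 = true := by decide +kernel
theorem c1953 : TC.rowsOk T 848 12 RT 85 95 307419 12 1953 49 = true := by decide +kernel

end CfsgH7.Fi24.E12
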