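import Cfsg.Agent.H7.Fi24E12.T

set_option autoImplicit false
set_option linter.unusedVariables false
set_option maxRecDepth 100000
set_option Elab.async false

namespace CfsgH7.Fi24.E12

theorem c2002 : TC.rowsOk T 848 12 RT 85 95 307419 12 2002 47 = true := by decide +kernel
theorem c2049 : TC.rowsOk T 848 12 RT 85 95 307419 12 2049 50 = true := by decide +kernel
theorem c2099 : TC.rowsOk T 848 12 RT 85 95 307419 12 2099 49 = true := by decide +kernel
theorem c2148 : TC.rowsOk T 848 12 RT 85 95 307419 12 2148 52 = true := by decide +kernel
theorem c2200 : TC.rowsOk T 848 12 RT 85 95 307419 12 2200 55 = true := by decide +kernel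
theorem c2255 : TC.rowsOk T 848 12 RT 85 95 307419 12 2255 51 = true := by decide +kernel
theorem c2306 : TC.rowsOk T 848 12 RT 85 95 307419 12 2306 48 = true := by decide +kernel
theorem c2354 : TC.rowsOk T 848 12 RT 85 95 307419 12 2354 48 = true := by decide +kernel

end CfsgH7.Fi24.E12
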