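import Cfsg.Agent.H7.Fi24E12.T

set_option autoImplicit false
set_option linter.unusedVariables false
set_option maxRecDepth 100000
set_option Elab.async false

namespace CfsgH7.Fi24.E12

theorem c2402 : TC.rowsOk T 848 12 RT 85 95 307419 12 2402 50 = true := by decide +kernel
theorem c2452 : TC.rowsOk T 848 12 RT 85 95 307419 12 2452 49 = true := by decide +kernel
theorem c2501 : TC.rowsOk T 848 12 RT 85 95 307419 12 2501 52 = true := by decide +kernel
theorem c2553 : TC.rowsOk T 848 12 RT 85 95 307419 12 2553 55 = true := by decide +kernel
theorem c2608 : TC.rowsOk T 848 12 RT 85 95 307419 12 2608 53 = true := by decide +kernel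
theorem c2661 : TC.rowsOk T 848 12 RT 85 95 307419 12 2661 48 = true := by decide +kernel
theorem c2709 : TC.rowsOk T 848 12 RT 85 95 307419 12 2709 47 = true := by decide +kernel
theorem c2756 : TC.rowsOk T 848 12 RT 85 95 307419 12 2756 49 = true := by decide +kernel

end CfsgH7.Fi24.E12
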