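import Cfsg.Agent.H7.Fi24E12.T

set_option autoImplicit false
set_option linter.unusedVariables false
set_option maxRecDepth 100000
set_option Elab.async false

namespace CfsgH7.Fi24.E12

theorem c2805 : TC.rowsOk T 848 12 RT 85 95 307419 12 2805 49 = true := by decide +kernel
theorem c2854 : TC.rowsOk T 848 12 RT 85 95 307419 12 2854 50 = true := by decide +kernel
theorem c2904 : TC.rowsOk T 848 12 RT 85 95 307419 12 2904 52 = true := by decide +kernel
theorem c2956 : TC.rowsOk T 848 12 RT 85 95 307419 12 2956 55 = true := by decide +kernel
theorem c3011 : TC.rowsOk T 848 12 RT 85 95 307419 12 3011 52 = true := by decide +kernel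
theorem c3063 : TC.rowsOk T 848 12 RT 85 95 307419 12 3063 45 = true := by decide +kernel
theorem c3108 : TC.rowsOk T 848 12 RT 85 95 307419 12 3108 47 = true := by decide +kernel
theorem c3155 : TC.rowsOk T 848 12 RT 85 95 307419 12 3155 49 = true := by decide +kernel

end CfsgH7.Fi24.E12
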