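import Cfsg.Agent.H7.Fi24E12.T

set_option autoImplicit false
set_option linter.unusedVariables false
set_option maxRecDepth 100000
set_option Elab.async false

namespace CfsgH7.Fi24.E12

theorem c3204 : TC.rowsOk T 848 12 RT 85 95 307419 12 3204 49 = true := by decide +kernel
theorem c3253 : TC.rowsOk T 848 12 RT 85 95 307419 12 3253 50 = true := by decide +kernel
theorem c3303 : TC.rowsOk T 848 12 RT 85 95 307419 12 3303 52 = true := by decide +kernel
theorem c3355 : TC.rowsOk T 848 12 RT 85 95 307419 12 3355 54 = true := by decide +kernel
theorem c3409 : TC.rowsOk T 848 12 RT 85 95 307419 12 3409 52 = true := by decide +kernel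
theorem c3461 : TC.rowsOk T 848 12 RT 85 95 307419 12 3461 44 = true := by decide +kernel
theorem c3505 : TC.rowsOk T 848 12 RT 85 95 307419 12 3505 47 = true := by decide +kernel
theorem c3552 : TC.rowsOk T 848 12 RT 85 95 307419 12 3552 48 = true := by decide +kernel

end CfsgH7.Fi24.E12
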