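import Cfsg.Agent.H7.Fi24E12.T

set_option autoImplicit false
set_option linter.unusedVariables false
set_option maxRecDepth 100000
set_option Elab.async false

namespace CfsgH7.Fi24.E12

theorem c3600 : TC.rowsOk T 848 12 RT 85 95 307419 12 3600 48 = true := by decide +kernel
theorem c3648 : TC.rowsOk T 848 12 RT 85 95 307419 12 3648 49 = true := by decide +kernel
theorem c3697 : TC.rowsOk T 848 12 RT 85 95 307419 12 3697 51 = true := by decide +kernel
theorem c3748 : TC.rowsOk T 848 12 RT 85 95 307419 12 3748 52 = true := by decide +kernel
theorem c3800 : TC.rowsOk T 848 12 RT 85 95 307419 12 3800 52 = true := by decide +kernel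
theorem c3852 : TC.rowsOk T 848 12 RT 85 95 307419 12 3852 44 = true := by decide +kernel
theorem c3896 : TC.rowsOk T 848 12 RT 85 95 307419 12 3896 45 = true := by decide +kernel
theorem c3941 : TC.rowsOk T 848 12 RT 85 95 307419 12 3941 47 = true := by decide +kernel

end CfsgH7.Fi24.E12
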