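import Cfsg.Agent.H7.Fi24.A
import Cfsg.Agent.H7.Fi24E12.C0
import Cfsg.Agent.H7.Fi24E12.C1
import Cfsg.Agent.H7.Fi24E12.C2
import Cfsg.Agent.H7.Fi24E12.C3
import Cfsg.Agent.H7.Fi24E12.C4
import Cfsg.Agent.H7.Fi24E12.C5
import Cfsg.Agent.H7.Fi24E12.C6
import Cfsg.Agent.H7.Fi24E12.C7
import Cfsg.Agent.H7.Fi24E12.C8
import Cfsg.Agent.H7.Fi24E12.C9
import Cfsg.Agent.H7.Fi24E12.C10
import Cfsg.Agent.H7.Fi24E12.C11
import Cfsg.Agent.H7.Fi24E12.C12

set_option autoImplicit false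
set_option linter.unusedVariables false
set_option maxRecDepth 100000
set_option Elab.async false

namespace CfsgH7.Fi24.E12

theorem a49 : ∀ c < 307419, c < 64 * 49 → TC.rowOk T 848 12 RT 85 95 307419 12 c = true :=
  TC.rows_step TC.rows_zero c0 rfl
theorem a98 : ∀ c < 307419, c < 64 * 98 → TC.rowOk T 848 12 RT 85 95 307419 12 c = true :=
  TC.rows_step a49 c49 rfl
theorem a147 : ∀ c < 307419, c < 64 * 147 → TC.rowOk T 848 12 RT 85 95 307419 12 c = true :=
  TC.rows_step a98 c98 rfl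
theorem a196 : ∀ c < 307419, c < 64 * 196 → TC.rowOk T 848 12 RT 85 95 307419 12 c = true :=
  TC.rows_step a147 c147 rfl
theorem a245 : ∀ c < 307419, c < 64 * 245 → TC.rowOk T 848 12 RT 85 95 307419 12 c = true :=
  TC.rows_step a196 c196 rfl
theorem a294 : ∀ c < 307419, c < 64 * 294 → TC.rowOk T 848 12 RT 85 95 307419 12 c = true :=
  TC.rows_step a245 c245 rfl
theorem a344 : ∀ c < 307419, c < 64 * 344 → TC.rowOk T 848 12 RT 85 95 307419 12 c = true :=
  TC.rows_step a294 c294 rfl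
theorem a394 : ∀ c < 307419, c < 64 * 394 → TC.rowOk T 848 12 RT 85 95 307419 12 c = true :=
  TC.rows_step a344 c344 rfl
theorem a445 : ∀ c < 307419, c < 64 * 445 → TC.rowOk T 848 12 RT 85 95 307419 12 c = true :=
  TC.rows_step a394 c394 rfl
theorem a494 : ∀ c < 307419, c < 64 * 494 → TC.rowOk T 848 12 RT 85 95 307419 12 c = true :=
  TC.rows_step a445 c445 rfl
theorem a546 : ∀ c < 307419, c < 64 * 546 → TC.rowOk T 848 12 RT 85 95 307419 12 c = true :=
  TC.rows_step a494 c494 rfl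
theorem a595 : ∀ c < 307419, c < 64 * 595 → TC.rowOk T 848 12 RT 85 95 307419 12 c = true :=
  TC.rows_step a546 c546 rfl
theorem a644 : ∀ c < 307419, c < 64 * 644 → TC.rowOk T 848 12 RT 85 95 307419 12 c = true :=
  TC.rows_step a595 c595 rfl
theorem a696 : ∀ c < 307419, c < 64 * 696 → TC.rowOk T 848 12 RT 85 95 307419 12 c = true :=
  TC.rows_step a644 c644 rfl
theorem a745 : ∀ c < 307419, c < 64 * 745 → TC.rowOk T 848 12 RT 85 95 307419 12 c = true :=
  TC.rows_step a696 c696 rfl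
theorem a794 : ∀ c < 307419, c < 64 * 794 → TC.rowOk T 848 12 RT 85 95 307419 12 c = true :=
  TC.rows_step a745 c745 rfl
theorem a846 : ∀ c < 307419, c < 64 * 846 → TC.rowOk T 848 12 RT 85 95 307419 12 c = true :=
  TC.rows_step a794 c794 rfl
theorem a897 : ∀ c < 307419, c < 64 * 897 → TC.rowOk T 848 12 RT 85 95 307419 12 c = true :=
  TC.rows_step a846 c846 rfl
theorem a945 : ∀ c < 307419, c < 64 * 945 → TC.rowOk T 848 12 RT 85 95 307419 12 c = true :=
  TC.rows_step a897 c897 rfl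
theorem a994 : ∀ c < 307419, c < 64 * 994 → TC.rowOk T 848 12 RT 85 95 307419 12 c = true :=
  TC.rows_step a945 c945 rfl
theorem a1046 : ∀ c < 307419, c < 64 * 1046 → TC.rowOk T 848 12 RT 85 95 307419 12 c = true :=
  TC.rows_step a994 c994 rfl
theorem a1098 : ∀ c < 307419, c < 64 * 1098 → TC.rowOk T 848 12 RT 85 95 307419 12 c = true :=
  TC.rows_step a1046 c1046 rfl
theorem a1148 : ∀ c < 307419, c < 64 * 1148 → TC.rowOk T 848 12 RT 85 95 307419 12 c = true :=
  TC.rows_step a1098 c1098 rfl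
theorem a1197 : ∀ c < 307419, c < 64 * 1197 → TC.rowOk T 848 12 RT 85 95 307419 12 c = true :=
  TC.rows_step a1148 c1148 rfl
theorem a1245 : ∀ c < 307419, c < 64 * 1245 → TC.rowOk T 848 12 RT 85 95 307419 12 c = true :=
  TC.rows_step a1197 c1197 rfl
theorem a1298 : ∀ c < 307419, c < 64 * 1298 → TC.rowOk T 848 12 RT 85 95 307419 12 c = true :=
  TC.rows_step a1245 c1245 rfl
theorem a1350 : ∀ c < 307419, c < 64 * 1350 → TC.rowOk T 848 12 RT 85 95 307419 12 c = true :=
  TC.rows_step a1298 c1298 rfl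
theorem a1400 : ∀ c < 307419, c < 64 * 1400 → TC.rowOk T 848 12 RT 85 95 307419 12 c = true :=
  TC.rows_step a1350 c1350 rfl
theorem a1448 : ∀ c < 307419, c < 64 * 1448 → TC.rowOk T 848 12 RT 85 95 307419 12 c = true :=
  TC.rows_step a1400 c1400 rfl
theorem a1497 : ∀ c < 307419, c < 64 * 1497 → TC.rowOk T 848 12 RT 85 95 307419 12 c = true :=
  TC.rows_step a1448 c1448 rfl
theorem a1548 : ∀ c < 307419, c < 64 * 1548 → TC.rowOk T 848 12 RT 85 95 307419 12 c = true :=
  TC.rows_step a1497 c1497 rfl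
theorem a1601 : ∀ c < 307419, c < 64 * 1601 → TC.rowOk T 848 12 RT 85 95 307419 12 c = true :=
  TC.rows_step a1548 c1548 rfl
theorem a1652 : ∀ c < 307419, c < 64 * 1652 → TC.rowOk T 848 12 RT 85 95 307419 12 c = true :=
  TC.rows_step a1601 c1601 rfl
theorem a1700 : ∀ c < 307419, c < 64 * 1700 → TC.rowOk T 848 12 RT 85 95 307419 12 c = true :=
  TC.rows_step a1652 c1652 rfl
theorem a1748 : ∀ c < 307419, c < 64 * 1748 → TC.rowOk T 848 12 RT 85 95 307419 12 c = true :=
  TC.rows_step a1700 c1700 rfl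
theorem a1797 : ∀ c < 307419, c < 64 * 1797 → TC.rowOk T 848 12 RT 85 95 307419 12 c = true :=
  TC.rows_step a1748 c1748 rfl
theorem a1847 : ∀ c < 307419, c < 64 * 1847 → TC.rowOk T 848 12 RT 85 95 307419 12 c = true :=
  TC.rows_step a1797 c1797 rfl
theorem a1901 : ∀ c < 307419, c < 64 * 1901 → TC.rowOk T 848 12 RT 85 95 307419 12 c = true :=
  TC.rows_step a1847 c1847 rfl
theorem a1953 : ∀ c < 307419, c < 64 * 1953 → TC.rowOk T 848 12 RT 85 95 307419 12 c = true :=
  TC.rows_step a1901 c1901 rfl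
theorem a2002 : ∀ c < 307419, c < 64 * 2002 → TC.rowOk T 848 12 RT 85 95 307419 12 c = true :=
  TC.rows_step a1953 c1953 rfl
theorem a2049 : ∀ c < 307419, c < 64 * 2049 → TC.rowOk T 848 12 RT 85 95 307419 12 c = true :=
  TC.rows_step a2002 c2002 rfl
theorem a2099 : ∀ c < 307419, c < 64 * 2099 → TC.rowOk T 848 12 RT 85 95 307419 12 c = true :=
  TC.rows_step a2049 c2049 rfl
theorem a2148 : ∀ c < 307419, c < 64 * 2148 → TC.rowOk T 848 12 RT 85 95 307419 12 c = true :=
  TC.rows_step a2099 c2099 rfl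
theorem a2200 : ∀ c < 307419, c < 64 * 2200 → TC.rowOk T 848 12 RT 85 95 307419 12 c = true :=
  TC.rows_step a2148 c2148 rfl
theorem a2255 : ∀ c < 307419, c < 64 * 2255 → TC.rowOk T 848 12 RT 85 95 307419 12 c = true :=
  TC.rows_step a2200 c2200 rfl
theorem a2306 : ∀ c < 307419, c < 64 * 2306 → TC.rowOk T 848 12 RT 85 95 307419 12 c = true :=
  TC.rows_step a2255 c2255 rfl
theorem a2354 : ∀ c < 307419, c < 64 * 2354 → TC.rowOk T 848 12 RT 85 95 307419 12 c = true :=
  TC.rows_step a2306 c2306 rfl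
theorem a2402 : ∀ c < 307419, c < 64 * 2402 → TC.rowOk T 848 12 RT 85 95 307419 12 c = true :=
  TC.rows_step a2354 c2354 rfl
theorem a2452 : ∀ c < 307419, c < 64 * 2452 → TC.rowOk T 848 12 RT 85 95 307419 12 c = true :=
  TC.rows_step a2402 c2402 rfl
theorem a2501 : ∀ c < 307419, c < 64 * 2501 → TC.rowOk T 848 12 RT 85 95 307419 12 c = true :=
  TC.rows_step a2452 c2452 rfl
theorem a2553 : ∀ c < 307419, c < 64 * 2553 → TC.rowOk T 848 12 RT 85 95 307419 12 c = true :=
  TC.rows_step a2501 c2501 rfl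
theorem a2608 : ∀ c < 307419, c < 64 * 2608 → TC.rowOk T 848 12 RT 85 95 307419 12 c = true :=
  TC.rows_step a2553 c2553 rfl
theorem a2661 : ∀ c < 307419, c < 64 * 2661 → TC.rowOk T 848 12 RT 85 95 307419 12 c = true :=
  TC.rows_step a2608 c2608 rfl
theorem a2709 : ∀ c < 307419, c < 64 * 2709 → TC.rowOk T 848 12 RT 85 95 307419 12 c = true :=
  TC.rows_step a2661 c2661 rfl
theorem a2756 : ∀ c < 307419, c < 64 * 2756 → TC.rowOk T 848 12 RT 85 95 307419 12 c = true :=
  TC.rows_step a2709 c2709 rfl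
theorem a2805 : ∀ c < 307419, c < 64 * 2805 → TC.rowOk T 848 12 RT 85 95 307419 12 c = true :=
  TC.rows_step a2756 c2756 rfl
theorem a2854 : ∀ c < 307419, c < 64 * 2854 → TC.rowOk T 848 12 RT 85 95 307419 12 c = true :=
  TC.rows_step a2805 c2805 rfl
theorem a2904 : ∀ c < 307419, c < 64 * 2904 → TC.rowOk T 848 12 RT 85 95 307419 12 c = true :=
  TC.rows_step a2854 c2854 rfl
theorem a2956 : ∀ c < 307419, c < 64 * 2956 → TC.rowOk T 848 12 RT 85 95 307419 12 c = true :=
  TC.rows_step a2904 c2904 rfl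
theorem a3011 : ∀ c < 307419, c < 64 * 3011 → TC.rowOk T 848 12 RT 85 95 307419 12 c = true :=
  TC.rows_step a2956 c2956 rfl
theorem a3063 : ∀ c < 307419, c < 64 * 3063 → TC.rowOk T 848 12 RT 85 95 307419 12 c = true :=
  TC.rows_step a3011 c3011 rfl
theorem a3108 : ∀ c < 307419, c < 64 * 3108 → TC.rowOk T 848 12 RT 85 95 307419 12 c = true :=
  TC.rows_step a3063 c3063 rfl
theorem a3155 : ∀ c < 307419, c < 64 * 3155 → TC.rowOk T 848 12 RT 85 95 307419 12 c = true :=
  TC.rows_step a3108 c3108 rfl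
theorem a3204 : ∀ c < 307419, c < 64 * 3204 → TC.rowOk T 848 12 RT 85 95 307419 12 c = true :=
  TC.rows_step a3155 c3155 rfl
theorem a3253 : ∀ c < 307419, c < 64 * 3253 → TC.rowOk T 848 12 RT 85 95 307419 12 c = true :=
  TC.rows_step a3204 c3204 rfl
theorem a3303 : ∀ c < 307419, c < 64 * 3303 → TC.rowOk T 848 12 RT 85 95 307419 12 c = true :=
  TC.rows_step a3253 c3253 rfl
theorem a3355 : ∀ c < 307419, c < 64 * 3355 → TC.rowOk T 848 12 RT 85 95 307419 12 c = true :=
  TC.rows_step a3303 c3303 rfl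
theorem a3409 : ∀ c < 307419, c < 64 * 3409 → TC.rowOk T 848 12 RT 85 95 307419 12 c = true :=
  TC.rows_step a3355 c3355 rfl
theorem a3461 : ∀ c < 307419, c < 64 * 3461 → TC.rowOk T 848 12 RT 85 95 307419 12 c = true :=
  TC.rows_step a3409 c3409 rfl
theorem a3505 : ∀ c < 307419, c < 64 * 3505 → TC.rowOk T 848 12 RT 85 95 307419 12 c = true :=
  TC.rows_step a3461 c3461 rfl
theorem a3552 : ∀ c < 307419, c < 64 * 3552 → TC.rowOk T 848 12 RT 85 95 307419 12 c = true :=
  TC.rows_step a3505 c3505 rfl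
theorem a3600 : ∀ c < 307419, c < 64 * 3600 → TC.rowOk T 848 12 RT 85 95 307419 12 c = true :=
  TC.rows_step a3552 c3552 rfl
theorem a3648 : ∀ c < 307419, c < 64 * 3648 → TC.rowOk T 848 12 RT 85 95 307419 12 c = true :=
  TC.rows_step a3600 c3600 rfl
theorem a3697 : ∀ c < 307419, c < 64 * 3697 → TC.rowOk T 848 12 RT 85 95 307419 12 c = true :=
  TC.rows_step a3648 c3648 rfl
theorem a3748 : ∀ c < 307419, c < 64 * 3748 → TC.rowOk T 848 12 RT 85 95 307419 12 c = true :=
  TC.rows_step a3697 c3697 rfl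
theorem a3800 : ∀ c < 307419, c < 64 * 3800 → TC.rowOk T 848 12 RT 85 95 307419 12 c = true :=
  TC.rows_step a3748 c3748 rfl
theorem a3852 : ∀ c < 307419, c < 64 * 3852 → TC.rowOk T 848 12 RT 85 95 307419 12 c = true :=
  TC.rows_step a3800 c3800 rfl
theorem a3896 : ∀ c < 307419, c < 64 * 3896 → TC.rowOk T 848 12 RT 85 95 307419 12 c = true :=
  TC.rows_step a3852 c3852 rfl
theorem a3941 : ∀ c < 307419, c < 64 * 3941 → TC.rowOk T 848 12 RT 85 95 307419 12 c = true :=
  TC.rows_step a3896 c3896 rfl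
theorem a3988 : ∀ c < 307419, c < 64 * 3988 → TC.rowOk T 848 12 RT 85 95 307419 12 c = true :=
  TC.rows_step a3941 c3941 rfl
theorem a4034 : ∀ c < 307419, c < 64 * 4034 → TC.rowOk T 848 12 RT 85 95 307419 12 c = true :=
  TC.rows_step a3988 c3988 rfl
theorem a4082 : ∀ c < 307419, c < 64 * 4082 → TC.rowOk T 848 12 RT 85 95 307419 12 c = true :=
  TC.rows_step a4034 c4034 rfl
theorem a4132 : ∀ c < 307419, c < 64 * 4132 → TC.rowOk T 848 12 RT 85 95 307419 12 c = true :=
  TC.rows_step a4082 c4082 rfl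
theorem a4183 : ∀ c < 307419, c < 64 * 4183 → TC.rowOk T 848 12 RT 85 95 307419 12 c = true :=
  TC.rows_step a4132 c4132 rfl
theorem a4227 : ∀ c < 307419, c < 64 * 4227 → TC.rowOk T 848 12 RT 85 95 307419 12 c = true :=
  TC.rows_step a4183 c4183 rfl
theorem a4270 : ∀ c < 307419, c < 64 * 4270 → TC.rowOk T 848 12 RT 85 95 307419 12 c = true :=
  TC.rows_step a4227 c4227 rfl
theorem a4315 : ∀ c < 307419, c < 64 * 4315 → TC.rowOk T 848 12 RT 85 95 307419 12 c = true :=
  TC.rows_step a4270 c4270 rfl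
theorem a4359 : ∀ c < 307419, c < 64 * 4359 → TC.rowOk T 848 12 RT 85 95 307419 12 c = true :=
  TC.rows_step a4315 c4315 rfl
theorem a4405 : ∀ c < 307419, c < 64 * 4405 → TC.rowOk T 848 12 RT 85 95 307419 12 c = true :=
  TC.rows_step a4359 c4359 rfl
theorem a4454 : ∀ c < 307419, c < 64 * 4454 → TC.rowOk T 848 12 RT 85 95 307419 12 c = true :=
  TC.rows_step a4405 c4405 rfl
theorem a4494 : ∀ c < 307419, c < 64 * 4494 → TC.rowOk T 848 12 RT 85 95 307419 12 c = true :=
  TC.rows_step a4454 c4454 rfl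
theorem a4537 : ∀ c < 307419, c < 64 * 4537 → TC.rowOk T 848 12 RT 85 95 307419 12 c = true :=
  TC.rows_step a4494 c4494 rfl
theorem a4580 : ∀ c < 307419, c < 64 * 4580 → TC.rowOk T 848 12 RT 85 95 307419 12 c = true :=
  TC.rows_step a4537 c4537 rfl
theorem a4627 : ∀ c < 307419, c < 64 * 4627 → TC.rowOk T 848 12 RT 85 95 307419 12 c = true :=
  TC.rows_step a4580 c4580 rfl
theorem a4666 : ∀ c < 307419, c < 64 * 4666 → TC.rowOk T 848 12 RT 85 95 307419 12 c = true :=
  TC.rows_step a4627 c4627 rfl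
theorem a4707 : ∀ c < 307419, c < 64 * 4707 → TC.rowOk T 848 12 RT 85 95 307419 12 c = true :=
  TC.rows_step a4666 c4666 rfl
theorem a4747 : ∀ c < 307419, c < 64 * 4747 → TC.rowOk T 848 12 RT 85 95 307419 12 c = true :=
  TC.rows_step a4707 c4707 rfl
theorem a4786 : ∀ c < 307419, c < 64 * 4786 → TC.rowOk T 848 12 RT 85 95 307419 12 c = true :=
  TC.rows_step a4747 c4747 rfl
theorem a4804 : ∀ c < 307419, c < 64 * 4804 → TC.rowOk T 848 12 RT 85 95 307419 12 c = true :=
  TC.rows_step a4786 c4786 rfl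
theorem b1500 : (TC.liveSet T 848 12 307419 1500).card = 95527 :=
  TC.live_step TC.live_zero n0 rfl rfl
theorem b3000 : (TC.liveSet T 848 12 307419 3000).card = 191517 :=
  TC.live_step b1500 n1500 rfl rfl
theorem b4500 : (TC.liveSet T 848 12 307419 4500).card = 287517 :=
  TC.live_step b3000 n3000 rfl rfl
theorem b4804 : (TC.liveSet T 848 12 307419 4804).card = 306936 :=
  TC.live_step b4500 n4500 rfl rfl
theorem enum : Enum (Fi24.R12 ++ Fi24.Z) S 12 306936 T 848 12 :=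
  TC.enum (RT := RT) (nR := 85) (nS := 95) (by norm_num) (by norm_num) (by norm_num)
    (by decide +kernel) a4804 b4804

end CfsgH7.Fi24.E12
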