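import Cfsg.Agent.H7.Fi24E12.D0
import Cfsg.Agent.H7.Fi24E12.D1
import Cfsg.Agent.H7.Fi24E12.D2
import Cfsg.Agent.H7.Fi24E12.D3
import Cfsg.Agent.H7.Fi24E12.D4
import Cfsg.Agent.H7.Fi24E12.D5

set_option autoImplicit false
set_option linter.unusedVariables false
set_option maxRecDepth 100000
set_option Elab.async false

namespace CfsgH7.Fi24.E12

noncomputable def t0_2 (i : ℕ) : ℕ := (@Bool.rec (fun _ => ℕ) l0 l1 (Nat.ble (nat_lit 1) i))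
noncomputable def t2_4 (i : ℕ) : ℕ := (@Bool.rec (fun _ => ℕ) l2 l3 (Nat.ble (nat_lit 3) i))
noncomputable def t4_6 (i : ℕ) : ℕ := (@Bool.rec (fun _ => ℕ) l4 l5 (Nat.ble (nat_lit 5) i))
noncomputable def t6_9 (i : ℕ) : ℕ := (@Bool.rec (fun _ => ℕ) l6 (@Bool.rec (fun _ => ℕ) l7 l8 (Nat.ble (nat_lit 8) i)) (Nat.ble (nat_lit 7) i))
noncomputable def t9_11 (i : ℕ) : ℕ := (@Bool.rec (fun _ => ℕ) l9 l10 (Nat.ble (nat_lit 10) i))
noncomputable def t11_13 (i : ℕ) : ℕ := (@Bool.rec (fun _ => ℕ) l11 l12 (Nat.ble (nat_lit 12) i))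
noncomputable def t13_15 (i : ℕ) : ℕ := (@Bool.rec (fun _ => ℕ) l13 l14 (Nat.ble (nat_lit 14) i))
noncomputable def t15_18 (i : ℕ) : ℕ := (@Bool.rec (fun _ => ℕ) l15 (@Bool.rec (fun _ => ℕ) l16 l17 (Nat.ble (nat_lit 17) i)) (Nat.ble (nat_lit 16) i))
noncomputable def t0_18 (i : ℕ) : ℕ := (@Bool.rec (fun _ => ℕ) (@Bool.rec (fun _ => ℕ) (@Bool.rec (fun _ => ℕ) (t0_2 i) (t2_4 i) (Nat.ble (nat_lit 2) i)) (@Bool.rec (fun _ => ℕ) (t4_6 i) (t6_9 i) (Nat.ble (nat_lit 6) i)) (Nat.ble (nat_lit 4) i)) (@Bool.rec (fun _ => ℕ) (@Bool.rec (fun _ => ℕ) (t9_11 i) (t11_13 i) (Nat.ble (nat_lit 11) i)) (@Bool.rec (fun _ => ℕ) (t13_15 i) (t15_18 i) (Nat.ble (nat_lit 15) i)) (Nat.ble (nat_lit 13) i)) (Nat.ble (nat_lit 9) i))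
noncomputable def t18_20 (i : ℕ) : ℕ := (@Bool.rec (fun _ => ℕ) l18 l19 (Nat.ble (nat_lit 19) i))
noncomputable def t20_22 (i : ℕ) : ℕ := (@Bool.rec (fun _ => ℕ) l20 l21 (Nat.ble (nat_lit 21) i))
noncomputable def t22_24 (i : ℕ) : ℕ := (@Bool.rec (fun _ => ℕ) l22 l23 (Nat.ble (nat_lit 23) i))
noncomputable def t24_27 (i : ℕ) : ℕ := (@Bool.rec (fun _ => ℕ) l24 (@Bool.rec (fun _ => ℕ) l25 l26 (Nat.ble (nat_lit 26) i)) (Nat.ble (nat_lit 25) i))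
noncomputable def t27_29 (i : ℕ) : ℕ := (@Bool.rec (fun _ => ℕ) l27 l28 (Nat.ble (nat_lit 28) i))
noncomputable def t29_32 (i : ℕ) : ℕ := (@Bool.rec (fun _ => ℕ) l29 (@Bool.rec (fun _ => ℕ) l30 l31 (Nat.ble (nat_lit 31) i)) (Nat.ble (nat_lit 30) i))
noncomputable def t32_34 (i : ℕ) : ℕ := (@Bool.rec (fun _ => ℕ) l32 l33 (Nat.ble (nat_lit 33) i))
noncomputable def t34_37 (i : ℕ) : ℕ := (@Bool.rec (fun _ => ℕ) l34 (@Bool.rec (fun _ => ℕ) l35 l36 (Nat.ble (nat_lit 36) i)) (Nat.ble (nat_lit 35) i))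
noncomputable def t18_37 (i : ℕ) : ℕ := (@Bool.rec (fun _ => ℕ) (@Bool.rec (fun _ => ℕ) (@Bool.rec (fun _ => ℕ) (t18_20 i) (t20_22 i) (Nat.ble (nat_lit 20) i)) (@Bool.rec (fun _ => ℕ) (t22_24 i) (t24_27 i) (Nat.ble (nat_lit 24) i)) (Nat.ble (nat_lit 22) i)) (@Bool.rec (fun _ => ℕ) (@Bool.rec (fun _ => ℕ) (t27_29 i) (t29_32 i) (Nat.ble (nat_lit 29) i)) (@Bool.rec (fun _ => ℕ) (t32_34 i) (t34_37 i) (Nat.ble (nat_lit 34) i)) (Nat.ble (nat_lit 32) i)) (Nat.ble (nat_lit 27) i))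
noncomputable def t37_39 (i : ℕ) : ℕ := (@Bool.rec (fun _ => ℕ) l37 l38 (Nat.ble (nat_lit 38) i))
noncomputable def t39_41 (i : ℕ) : ℕ := (@Bool.rec (fun _ => ℕ) l39 l40 (Nat.ble (nat_lit 40) i))
noncomputable def t41_43 (i : ℕ) : ℕ := (@Bool.rec (fun _ => ℕ) l41 l42 (Nat.ble (nat_lit 42) i))
noncomputable def t43_46 (i : ℕ) : ℕ := (@Bool.rec (fun _ => ℕ) l43 (@Bool.rec (fun _ => ℕ) l44 l45 (Nat.ble (nat_lit 45) i)) (Nat.ble (nat_lit 44) i))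
noncomputable def t46_48 (i : ℕ) : ℕ := (@Bool.rec (fun _ => ℕ) l46 l47 (Nat.ble (nat_lit 47) i))
noncomputable def t48_51 (i : ℕ) : ℕ := (@Bool.rec (fun _ => ℕ) l48 (@Bool.rec (fun _ => ℕ) l49 l50 (Nat.ble (nat_lit 50) i)) (Nat.ble (nat_lit 49) i))
noncomputable def t51_53 (i : ℕ) : ℕ := (@Bool.rec (fun _ => ℕ) l51 l52 (Nat.ble (nat_lit 52) i))
noncomputable def t53_56 (i : ℕ) : ℕ := (@Bool.rec (fun _ => ℕ) l53 (@Bool.rec (fun _ => ℕ) l54 l55 (Nat.ble (nat_lit 55) i)) (Nat.ble (nat_lit 54) i))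
noncomputable def t37_56 (i : ℕ) : ℕ := (@Bool.rec (fun _ => ℕ) (@Bool.rec (fun _ => ℕ) (@Bool.rec (fun _ => ℕ) (t37_39 i) (t39_41 i) (Nat.ble (nat_lit 39) i)) (@Bool.rec (fun _ => ℕ) (t41_43 i) (t43_46 i) (Nat.ble (nat_lit 43) i)) (Nat.ble (nat_lit 41) i)) (@Bool.rec (fun _ => ℕ) (@Bool.rec (fun _ => ℕ) (t46_48 i) (t48_51 i) (Nat.ble (nat_lit 48) i)) (@Bool.rec (fun _ => ℕ) (t51_53 i) (t53_56 i) (Nat.ble (nat_lit 53) i)) (Nat.ble (nat_lit 51) i)) (Nat.ble (nat_lit 46) i))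
noncomputable def t56_58 (i : ℕ) : ℕ := (@Bool.rec (fun _ => ℕ) l56 l57 (Nat.ble (nat_lit 57) i))
noncomputable def t58_60 (i : ℕ) : ℕ := (@Bool.rec (fun _ => ℕ) l58 l59 (Nat.ble (nat_lit 59) i))
noncomputable def t60_62 (i : ℕ) : ℕ := (@Bool.rec (fun _ => ℕ) l60 l61 (Nat.ble (nat_lit 61) i))
noncomputable def t62_65 (i : ℕ) : ℕ := (@Bool.rec (fun _ => ℕ) l62 (@Bool.rec (fun _ => ℕ) l63 l64 (Nat.ble (nat_lit 64) i)) (Nat.ble (nat_lit 63) i))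
noncomputable def t65_67 (i : ℕ) : ℕ := (@Bool.rec (fun _ => ℕ) l65 l66 (Nat.ble (nat_lit 66) i))
noncomputable def t67_70 (i : ℕ) : ℕ := (@Bool.rec (fun _ => ℕ) l67 (@Bool.rec (fun _ => ℕ) l68 l69 (Nat.ble (nat_lit 69) i)) (Nat.ble (nat_lit 68) i))
noncomputable def t70_72 (i : ℕ) : ℕ := (@Bool.rec (fun _ => ℕ) l70 l71 (Nat.ble (nat_lit 71) i))
noncomputable def t72_75 (i : ℕ) : ℕ := (@Bool.rec (fun _ => ℕ) l72 (@Bool.rec (fun _ => ℕ) l73 l74 (Nat.ble (nat_lit 74) i)) (Nat.ble (nat_lit 73) i))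
noncomputable def t56_75 (i : ℕ) : ℕ := (@Bool.rec (fun _ => ℕ) (@Bool.rec (fun _ => ℕ) (@Bool.rec (fun _ => ℕ) (t56_58 i) (t58_60 i) (Nat.ble (nat_lit 58) i)) (@Bool.rec (fun _ => ℕ) (t60_62 i) (t62_65 i) (Nat.ble (nat_lit 62) i)) (Nat.ble (nat_lit 60) i)) (@Bool.rec (fun _ => ℕ) (@Bool.rec (fun _ => ℕ) (t65_67 i) (t67_70 i) (Nat.ble (nat_lit 67) i)) (@Bool.rec (fun _ => ℕ) (t70_72 i) (t72_75 i) (Nat.ble (nat_lit 72) i)) (Nat.ble (nat_lit 70) i)) (Nat.ble (nat_lit 65) i))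
noncomputable def t75_77 (i : ℕ) : ℕ := (@Bool.rec (fun _ => ℕ) l75 l76 (Nat.ble (nat_lit 76) i))
noncomputable def t77_79 (i : ℕ) : ℕ := (@Bool.rec (fun _ => ℕ) l77 l78 (Nat.ble (nat_lit 78) i))
noncomputable def t79_81 (i : ℕ) : ℕ := (@Bool.rec (fun _ => ℕ) l79 l80 (Nat.ble (nat_lit 80) i))
noncomputable def t81_84 (i : ℕ) : ℕ := (@Bool.rec (fun _ => ℕ) l81 (@Bool.rec (fun _ => ℕ) l82 l83 (Nat.ble (nat_lit 83) i)) (Nat.ble (nat_lit 82) i))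
noncomputable def t84_86 (i : ℕ) : ℕ := (@Bool.rec (fun _ => ℕ) l84 l85 (Nat.ble (nat_lit 85) i))
noncomputable def t86_88 (i : ℕ) : ℕ := (@Bool.rec (fun _ => ℕ) l86 l87 (Nat.ble (nat_lit 87) i))
noncomputable def t88_90 (i : ℕ) : ℕ := (@Bool.rec (fun _ => ℕ) l88 l89 (Nat.ble (nat_lit 89) i))
noncomputable def t90_93 (i : ℕ) : ℕ := (@Bool.rec (fun _ => ℕ) l90 (@Bool.rec (fun _ => ℕ) l91 l92 (Nat.ble (nat_lit 92) i)) (Nat.ble (nat_lit 91) i))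
noncomputable def t75_93 (i : ℕ) : ℕ := (@Bool.rec (fun _ => ℕ) (@Bool.rec (fun _ => ℕ) (@Bool.rec (fun _ => ℕ) (t75_77 i) (t77_79 i) (Nat.ble (nat_lit 77) i)) (@Bool.rec (fun _ => ℕ) (t79_81 i) (t81_84 i) (Nat.ble (nat_lit 81) i)) (Nat.ble (nat_lit 79) i)) (@Bool.rec (fun _ => ℕ) (@Bool.rec (fun _ => ℕ) (t84_86 i) (t86_88 i) (Nat.ble (nat_lit 86) i)) (@Bool.rec (fun _ => ℕ) (t88_90 i) (t90_93 i) (Nat.ble (nat_lit 90) i)) (Nat.ble (nat_lit 88) i)) (Nat.ble (nat_lit 84) i))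
noncomputable def t93_95 (i : ℕ) : ℕ := (@Bool.rec (fun _ => ℕ) l93 l94 (Nat.ble (nat_lit 94) i))
noncomputable def t95_97 (i : ℕ) : ℕ := (@Bool.rec (fun _ => ℕ) l95 l96 (Nat.ble (nat_lit 96) i))
noncomputable def t97_99 (i : ℕ) : ℕ := (@Bool.rec (fun _ => ℕ) l97 l98 (Nat.ble (nat_lit 98) i))
noncomputable def t99_102 (i : ℕ) : ℕ := (@Bool.rec (fun _ => ℕ) l99 (@Bool.rec (fun _ => ℕ) l100 l101 (Nat.ble (nat_lit 101) i)) (Nat.ble (nat_lit 100) i))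
noncomputable def t102_104 (i : ℕ) : ℕ := (@Bool.rec (fun _ => ℕ) l102 l103 (Nat.ble (nat_lit 103) i))
noncomputable def t104_107 (i : ℕ) : ℕ := (@Bool.rec (fun _ => ℕ) l104 (@Bool.rec (fun _ => ℕ) l105 l106 (Nat.ble (nat_lit 106) i)) (Nat.ble (nat_lit 105) i))
noncomputable def t107_109 (i : ℕ) : ℕ := (@Bool.rec (fun _ => ℕ) l107 l108 (Nat.ble (nat_lit 108) i))
noncomputable def t109_112 (i : ℕ) : ℕ := (@Bool.rec (fun _ => ℕ) l109 (@Bool.rec (fun _ => ℕ) l110 l111 (Nat.ble (nat_lit 111) i)) (Nat.ble (nat_lit 110) i))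
noncomputable def t93_112 (i : ℕ) : ℕ := (@Bool.rec (fun _ => ℕ) (@Bool.rec (fun _ => ℕ) (@Bool.rec (fun _ => ℕ) (t93_95 i) (t95_97 i) (Nat.ble (nat_lit 95) i)) (@Bool.rec (fun _ => ℕ) (t97_99 i) (t99_102 i) (Nat.ble (nat_lit 99) i)) (Nat.ble (nat_lit 97) i)) (@Bool.rec (fun _ => ℕ) (@Bool.rec (fun _ => ℕ) (t102_104 i) (t104_107 i) (Nat.ble (nat_lit 104) i)) (@Bool.rec (fun _ => ℕ) (t107_109 i) (t109_112 i) (Nat.ble (nat_lit 109) i)) (Nat.ble (nat_lit 107) i)) (Nat.ble (nat_lit 102) i))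
noncomputable def t112_114 (i : ℕ) : ℕ := (@Bool.rec (fun _ => ℕ) l112 l113 (Nat.ble (nat_lit 113) i))
noncomputable def t114_116 (i : ℕ) : ℕ := (@Bool.rec (fun _ => ℕ) l114 l115 (Nat.ble (nat_lit 115) i))
noncomputable def t116_118 (i : ℕ) : ℕ := (@Bool.rec (fun _ => ℕ) l116 l117 (Nat.ble (nat_lit 117) i))
noncomputable def t118_121 (i : ℕ) : ℕ := (@Bool.rec (fun _ => ℕ) l118 (@Bool.rec (fun _ => ℕ) l119 l120 (Nat.ble (nat_lit 120) i)) (Nat.ble (nat_lit 119) i))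
noncomputable def t121_123 (i : ℕ) : ℕ := (@Bool.rec (fun _ => ℕ) l121 l122 (Nat.ble (nat_lit 122) i))
noncomputable def t123_126 (i : ℕ) : ℕ := (@Bool.rec (fun _ => ℕ) l123 (@Bool.rec (fun _ => ℕ) l124 l125 (Nat.ble (nat_lit 125) i)) (Nat.ble (nat_lit 124) i))
noncomputable def t126_128 (i : ℕ) : ℕ := (@Bool.rec (fun _ => ℕ) l126 l127 (Nat.ble (nat_lit 127) i))
noncomputable def t128_131 (i : ℕ) : ℕ := (@Bool.rec (fun _ => ℕ) l128 (@Bool.rec (fun _ => ℕ) l129 l130 (Nat.ble (nat_lit 130) i)) (Nat.ble (nat_lit 129) i))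
noncomputable def t112_131 (i : ℕ) : ℕ := (@Bool.rec (fun _ => ℕ) (@Bool.rec (fun _ => ℕ) (@Bool.rec (fun _ => ℕ) (t112_114 i) (t114_116 i) (Nat.ble (nat_lit 114) i)) (@Bool.rec (fun _ => ℕ) (t116_118 i) (t118_121 i) (Nat.ble (nat_lit 118) i)) (Nat.ble (nat_lit 116) i)) (@Bool.rec (fun _ => ℕ) (@Bool.rec (fun _ => ℕ) (t121_123 i) (t123_126 i) (Nat.ble (nat_lit 123) i)) (@Bool.rec (fun _ => ℕ) (t126_128 i) (t128_131 i) (Nat.ble (nat_lit 128) i)) (Nat.ble (nat_lit 126) i)) (Nat.ble (nat_lit 121) i))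
noncomputable def t131_133 (i : ℕ) : ℕ := (@Bool.rec (fun _ => ℕ) l131 l132 (Nat.ble (nat_lit 132) i))
noncomputable def t133_135 (i : ℕ) : ℕ := (@Bool.rec (fun _ => ℕ) l133 l134 (Nat.ble (nat_lit 134) i))
noncomputable def t135_137 (i : ℕ) : ℕ := (@Bool.rec (fun _ => ℕ) l135 l136 (Nat.ble (nat_lit 136) i))
noncomputable def t137_140 (i : ℕ) : ℕ := (@Bool.rec (fun _ => ℕ) l137 (@Bool.rec (fun _ => ℕ) l138 l139 (Nat.ble (nat_lit 139) i)) (Nat.ble (nat_lit 138) i))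
noncomputable def t140_142 (i : ℕ) : ℕ := (@Bool.rec (fun _ => ℕ) l140 l141 (Nat.ble (nat_lit 141) i))
noncomputable def t142_145 (i : ℕ) : ℕ := (@Bool.rec (fun _ => ℕ) l142 (@Bool.rec (fun _ => ℕ) l143 l144 (Nat.ble (nat_lit 144) i)) (Nat.ble (nat_lit 143) i))
noncomputable def t145_147 (i : ℕ) : ℕ := (@Bool.rec (fun _ => ℕ) l145 l146 (Nat.ble (nat_lit 146) i))
noncomputable def t147_150 (i : ℕ) : ℕ := (@Bool.rec (fun _ => ℕ) l147 (@Bool.rec (fun _ => ℕ) l148 l149 (Nat.ble (nat_lit 149) i)) (Nat.ble (nat_lit 148) i))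
noncomputable def t131_150 (i : ℕ) : ℕ := (@Bool.rec (fun _ => ℕ) (@Bool.rec (fun _ => ℕ) (@Bool.rec (fun _ => ℕ) (t131_133 i) (t133_135 i) (Nat.ble (nat_lit 133) i)) (@Bool.rec (fun _ => ℕ) (t135_137 i) (t137_140 i) (Nat.ble (nat_lit 137) i)) (Nat.ble (nat_lit 135) i)) (@Bool.rec (fun _ => ℕ) (@Bool.rec (fun _ => ℕ) (t140_142 i) (t142_145 i) (Nat.ble (nat_lit 142) i)) (@Bool.rec (fun _ => ℕ) (t145_147 i) (t147_150 i) (Nat.ble (nat_lit 147) i)) (Nat.ble (nat_lit 145) i)) (Nat.ble (nat_lit 140) i))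
noncomputable def t0_150 (i : ℕ) : ℕ := (@Bool.rec (fun _ => ℕ) (@Bool.rec (fun _ => ℕ) (@Bool.rec (fun _ => ℕ) (t0_18 i) (t18_37 i) (Nat.ble (nat_lit 18) i)) (@Bool.rec (fun _ => ℕ) (t37_56 i) (t56_75 i) (Nat.ble (nat_lit 56) i)) (Nat.ble (nat_lit 37) i)) (@Bool.rec (fun _ => ℕ) (@Bool.rec (fun _ => ℕ) (t75_93 i) (t93_112 i) (Nat.ble (nat_lit 93) i)) (@Bool.rec (fun _ => ℕ) (t112_131 i) (t131_150 i) (Nat.ble (nat_lit 131) i)) (Nat.ble (nat_lit 112) i)) (Nat.ble (nat_lit 75) i))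
noncomputable def t150_152 (i : ℕ) : ℕ := (@Bool.rec (fun _ => ℕ) l150 l151 (Nat.ble (nat_lit 151) i))
noncomputable def t152_154 (i : ℕ) : ℕ := (@Bool.rec (fun _ => ℕ) l152 l153 (Nat.ble (nat_lit 153) i))
noncomputable def t154_156 (i : ℕ) : ℕ := (@Bool.rec (fun _ => ℕ) l154 l155 (Nat.ble (nat_lit 155) i))
noncomputable def t156_159 (i : ℕ) : ℕ := (@Bool.rec (fun _ => ℕ) l156 (@Bool.rec (fun _ => ℕ) l157 l158 (Nat.ble (nat_lit 158) i)) (Nat.ble (nat_lit 157) i))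
noncomputable def t159_161 (i : ℕ) : ℕ := (@Bool.rec (fun _ => ℕ) l159 l160 (Nat.ble (nat_lit 160) i))
noncomputable def t161_163 (i : ℕ) : ℕ := (@Bool.rec (fun _ => ℕ) l161 l162 (Nat.ble (nat_lit 162) i))
noncomputable def t163_165 (i : ℕ) : ℕ := (@Bool.rec (fun _ => ℕ) l163 l164 (Nat.ble (nat_lit 164) i))
noncomputable def t165_168 (i : ℕ) : ℕ := (@Bool.rec (fun _ => ℕ) l165 (@Bool.rec (fun _ => ℕ) l166 l167 (Nat.ble (nat_lit 167) i)) (Nat.ble (nat_lit 166) i))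
noncomputable def t150_168 (i : ℕ) : ℕ := (@Bool.rec (fun _ => ℕ) (@Bool.rec (fun _ => ℕ) (@Bool.rec (fun _ => ℕ) (t150_152 i) (t152_154 i) (Nat.ble (nat_lit 152) i)) (@Bool.rec (fun _ => ℕ) (t154_156 i) (t156_159 i) (Nat.ble (nat_lit 156) i)) (Nat.ble (nat_lit 154) i)) (@Bool.rec (fun _ => ℕ) (@Bool.rec (fun _ => ℕ) (t159_161 i) (t161_163 i) (Nat.ble (nat_lit 161) i)) (@Bool.rec (fun _ => ℕ) (t163_165 i) (t165_168 i) (Nat.ble (nat_lit 165) i)) (Nat.ble (nat_lit 163) i)) (Nat.ble (nat_lit 159) i))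
noncomputable def t168_170 (i : ℕ) : ℕ := (@Bool.rec (fun _ => ℕ) l168 l169 (Nat.ble (nat_lit 169) i))
noncomputable def t170_172 (i : ℕ) : ℕ := (@Bool.rec (fun _ => ℕ) l170 l171 (Nat.ble (nat_lit 171) i))
noncomputable def t172_174 (i : ℕ) : ℕ := (@Bool.rec (fun _ => ℕ) l172 l173 (Nat.ble (nat_lit 173) i))
noncomputable def t174_177 (i : ℕ) : ℕ := (@Bool.rec (fun _ => ℕ) l174 (@Bool.rec (fun _ => ℕ) l175 l176 (Nat.ble (nat_lit 176) i)) (Nat.ble (nat_lit 175) i))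
noncomputable def t177_179 (i : ℕ) : ℕ := (@Bool.rec (fun _ => ℕ) l177 l178 (Nat.ble (nat_lit 178) i))
noncomputable def t179_182 (i : ℕ) : ℕ := (@Bool.rec (fun _ => ℕ) l179 (@Bool.rec (fun _ => ℕ) l180 l181 (Nat.ble (nat_lit 181) i)) (Nat.ble (nat_lit 180) i))
noncomputable def t182_184 (i : ℕ) : ℕ := (@Bool.rec (fun _ => ℕ) l182 l183 (Nat.ble (nat_lit 183) i))
noncomputable def t184_187 (i : ℕ) : ℕ := (@Bool.rec (fun _ => ℕ) l184 (@Bool.rec (fun _ => ℕ) l185 l186 (Nat.ble (nat_lit 186) i)) (Nat.ble (nat_lit 185) i))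
noncomputable def t168_187 (i : ℕ) : ℕ := (@Bool.rec (fun _ => ℕ) (@Bool.rec (fun _ => ℕ) (@Bool.rec (fun _ => ℕ) (t168_170 i) (t170_172 i) (Nat.ble (nat_lit 170) i)) (@Bool.rec (fun _ => ℕ) (t172_174 i) (t174_177 i) (Nat.ble (nat_lit 174) i)) (Nat.ble (nat_lit 172) i)) (@Bool.rec (fun _ => ℕ) (@Bool.rec (fun _ => ℕ) (t177_179 i) (t179_182 i) (Nat.ble (nat_lit 179) i)) (@Bool.rec (fun _ => ℕ) (t182_184 i) (t184_187 i) (Nat.ble (nat_lit 184) i)) (Nat.ble (nat_lit 182) i)) (Nat.ble (nat_lit 177) i))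
noncomputable def t187_189 (i : ℕ) : ℕ := (@Bool.rec (fun _ => ℕ) l187 l188 (Nat.ble (nat_lit 188) i))
noncomputable def t189_191 (i : ℕ) : ℕ := (@Bool.rec (fun _ => ℕ) l189 l190 (Nat.ble (nat_lit 190) i))
noncomputable def t191_193 (i : ℕ) : ℕ := (@Bool.rec (fun _ => ℕ) l191 l192 (Nat.ble (nat_lit 192) i))
noncomputable def t193_196 (i : ℕ) : ℕ := (@Bool.rec (fun _ => ℕ) l193 (@Bool.rec (fun _ => ℕ) l194 l195 (Nat.ble (nat_lit 195) i)) (Nat.ble (nat_lit 194) i))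
noncomputable def t196_198 (i : ℕ) : ℕ := (@Bool.rec (fun _ => ℕ) l196 l197 (Nat.ble (nat_lit 197) i))
noncomputable def t198_201 (i : ℕ) : ℕ := (@Bool.rec (fun _ => ℕ) l198 (@Bool.rec (fun _ => ℕ) l199 l200 (Nat.ble (nat_lit 200) i)) (Nat.ble (nat_lit 199) i))
noncomputable def t201_203 (i : ℕ) : ℕ := (@Bool.rec (fun _ => ℕ) l201 l202 (Nat.ble (nat_lit 202) i))
noncomputable def t203_206 (i : ℕ) : ℕ := (@Bool.rec (fun _ => ℕ) l203 (@Bool.rec (fun _ => ℕ) l204 l205 (Nat.ble (nat_lit 205) i)) (Nat.ble (nat_lit 204) i))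
noncomputable def t187_206 (i : ℕ) : ℕ := (@Bool.rec (fun _ => ℕ) (@Bool.rec (fun _ => ℕ) (@Bool.rec (fun _ => ℕ) (t187_189 i) (t189_191 i) (Nat.ble (nat_lit 189) i)) (@Bool.rec (fun _ => ℕ) (t191_193 i) (t193_196 i) (Nat.ble (nat_lit 193) i)) (Nat.ble (nat_lit 191) i)) (@Bool.rec (fun _ => ℕ) (@Bool.rec (fun _ => ℕ) (t196_198 i) (t198_201 i) (Nat.ble (nat_lit 198) i)) (@Bool.rec (fun _ => ℕ) (t201_203 i) (t203_206 i) (Nat.ble (nat_lit 203) i)) (Nat.ble (nat_lit 201) i)) (Nat.ble (nat_lit 196) i))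
noncomputable def t206_208 (i : ℕ) : ℕ := (@Bool.rec (fun _ => ℕ) l206 l207 (Nat.ble (nat_lit 207) i))
noncomputable def t208_210 (i : ℕ) : ℕ := (@Bool.rec (fun _ => ℕ) l208 l209 (Nat.ble (nat_lit 209) i))
noncomputable def t210_212 (i : ℕ) : ℕ := (@Bool.rec (fun _ => ℕ) l210 l211 (Nat.ble (nat_lit 211) i))
noncomputable def t212_215 (i : ℕ) : ℕ := (@Bool.rec (fun _ => ℕ) l212 (@Bool.rec (fun _ => ℕ) l213 l214 (Nat.ble (nat_lit 214) i)) (Nat.ble (nat_lit 213) i))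
noncomputable def t215_217 (i : ℕ) : ℕ := (@Bool.rec (fun _ => ℕ) l215 l216 (Nat.ble (nat_lit 216) i))
noncomputable def t217_220 (i : ℕ) : ℕ := (@Bool.rec (fun _ => ℕ) l217 (@Bool.rec (fun _ => ℕ) l218 l219 (Nat.ble (nat_lit 219) i)) (Nat.ble (nat_lit 218) i))
noncomputable def t220_222 (i : ℕ) : ℕ := (@Bool.rec (fun _ => ℕ) l220 l221 (Nat.ble (nat_lit 221) i))
noncomputable def t222_225 (i : ℕ) : ℕ := (@Bool.rec (fun _ => ℕ) l222 (@Bool.rec (fun _ => ℕ) l223 l224 (Nat.ble (nat_lit 224) i)) (Nat.ble (nat_lit 223) i))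
noncomputable def t206_225 (i : ℕ) : ℕ := (@Bool.rec (fun _ => ℕ) (@Bool.rec (fun _ => ℕ) (@Bool.rec (fun _ => ℕ) (t206_208 i) (t208_210 i) (Nat.ble (nat_lit 208) i)) (@Bool.rec (fun _ => ℕ) (t210_212 i) (t212_215 i) (Nat.ble (nat_lit 212) i)) (Nat.ble (nat_lit 210) i)) (@Bool.rec (fun _ => ℕ) (@Bool.rec (fun _ => ℕ) (t215_217 i) (t217_220 i) (Nat.ble (nat_lit 217) i)) (@Bool.rec (fun _ => ℕ) (t220_222 i) (t222_225 i) (Nat.ble (nat_lit 222) i)) (Nat.ble (nat_lit 220) i)) (Nat.ble (nat_lit 215) i))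
noncomputable def t225_227 (i : ℕ) : ℕ := (@Bool.rec (fun _ => ℕ) l225 l226 (Nat.ble (nat_lit 226) i))
noncomputable def t227_229 (i : ℕ) : ℕ := (@Bool.rec (fun _ => ℕ) l227 l228 (Nat.ble (nat_lit 228) i))
noncomputable def t229_231 (i : ℕ) : ℕ := (@Bool.rec (fun _ => ℕ) l229 l230 (Nat.ble (nat_lit 230) i))
noncomputable def t231_234 (i : ℕ) : ℕ := (@Bool.rec (fun _ => ℕ) l231 (@Bool.rec (fun _ => ℕ) l232 l233 (Nat.ble (nat_lit 233) i)) (Nat.ble (nat_lit 232) i))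
noncomputable def t234_236 (i : ℕ) : ℕ := (@Bool.rec (fun _ => ℕ) l234 l235 (Nat.ble (nat_lit 235) i))
noncomputable def t236_238 (i : ℕ) : ℕ := (@Bool.rec (fun _ => ℕ) l236 l237 (Nat.ble (nat_lit 237) i))
noncomputable def t238_240 (i : ℕ) : ℕ := (@Bool.rec (fun _ => ℕ) l238 l239 (Nat.ble (nat_lit 239) i))
noncomputable def t240_243 (i : ℕ) : ℕ := (@Bool.rec (fun _ => ℕ) l240 (@Bool.rec (fun _ => ℕ) l241 l242 (Nat.ble (nat_lit 242) i)) (Nat.ble (nat_lit 241) i))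
noncomputable def t225_243 (i : ℕ) : ℕ := (@Bool.rec (fun _ => ℕ) (@Bool.rec (fun _ => ℕ) (@Bool.rec (fun _ => ℕ) (t225_227 i) (t227_229 i) (Nat.ble (nat_lit 227) i)) (@Bool.rec (fun _ => ℕ) (t229_231 i) (t231_234 i) (Nat.ble (nat_lit 231) i)) (Nat.ble (nat_lit 229) i)) (@Bool.rec (fun _ => ℕ) (@Bool.rec (fun _ => ℕ) (t234_236 i) (t236_238 i) (Nat.ble (nat_lit 236) i)) (@Bool.rec (fun _ => ℕ) (t238_240 i) (t240_243 i) (Nat.ble (nat_lit 240) i)) (Nat.ble (nat_lit 238) i)) (Nat.ble (nat_lit 234) i))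
noncomputable def t243_245 (i : ℕ) : ℕ := (@Bool.rec (fun _ => ℕ) l243 l244 (Nat.ble (nat_lit 244) i))
noncomputable def t245_247 (i : ℕ) : ℕ := (@Bool.rec (fun _ => ℕ) l245 l246 (Nat.ble (nat_lit 246) i))
noncomputable def t247_249 (i : ℕ) : ℕ := (@Bool.rec (fun _ => ℕ) l247 l248 (Nat.ble (nat_lit 248) i))
noncomputable def t249_252 (i : ℕ) : ℕ := (@Bool.rec (fun _ => ℕ) l249 (@Bool.rec (fun _ => ℕ) l250 l251 (Nat.ble (nat_lit 251) i)) (Nat.ble (nat_lit 250) i))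
noncomputable def t252_254 (i : ℕ) : ℕ := (@Bool.rec (fun _ => ℕ) l252 l253 (Nat.ble (nat_lit 253) i))
noncomputable def t254_257 (i : ℕ) : ℕ := (@Bool.rec (fun _ => ℕ) l254 (@Bool.rec (fun _ => ℕ) l255 l256 (Nat.ble (nat_lit 256) i)) (Nat.ble (nat_lit 255) i))
noncomputable def t257_259 (i : ℕ) : ℕ := (@Bool.rec (fun _ => ℕ) l257 l258 (Nat.ble (nat_lit 258) i))
noncomputable def t259_262 (i : ℕ) : ℕ := (@Bool.rec (fun _ => ℕ) l259 (@Bool.rec (fun _ => ℕ) l260 l261 (Nat.ble (nat_lit 261) i)) (Nat.ble (nat_lit 260) i))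
noncomputable def t243_262 (i : ℕ) : ℕ := (@Bool.rec (fun _ => ℕ) (@Bool.rec (fun _ => ℕ) (@Bool.rec (fun _ => ℕ) (t243_245 i) (t245_247 i) (Nat.ble (nat_lit 245) i)) (@Bool.rec (fun _ => ℕ) (t247_249 i) (t249_252 i) (Nat.ble (nat_lit 249) i)) (Nat.ble (nat_lit 247) i)) (@Bool.rec (fun _ => ℕ) (@Bool.rec (fun _ => ℕ) (t252_254 i) (t254_257 i) (Nat.ble (nat_lit 254) i)) (@Bool.rec (fun _ => ℕ) (t257_259 i) (t259_262 i) (Nat.ble (nat_lit 259) i)) (Nat.ble (nat_lit 257) i)) (Nat.ble (nat_lit 252) i))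
noncomputable def t262_264 (i : ℕ) : ℕ := (@Bool.rec (fun _ => ℕ) l262 l263 (Nat.ble (nat_lit 263) i))
noncomputable def t264_266 (i : ℕ) : ℕ := (@Bool.rec (fun _ => ℕ) l264 l265 (Nat.ble (nat_lit 265) i))
noncomputable def t266_268 (i : ℕ) : ℕ := (@Bool.rec (fun _ => ℕ) l266 l267 (Nat.ble (nat_lit 267) i))
noncomputable def t268_271 (i : ℕ) : ℕ := (@Bool.rec (fun _ => ℕ) l268 (@Bool.rec (fun _ => ℕ) l269 l270 (Nat.ble (nat_lit 270) i)) (Nat.ble (nat_lit 269) i))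
noncomputable def t271_273 (i : ℕ) : ℕ := (@Bool.rec (fun _ => ℕ) l271 l272 (Nat.ble (nat_lit 272) i))
noncomputable def t273_276 (i : ℕ) : ℕ := (@Bool.rec (fun _ => ℕ) l273 (@Bool.rec (fun _ => ℕ) l274 l275 (Nat.ble (nat_lit 275) i)) (Nat.ble (nat_lit 274) i))
noncomputable def t276_278 (i : ℕ) : ℕ := (@Bool.rec (fun _ => ℕ) l276 l277 (Nat.ble (nat_lit 277) i))
noncomputable def t278_281 (i : ℕ) : ℕ := (@Bool.rec (fun _ => ℕ) l278 (@Bool.rec (fun _ => ℕ) l279 l280 (Nat.ble (nat_lit 280) i)) (Nat.ble (nat_lit 279) i))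
noncomputable def t262_281 (i : ℕ) : ℕ := (@Bool.rec (fun _ => ℕ) (@Bool.rec (fun _ => ℕ) (@Bool.rec (fun _ => ℕ) (t262_264 i) (t264_266 i) (Nat.ble (nat_lit 264) i)) (@Bool.rec (fun _ => ℕ) (t266_268 i) (t268_271 i) (Nat.ble (nat_lit 268) i)) (Nat.ble (nat_lit 266) i)) (@Bool.rec (fun _ => ℕ) (@Bool.rec (fun _ => ℕ) (t271_273 i) (t273_276 i) (Nat.ble (nat_lit 273) i)) (@Bool.rec (fun _ => ℕ) (t276_278 i) (t278_281 i) (Nat.ble (nat_lit 278) i)) (Nat.ble (nat_lit 276) i)) (Nat.ble (nat_lit 271) i))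
noncomputable def t281_283 (i : ℕ) : ℕ := (@Bool.rec (fun _ => ℕ) l281 l282 (Nat.ble (nat_lit 282) i))
noncomputable def t283_285 (i : ℕ) : ℕ := (@Bool.rec (fun _ => ℕ) l283 l284 (Nat.ble (nat_lit 284) i))
noncomputable def t285_287 (i : ℕ) : ℕ := (@Bool.rec (fun _ => ℕ) l285 l286 (Nat.ble (nat_lit 286) i))
noncomputable def t287_290 (i : ℕ) : ℕ := (@Bool.rec (fun _ => ℕ) l287 (@Bool.rec (fun _ => ℕ) l288 l289 (Nat.ble (nat_lit 289) i)) (Nat.ble (nat_lit 288) i))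
noncomputable def t290_292 (i : ℕ) : ℕ := (@Bool.rec (fun _ => ℕ) l290 l291 (Nat.ble (nat_lit 291) i))
noncomputable def t292_295 (i : ℕ) : ℕ := (@Bool.rec (fun _ => ℕ) l292 (@Bool.rec (fun _ => ℕ) l293 l294 (Nat.ble (nat_lit 294) i)) (Nat.ble (nat_lit 293) i))
noncomputable def t295_297 (i : ℕ) : ℕ := (@Bool.rec (fun _ => ℕ) l295 l296 (Nat.ble (nat_lit 296) i))
noncomputable def t297_300 (i : ℕ) : ℕ := (@Bool.rec (fun _ => ℕ) l297 (@Bool.rec (fun _ => ℕ) l298 l299 (Nat.ble (nat_lit 299) i)) (Nat.ble (nat_lit 298) i))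
noncomputable def t281_300 (i : ℕ) : ℕ := (@Bool.rec (fun _ => ℕ) (@Bool.rec (fun _ => ℕ) (@Bool.rec (fun _ => ℕ) (t281_283 i) (t283_285 i) (Nat.ble (nat_lit 283) i)) (@Bool.rec (fun _ => ℕ) (t285_287 i) (t287_290 i) (Nat.ble (nat_lit 287) i)) (Nat.ble (nat_lit 285) i)) (@Bool.rec (fun _ => ℕ) (@Bool.rec (fun _ => ℕ) (t290_292 i) (t292_295 i) (Nat.ble (nat_lit 292) i)) (@Bool.rec (fun _ => ℕ) (t295_297 i) (t297_300 i) (Nat.ble (nat_lit 297) i)) (Nat.ble (nat_lit 295) i)) (Nat.ble (nat_lit 290) i))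
noncomputable def t150_300 (i : ℕ) : ℕ := (@Bool.rec (fun _ => ℕ) (@Bool.rec (fun _ => ℕ) (@Bool.rec (fun _ => ℕ) (t150_168 i) (t168_187 i) (Nat.ble (nat_lit 168) i)) (@Bool.rec (fun _ => ℕ) (t187_206 i) (t206_225 i) (Nat.ble (nat_lit 206) i)) (Nat.ble (nat_lit 187) i)) (@Bool.rec (fun _ => ℕ) (@Bool.rec (fun _ => ℕ) (t225_243 i) (t243_262 i) (Nat.ble (nat_lit 243) i)) (@Bool.rec (fun _ => ℕ) (t262_281 i) (t281_300 i) (Nat.ble (nat_lit 281) i)) (Nat.ble (nat_lit 262) i)) (Nat.ble (nat_lit 225) i))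
noncomputable def t300_302 (i : ℕ) : ℕ := (@Bool.rec (fun _ => ℕ) l300 l301 (Nat.ble (nat_lit 301) i))
noncomputable def t302_304 (i : ℕ) : ℕ := (@Bool.rec (fun _ => ℕ) l302 l303 (Nat.ble (nat_lit 303) i))
noncomputable def t304_306 (i : ℕ) : ℕ := (@Bool.rec (fun _ => ℕ) l304 l305 (Nat.ble (nat_lit 305) i))
noncomputable def t306_309 (i : ℕ) : ℕ := (@Bool.rec (fun _ => ℕ) l306 (@Bool.rec (fun _ => ℕ) l307 l308 (Nat.ble (nat_lit 308) i)) (Nat.ble (nat_lit 307) i))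
noncomputable def t309_311 (i : ℕ) : ℕ := (@Bool.rec (fun _ => ℕ) l309 l310 (Nat.ble (nat_lit 310) i))
noncomputable def t311_313 (i : ℕ) : ℕ := (@Bool.rec (fun _ => ℕ) l311 l312 (Nat.ble (nat_lit 312) i))
noncomputable def t313_315 (i : ℕ) : ℕ := (@Bool.rec (fun _ => ℕ) l313 l314 (Nat.ble (nat_lit 314) i))
noncomputable def t315_318 (i : ℕ) : ℕ := (@Bool.rec (fun _ => ℕ) l315 (@Bool.rec (fun _ => ℕ) l316 l317 (Nat.ble (nat_lit 317) i)) (Nat.ble (nat_lit 316) i))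
noncomputable def t300_318 (i : ℕ) : ℕ := (@Bool.rec (fun _ => ℕ) (@Bool.rec (fun _ => ℕ) (@Bool.rec (fun _ => ℕ) (t300_302 i) (t302_304 i) (Nat.ble (nat_lit 302) i)) (@Bool.rec (fun _ => ℕ) (t304_306 i) (t306_309 i) (Nat.ble (nat_lit 306) i)) (Nat.ble (nat_lit 304) i)) (@Bool.rec (fun _ => ℕ) (@Bool.rec (fun _ => ℕ) (t309_311 i) (t311_313 i) (Nat.ble (nat_lit 311) i)) (@Bool.rec (fun _ => ℕ) (t313_315 i) (t315_318 i) (Nat.ble (nat_lit 315) i)) (Nat.ble (nat_lit 313) i)) (Nat.ble (nat_lit 309) i))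
noncomputable def t318_320 (i : ℕ) : ℕ := (@Bool.rec (fun _ => ℕ) l318 l319 (Nat.ble (nat_lit 319) i))
noncomputable def t320_322 (i : ℕ) : ℕ := (@Bool.rec (fun _ => ℕ) l320 l321 (Nat.ble (nat_lit 321) i))
noncomputable def t322_324 (i : ℕ) : ℕ := (@Bool.rec (fun _ => ℕ) l322 l323 (Nat.ble (nat_lit 323) i))
noncomputable def t324_327 (i : ℕ) : ℕ := (@Bool.rec (fun _ => ℕ) l324 (@Bool.rec (fun _ => ℕ) l325 l326 (Nat.ble (nat_lit 326) i)) (Nat.ble (nat_lit 325) i))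
noncomputable def t327_329 (i : ℕ) : ℕ := (@Bool.rec (fun _ => ℕ) l327 l328 (Nat.ble (nat_lit 328) i))
noncomputable def t329_332 (i : ℕ) : ℕ := (@Bool.rec (fun _ => ℕ) l329 (@Bool.rec (fun _ => ℕ) l330 l331 (Nat.ble (nat_lit 331) i)) (Nat.ble (nat_lit 330) i))
noncomputable def t332_334 (i : ℕ) : ℕ := (@Bool.rec (fun _ => ℕ) l332 l333 (Nat.ble (nat_lit 333) i))
noncomputable def t334_337 (i : ℕ) : ℕ := (@Bool.rec (fun _ => ℕ) l334 (@Bool.rec (fun _ => ℕ) l335 l336 (Nat.ble (nat_lit 336) i)) (Nat.ble (nat_lit 335) i))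
noncomputable def t318_337 (i : ℕ) : ℕ := (@Bool.rec (fun _ => ℕ) (@Bool.rec (fun _ => ℕ) (@Bool.rec (fun _ => ℕ) (t318_320 i) (t320_322 i) (Nat.ble (nat_lit 320) i)) (@Bool.rec (fun _ => ℕ) (t322_324 i) (t324_327 i) (Nat.ble (nat_lit 324) i)) (Nat.ble (nat_lit 322) i)) (@Bool.rec (fun _ => ℕ) (@Bool.rec (fun _ => ℕ) (t327_329 i) (t329_332 i) (Nat.ble (nat_lit 329) i)) (@Bool.rec (fun _ => ℕ) (t332_334 i) (t334_337 i) (Nat.ble (nat_lit 334) i)) (Nat.ble (nat_lit 332) i)) (Nat.ble (nat_lit 327) i))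
noncomputable def t337_339 (i : ℕ) : ℕ := (@Bool.rec (fun _ => ℕ) l337 l338 (Nat.ble (nat_lit 338) i))
noncomputable def t339_341 (i : ℕ) : ℕ := (@Bool.rec (fun _ => ℕ) l339 l340 (Nat.ble (nat_lit 340) i))
noncomputable def t341_343 (i : ℕ) : ℕ := (@Bool.rec (fun _ => ℕ) l341 l342 (Nat.ble (nat_lit 342) i))
noncomputable def t343_346 (i : ℕ) : ℕ := (@Bool.rec (fun _ => ℕ) l343 (@Bool.rec (fun _ => ℕ) l344 l345 (Nat.ble (nat_lit 345) i)) (Nat.ble (nat_lit 344) i))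
noncomputable def t346_348 (i : ℕ) : ℕ := (@Bool.rec (fun _ => ℕ) l346 l347 (Nat.ble (nat_lit 347) i))
noncomputable def t348_351 (i : ℕ) : ℕ := (@Bool.rec (fun _ => ℕ) l348 (@Bool.rec (fun _ => ℕ) l349 l350 (Nat.ble (nat_lit 350) i)) (Nat.ble (nat_lit 349) i))
noncomputable def t351_353 (i : ℕ) : ℕ := (@Bool.rec (fun _ => ℕ) l351 l352 (Nat.ble (nat_lit 352) i))
noncomputable def t353_356 (i : ℕ) : ℕ := (@Bool.rec (fun _ => ℕ) l353 (@Bool.rec (fun _ => ℕ) l354 l355 (Nat.ble (nat_lit 355) i)) (Nat.ble (nat_lit 354) i))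
noncomputable def t337_356 (i : ℕ) : ℕ := (@Bool.rec (fun _ => ℕ) (@Bool.rec (fun _ => ℕ) (@Bool.rec (fun _ => ℕ) (t337_339 i) (t339_341 i) (Nat.ble (nat_lit 339) i)) (@Bool.rec (fun _ => ℕ) (t341_343 i) (t343_346 i) (Nat.ble (nat_lit 343) i)) (Nat.ble (nat_lit 341) i)) (@Bool.rec (fun _ => ℕ) (@Bool.rec (fun _ => ℕ) (t346_348 i) (t348_351 i) (Nat.ble (nat_lit 348) i)) (@Bool.rec (fun _ => ℕ) (t351_353 i) (t353_356 i) (Nat.ble (nat_lit 353) i)) (Nat.ble (nat_lit 351) i)) (Nat.ble (nat_lit 346) i))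
noncomputable def t356_358 (i : ℕ) : ℕ := (@Bool.rec (fun _ => ℕ) l356 l357 (Nat.ble (nat_lit 357) i))
noncomputable def t358_360 (i : ℕ) : ℕ := (@Bool.rec (fun _ => ℕ) l358 l359 (Nat.ble (nat_lit 359) i))
noncomputable def t360_362 (i : ℕ) : ℕ := (@Bool.rec (fun _ => ℕ) l360 l361 (Nat.ble (nat_lit 361) i))
noncomputable def t362_365 (i : ℕ) : ℕ := (@Bool.rec (fun _ => ℕ) l362 (@Bool.rec (fun _ => ℕ) l363 l364 (Nat.ble (nat_lit 364) i)) (Nat.ble (nat_lit 363) i))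
noncomputable def t365_367 (i : ℕ) : ℕ := (@Bool.rec (fun _ => ℕ) l365 l366 (Nat.ble (nat_lit 366) i))
noncomputable def t367_370 (i : ℕ) : ℕ := (@Bool.rec (fun _ => ℕ) l367 (@Bool.rec (fun _ => ℕ) l368 l369 (Nat.ble (nat_lit 369) i)) (Nat.ble (nat_lit 368) i))
noncomputable def t370_372 (i : ℕ) : ℕ := (@Bool.rec (fun _ => ℕ) l370 l371 (Nat.ble (nat_lit 371) i))
noncomputable def t372_375 (i : ℕ) : ℕ := (@Bool.rec (fun _ => ℕ) l372 (@Bool.rec (fun _ => ℕ) l373 l374 (Nat.ble (nat_lit 374) i)) (Nat.ble (nat_lit 373) i))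
noncomputable def t356_375 (i : ℕ) : ℕ := (@Bool.rec (fun _ => ℕ) (@Bool.rec (fun _ => ℕ) (@Bool.rec (fun _ => ℕ) (t356_358 i) (t358_360 i) (Nat.ble (nat_lit 358) i)) (@Bool.rec (fun _ => ℕ) (t360_362 i) (t362_365 i) (Nat.ble (nat_lit 362) i)) (Nat.ble (nat_lit 360) i)) (@Bool.rec (fun _ => ℕ) (@Bool.rec (fun _ => ℕ) (t365_367 i) (t367_370 i) (Nat.ble (nat_lit 367) i)) (@Bool.rec (fun _ => ℕ) (t370_372 i) (t372_375 i) (Nat.ble (nat_lit 372) i)) (Nat.ble (nat_lit 370) i)) (Nat.ble (nat_lit 365) i))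
noncomputable def t375_377 (i : ℕ) : ℕ := (@Bool.rec (fun _ => ℕ) l375 l376 (Nat.ble (nat_lit 376) i))
noncomputable def t377_379 (i : ℕ) : ℕ := (@Bool.rec (fun _ => ℕ) l377 l378 (Nat.ble (nat_lit 378) i))
noncomputable def t379_381 (i : ℕ) : ℕ := (@Bool.rec (fun _ => ℕ) l379 l380 (Nat.ble (nat_lit 380) i))
noncomputable def t381_384 (i : ℕ) : ℕ := (@Bool.rec (fun _ => ℕ) l381 (@Bool.rec (fun _ => ℕ) l382 l383 (Nat.ble (nat_lit 383) i)) (Nat.ble (nat_lit 382) i))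
noncomputable def t384_386 (i : ℕ) : ℕ := (@Bool.rec (fun _ => ℕ) l384 l385 (Nat.ble (nat_lit 385) i))
noncomputable def t386_388 (i : ℕ) : ℕ := (@Bool.rec (fun _ => ℕ) l386 l387 (Nat.ble (nat_lit 387) i))
noncomputable def t388_390 (i : ℕ) : ℕ := (@Bool.rec (fun _ => ℕ) l388 l389 (Nat.ble (nat_lit 389) i))
noncomputable def t390_393 (i : ℕ) : ℕ := (@Bool.rec (fun _ => ℕ) l390 (@Bool.rec (fun _ => ℕ) l391 l392 (Nat.ble (nat_lit 392) i)) (Nat.ble (nat_lit 391) i))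
noncomputable def t375_393 (i : ℕ) : ℕ := (@Bool.rec (fun _ => ℕ) (@Bool.rec (fun _ => ℕ) (@Bool.rec (fun _ => ℕ) (t375_377 i) (t377_379 i) (Nat.ble (nat_lit 377) i)) (@Bool.rec (fun _ => ℕ) (t379_381 i) (t381_384 i) (Nat.ble (nat_lit 381) i)) (Nat.ble (nat_lit 379) i)) (@Bool.rec (fun _ => ℕ) (@Bool.rec (fun _ => ℕ) (t384_386 i) (t386_388 i) (Nat.ble (nat_lit 386) i)) (@Bool.rec (fun _ => ℕ) (t388_390 i) (t390_393 i) (Nat.ble (nat_lit 390) i)) (Nat.ble (nat_lit 388) i)) (Nat.ble (nat_lit 384) i))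
noncomputable def t393_395 (i : ℕ) : ℕ := (@Bool.rec (fun _ => ℕ) l393 l394 (Nat.ble (nat_lit 394) i))
noncomputable def t395_397 (i : ℕ) : ℕ := (@Bool.rec (fun _ => ℕ) l395 l396 (Nat.ble (nat_lit 396) i))
noncomputable def t397_399 (i : ℕ) : ℕ := (@Bool.rec (fun _ => ℕ) l397 l398 (Nat.ble (nat_lit 398) i))
noncomputable def t399_402 (i : ℕ) : ℕ := (@Bool.rec (fun _ => ℕ) l399 (@Bool.rec (fun _ => ℕ) l400 l401 (Nat.ble (nat_lit 401) i)) (Nat.ble (nat_lit 400) i))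
noncomputable def t402_404 (i : ℕ) : ℕ := (@Bool.rec (fun _ => ℕ) l402 l403 (Nat.ble (nat_lit 403) i))
noncomputable def t404_407 (i : ℕ) : ℕ := (@Bool.rec (fun _ => ℕ) l404 (@Bool.rec (fun _ => ℕ) l405 l406 (Nat.ble (nat_lit 406) i)) (Nat.ble (nat_lit 405) i))
noncomputable def t407_409 (i : ℕ) : ℕ := (@Bool.rec (fun _ => ℕ) l407 l408 (Nat.ble (nat_lit 408) i))
noncomputable def t409_412 (i : ℕ) : ℕ := (@Bool.rec (fun _ => ℕ) l409 (@Bool.rec (fun _ => ℕ) l410 l411 (Nat.ble (nat_lit 411) i)) (Nat.ble (nat_lit 410) i))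
noncomputable def t393_412 (i : ℕ) : ℕ := (@Bool.rec (fun _ => ℕ) (@Bool.rec (fun _ => ℕ) (@Bool.rec (fun _ => ℕ) (t393_395 i) (t395_397 i) (Nat.ble (nat_lit 395) i)) (@Bool.rec (fun _ => ℕ) (t397_399 i) (t399_402 i) (Nat.ble (nat_lit 399) i)) (Nat.ble (nat_lit 397) i)) (@Bool.rec (fun _ => ℕ) (@Bool.rec (fun _ => ℕ) (t402_404 i) (t404_407 i) (Nat.ble (nat_lit 404) i)) (@Bool.rec (fun _ => ℕ) (t407_409 i) (t409_412 i) (Nat.ble (nat_lit 409) i)) (Nat.ble (nat_lit 407) i)) (Nat.ble (nat_lit 402) i))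
noncomputable def t412_414 (i : ℕ) : ℕ := (@Bool.rec (fun _ => ℕ) l412 l413 (Nat.ble (nat_lit 413) i))
noncomputable def t414_416 (i : ℕ) : ℕ := (@Bool.rec (fun _ => ℕ) l414 l415 (Nat.ble (nat_lit 415) i))
noncomputable def t416_418 (i : ℕ) : ℕ := (@Bool.rec (fun _ => ℕ) l416 l417 (Nat.ble (nat_lit 417) i))
noncomputable def t418_421 (i : ℕ) : ℕ := (@Bool.rec (fun _ => ℕ) l418 (@Bool.rec (fun _ => ℕ) l419 l420 (Nat.ble (nat_lit 420) i)) (Nat.ble (nat_lit 419) i))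
noncomputable def t421_423 (i : ℕ) : ℕ := (@Bool.rec (fun _ => ℕ) l421 l422 (Nat.ble (nat_lit 422) i))
noncomputable def t423_426 (i : ℕ) : ℕ := (@Bool.rec (fun _ => ℕ) l423 (@Bool.rec (fun _ => ℕ) l424 l425 (Nat.ble (nat_lit 425) i)) (Nat.ble (nat_lit 424) i))
noncomputable def t426_428 (i : ℕ) : ℕ := (@Bool.rec (fun _ => ℕ) l426 l427 (Nat.ble (nat_lit 427) i))
noncomputable def t428_431 (i : ℕ) : ℕ := (@Bool.rec (fun _ => ℕ) l428 (@Bool.rec (fun _ => ℕ) l429 l430 (Nat.ble (nat_lit 430) i)) (Nat.ble (nat_lit 429) i))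
noncomputable def t412_431 (i : ℕ) : ℕ := (@Bool.rec (fun _ => ℕ) (@Bool.rec (fun _ => ℕ) (@Bool.rec (fun _ => ℕ) (t412_414 i) (t414_416 i) (Nat.ble (nat_lit 414) i)) (@Bool.rec (fun _ => ℕ) (t416_418 i) (t418_421 i) (Nat.ble (nat_lit 418) i)) (Nat.ble (nat_lit 416) i)) (@Bool.rec (fun _ => ℕ) (@Bool.rec (fun _ => ℕ) (t421_423 i) (t423_426 i) (Nat.ble (nat_lit 423) i)) (@Bool.rec (fun _ => ℕ) (t426_428 i) (t428_431 i) (Nat.ble (nat_lit 428) i)) (Nat.ble (nat_lit 426) i)) (Nat.ble (nat_lit 421) i))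
noncomputable def t431_433 (i : ℕ) : ℕ := (@Bool.rec (fun _ => ℕ) l431 l432 (Nat.ble (nat_lit 432) i))
noncomputable def t433_435 (i : ℕ) : ℕ := (@Bool.rec (fun _ => ℕ) l433 l434 (Nat.ble (nat_lit 434) i))
noncomputable def t435_437 (i : ℕ) : ℕ := (@Bool.rec (fun _ => ℕ) l435 l436 (Nat.ble (nat_lit 436) i))
noncomputable def t437_440 (i : ℕ) : ℕ := (@Bool.rec (fun _ => ℕ) l437 (@Bool.rec (fun _ => ℕ) l438 l439 (Nat.ble (nat_lit 439) i)) (Nat.ble (nat_lit 438) i))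
noncomputable def t440_442 (i : ℕ) : ℕ := (@Bool.rec (fun _ => ℕ) l440 l441 (Nat.ble (nat_lit 441) i))
noncomputable def t442_445 (i : ℕ) : ℕ := (@Bool.rec (fun _ => ℕ) l442 (@Bool.rec (fun _ => ℕ) l443 l444 (Nat.ble (nat_lit 444) i)) (Nat.ble (nat_lit 443) i))
noncomputable def t445_447 (i : ℕ) : ℕ := (@Bool.rec (fun _ => ℕ) l445 l446 (Nat.ble (nat_lit 446) i))
noncomputable def t447_450 (i : ℕ) : ℕ := (@Bool.rec (fun _ => ℕ) l447 (@Bool.rec (fun _ => ℕ) l448 l449 (Nat.ble (nat_lit 449) i)) (Nat.ble (nat_lit 448) i))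
noncomputable def t431_450 (i : ℕ) : ℕ := (@Bool.rec (fun _ => ℕ) (@Bool.rec (fun _ => ℕ) (@Bool.rec (fun _ => ℕ) (t431_433 i) (t433_435 i) (Nat.ble (nat_lit 433) i)) (@Bool.rec (fun _ => ℕ) (t435_437 i) (t437_440 i) (Nat.ble (nat_lit 437) i)) (Nat.ble (nat_lit 435) i)) (@Bool.rec (fun _ => ℕ) (@Bool.rec (fun _ => ℕ) (t440_442 i) (t442_445 i) (Nat.ble (nat_lit 442) i)) (@Bool.rec (fun _ => ℕ) (t445_447 i) (t447_450 i) (Nat.ble (nat_lit 447) i)) (Nat.ble (nat_lit 445) i)) (Nat.ble (nat_lit 440) i))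
noncomputable def t300_450 (i : ℕ) : ℕ := (@Bool.rec (fun _ => ℕ) (@Bool.rec (fun _ => ℕ) (@Bool.rec (fun _ => ℕ) (t300_318 i) (t318_337 i) (Nat.ble (nat_lit 318) i)) (@Bool.rec (fun _ => ℕ) (t337_356 i) (t356_375 i) (Nat.ble (nat_lit 356) i)) (Nat.ble (nat_lit 337) i)) (@Bool.rec (fun _ => ℕ) (@Bool.rec (fun _ => ℕ) (t375_393 i) (t393_412 i) (Nat.ble (nat_lit 393) i)) (@Bool.rec (fun _ => ℕ) (t412_431 i) (t431_450 i) (Nat.ble (nat_lit 431) i)) (Nat.ble (nat_lit 412) i)) (Nat.ble (nat_lit 375) i))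
noncomputable def t450_452 (i : ℕ) : ℕ := (@Bool.rec (fun _ => ℕ) l450 l451 (Nat.ble (nat_lit 451) i))
noncomputable def t452_454 (i : ℕ) : ℕ := (@Bool.rec (fun _ => ℕ) l452 l453 (Nat.ble (nat_lit 453) i))
noncomputable def t454_456 (i : ℕ) : ℕ := (@Bool.rec (fun _ => ℕ) l454 l455 (Nat.ble (nat_lit 455) i))
noncomputable def t456_459 (i : ℕ) : ℕ := (@Bool.rec (fun _ => ℕ) l456 (@Bool.rec (fun _ => ℕ) l457 l458 (Nat.ble (nat_lit 458) i)) (Nat.ble (nat_lit 457) i))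
noncomputable def t459_461 (i : ℕ) : ℕ := (@Bool.rec (fun _ => ℕ) l459 l460 (Nat.ble (nat_lit 460) i))
noncomputable def t461_463 (i : ℕ) : ℕ := (@Bool.rec (fun _ => ℕ) l461 l462 (Nat.ble (nat_lit 462) i))
noncomputable def t463_465 (i : ℕ) : ℕ := (@Bool.rec (fun _ => ℕ) l463 l464 (Nat.ble (nat_lit 464) i))
noncomputable def t465_468 (i : ℕ) : ℕ := (@Bool.rec (fun _ => ℕ) l465 (@Bool.rec (fun _ => ℕ) l466 l467 (Nat.ble (nat_lit 467) i)) (Nat.ble (nat_lit 466) i))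
noncomputable def t450_468 (i : ℕ) : ℕ := (@Bool.rec (fun _ => ℕ) (@Bool.rec (fun _ => ℕ) (@Bool.rec (fun _ => ℕ) (t450_452 i) (t452_454 i) (Nat.ble (nat_lit 452) i)) (@Bool.rec (fun _ => ℕ) (t454_456 i) (t456_459 i) (Nat.ble (nat_lit 456) i)) (Nat.ble (nat_lit 454) i)) (@Bool.rec (fun _ => ℕ) (@Bool.rec (fun _ => ℕ) (t459_461 i) (t461_463 i) (Nat.ble (nat_lit 461) i)) (@Bool.rec (fun _ => ℕ) (t463_465 i) (t465_468 i) (Nat.ble (nat_lit 465) i)) (Nat.ble (nat_lit 463) i)) (Nat.ble (nat_lit 459) i))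
noncomputable def t468_470 (i : ℕ) : ℕ := (@Bool.rec (fun _ => ℕ) l468 l469 (Nat.ble (nat_lit 469) i))
noncomputable def t470_472 (i : ℕ) : ℕ := (@Bool.rec (fun _ => ℕ) l470 l471 (Nat.ble (nat_lit 471) i))
noncomputable def t472_474 (i : ℕ) : ℕ := (@Bool.rec (fun _ => ℕ) l472 l473 (Nat.ble (nat_lit 473) i))
noncomputable def t474_477 (i : ℕ) : ℕ := (@Bool.rec (fun _ => ℕ) l474 (@Bool.rec (fun _ => ℕ) l475 l476 (Nat.ble (nat_lit 476) i)) (Nat.ble (nat_lit 475) i))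
noncomputable def t477_479 (i : ℕ) : ℕ := (@Bool.rec (fun _ => ℕ) l477 l478 (Nat.ble (nat_lit 478) i))
noncomputable def t479_482 (i : ℕ) : ℕ := (@Bool.rec (fun _ => ℕ) l479 (@Bool.rec (fun _ => ℕ) l480 l481 (Nat.ble (nat_lit 481) i)) (Nat.ble (nat_lit 480) i))
noncomputable def t482_484 (i : ℕ) : ℕ := (@Bool.rec (fun _ => ℕ) l482 l483 (Nat.ble (nat_lit 483) i))
noncomputable def t484_487 (i : ℕ) : ℕ := (@Bool.rec (fun _ => ℕ) l484 (@Bool.rec (fun _ => ℕ) l485 l486 (Nat.ble (nat_lit 486) i)) (Nat.ble (nat_lit 485) i))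
noncomputable def t468_487 (i : ℕ) : ℕ := (@Bool.rec (fun _ => ℕ) (@Bool.rec (fun _ => ℕ) (@Bool.rec (fun _ => ℕ) (t468_470 i) (t470_472 i) (Nat.ble (nat_lit 470) i)) (@Bool.rec (fun _ => ℕ) (t472_474 i) (t474_477 i) (Nat.ble (nat_lit 474) i)) (Nat.ble (nat_lit 472) i)) (@Bool.rec (fun _ => ℕ) (@Bool.rec (fun _ => ℕ) (t477_479 i) (t479_482 i) (Nat.ble (nat_lit 479) i)) (@Bool.rec (fun _ => ℕ) (t482_484 i) (t484_487 i) (Nat.ble (nat_lit 484) i)) (Nat.ble (nat_lit 482) i)) (Nat.ble (nat_lit 477) i))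
noncomputable def t487_489 (i : ℕ) : ℕ := (@Bool.rec (fun _ => ℕ) l487 l488 (Nat.ble (nat_lit 488) i))
noncomputable def t489_491 (i : ℕ) : ℕ := (@Bool.rec (fun _ => ℕ) l489 l490 (Nat.ble (nat_lit 490) i))
noncomputable def t491_493 (i : ℕ) : ℕ := (@Bool.rec (fun _ => ℕ) l491 l492 (Nat.ble (nat_lit 492) i))
noncomputable def t493_496 (i : ℕ) : ℕ := (@Bool.rec (fun _ => ℕ) l493 (@Bool.rec (fun _ => ℕ) l494 l495 (Nat.ble (nat_lit 495) i)) (Nat.ble (nat_lit 494) i))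
noncomputable def t496_498 (i : ℕ) : ℕ := (@Bool.rec (fun _ => ℕ) l496 l497 (Nat.ble (nat_lit 497) i))
noncomputable def t498_501 (i : ℕ) : ℕ := (@Bool.rec (fun _ => ℕ) l498 (@Bool.rec (fun _ => ℕ) l499 l500 (Nat.ble (nat_lit 500) i)) (Nat.ble (nat_lit 499) i))
noncomputable def t501_503 (i : ℕ) : ℕ := (@Bool.rec (fun _ => ℕ) l501 l502 (Nat.ble (nat_lit 502) i))
noncomputable def t503_506 (i : ℕ) : ℕ := (@Bool.rec (fun _ => ℕ) l503 (@Bool.rec (fun _ => ℕ) l504 l505 (Nat.ble (nat_lit 505) i)) (Nat.ble (nat_lit 504) i))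
noncomputable def t487_506 (i : ℕ) : ℕ := (@Bool.rec (fun _ => ℕ) (@Bool.rec (fun _ => ℕ) (@Bool.rec (fun _ => ℕ) (t487_489 i) (t489_491 i) (Nat.ble (nat_lit 489) i)) (@Bool.rec (fun _ => ℕ) (t491_493 i) (t493_496 i) (Nat.ble (nat_lit 493) i)) (Nat.ble (nat_lit 491) i)) (@Bool.rec (fun _ => ℕ) (@Bool.rec (fun _ => ℕ) (t496_498 i) (t498_501 i) (Nat.ble (nat_lit 498) i)) (@Bool.rec (fun _ => ℕ) (t501_503 i) (t503_506 i) (Nat.ble (nat_lit 503) i)) (Nat.ble (nat_lit 501) i)) (Nat.ble (nat_lit 496) i))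
noncomputable def t506_508 (i : ℕ) : ℕ := (@Bool.rec (fun _ => ℕ) l506 l507 (Nat.ble (nat_lit 507) i))
noncomputable def t508_510 (i : ℕ) : ℕ := (@Bool.rec (fun _ => ℕ) l508 l509 (Nat.ble (nat_lit 509) i))
noncomputable def t510_512 (i : ℕ) : ℕ := (@Bool.rec (fun _ => ℕ) l510 l511 (Nat.ble (nat_lit 511) i))
noncomputable def t512_515 (i : ℕ) : ℕ := (@Bool.rec (fun _ => ℕ) l512 (@Bool.rec (fun _ => ℕ) l513 l514 (Nat.ble (nat_lit 514) i)) (Nat.ble (nat_lit 513) i))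
noncomputable def t515_517 (i : ℕ) : ℕ := (@Bool.rec (fun _ => ℕ) l515 l516 (Nat.ble (nat_lit 516) i))
noncomputable def t517_520 (i : ℕ) : ℕ := (@Bool.rec (fun _ => ℕ) l517 (@Bool.rec (fun _ => ℕ) l518 l519 (Nat.ble (nat_lit 519) i)) (Nat.ble (nat_lit 518) i))
noncomputable def t520_522 (i : ℕ) : ℕ := (@Bool.rec (fun _ => ℕ) l520 l521 (Nat.ble (nat_lit 521) i))
noncomputable def t522_525 (i : ℕ) : ℕ := (@Bool.rec (fun _ => ℕ) l522 (@Bool.rec (fun _ => ℕ) l523 l524 (Nat.ble (nat_lit 524) i)) (Nat.ble (nat_lit 523) i))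
noncomputable def t506_525 (i : ℕ) : ℕ := (@Bool.rec (fun _ => ℕ) (@Bool.rec (fun _ => ℕ) (@Bool.rec (fun _ => ℕ) (t506_508 i) (t508_510 i) (Nat.ble (nat_lit 508) i)) (@Bool.rec (fun _ => ℕ) (t510_512 i) (t512_515 i) (Nat.ble (nat_lit 512) i)) (Nat.ble (nat_lit 510) i)) (@Bool.rec (fun _ => ℕ) (@Bool.rec (fun _ => ℕ) (t515_517 i) (t517_520 i) (Nat.ble (nat_lit 517) i)) (@Bool.rec (fun _ => ℕ) (t520_522 i) (t522_525 i) (Nat.ble (nat_lit 522) i)) (Nat.ble (nat_lit 520) i)) (Nat.ble (nat_lit 515) i))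
noncomputable def t525_527 (i : ℕ) : ℕ := (@Bool.rec (fun _ => ℕ) l525 l526 (Nat.ble (nat_lit 526) i))
noncomputable def t527_529 (i : ℕ) : ℕ := (@Bool.rec (fun _ => ℕ) l527 l528 (Nat.ble (nat_lit 528) i))
noncomputable def t529_531 (i : ℕ) : ℕ := (@Bool.rec (fun _ => ℕ) l529 l530 (Nat.ble (nat_lit 530) i))
noncomputable def t531_534 (i : ℕ) : ℕ := (@Bool.rec (fun _ => ℕ) l531 (@Bool.rec (fun _ => ℕ) l532 l533 (Nat.ble (nat_lit 533) i)) (Nat.ble (nat_lit 532) i))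
noncomputable def t534_536 (i : ℕ) : ℕ := (@Bool.rec (fun _ => ℕ) l534 l535 (Nat.ble (nat_lit 535) i))
noncomputable def t536_538 (i : ℕ) : ℕ := (@Bool.rec (fun _ => ℕ) l536 l537 (Nat.ble (nat_lit 537) i))
noncomputable def t538_540 (i : ℕ) : ℕ := (@Bool.rec (fun _ => ℕ) l538 l539 (Nat.ble (nat_lit 539) i))
noncomputable def t540_543 (i : ℕ) : ℕ := (@Bool.rec (fun _ => ℕ) l540 (@Bool.rec (fun _ => ℕ) l541 l542 (Nat.ble (nat_lit 542) i)) (Nat.ble (nat_lit 541) i))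
noncomputable def t525_543 (i : ℕ) : ℕ := (@Bool.rec (fun _ => ℕ) (@Bool.rec (fun _ => ℕ) (@Bool.rec (fun _ => ℕ) (t525_527 i) (t527_529 i) (Nat.ble (nat_lit 527) i)) (@Bool.rec (fun _ => ℕ) (t529_531 i) (t531_534 i) (Nat.ble (nat_lit 531) i)) (Nat.ble (nat_lit 529) i)) (@Bool.rec (fun _ => ℕ) (@Bool.rec (fun _ => ℕ) (t534_536 i) (t536_538 i) (Nat.ble (nat_lit 536) i)) (@Bool.rec (fun _ => ℕ) (t538_540 i) (t540_543 i) (Nat.ble (nat_lit 540) i)) (Nat.ble (nat_lit 538) i)) (Nat.ble (nat_lit 534) i))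
noncomputable def t543_545 (i : ℕ) : ℕ := (@Bool.rec (fun _ => ℕ) l543 l544 (Nat.ble (nat_lit 544) i))
noncomputable def t545_547 (i : ℕ) : ℕ := (@Bool.rec (fun _ => ℕ) l545 l546 (Nat.ble (nat_lit 546) i))
noncomputable def t547_549 (i : ℕ) : ℕ := (@Bool.rec (fun _ => ℕ) l547 l548 (Nat.ble (nat_lit 548) i))
noncomputable def t549_552 (i : ℕ) : ℕ := (@Bool.rec (fun _ => ℕ) l549 (@Bool.rec (fun _ => ℕ) l550 l551 (Nat.ble (nat_lit 551) i)) (Nat.ble (nat_lit 550) i))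
noncomputable def t552_554 (i : ℕ) : ℕ := (@Bool.rec (fun _ => ℕ) l552 l553 (Nat.ble (nat_lit 553) i))
noncomputable def t554_557 (i : ℕ) : ℕ := (@Bool.rec (fun _ => ℕ) l554 (@Bool.rec (fun _ => ℕ) l555 l556 (Nat.ble (nat_lit 556) i)) (Nat.ble (nat_lit 555) i))
noncomputable def t557_559 (i : ℕ) : ℕ := (@Bool.rec (fun _ => ℕ) l557 l558 (Nat.ble (nat_lit 558) i))
noncomputable def t559_562 (i : ℕ) : ℕ := (@Bool.rec (fun _ => ℕ) l559 (@Bool.rec (fun _ => ℕ) l560 l561 (Nat.ble (nat_lit 561) i)) (Nat.ble (nat_lit 560) i))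
noncomputable def t543_562 (i : ℕ) : ℕ := (@Bool.rec (fun _ => ℕ) (@Bool.rec (fun _ => ℕ) (@Bool.rec (fun _ => ℕ) (t543_545 i) (t545_547 i) (Nat.ble (nat_lit 545) i)) (@Bool.rec (fun _ => ℕ) (t547_549 i) (t549_552 i) (Nat.ble (nat_lit 549) i)) (Nat.ble (nat_lit 547) i)) (@Bool.rec (fun _ => ℕ) (@Bool.rec (fun _ => ℕ) (t552_554 i) (t554_557 i) (Nat.ble (nat_lit 554) i)) (@Bool.rec (fun _ => ℕ) (t557_559 i) (t559_562 i) (Nat.ble (nat_lit 559) i)) (Nat.ble (nat_lit 557) i)) (Nat.ble (nat_lit 552) i))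
noncomputable def t562_564 (i : ℕ) : ℕ := (@Bool.rec (fun _ => ℕ) l562 l563 (Nat.ble (nat_lit 563) i))
noncomputable def t564_566 (i : ℕ) : ℕ := (@Bool.rec (fun _ => ℕ) l564 l565 (Nat.ble (nat_lit 565) i))
noncomputable def t566_568 (i : ℕ) : ℕ := (@Bool.rec (fun _ => ℕ) l566 l567 (Nat.ble (nat_lit 567) i))
noncomputable def t568_571 (i : ℕ) : ℕ := (@Bool.rec (fun _ => ℕ) l568 (@Bool.rec (fun _ => ℕ) l569 l570 (Nat.ble (nat_lit 570) i)) (Nat.ble (nat_lit 569) i))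
noncomputable def t571_573 (i : ℕ) : ℕ := (@Bool.rec (fun _ => ℕ) l571 l572 (Nat.ble (nat_lit 572) i))
noncomputable def t573_576 (i : ℕ) : ℕ := (@Bool.rec (fun _ => ℕ) l573 (@Bool.rec (fun _ => ℕ) l574 l575 (Nat.ble (nat_lit 575) i)) (Nat.ble (nat_lit 574) i))
noncomputable def t576_578 (i : ℕ) : ℕ := (@Bool.rec (fun _ => ℕ) l576 l577 (Nat.ble (nat_lit 577) i))
noncomputable def t578_581 (i : ℕ) : ℕ := (@Bool.rec (fun _ => ℕ) l578 (@Bool.rec (fun _ => ℕ) l579 l580 (Nat.ble (nat_lit 580) i)) (Nat.ble (nat_lit 579) i))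
noncomputable def t562_581 (i : ℕ) : ℕ := (@Bool.rec (fun _ => ℕ) (@Bool.rec (fun _ => ℕ) (@Bool.rec (fun _ => ℕ) (t562_564 i) (t564_566 i) (Nat.ble (nat_lit 564) i)) (@Bool.rec (fun _ => ℕ) (t566_568 i) (t568_571 i) (Nat.ble (nat_lit 568) i)) (Nat.ble (nat_lit 566) i)) (@Bool.rec (fun _ => ℕ) (@Bool.rec (fun _ => ℕ) (t571_573 i) (t573_576 i) (Nat.ble (nat_lit 573) i)) (@Bool.rec (fun _ => ℕ) (t576_578 i) (t578_581 i) (Nat.ble (nat_lit 578) i)) (Nat.ble (nat_lit 576) i)) (Nat.ble (nat_lit 571) i))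
noncomputable def t581_583 (i : ℕ) : ℕ := (@Bool.rec (fun _ => ℕ) l581 l582 (Nat.ble (nat_lit 582) i))
noncomputable def t583_585 (i : ℕ) : ℕ := (@Bool.rec (fun _ => ℕ) l583 l584 (Nat.ble (nat_lit 584) i))
noncomputable def t585_587 (i : ℕ) : ℕ := (@Bool.rec (fun _ => ℕ) l585 l586 (Nat.ble (nat_lit 586) i))
noncomputable def t587_590 (i : ℕ) : ℕ := (@Bool.rec (fun _ => ℕ) l587 (@Bool.rec (fun _ => ℕ) l588 l589 (Nat.ble (nat_lit 589) i)) (Nat.ble (nat_lit 588) i))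
noncomputable def t590_592 (i : ℕ) : ℕ := (@Bool.rec (fun _ => ℕ) l590 l591 (Nat.ble (nat_lit 591) i))
noncomputable def t592_595 (i : ℕ) : ℕ := (@Bool.rec (fun _ => ℕ) l592 (@Bool.rec (fun _ => ℕ) l593 l594 (Nat.ble (nat_lit 594) i)) (Nat.ble (nat_lit 593) i))
noncomputable def t595_597 (i : ℕ) : ℕ := (@Bool.rec (fun _ => ℕ) l595 l596 (Nat.ble (nat_lit 596) i))
noncomputable def t597_600 (i : ℕ) : ℕ := (@Bool.rec (fun _ => ℕ) l597 (@Bool.rec (fun _ => ℕ) l598 l599 (Nat.ble (nat_lit 599) i)) (Nat.ble (nat_lit 598) i))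
noncomputable def t581_600 (i : ℕ) : ℕ := (@Bool.rec (fun _ => ℕ) (@Bool.rec (fun _ => ℕ) (@Bool.rec (fun _ => ℕ) (t581_583 i) (t583_585 i) (Nat.ble (nat_lit 583) i)) (@Bool.rec (fun _ => ℕ) (t585_587 i) (t587_590 i) (Nat.ble (nat_lit 587) i)) (Nat.ble (nat_lit 585) i)) (@Bool.rec (fun _ => ℕ) (@Bool.rec (fun _ => ℕ) (t590_592 i) (t592_595 i) (Nat.ble (nat_lit 592) i)) (@Bool.rec (fun _ => ℕ) (t595_597 i) (t597_600 i) (Nat.ble (nat_lit 597) i)) (Nat.ble (nat_lit 595) i)) (Nat.ble (nat_lit 590) i))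
noncomputable def t450_600 (i : ℕ) : ℕ := (@Bool.rec (fun _ => ℕ) (@Bool.rec (fun _ => ℕ) (@Bool.rec (fun _ => ℕ) (t450_468 i) (t468_487 i) (Nat.ble (nat_lit 468) i)) (@Bool.rec (fun _ => ℕ) (t487_506 i) (t506_525 i) (Nat.ble (nat_lit 506) i)) (Nat.ble (nat_lit 487) i)) (@Bool.rec (fun _ => ℕ) (@Bool.rec (fun _ => ℕ) (t525_543 i) (t543_562 i) (Nat.ble (nat_lit 543) i)) (@Bool.rec (fun _ => ℕ) (t562_581 i) (t581_600 i) (Nat.ble (nat_lit 581) i)) (Nat.ble (nat_lit 562) i)) (Nat.ble (nat_lit 525) i))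
noncomputable def t600_602 (i : ℕ) : ℕ := (@Bool.rec (fun _ => ℕ) l600 l601 (Nat.ble (nat_lit 601) i))
noncomputable def t602_604 (i : ℕ) : ℕ := (@Bool.rec (fun _ => ℕ) l602 l603 (Nat.ble (nat_lit 603) i))
noncomputable def t604_606 (i : ℕ) : ℕ := (@Bool.rec (fun _ => ℕ) l604 l605 (Nat.ble (nat_lit 605) i))
noncomputable def t606_609 (i : ℕ) : ℕ := (@Bool.rec (fun _ => ℕ) l606 (@Bool.rec (fun _ => ℕ) l607 l608 (Nat.ble (nat_lit 608) i)) (Nat.ble (nat_lit 607) i))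
noncomputable def t609_611 (i : ℕ) : ℕ := (@Bool.rec (fun _ => ℕ) l609 l610 (Nat.ble (nat_lit 610) i))
noncomputable def t611_613 (i : ℕ) : ℕ := (@Bool.rec (fun _ => ℕ) l611 l612 (Nat.ble (nat_lit 612) i))
noncomputable def t613_615 (i : ℕ) : ℕ := (@Bool.rec (fun _ => ℕ) l613 l614 (Nat.ble (nat_lit 614) i))
noncomputable def t615_618 (i : ℕ) : ℕ := (@Bool.rec (fun _ => ℕ) l615 (@Bool.rec (fun _ => ℕ) l616 l617 (Nat.ble (nat_lit 617) i)) (Nat.ble (nat_lit 616) i))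
noncomputable def t600_618 (i : ℕ) : ℕ := (@Bool.rec (fun _ => ℕ) (@Bool.rec (fun _ => ℕ) (@Bool.rec (fun _ => ℕ) (t600_602 i) (t602_604 i) (Nat.ble (nat_lit 602) i)) (@Bool.rec (fun _ => ℕ) (t604_606 i) (t606_609 i) (Nat.ble (nat_lit 606) i)) (Nat.ble (nat_lit 604) i)) (@Bool.rec (fun _ => ℕ) (@Bool.rec (fun _ => ℕ) (t609_611 i) (t611_613 i) (Nat.ble (nat_lit 611) i)) (@Bool.rec (fun _ => ℕ) (t613_615 i) (t615_618 i) (Nat.ble (nat_lit 615) i)) (Nat.ble (nat_lit 613) i)) (Nat.ble (nat_lit 609) i))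
noncomputable def t618_620 (i : ℕ) : ℕ := (@Bool.rec (fun _ => ℕ) l618 l619 (Nat.ble (nat_lit 619) i))
noncomputable def t620_622 (i : ℕ) : ℕ := (@Bool.rec (fun _ => ℕ) l620 l621 (Nat.ble (nat_lit 621) i))
noncomputable def t622_624 (i : ℕ) : ℕ := (@Bool.rec (fun _ => ℕ) l622 l623 (Nat.ble (nat_lit 623) i))
noncomputable def t624_627 (i : ℕ) : ℕ := (@Bool.rec (fun _ => ℕ) l624 (@Bool.rec (fun _ => ℕ) l625 l626 (Nat.ble (nat_lit 626) i)) (Nat.ble (nat_lit 625) i))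
noncomputable def t627_629 (i : ℕ) : ℕ := (@Bool.rec (fun _ => ℕ) l627 l628 (Nat.ble (nat_lit 628) i))
noncomputable def t629_632 (i : ℕ) : ℕ := (@Bool.rec (fun _ => ℕ) l629 (@Bool.rec (fun _ => ℕ) l630 l631 (Nat.ble (nat_lit 631) i)) (Nat.ble (nat_lit 630) i))
noncomputable def t632_634 (i : ℕ) : ℕ := (@Bool.rec (fun _ => ℕ) l632 l633 (Nat.ble (nat_lit 633) i))
noncomputable def t634_637 (i : ℕ) : ℕ := (@Bool.rec (fun _ => ℕ) l634 (@Bool.rec (fun _ => ℕ) l635 l636 (Nat.ble (nat_lit 636) i)) (Nat.ble (nat_lit 635) i))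
noncomputable def t618_637 (i : ℕ) : ℕ := (@Bool.rec (fun _ => ℕ) (@Bool.rec (fun _ => ℕ) (@Bool.rec (fun _ => ℕ) (t618_620 i) (t620_622 i) (Nat.ble (nat_lit 620) i)) (@Bool.rec (fun _ => ℕ) (t622_624 i) (t624_627 i) (Nat.ble (nat_lit 624) i)) (Nat.ble (nat_lit 622) i)) (@Bool.rec (fun _ => ℕ) (@Bool.rec (fun _ => ℕ) (t627_629 i) (t629_632 i) (Nat.ble (nat_lit 629) i)) (@Bool.rec (fun _ => ℕ) (t632_634 i) (t634_637 i) (Nat.ble (nat_lit 634) i)) (Nat.ble (nat_lit 632) i)) (Nat.ble (nat_lit 627) i))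
noncomputable def t637_639 (i : ℕ) : ℕ := (@Bool.rec (fun _ => ℕ) l637 l638 (Nat.ble (nat_lit 638) i))
noncomputable def t639_641 (i : ℕ) : ℕ := (@Bool.rec (fun _ => ℕ) l639 l640 (Nat.ble (nat_lit 640) i))
noncomputable def t641_643 (i : ℕ) : ℕ := (@Bool.rec (fun _ => ℕ) l641 l642 (Nat.ble (nat_lit 642) i))
noncomputable def t643_646 (i : ℕ) : ℕ := (@Bool.rec (fun _ => ℕ) l643 (@Bool.rec (fun _ => ℕ) l644 l645 (Nat.ble (nat_lit 645) i)) (Nat.ble (nat_lit 644) i))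
noncomputable def t646_648 (i : ℕ) : ℕ := (@Bool.rec (fun _ => ℕ) l646 l647 (Nat.ble (nat_lit 647) i))
noncomputable def t648_651 (i : ℕ) : ℕ := (@Bool.rec (fun _ => ℕ) l648 (@Bool.rec (fun _ => ℕ) l649 l650 (Nat.ble (nat_lit 650) i)) (Nat.ble (nat_lit 649) i))
noncomputable def t651_653 (i : ℕ) : ℕ := (@Bool.rec (fun _ => ℕ) l651 l652 (Nat.ble (nat_lit 652) i))
noncomputable def t653_656 (i : ℕ) : ℕ := (@Bool.rec (fun _ => ℕ) l653 (@Bool.rec (fun _ => ℕ) l654 l655 (Nat.ble (nat_lit 655) i)) (Nat.ble (nat_lit 654) i))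
noncomputable def t637_656 (i : ℕ) : ℕ := (@Bool.rec (fun _ => ℕ) (@Bool.rec (fun _ => ℕ) (@Bool.rec (fun _ => ℕ) (t637_639 i) (t639_641 i) (Nat.ble (nat_lit 639) i)) (@Bool.rec (fun _ => ℕ) (t641_643 i) (t643_646 i) (Nat.ble (nat_lit 643) i)) (Nat.ble (nat_lit 641) i)) (@Bool.rec (fun _ => ℕ) (@Bool.rec (fun _ => ℕ) (t646_648 i) (t648_651 i) (Nat.ble (nat_lit 648) i)) (@Bool.rec (fun _ => ℕ) (t651_653 i) (t653_656 i) (Nat.ble (nat_lit 653) i)) (Nat.ble (nat_lit 651) i)) (Nat.ble (nat_lit 646) i))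
noncomputable def t656_658 (i : ℕ) : ℕ := (@Bool.rec (fun _ => ℕ) l656 l657 (Nat.ble (nat_lit 657) i))
noncomputable def t658_660 (i : ℕ) : ℕ := (@Bool.rec (fun _ => ℕ) l658 l659 (Nat.ble (nat_lit 659) i))
noncomputable def t660_662 (i : ℕ) : ℕ := (@Bool.rec (fun _ => ℕ) l660 l661 (Nat.ble (nat_lit 661) i))
noncomputable def t662_665 (i : ℕ) : ℕ := (@Bool.rec (fun _ => ℕ) l662 (@Bool.rec (fun _ => ℕ) l663 l664 (Nat.ble (nat_lit 664) i)) (Nat.ble (nat_lit 663) i))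
noncomputable def t665_667 (i : ℕ) : ℕ := (@Bool.rec (fun _ => ℕ) l665 l666 (Nat.ble (nat_lit 666) i))
noncomputable def t667_670 (i : ℕ) : ℕ := (@Bool.rec (fun _ => ℕ) l667 (@Bool.rec (fun _ => ℕ) l668 l669 (Nat.ble (nat_lit 669) i)) (Nat.ble (nat_lit 668) i))
noncomputable def t670_672 (i : ℕ) : ℕ := (@Bool.rec (fun _ => ℕ) l670 l671 (Nat.ble (nat_lit 671) i))
noncomputable def t672_675 (i : ℕ) : ℕ := (@Bool.rec (fun _ => ℕ) l672 (@Bool.rec (fun _ => ℕ) l673 l674 (Nat.ble (nat_lit 674) i)) (Nat.ble (nat_lit 673) i))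
noncomputable def t656_675 (i : ℕ) : ℕ := (@Bool.rec (fun _ => ℕ) (@Bool.rec (fun _ => ℕ) (@Bool.rec (fun _ => ℕ) (t656_658 i) (t658_660 i) (Nat.ble (nat_lit 658) i)) (@Bool.rec (fun _ => ℕ) (t660_662 i) (t662_665 i) (Nat.ble (nat_lit 662) i)) (Nat.ble (nat_lit 660) i)) (@Bool.rec (fun _ => ℕ) (@Bool.rec (fun _ => ℕ) (t665_667 i) (t667_670 i) (Nat.ble (nat_lit 667) i)) (@Bool.rec (fun _ => ℕ) (t670_672 i) (t672_675 i) (Nat.ble (nat_lit 672) i)) (Nat.ble (nat_lit 670) i)) (Nat.ble (nat_lit 665) i))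
noncomputable def t675_677 (i : ℕ) : ℕ := (@Bool.rec (fun _ => ℕ) l675 l676 (Nat.ble (nat_lit 676) i))
noncomputable def t677_679 (i : ℕ) : ℕ := (@Bool.rec (fun _ => ℕ) l677 l678 (Nat.ble (nat_lit 678) i))
noncomputable def t679_681 (i : ℕ) : ℕ := (@Bool.rec (fun _ => ℕ) l679 l680 (Nat.ble (nat_lit 680) i))
noncomputable def t681_684 (i : ℕ) : ℕ := (@Bool.rec (fun _ => ℕ) l681 (@Bool.rec (fun _ => ℕ) l682 l683 (Nat.ble (nat_lit 683) i)) (Nat.ble (nat_lit 682) i))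
noncomputable def t684_686 (i : ℕ) : ℕ := (@Bool.rec (fun _ => ℕ) l684 l685 (Nat.ble (nat_lit 685) i))
noncomputable def t686_688 (i : ℕ) : ℕ := (@Bool.rec (fun _ => ℕ) l686 l687 (Nat.ble (nat_lit 687) i))
noncomputable def t688_690 (i : ℕ) : ℕ := (@Bool.rec (fun _ => ℕ) l688 l689 (Nat.ble (nat_lit 689) i))
noncomputable def t690_693 (i : ℕ) : ℕ := (@Bool.rec (fun _ => ℕ) l690 (@Bool.rec (fun _ => ℕ) l691 l692 (Nat.ble (nat_lit 692) i)) (Nat.ble (nat_lit 691) i))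
noncomputable def t675_693 (i : ℕ) : ℕ := (@Bool.rec (fun _ => ℕ) (@Bool.rec (fun _ => ℕ) (@Bool.rec (fun _ => ℕ) (t675_677 i) (t677_679 i) (Nat.ble (nat_lit 677) i)) (@Bool.rec (fun _ => ℕ) (t679_681 i) (t681_684 i) (Nat.ble (nat_lit 681) i)) (Nat.ble (nat_lit 679) i)) (@Bool.rec (fun _ => ℕ) (@Bool.rec (fun _ => ℕ) (t684_686 i) (t686_688 i) (Nat.ble (nat_lit 686) i)) (@Bool.rec (fun _ => ℕ) (t688_690 i) (t690_693 i) (Nat.ble (nat_lit 690) i)) (Nat.ble (nat_lit 688) i)) (Nat.ble (nat_lit 684) i))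
noncomputable def t693_695 (i : ℕ) : ℕ := (@Bool.rec (fun _ => ℕ) l693 l694 (Nat.ble (nat_lit 694) i))
noncomputable def t695_697 (i : ℕ) : ℕ := (@Bool.rec (fun _ => ℕ) l695 l696 (Nat.ble (nat_lit 696) i))
noncomputable def t697_699 (i : ℕ) : ℕ := (@Bool.rec (fun _ => ℕ) l697 l698 (Nat.ble (nat_lit 698) i))
noncomputable def t699_702 (i : ℕ) : ℕ := (@Bool.rec (fun _ => ℕ) l699 (@Bool.rec (fun _ => ℕ) l700 l701 (Nat.ble (nat_lit 701) i)) (Nat.ble (nat_lit 700) i))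
noncomputable def t702_704 (i : ℕ) : ℕ := (@Bool.rec (fun _ => ℕ) l702 l703 (Nat.ble (nat_lit 703) i))
noncomputable def t704_707 (i : ℕ) : ℕ := (@Bool.rec (fun _ => ℕ) l704 (@Bool.rec (fun _ => ℕ) l705 l706 (Nat.ble (nat_lit 706) i)) (Nat.ble (nat_lit 705) i))
noncomputable def t707_709 (i : ℕ) : ℕ := (@Bool.rec (fun _ => ℕ) l707 l708 (Nat.ble (nat_lit 708) i))
noncomputable def t709_712 (i : ℕ) : ℕ := (@Bool.rec (fun _ => ℕ) l709 (@Bool.rec (fun _ => ℕ) l710 l711 (Nat.ble (nat_lit 711) i)) (Nat.ble (nat_lit 710) i))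
noncomputable def t693_712 (i : ℕ) : ℕ := (@Bool.rec (fun _ => ℕ) (@Bool.rec (fun _ => ℕ) (@Bool.rec (fun _ => ℕ) (t693_695 i) (t695_697 i) (Nat.ble (nat_lit 695) i)) (@Bool.rec (fun _ => ℕ) (t697_699 i) (t699_702 i) (Nat.ble (nat_lit 699) i)) (Nat.ble (nat_lit 697) i)) (@Bool.rec (fun _ => ℕ) (@Bool.rec (fun _ => ℕ) (t702_704 i) (t704_707 i) (Nat.ble (nat_lit 704) i)) (@Bool.rec (fun _ => ℕ) (t707_709 i) (t709_712 i) (Nat.ble (nat_lit 709) i)) (Nat.ble (nat_lit 707) i)) (Nat.ble (nat_lit 702) i))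
noncomputable def t712_714 (i : ℕ) : ℕ := (@Bool.rec (fun _ => ℕ) l712 l713 (Nat.ble (nat_lit 713) i))
noncomputable def t714_716 (i : ℕ) : ℕ := (@Bool.rec (fun _ => ℕ) l714 l715 (Nat.ble (nat_lit 715) i))
noncomputable def t716_718 (i : ℕ) : ℕ := (@Bool.rec (fun _ => ℕ) l716 l717 (Nat.ble (nat_lit 717) i))
noncomputable def t718_721 (i : ℕ) : ℕ := (@Bool.rec (fun _ => ℕ) l718 (@Bool.rec (fun _ => ℕ) l719 l720 (Nat.ble (nat_lit 720) i)) (Nat.ble (nat_lit 719) i))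
noncomputable def t721_723 (i : ℕ) : ℕ := (@Bool.rec (fun _ => ℕ) l721 l722 (Nat.ble (nat_lit 722) i))
noncomputable def t723_726 (i : ℕ) : ℕ := (@Bool.rec (fun _ => ℕ) l723 (@Bool.rec (fun _ => ℕ) l724 l725 (Nat.ble (nat_lit 725) i)) (Nat.ble (nat_lit 724) i))
noncomputable def t726_728 (i : ℕ) : ℕ := (@Bool.rec (fun _ => ℕ) l726 l727 (Nat.ble (nat_lit 727) i))
noncomputable def t728_731 (i : ℕ) : ℕ := (@Bool.rec (fun _ => ℕ) l728 (@Bool.rec (fun _ => ℕ) l729 l730 (Nat.ble (nat_lit 730) i)) (Nat.ble (nat_lit 729) i))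
noncomputable def t712_731 (i : ℕ) : ℕ := (@Bool.rec (fun _ => ℕ) (@Bool.rec (fun _ => ℕ) (@Bool.rec (fun _ => ℕ) (t712_714 i) (t714_716 i) (Nat.ble (nat_lit 714) i)) (@Bool.rec (fun _ => ℕ) (t716_718 i) (t718_721 i) (Nat.ble (nat_lit 718) i)) (Nat.ble (nat_lit 716) i)) (@Bool.rec (fun _ => ℕ) (@Bool.rec (fun _ => ℕ) (t721_723 i) (t723_726 i) (Nat.ble (nat_lit 723) i)) (@Bool.rec (fun _ => ℕ) (t726_728 i) (t728_731 i) (Nat.ble (nat_lit 728) i)) (Nat.ble (nat_lit 726) i)) (Nat.ble (nat_lit 721) i))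
noncomputable def t731_733 (i : ℕ) : ℕ := (@Bool.rec (fun _ => ℕ) l731 l732 (Nat.ble (nat_lit 732) i))
noncomputable def t733_735 (i : ℕ) : ℕ := (@Bool.rec (fun _ => ℕ) l733 l734 (Nat.ble (nat_lit 734) i))
noncomputable def t735_737 (i : ℕ) : ℕ := (@Bool.rec (fun _ => ℕ) l735 l736 (Nat.ble (nat_lit 736) i))
noncomputable def t737_740 (i : ℕ) : ℕ := (@Bool.rec (fun _ => ℕ) l737 (@Bool.rec (fun _ => ℕ) l738 l739 (Nat.ble (nat_lit 739) i)) (Nat.ble (nat_lit 738) i))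
noncomputable def t740_742 (i : ℕ) : ℕ := (@Bool.rec (fun _ => ℕ) l740 l741 (Nat.ble (nat_lit 741) i))
noncomputable def t742_745 (i : ℕ) : ℕ := (@Bool.rec (fun _ => ℕ) l742 (@Bool.rec (fun _ => ℕ) l743 l744 (Nat.ble (nat_lit 744) i)) (Nat.ble (nat_lit 743) i))
noncomputable def t745_747 (i : ℕ) : ℕ := (@Bool.rec (fun _ => ℕ) l745 l746 (Nat.ble (nat_lit 746) i))
noncomputable def t747_750 (i : ℕ) : ℕ := (@Bool.rec (fun _ => ℕ) l747 (@Bool.rec (fun _ => ℕ) l748 l749 (Nat.ble (nat_lit 749) i)) (Nat.ble (nat_lit 748) i))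
noncomputable def t731_750 (i : ℕ) : ℕ := (@Bool.rec (fun _ => ℕ) (@Bool.rec (fun _ => ℕ) (@Bool.rec (fun _ => ℕ) (t731_733 i) (t733_735 i) (Nat.ble (nat_lit 733) i)) (@Bool.rec (fun _ => ℕ) (t735_737 i) (t737_740 i) (Nat.ble (nat_lit 737) i)) (Nat.ble (nat_lit 735) i)) (@Bool.rec (fun _ => ℕ) (@Bool.rec (fun _ => ℕ) (t740_742 i) (t742_745 i) (Nat.ble (nat_lit 742) i)) (@Bool.rec (fun _ => ℕ) (t745_747 i) (t747_750 i) (Nat.ble (nat_lit 747) i)) (Nat.ble (nat_lit 745) i)) (Nat.ble (nat_lit 740) i))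
noncomputable def t600_750 (i : ℕ) : ℕ := (@Bool.rec (fun _ => ℕ) (@Bool.rec (fun _ => ℕ) (@Bool.rec (fun _ => ℕ) (t600_618 i) (t618_637 i) (Nat.ble (nat_lit 618) i)) (@Bool.rec (fun _ => ℕ) (t637_656 i) (t656_675 i) (Nat.ble (nat_lit 656) i)) (Nat.ble (nat_lit 637) i)) (@Bool.rec (fun _ => ℕ) (@Bool.rec (fun _ => ℕ) (t675_693 i) (t693_712 i) (Nat.ble (nat_lit 693) i)) (@Bool.rec (fun _ => ℕ) (t712_731 i) (t731_750 i) (Nat.ble (nat_lit 731) i)) (Nat.ble (nat_lit 712) i)) (Nat.ble (nat_lit 675) i))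
noncomputable def t750_752 (i : ℕ) : ℕ := (@Bool.rec (fun _ => ℕ) l750 l751 (Nat.ble (nat_lit 751) i))
noncomputable def t752_754 (i : ℕ) : ℕ := (@Bool.rec (fun _ => ℕ) l752 l753 (Nat.ble (nat_lit 753) i))
noncomputable def t754_756 (i : ℕ) : ℕ := (@Bool.rec (fun _ => ℕ) l754 l755 (Nat.ble (nat_lit 755) i))
noncomputable def t756_759 (i : ℕ) : ℕ := (@Bool.rec (fun _ => ℕ) l756 (@Bool.rec (fun _ => ℕ) l757 l758 (Nat.ble (nat_lit 758) i)) (Nat.ble (nat_lit 757) i))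
noncomputable def t759_761 (i : ℕ) : ℕ := (@Bool.rec (fun _ => ℕ) l759 l760 (Nat.ble (nat_lit 760) i))
noncomputable def t761_763 (i : ℕ) : ℕ := (@Bool.rec (fun _ => ℕ) l761 l762 (Nat.ble (nat_lit 762) i))
noncomputable def t763_765 (i : ℕ) : ℕ := (@Bool.rec (fun _ => ℕ) l763 l764 (Nat.ble (nat_lit 764) i))
noncomputable def t765_768 (i : ℕ) : ℕ := (@Bool.rec (fun _ => ℕ) l765 (@Bool.rec (fun _ => ℕ) l766 l767 (Nat.ble (nat_lit 767) i)) (Nat.ble (nat_lit 766) i))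
noncomputable def t750_768 (i : ℕ) : ℕ := (@Bool.rec (fun _ => ℕ) (@Bool.rec (fun _ => ℕ) (@Bool.rec (fun _ => ℕ) (t750_752 i) (t752_754 i) (Nat.ble (nat_lit 752) i)) (@Bool.rec (fun _ => ℕ) (t754_756 i) (t756_759 i) (Nat.ble (nat_lit 756) i)) (Nat.ble (nat_lit 754) i)) (@Bool.rec (fun _ => ℕ) (@Bool.rec (fun _ => ℕ) (t759_761 i) (t761_763 i) (Nat.ble (nat_lit 761) i)) (@Bool.rec (fun _ => ℕ) (t763_765 i) (t765_768 i) (Nat.ble (nat_lit 765) i)) (Nat.ble (nat_lit 763) i)) (Nat.ble (nat_lit 759) i))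
noncomputable def t768_770 (i : ℕ) : ℕ := (@Bool.rec (fun _ => ℕ) l768 l769 (Nat.ble (nat_lit 769) i))
noncomputable def t770_772 (i : ℕ) : ℕ := (@Bool.rec (fun _ => ℕ) l770 l771 (Nat.ble (nat_lit 771) i))
noncomputable def t772_774 (i : ℕ) : ℕ := (@Bool.rec (fun _ => ℕ) l772 l773 (Nat.ble (nat_lit 773) i))
noncomputable def t774_777 (i : ℕ) : ℕ := (@Bool.rec (fun _ => ℕ) l774 (@Bool.rec (fun _ => ℕ) l775 l776 (Nat.ble (nat_lit 776) i)) (Nat.ble (nat_lit 775) i))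
noncomputable def t777_779 (i : ℕ) : ℕ := (@Bool.rec (fun _ => ℕ) l777 l778 (Nat.ble (nat_lit 778) i))
noncomputable def t779_782 (i : ℕ) : ℕ := (@Bool.rec (fun _ => ℕ) l779 (@Bool.rec (fun _ => ℕ) l780 l781 (Nat.ble (nat_lit 781) i)) (Nat.ble (nat_lit 780) i))
noncomputable def t782_784 (i : ℕ) : ℕ := (@Bool.rec (fun _ => ℕ) l782 l783 (Nat.ble (nat_lit 783) i))
noncomputable def t784_787 (i : ℕ) : ℕ := (@Bool.rec (fun _ => ℕ) l784 (@Bool.rec (fun _ => ℕ) l785 l786 (Nat.ble (nat_lit 786) i)) (Nat.ble (nat_lit 785) i))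
noncomputable def t768_787 (i : ℕ) : ℕ := (@Bool.rec (fun _ => ℕ) (@Bool.rec (fun _ => ℕ) (@Bool.rec (fun _ => ℕ) (t768_770 i) (t770_772 i) (Nat.ble (nat_lit 770) i)) (@Bool.rec (fun _ => ℕ) (t772_774 i) (t774_777 i) (Nat.ble (nat_lit 774) i)) (Nat.ble (nat_lit 772) i)) (@Bool.rec (fun _ => ℕ) (@Bool.rec (fun _ => ℕ) (t777_779 i) (t779_782 i) (Nat.ble (nat_lit 779) i)) (@Bool.rec (fun _ => ℕ) (t782_784 i) (t784_787 i) (Nat.ble (nat_lit 784) i)) (Nat.ble (nat_lit 782) i)) (Nat.ble (nat_lit 777) i))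
noncomputable def t787_789 (i : ℕ) : ℕ := (@Bool.rec (fun _ => ℕ) l787 l788 (Nat.ble (nat_lit 788) i))
noncomputable def t789_791 (i : ℕ) : ℕ := (@Bool.rec (fun _ => ℕ) l789 l790 (Nat.ble (nat_lit 790) i))
noncomputable def t791_793 (i : ℕ) : ℕ := (@Bool.rec (fun _ => ℕ) l791 l792 (Nat.ble (nat_lit 792) i))
noncomputable def t793_796 (i : ℕ) : ℕ := (@Bool.rec (fun _ => ℕ) l793 (@Bool.rec (fun _ => ℕ) l794 l795 (Nat.ble (nat_lit 795) i)) (Nat.ble (nat_lit 794) i))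
noncomputable def t796_798 (i : ℕ) : ℕ := (@Bool.rec (fun _ => ℕ) l796 l797 (Nat.ble (nat_lit 797) i))
noncomputable def t798_801 (i : ℕ) : ℕ := (@Bool.rec (fun _ => ℕ) l798 (@Bool.rec (fun _ => ℕ) l799 l800 (Nat.ble (nat_lit 800) i)) (Nat.ble (nat_lit 799) i))
noncomputable def t801_803 (i : ℕ) : ℕ := (@Bool.rec (fun _ => ℕ) l801 l802 (Nat.ble (nat_lit 802) i))
noncomputable def t803_806 (i : ℕ) : ℕ := (@Bool.rec (fun _ => ℕ) l803 (@Bool.rec (fun _ => ℕ) l804 l805 (Nat.ble (nat_lit 805) i)) (Nat.ble (nat_lit 804) i))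
noncomputable def t787_806 (i : ℕ) : ℕ := (@Bool.rec (fun _ => ℕ) (@Bool.rec (fun _ => ℕ) (@Bool.rec (fun _ => ℕ) (t787_789 i) (t789_791 i) (Nat.ble (nat_lit 789) i)) (@Bool.rec (fun _ => ℕ) (t791_793 i) (t793_796 i) (Nat.ble (nat_lit 793) i)) (Nat.ble (nat_lit 791) i)) (@Bool.rec (fun _ => ℕ) (@Bool.rec (fun _ => ℕ) (t796_798 i) (t798_801 i) (Nat.ble (nat_lit 798) i)) (@Bool.rec (fun _ => ℕ) (t801_803 i) (t803_806 i) (Nat.ble (nat_lit 803) i)) (Nat.ble (nat_lit 801) i)) (Nat.ble (nat_lit 796) i))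
noncomputable def t806_808 (i : ℕ) : ℕ := (@Bool.rec (fun _ => ℕ) l806 l807 (Nat.ble (nat_lit 807) i))
noncomputable def t808_810 (i : ℕ) : ℕ := (@Bool.rec (fun _ => ℕ) l808 l809 (Nat.ble (nat_lit 809) i))
noncomputable def t810_812 (i : ℕ) : ℕ := (@Bool.rec (fun _ => ℕ) l810 l811 (Nat.ble (nat_lit 811) i))
noncomputable def t812_815 (i : ℕ) : ℕ := (@Bool.rec (fun _ => ℕ) l812 (@Bool.rec (fun _ => ℕ) l813 l814 (Nat.ble (nat_lit 814) i)) (Nat.ble (nat_lit 813) i))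
noncomputable def t815_817 (i : ℕ) : ℕ := (@Bool.rec (fun _ => ℕ) l815 l816 (Nat.ble (nat_lit 816) i))
noncomputable def t817_820 (i : ℕ) : ℕ := (@Bool.rec (fun _ => ℕ) l817 (@Bool.rec (fun _ => ℕ) l818 l819 (Nat.ble (nat_lit 819) i)) (Nat.ble (nat_lit 818) i))
noncomputable def t820_822 (i : ℕ) : ℕ := (@Bool.rec (fun _ => ℕ) l820 l821 (Nat.ble (nat_lit 821) i))
noncomputable def t822_825 (i : ℕ) : ℕ := (@Bool.rec (fun _ => ℕ) l822 (@Bool.rec (fun _ => ℕ) l823 l824 (Nat.ble (nat_lit 824) i)) (Nat.ble (nat_lit 823) i))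
noncomputable def t806_825 (i : ℕ) : ℕ := (@Bool.rec (fun _ => ℕ) (@Bool.rec (fun _ => ℕ) (@Bool.rec (fun _ => ℕ) (t806_808 i) (t808_810 i) (Nat.ble (nat_lit 808) i)) (@Bool.rec (fun _ => ℕ) (t810_812 i) (t812_815 i) (Nat.ble (nat_lit 812) i)) (Nat.ble (nat_lit 810) i)) (@Bool.rec (fun _ => ℕ) (@Bool.rec (fun _ => ℕ) (t815_817 i) (t817_820 i) (Nat.ble (nat_lit 817) i)) (@Bool.rec (fun _ => ℕ) (t820_822 i) (t822_825 i) (Nat.ble (nat_lit 822) i)) (Nat.ble (nat_lit 820) i)) (Nat.ble (nat_lit 815) i))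
noncomputable def t825_827 (i : ℕ) : ℕ := (@Bool.rec (fun _ => ℕ) l825 l826 (Nat.ble (nat_lit 826) i))
noncomputable def t827_829 (i : ℕ) : ℕ := (@Bool.rec (fun _ => ℕ) l827 l828 (Nat.ble (nat_lit 828) i))
noncomputable def t829_831 (i : ℕ) : ℕ := (@Bool.rec (fun _ => ℕ) l829 l830 (Nat.ble (nat_lit 830) i))
noncomputable def t831_834 (i : ℕ) : ℕ := (@Bool.rec (fun _ => ℕ) l831 (@Bool.rec (fun _ => ℕ) l832 l833 (Nat.ble (nat_lit 833) i)) (Nat.ble (nat_lit 832) i))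
noncomputable def t834_836 (i : ℕ) : ℕ := (@Bool.rec (fun _ => ℕ) l834 l835 (Nat.ble (nat_lit 835) i))
noncomputable def t836_838 (i : ℕ) : ℕ := (@Bool.rec (fun _ => ℕ) l836 l837 (Nat.ble (nat_lit 837) i))
noncomputable def t838_840 (i : ℕ) : ℕ := (@Bool.rec (fun _ => ℕ) l838 l839 (Nat.ble (nat_lit 839) i))
noncomputable def t840_843 (i : ℕ) : ℕ := (@Bool.rec (fun _ => ℕ) l840 (@Bool.rec (fun _ => ℕ) l841 l842 (Nat.ble (nat_lit 842) i)) (Nat.ble (nat_lit 841) i))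
noncomputable def t825_843 (i : ℕ) : ℕ := (@Bool.rec (fun _ => ℕ) (@Bool.rec (fun _ => ℕ) (@Bool.rec (fun _ => ℕ) (t825_827 i) (t827_829 i) (Nat.ble (nat_lit 827) i)) (@Bool.rec (fun _ => ℕ) (t829_831 i) (t831_834 i) (Nat.ble (nat_lit 831) i)) (Nat.ble (nat_lit 829) i)) (@Bool.rec (fun _ => ℕ) (@Bool.rec (fun _ => ℕ) (t834_836 i) (t836_838 i) (Nat.ble (nat_lit 836) i)) (@Bool.rec (fun _ => ℕ) (t838_840 i) (t840_843 i) (Nat.ble (nat_lit 840) i)) (Nat.ble (nat_lit 838) i)) (Nat.ble (nat_lit 834) i))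
noncomputable def t843_845 (i : ℕ) : ℕ := (@Bool.rec (fun _ => ℕ) l843 l844 (Nat.ble (nat_lit 844) i))
noncomputable def t845_847 (i : ℕ) : ℕ := (@Bool.rec (fun _ => ℕ) l845 l846 (Nat.ble (nat_lit 846) i))
noncomputable def t847_849 (i : ℕ) : ℕ := (@Bool.rec (fun _ => ℕ) l847 l848 (Nat.ble (nat_lit 848) i))
noncomputable def t849_852 (i : ℕ) : ℕ := (@Bool.rec (fun _ => ℕ) l849 (@Bool.rec (fun _ => ℕ) l850 l851 (Nat.ble (nat_lit 851) i)) (Nat.ble (nat_lit 850) i))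
noncomputable def t852_854 (i : ℕ) : ℕ := (@Bool.rec (fun _ => ℕ) l852 l853 (Nat.ble (nat_lit 853) i))
noncomputable def t854_857 (i : ℕ) : ℕ := (@Bool.rec (fun _ => ℕ) l854 (@Bool.rec (fun _ => ℕ) l855 l856 (Nat.ble (nat_lit 856) i)) (Nat.ble (nat_lit 855) i))
noncomputable def t857_859 (i : ℕ) : ℕ := (@Bool.rec (fun _ => ℕ) l857 l858 (Nat.ble (nat_lit 858) i))
noncomputable def t859_862 (i : ℕ) : ℕ := (@Bool.rec (fun _ => ℕ) l859 (@Bool.rec (fun _ => ℕ) l860 l861 (Nat.ble (nat_lit 861) i)) (Nat.ble (nat_lit 860) i))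
noncomputable def t843_862 (i : ℕ) : ℕ := (@Bool.rec (fun _ => ℕ) (@Bool.rec (fun _ => ℕ) (@Bool.rec (fun _ => ℕ) (t843_845 i) (t845_847 i) (Nat.ble (nat_lit 845) i)) (@Bool.rec (fun _ => ℕ) (t847_849 i) (t849_852 i) (Nat.ble (nat_lit 849) i)) (Nat.ble (nat_lit 847) i)) (@Bool.rec (fun _ => ℕ) (@Bool.rec (fun _ => ℕ) (t852_854 i) (t854_857 i) (Nat.ble (nat_lit 854) i)) (@Bool.rec (fun _ => ℕ) (t857_859 i) (t859_862 i) (Nat.ble (nat_lit 859) i)) (Nat.ble (nat_lit 857) i)) (Nat.ble (nat_lit 852) i))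
noncomputable def t862_864 (i : ℕ) : ℕ := (@Bool.rec (fun _ => ℕ) l862 l863 (Nat.ble (nat_lit 863) i))
noncomputable def t864_866 (i : ℕ) : ℕ := (@Bool.rec (fun _ => ℕ) l864 l865 (Nat.ble (nat_lit 865) i))
noncomputable def t866_868 (i : ℕ) : ℕ := (@Bool.rec (fun _ => ℕ) l866 l867 (Nat.ble (nat_lit 867) i))
noncomputable def t868_871 (i : ℕ) : ℕ := (@Bool.rec (fun _ => ℕ) l868 (@Bool.rec (fun _ => ℕ) l869 l870 (Nat.ble (nat_lit 870) i)) (Nat.ble (nat_lit 869) i))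
noncomputable def t871_873 (i : ℕ) : ℕ := (@Bool.rec (fun _ => ℕ) l871 l872 (Nat.ble (nat_lit 872) i))
noncomputable def t873_876 (i : ℕ) : ℕ := (@Bool.rec (fun _ => ℕ) l873 (@Bool.rec (fun _ => ℕ) l874 l875 (Nat.ble (nat_lit 875) i)) (Nat.ble (nat_lit 874) i))
noncomputable def t876_878 (i : ℕ) : ℕ := (@Bool.rec (fun _ => ℕ) l876 l877 (Nat.ble (nat_lit 877) i))
noncomputable def t878_881 (i : ℕ) : ℕ := (@Bool.rec (fun _ => ℕ) l878 (@Bool.rec (fun _ => ℕ) l879 l880 (Nat.ble (nat_lit 880) i)) (Nat.ble (nat_lit 879) i))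
noncomputable def t862_881 (i : ℕ) : ℕ := (@Bool.rec (fun _ => ℕ) (@Bool.rec (fun _ => ℕ) (@Bool.rec (fun _ => ℕ) (t862_864 i) (t864_866 i) (Nat.ble (nat_lit 864) i)) (@Bool.rec (fun _ => ℕ) (t866_868 i) (t868_871 i) (Nat.ble (nat_lit 868) i)) (Nat.ble (nat_lit 866) i)) (@Bool.rec (fun _ => ℕ) (@Bool.rec (fun _ => ℕ) (t871_873 i) (t873_876 i) (Nat.ble (nat_lit 873) i)) (@Bool.rec (fun _ => ℕ) (t876_878 i) (t878_881 i) (Nat.ble (nat_lit 878) i)) (Nat.ble (nat_lit 876) i)) (Nat.ble (nat_lit 871) i))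
noncomputable def t881_883 (i : ℕ) : ℕ := (@Bool.rec (fun _ => ℕ) l881 l882 (Nat.ble (nat_lit 882) i))
noncomputable def t883_885 (i : ℕ) : ℕ := (@Bool.rec (fun _ => ℕ) l883 l884 (Nat.ble (nat_lit 884) i))
noncomputable def t885_887 (i : ℕ) : ℕ := (@Bool.rec (fun _ => ℕ) l885 l886 (Nat.ble (nat_lit 886) i))
noncomputable def t887_890 (i : ℕ) : ℕ := (@Bool.rec (fun _ => ℕ) l887 (@Bool.rec (fun _ => ℕ) l888 l889 (Nat.ble (nat_lit 889) i)) (Nat.ble (nat_lit 888) i))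
noncomputable def t890_892 (i : ℕ) : ℕ := (@Bool.rec (fun _ => ℕ) l890 l891 (Nat.ble (nat_lit 891) i))
noncomputable def t892_895 (i : ℕ) : ℕ := (@Bool.rec (fun _ => ℕ) l892 (@Bool.rec (fun _ => ℕ) l893 l894 (Nat.ble (nat_lit 894) i)) (Nat.ble (nat_lit 893) i))
noncomputable def t895_897 (i : ℕ) : ℕ := (@Bool.rec (fun _ => ℕ) l895 l896 (Nat.ble (nat_lit 896) i))
noncomputable def t897_900 (i : ℕ) : ℕ := (@Bool.rec (fun _ => ℕ) l897 (@Bool.rec (fun _ => ℕ) l898 l899 (Nat.ble (nat_lit 899) i)) (Nat.ble (nat_lit 898) i))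
noncomputable def t881_900 (i : ℕ) : ℕ := (@Bool.rec (fun _ => ℕ) (@Bool.rec (fun _ => ℕ) (@Bool.rec (fun _ => ℕ) (t881_883 i) (t883_885 i) (Nat.ble (nat_lit 883) i)) (@Bool.rec (fun _ => ℕ) (t885_887 i) (t887_890 i) (Nat.ble (nat_lit 887) i)) (Nat.ble (nat_lit 885) i)) (@Bool.rec (fun _ => ℕ) (@Bool.rec (fun _ => ℕ) (t890_892 i) (t892_895 i) (Nat.ble (nat_lit 892) i)) (@Bool.rec (fun _ => ℕ) (t895_897 i) (t897_900 i) (Nat.ble (nat_lit 897) i)) (Nat.ble (nat_lit 895) i)) (Nat.ble (nat_lit 890) i))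
noncomputable def t750_900 (i : ℕ) : ℕ := (@Bool.rec (fun _ => ℕ) (@Bool.rec (fun _ => ℕ) (@Bool.rec (fun _ => ℕ) (t750_768 i) (t768_787 i) (Nat.ble (nat_lit 768) i)) (@Bool.rec (fun _ => ℕ) (t787_806 i) (t806_825 i) (Nat.ble (nat_lit 806) i)) (Nat.ble (nat_lit 787) i)) (@Bool.rec (fun _ => ℕ) (@Bool.rec (fun _ => ℕ) (t825_843 i) (t843_862 i) (Nat.ble (nat_lit 843) i)) (@Bool.rec (fun _ => ℕ) (t862_881 i) (t881_900 i) (Nat.ble (nat_lit 881) i)) (Nat.ble (nat_lit 862) i)) (Nat.ble (nat_lit 825) i))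
noncomputable def t900_902 (i : ℕ) : ℕ := (@Bool.rec (fun _ => ℕ) l900 l901 (Nat.ble (nat_lit 901) i))
noncomputable def t902_904 (i : ℕ) : ℕ := (@Bool.rec (fun _ => ℕ) l902 l903 (Nat.ble (nat_lit 903) i))
noncomputable def t904_906 (i : ℕ) : ℕ := (@Bool.rec (fun _ => ℕ) l904 l905 (Nat.ble (nat_lit 905) i))
noncomputable def t906_909 (i : ℕ) : ℕ := (@Bool.rec (fun _ => ℕ) l906 (@Bool.rec (fun _ => ℕ) l907 l908 (Nat.ble (nat_lit 908) i)) (Nat.ble (nat_lit 907) i))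
noncomputable def t909_911 (i : ℕ) : ℕ := (@Bool.rec (fun _ => ℕ) l909 l910 (Nat.ble (nat_lit 910) i))
noncomputable def t911_913 (i : ℕ) : ℕ := (@Bool.rec (fun _ => ℕ) l911 l912 (Nat.ble (nat_lit 912) i))
noncomputable def t913_915 (i : ℕ) : ℕ := (@Bool.rec (fun _ => ℕ) l913 l914 (Nat.ble (nat_lit 914) i))
noncomputable def t915_918 (i : ℕ) : ℕ := (@Bool.rec (fun _ => ℕ) l915 (@Bool.rec (fun _ => ℕ) l916 l917 (Nat.ble (nat_lit 917) i)) (Nat.ble (nat_lit 916) i))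
noncomputable def t900_918 (i : ℕ) : ℕ := (@Bool.rec (fun _ => ℕ) (@Bool.rec (fun _ => ℕ) (@Bool.rec (fun _ => ℕ) (t900_902 i) (t902_904 i) (Nat.ble (nat_lit 902) i)) (@Bool.rec (fun _ => ℕ) (t904_906 i) (t906_909 i) (Nat.ble (nat_lit 906) i)) (Nat.ble (nat_lit 904) i)) (@Bool.rec (fun _ => ℕ) (@Bool.rec (fun _ => ℕ) (t909_911 i) (t911_913 i) (Nat.ble (nat_lit 911) i)) (@Bool.rec (fun _ => ℕ) (t913_915 i) (t915_918 i) (Nat.ble (nat_lit 915) i)) (Nat.ble (nat_lit 913) i)) (Nat.ble (nat_lit 909) i))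
noncomputable def t918_920 (i : ℕ) : ℕ := (@Bool.rec (fun _ => ℕ) l918 l919 (Nat.ble (nat_lit 919) i))
noncomputable def t920_922 (i : ℕ) : ℕ := (@Bool.rec (fun _ => ℕ) l920 l921 (Nat.ble (nat_lit 921) i))
noncomputable def t922_924 (i : ℕ) : ℕ := (@Bool.rec (fun _ => ℕ) l922 l923 (Nat.ble (nat_lit 923) i))
noncomputable def t924_927 (i : ℕ) : ℕ := (@Bool.rec (fun _ => ℕ) l924 (@Bool.rec (fun _ => ℕ) l925 l926 (Nat.ble (nat_lit 926) i)) (Nat.ble (nat_lit 925) i))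
noncomputable def t927_929 (i : ℕ) : ℕ := (@Bool.rec (fun _ => ℕ) l927 l928 (Nat.ble (nat_lit 928) i))
noncomputable def t929_932 (i : ℕ) : ℕ := (@Bool.rec (fun _ => ℕ) l929 (@Bool.rec (fun _ => ℕ) l930 l931 (Nat.ble (nat_lit 931) i)) (Nat.ble (nat_lit 930) i))
noncomputable def t932_934 (i : ℕ) : ℕ := (@Bool.rec (fun _ => ℕ) l932 l933 (Nat.ble (nat_lit 933) i))
noncomputable def t934_937 (i : ℕ) : ℕ := (@Bool.rec (fun _ => ℕ) l934 (@Bool.rec (fun _ => ℕ) l935 l936 (Nat.ble (nat_lit 936) i)) (Nat.ble (nat_lit 935) i))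
noncomputable def t918_937 (i : ℕ) : ℕ := (@Bool.rec (fun _ => ℕ) (@Bool.rec (fun _ => ℕ) (@Bool.rec (fun _ => ℕ) (t918_920 i) (t920_922 i) (Nat.ble (nat_lit 920) i)) (@Bool.rec (fun _ => ℕ) (t922_924 i) (t924_927 i) (Nat.ble (nat_lit 924) i)) (Nat.ble (nat_lit 922) i)) (@Bool.rec (fun _ => ℕ) (@Bool.rec (fun _ => ℕ) (t927_929 i) (t929_932 i) (Nat.ble (nat_lit 929) i)) (@Bool.rec (fun _ => ℕ) (t932_934 i) (t934_937 i) (Nat.ble (nat_lit 934) i)) (Nat.ble (nat_lit 932) i)) (Nat.ble (nat_lit 927) i))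
noncomputable def t937_939 (i : ℕ) : ℕ := (@Bool.rec (fun _ => ℕ) l937 l938 (Nat.ble (nat_lit 938) i))
noncomputable def t939_941 (i : ℕ) : ℕ := (@Bool.rec (fun _ => ℕ) l939 l940 (Nat.ble (nat_lit 940) i))
noncomputable def t941_943 (i : ℕ) : ℕ := (@Bool.rec (fun _ => ℕ) l941 l942 (Nat.ble (nat_lit 942) i))
noncomputable def t943_946 (i : ℕ) : ℕ := (@Bool.rec (fun _ => ℕ) l943 (@Bool.rec (fun _ => ℕ) l944 l945 (Nat.ble (nat_lit 945) i)) (Nat.ble (nat_lit 944) i))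
noncomputable def t946_948 (i : ℕ) : ℕ := (@Bool.rec (fun _ => ℕ) l946 l947 (Nat.ble (nat_lit 947) i))
noncomputable def t948_951 (i : ℕ) : ℕ := (@Bool.rec (fun _ => ℕ) l948 (@Bool.rec (fun _ => ℕ) l949 l950 (Nat.ble (nat_lit 950) i)) (Nat.ble (nat_lit 949) i))
noncomputable def t951_953 (i : ℕ) : ℕ := (@Bool.rec (fun _ => ℕ) l951 l952 (Nat.ble (nat_lit 952) i))
noncomputable def t953_956 (i : ℕ) : ℕ := (@Bool.rec (fun _ => ℕ) l953 (@Bool.rec (fun _ => ℕ) l954 l955 (Nat.ble (nat_lit 955) i)) (Nat.ble (nat_lit 954) i))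
noncomputable def t937_956 (i : ℕ) : ℕ := (@Bool.rec (fun _ => ℕ) (@Bool.rec (fun _ => ℕ) (@Bool.rec (fun _ => ℕ) (t937_939 i) (t939_941 i) (Nat.ble (nat_lit 939) i)) (@Bool.rec (fun _ => ℕ) (t941_943 i) (t943_946 i) (Nat.ble (nat_lit 943) i)) (Nat.ble (nat_lit 941) i)) (@Bool.rec (fun _ => ℕ) (@Bool.rec (fun _ => ℕ) (t946_948 i) (t948_951 i) (Nat.ble (nat_lit 948) i)) (@Bool.rec (fun _ => ℕ) (t951_953 i) (t953_956 i) (Nat.ble (nat_lit 953) i)) (Nat.ble (nat_lit 951) i)) (Nat.ble (nat_lit 946) i))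
noncomputable def t956_958 (i : ℕ) : ℕ := (@Bool.rec (fun _ => ℕ) l956 l957 (Nat.ble (nat_lit 957) i))
noncomputable def t958_960 (i : ℕ) : ℕ := (@Bool.rec (fun _ => ℕ) l958 l959 (Nat.ble (nat_lit 959) i))
noncomputable def t960_962 (i : ℕ) : ℕ := (@Bool.rec (fun _ => ℕ) l960 l961 (Nat.ble (nat_lit 961) i))
noncomputable def t962_965 (i : ℕ) : ℕ := (@Bool.rec (fun _ => ℕ) l962 (@Bool.rec (fun _ => ℕ) l963 l964 (Nat.ble (nat_lit 964) i)) (Nat.ble (nat_lit 963) i))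
noncomputable def t965_967 (i : ℕ) : ℕ := (@Bool.rec (fun _ => ℕ) l965 l966 (Nat.ble (nat_lit 966) i))
noncomputable def t967_970 (i : ℕ) : ℕ := (@Bool.rec (fun _ => ℕ) l967 (@Bool.rec (fun _ => ℕ) l968 l969 (Nat.ble (nat_lit 969) i)) (Nat.ble (nat_lit 968) i))
noncomputable def t970_972 (i : ℕ) : ℕ := (@Bool.rec (fun _ => ℕ) l970 l971 (Nat.ble (nat_lit 971) i))
noncomputable def t972_975 (i : ℕ) : ℕ := (@Bool.rec (fun _ => ℕ) l972 (@Bool.rec (fun _ => ℕ) l973 l974 (Nat.ble (nat_lit 974) i)) (Nat.ble (nat_lit 973) i))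
noncomputable def t956_975 (i : ℕ) : ℕ := (@Bool.rec (fun _ => ℕ) (@Bool.rec (fun _ => ℕ) (@Bool.rec (fun _ => ℕ) (t956_958 i) (t958_960 i) (Nat.ble (nat_lit 958) i)) (@Bool.rec (fun _ => ℕ) (t960_962 i) (t962_965 i) (Nat.ble (nat_lit 962) i)) (Nat.ble (nat_lit 960) i)) (@Bool.rec (fun _ => ℕ) (@Bool.rec (fun _ => ℕ) (t965_967 i) (t967_970 i) (Nat.ble (nat_lit 967) i)) (@Bool.rec (fun _ => ℕ) (t970_972 i) (t972_975 i) (Nat.ble (nat_lit 972) i)) (Nat.ble (nat_lit 970) i)) (Nat.ble (nat_lit 965) i))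
noncomputable def t975_977 (i : ℕ) : ℕ := (@Bool.rec (fun _ => ℕ) l975 l976 (Nat.ble (nat_lit 976) i))
noncomputable def t977_979 (i : ℕ) : ℕ := (@Bool.rec (fun _ => ℕ) l977 l978 (Nat.ble (nat_lit 978) i))
noncomputable def t979_981 (i : ℕ) : ℕ := (@Bool.rec (fun _ => ℕ) l979 l980 (Nat.ble (nat_lit 980) i))
noncomputable def t981_984 (i : ℕ) : ℕ := (@Bool.rec (fun _ => ℕ) l981 (@Bool.rec (fun _ => ℕ) l982 l983 (Nat.ble (nat_lit 983) i)) (Nat.ble (nat_lit 982) i))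
noncomputable def t984_986 (i : ℕ) : ℕ := (@Bool.rec (fun _ => ℕ) l984 l985 (Nat.ble (nat_lit 985) i))
noncomputable def t986_988 (i : ℕ) : ℕ := (@Bool.rec (fun _ => ℕ) l986 l987 (Nat.ble (nat_lit 987) i))
noncomputable def t988_990 (i : ℕ) : ℕ := (@Bool.rec (fun _ => ℕ) l988 l989 (Nat.ble (nat_lit 989) i))
noncomputable def t990_993 (i : ℕ) : ℕ := (@Bool.rec (fun _ => ℕ) l990 (@Bool.rec (fun _ => ℕ) l991 l992 (Nat.ble (nat_lit 992) i)) (Nat.ble (nat_lit 991) i))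
noncomputable def t975_993 (i : ℕ) : ℕ := (@Bool.rec (fun _ => ℕ) (@Bool.rec (fun _ => ℕ) (@Bool.rec (fun _ => ℕ) (t975_977 i) (t977_979 i) (Nat.ble (nat_lit 977) i)) (@Bool.rec (fun _ => ℕ) (t979_981 i) (t981_984 i) (Nat.ble (nat_lit 981) i)) (Nat.ble (nat_lit 979) i)) (@Bool.rec (fun _ => ℕ) (@Bool.rec (fun _ => ℕ) (t984_986 i) (t986_988 i) (Nat.ble (nat_lit 986) i)) (@Bool.rec (fun _ => ℕ) (t988_990 i) (t990_993 i) (Nat.ble (nat_lit 990) i)) (Nat.ble (nat_lit 988) i)) (Nat.ble (nat_lit 984) i))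
noncomputable def t993_995 (i : ℕ) : ℕ := (@Bool.rec (fun _ => ℕ) l993 l994 (Nat.ble (nat_lit 994) i))
noncomputable def t995_997 (i : ℕ) : ℕ := (@Bool.rec (fun _ => ℕ) l995 l996 (Nat.ble (nat_lit 996) i))
noncomputable def t997_999 (i : ℕ) : ℕ := (@Bool.rec (fun _ => ℕ) l997 l998 (Nat.ble (nat_lit 998) i))
noncomputable def t999_1002 (i : ℕ) : ℕ := (@Bool.rec (fun _ => ℕ) l999 (@Bool.rec (fun _ => ℕ) l1000 l1001 (Nat.ble (nat_lit 1001) i)) (Nat.ble (nat_lit 1000) i))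
noncomputable def t1002_1004 (i : ℕ) : ℕ := (@Bool.rec (fun _ => ℕ) l1002 l1003 (Nat.ble (nat_lit 1003) i))
noncomputable def t1004_1007 (i : ℕ) : ℕ := (@Bool.rec (fun _ => ℕ) l1004 (@Bool.rec (fun _ => ℕ) l1005 l1006 (Nat.ble (nat_lit 1006) i)) (Nat.ble (nat_lit 1005) i))
noncomputable def t1007_1009 (i : ℕ) : ℕ := (@Bool.rec (fun _ => ℕ) l1007 l1008 (Nat.ble (nat_lit 1008) i))
noncomputable def t1009_1012 (i : ℕ) : ℕ := (@Bool.rec (fun _ => ℕ) l1009 (@Bool.rec (fun _ => ℕ) l1010 l1011 (Nat.ble (nat_lit 1011) i)) (Nat.ble (nat_lit 1010) i))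
noncomputable def t993_1012 (i : ℕ) : ℕ := (@Bool.rec (fun _ => ℕ) (@Bool.rec (fun _ => ℕ) (@Bool.rec (fun _ => ℕ) (t993_995 i) (t995_997 i) (Nat.ble (nat_lit 995) i)) (@Bool.rec (fun _ => ℕ) (t997_999 i) (t999_1002 i) (Nat.ble (nat_lit 999) i)) (Nat.ble (nat_lit 997) i)) (@Bool.rec (fun _ => ℕ) (@Bool.rec (fun _ => ℕ) (t1002_1004 i) (t1004_1007 i) (Nat.ble (nat_lit 1004) i)) (@Bool.rec (fun _ => ℕ) (t1007_1009 i) (t1009_1012 i) (Nat.ble (nat_lit 1009) i)) (Nat.ble (nat_lit 1007) i)) (Nat.ble (nat_lit 1002) i))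
noncomputable def t1012_1014 (i : ℕ) : ℕ := (@Bool.rec (fun _ => ℕ) l1012 l1013 (Nat.ble (nat_lit 1013) i))
noncomputable def t1014_1016 (i : ℕ) : ℕ := (@Bool.rec (fun _ => ℕ) l1014 l1015 (Nat.ble (nat_lit 1015) i))
noncomputable def t1016_1018 (i : ℕ) : ℕ := (@Bool.rec (fun _ => ℕ) l1016 l1017 (Nat.ble (nat_lit 1017) i))
noncomputable def t1018_1021 (i : ℕ) : ℕ := (@Bool.rec (fun _ => ℕ) l1018 (@Bool.rec (fun _ => ℕ) l1019 l1020 (Nat.ble (nat_lit 1020) i)) (Nat.ble (nat_lit 1019) i))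
noncomputable def t1021_1023 (i : ℕ) : ℕ := (@Bool.rec (fun _ => ℕ) l1021 l1022 (Nat.ble (nat_lit 1022) i))
noncomputable def t1023_1026 (i : ℕ) : ℕ := (@Bool.rec (fun _ => ℕ) l1023 (@Bool.rec (fun _ => ℕ) l1024 l1025 (Nat.ble (nat_lit 1025) i)) (Nat.ble (nat_lit 1024) i))
noncomputable def t1026_1028 (i : ℕ) : ℕ := (@Bool.rec (fun _ => ℕ) l1026 l1027 (Nat.ble (nat_lit 1027) i))
noncomputable def t1028_1031 (i : ℕ) : ℕ := (@Bool.rec (fun _ => ℕ) l1028 (@Bool.rec (fun _ => ℕ) l1029 l1030 (Nat.ble (nat_lit 1030) i)) (Nat.ble (nat_lit 1029) i))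
noncomputable def t1012_1031 (i : ℕ) : ℕ := (@Bool.rec (fun _ => ℕ) (@Bool.rec (fun _ => ℕ) (@Bool.rec (fun _ => ℕ) (t1012_1014 i) (t1014_1016 i) (Nat.ble (nat_lit 1014) i)) (@Bool.rec (fun _ => ℕ) (t1016_1018 i) (t1018_1021 i) (Nat.ble (nat_lit 1018) i)) (Nat.ble (nat_lit 1016) i)) (@Bool.rec (fun _ => ℕ) (@Bool.rec (fun _ => ℕ) (t1021_1023 i) (t1023_1026 i) (Nat.ble (nat_lit 1023) i)) (@Bool.rec (fun _ => ℕ) (t1026_1028 i) (t1028_1031 i) (Nat.ble (nat_lit 1028) i)) (Nat.ble (nat_lit 1026) i)) (Nat.ble (nat_lit 1021) i))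
noncomputable def t1031_1033 (i : ℕ) : ℕ := (@Bool.rec (fun _ => ℕ) l1031 l1032 (Nat.ble (nat_lit 1032) i))
noncomputable def t1033_1035 (i : ℕ) : ℕ := (@Bool.rec (fun _ => ℕ) l1033 l1034 (Nat.ble (nat_lit 1034) i))
noncomputable def t1035_1037 (i : ℕ) : ℕ := (@Bool.rec (fun _ => ℕ) l1035 l1036 (Nat.ble (nat_lit 1036) i))
noncomputable def t1037_1040 (i : ℕ) : ℕ := (@Bool.rec (fun _ => ℕ) l1037 (@Bool.rec (fun _ => ℕ) l1038 l1039 (Nat.ble (nat_lit 1039) i)) (Nat.ble (nat_lit 1038) i))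
noncomputable def t1040_1042 (i : ℕ) : ℕ := (@Bool.rec (fun _ => ℕ) l1040 l1041 (Nat.ble (nat_lit 1041) i))
noncomputable def t1042_1045 (i : ℕ) : ℕ := (@Bool.rec (fun _ => ℕ) l1042 (@Bool.rec (fun _ => ℕ) l1043 l1044 (Nat.ble (nat_lit 1044) i)) (Nat.ble (nat_lit 1043) i))
noncomputable def t1045_1047 (i : ℕ) : ℕ := (@Bool.rec (fun _ => ℕ) l1045 l1046 (Nat.ble (nat_lit 1046) i))
noncomputable def t1047_1050 (i : ℕ) : ℕ := (@Bool.rec (fun _ => ℕ) l1047 (@Bool.rec (fun _ => ℕ) l1048 l1049 (Nat.ble (nat_lit 1049) i)) (Nat.ble (nat_lit 1048) i))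
noncomputable def t1031_1050 (i : ℕ) : ℕ := (@Bool.rec (fun _ => ℕ) (@Bool.rec (fun _ => ℕ) (@Bool.rec (fun _ => ℕ) (t1031_1033 i) (t1033_1035 i) (Nat.ble (nat_lit 1033) i)) (@Bool.rec (fun _ => ℕ) (t1035_1037 i) (t1037_1040 i) (Nat.ble (nat_lit 1037) i)) (Nat.ble (nat_lit 1035) i)) (@Bool.rec (fun _ => ℕ) (@Bool.rec (fun _ => ℕ) (t1040_1042 i) (t1042_1045 i) (Nat.ble (nat_lit 1042) i)) (@Bool.rec (fun _ => ℕ) (t1045_1047 i) (t1047_1050 i) (Nat.ble (nat_lit 1047) i)) (Nat.ble (nat_lit 1045) i)) (Nat.ble (nat_lit 1040) i))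
noncomputable def t900_1050 (i : ℕ) : ℕ := (@Bool.rec (fun _ => ℕ) (@Bool.rec (fun _ => ℕ) (@Bool.rec (fun _ => ℕ) (t900_918 i) (t918_937 i) (Nat.ble (nat_lit 918) i)) (@Bool.rec (fun _ => ℕ) (t937_956 i) (t956_975 i) (Nat.ble (nat_lit 956) i)) (Nat.ble (nat_lit 937) i)) (@Bool.rec (fun _ => ℕ) (@Bool.rec (fun _ => ℕ) (t975_993 i) (t993_1012 i) (Nat.ble (nat_lit 993) i)) (@Bool.rec (fun _ => ℕ) (t1012_1031 i) (t1031_1050 i) (Nat.ble (nat_lit 1031) i)) (Nat.ble (nat_lit 1012) i)) (Nat.ble (nat_lit 975) i))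
noncomputable def t1050_1052 (i : ℕ) : ℕ := (@Bool.rec (fun _ => ℕ) l1050 l1051 (Nat.ble (nat_lit 1051) i))
noncomputable def t1052_1054 (i : ℕ) : ℕ := (@Bool.rec (fun _ => ℕ) l1052 l1053 (Nat.ble (nat_lit 1053) i))
noncomputable def t1054_1056 (i : ℕ) : ℕ := (@Bool.rec (fun _ => ℕ) l1054 l1055 (Nat.ble (nat_lit 1055) i))
noncomputable def t1056_1059 (i : ℕ) : ℕ := (@Bool.rec (fun _ => ℕ) l1056 (@Bool.rec (fun _ => ℕ) l1057 l1058 (Nat.ble (nat_lit 1058) i)) (Nat.ble (nat_lit 1057) i))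
noncomputable def t1059_1061 (i : ℕ) : ℕ := (@Bool.rec (fun _ => ℕ) l1059 l1060 (Nat.ble (nat_lit 1060) i))
noncomputable def t1061_1063 (i : ℕ) : ℕ := (@Bool.rec (fun _ => ℕ) l1061 l1062 (Nat.ble (nat_lit 1062) i))
noncomputable def t1063_1065 (i : ℕ) : ℕ := (@Bool.rec (fun _ => ℕ) l1063 l1064 (Nat.ble (nat_lit 1064) i))
noncomputable def t1065_1068 (i : ℕ) : ℕ := (@Bool.rec (fun _ => ℕ) l1065 (@Bool.rec (fun _ => ℕ) l1066 l1067 (Nat.ble (nat_lit 1067) i)) (Nat.ble (nat_lit 1066) i))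
noncomputable def t1050_1068 (i : ℕ) : ℕ := (@Bool.rec (fun _ => ℕ) (@Bool.rec (fun _ => ℕ) (@Bool.rec (fun _ => ℕ) (t1050_1052 i) (t1052_1054 i) (Nat.ble (nat_lit 1052) i)) (@Bool.rec (fun _ => ℕ) (t1054_1056 i) (t1056_1059 i) (Nat.ble (nat_lit 1056) i)) (Nat.ble (nat_lit 1054) i)) (@Bool.rec (fun _ => ℕ) (@Bool.rec (fun _ => ℕ) (t1059_1061 i) (t1061_1063 i) (Nat.ble (nat_lit 1061) i)) (@Bool.rec (fun _ => ℕ) (t1063_1065 i) (t1065_1068 i) (Nat.ble (nat_lit 1065) i)) (Nat.ble (nat_lit 1063) i)) (Nat.ble (nat_lit 1059) i))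
noncomputable def t1068_1070 (i : ℕ) : ℕ := (@Bool.rec (fun _ => ℕ) l1068 l1069 (Nat.ble (nat_lit 1069) i))
noncomputable def t1070_1072 (i : ℕ) : ℕ := (@Bool.rec (fun _ => ℕ) l1070 l1071 (Nat.ble (nat_lit 1071) i))
noncomputable def t1072_1074 (i : ℕ) : ℕ := (@Bool.rec (fun _ => ℕ) l1072 l1073 (Nat.ble (nat_lit 1073) i))
noncomputable def t1074_1077 (i : ℕ) : ℕ := (@Bool.rec (fun _ => ℕ) l1074 (@Bool.rec (fun _ => ℕ) l1075 l1076 (Nat.ble (nat_lit 1076) i)) (Nat.ble (nat_lit 1075) i))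
noncomputable def t1077_1079 (i : ℕ) : ℕ := (@Bool.rec (fun _ => ℕ) l1077 l1078 (Nat.ble (nat_lit 1078) i))
noncomputable def t1079_1082 (i : ℕ) : ℕ := (@Bool.rec (fun _ => ℕ) l1079 (@Bool.rec (fun _ => ℕ) l1080 l1081 (Nat.ble (nat_lit 1081) i)) (Nat.ble (nat_lit 1080) i))
noncomputable def t1082_1084 (i : ℕ) : ℕ := (@Bool.rec (fun _ => ℕ) l1082 l1083 (Nat.ble (nat_lit 1083) i))
noncomputable def t1084_1087 (i : ℕ) : ℕ := (@Bool.rec (fun _ => ℕ) l1084 (@Bool.rec (fun _ => ℕ) l1085 l1086 (Nat.ble (nat_lit 1086) i)) (Nat.ble (nat_lit 1085) i))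
noncomputable def t1068_1087 (i : ℕ) : ℕ := (@Bool.rec (fun _ => ℕ) (@Bool.rec (fun _ => ℕ) (@Bool.rec (fun _ => ℕ) (t1068_1070 i) (t1070_1072 i) (Nat.ble (nat_lit 1070) i)) (@Bool.rec (fun _ => ℕ) (t1072_1074 i) (t1074_1077 i) (Nat.ble (nat_lit 1074) i)) (Nat.ble (nat_lit 1072) i)) (@Bool.rec (fun _ => ℕ) (@Bool.rec (fun _ => ℕ) (t1077_1079 i) (t1079_1082 i) (Nat.ble (nat_lit 1079) i)) (@Bool.rec (fun _ => ℕ) (t1082_1084 i) (t1084_1087 i) (Nat.ble (nat_lit 1084) i)) (Nat.ble (nat_lit 1082) i)) (Nat.ble (nat_lit 1077) i))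
noncomputable def t1087_1089 (i : ℕ) : ℕ := (@Bool.rec (fun _ => ℕ) l1087 l1088 (Nat.ble (nat_lit 1088) i))
noncomputable def t1089_1091 (i : ℕ) : ℕ := (@Bool.rec (fun _ => ℕ) l1089 l1090 (Nat.ble (nat_lit 1090) i))
noncomputable def t1091_1093 (i : ℕ) : ℕ := (@Bool.rec (fun _ => ℕ) l1091 l1092 (Nat.ble (nat_lit 1092) i))
noncomputable def t1093_1096 (i : ℕ) : ℕ := (@Bool.rec (fun _ => ℕ) l1093 (@Bool.rec (fun _ => ℕ) l1094 l1095 (Nat.ble (nat_lit 1095) i)) (Nat.ble (nat_lit 1094) i))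
noncomputable def t1096_1098 (i : ℕ) : ℕ := (@Bool.rec (fun _ => ℕ) l1096 l1097 (Nat.ble (nat_lit 1097) i))
noncomputable def t1098_1101 (i : ℕ) : ℕ := (@Bool.rec (fun _ => ℕ) l1098 (@Bool.rec (fun _ => ℕ) l1099 l1100 (Nat.ble (nat_lit 1100) i)) (Nat.ble (nat_lit 1099) i))
noncomputable def t1101_1103 (i : ℕ) : ℕ := (@Bool.rec (fun _ => ℕ) l1101 l1102 (Nat.ble (nat_lit 1102) i))
noncomputable def t1103_1106 (i : ℕ) : ℕ := (@Bool.rec (fun _ => ℕ) l1103 (@Bool.rec (fun _ => ℕ) l1104 l1105 (Nat.ble (nat_lit 1105) i)) (Nat.ble (nat_lit 1104) i))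
noncomputable def t1087_1106 (i : ℕ) : ℕ := (@Bool.rec (fun _ => ℕ) (@Bool.rec (fun _ => ℕ) (@Bool.rec (fun _ => ℕ) (t1087_1089 i) (t1089_1091 i) (Nat.ble (nat_lit 1089) i)) (@Bool.rec (fun _ => ℕ) (t1091_1093 i) (t1093_1096 i) (Nat.ble (nat_lit 1093) i)) (Nat.ble (nat_lit 1091) i)) (@Bool.rec (fun _ => ℕ) (@Bool.rec (fun _ => ℕ) (t1096_1098 i) (t1098_1101 i) (Nat.ble (nat_lit 1098) i)) (@Bool.rec (fun _ => ℕ) (t1101_1103 i) (t1103_1106 i) (Nat.ble (nat_lit 1103) i)) (Nat.ble (nat_lit 1101) i)) (Nat.ble (nat_lit 1096) i))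
noncomputable def t1106_1108 (i : ℕ) : ℕ := (@Bool.rec (fun _ => ℕ) l1106 l1107 (Nat.ble (nat_lit 1107) i))
noncomputable def t1108_1110 (i : ℕ) : ℕ := (@Bool.rec (fun _ => ℕ) l1108 l1109 (Nat.ble (nat_lit 1109) i))
noncomputable def t1110_1112 (i : ℕ) : ℕ := (@Bool.rec (fun _ => ℕ) l1110 l1111 (Nat.ble (nat_lit 1111) i))
noncomputable def t1112_1115 (i : ℕ) : ℕ := (@Bool.rec (fun _ => ℕ) l1112 (@Bool.rec (fun _ => ℕ) l1113 l1114 (Nat.ble (nat_lit 1114) i)) (Nat.ble (nat_lit 1113) i))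
noncomputable def t1115_1117 (i : ℕ) : ℕ := (@Bool.rec (fun _ => ℕ) l1115 l1116 (Nat.ble (nat_lit 1116) i))
noncomputable def t1117_1120 (i : ℕ) : ℕ := (@Bool.rec (fun _ => ℕ) l1117 (@Bool.rec (fun _ => ℕ) l1118 l1119 (Nat.ble (nat_lit 1119) i)) (Nat.ble (nat_lit 1118) i))
noncomputable def t1120_1122 (i : ℕ) : ℕ := (@Bool.rec (fun _ => ℕ) l1120 l1121 (Nat.ble (nat_lit 1121) i))
noncomputable def t1122_1125 (i : ℕ) : ℕ := (@Bool.rec (fun _ => ℕ) l1122 (@Bool.rec (fun _ => ℕ) l1123 l1124 (Nat.ble (nat_lit 1124) i)) (Nat.ble (nat_lit 1123) i))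
noncomputable def t1106_1125 (i : ℕ) : ℕ := (@Bool.rec (fun _ => ℕ) (@Bool.rec (fun _ => ℕ) (@Bool.rec (fun _ => ℕ) (t1106_1108 i) (t1108_1110 i) (Nat.ble (nat_lit 1108) i)) (@Bool.rec (fun _ => ℕ) (t1110_1112 i) (t1112_1115 i) (Nat.ble (nat_lit 1112) i)) (Nat.ble (nat_lit 1110) i)) (@Bool.rec (fun _ => ℕ) (@Bool.rec (fun _ => ℕ) (t1115_1117 i) (t1117_1120 i) (Nat.ble (nat_lit 1117) i)) (@Bool.rec (fun _ => ℕ) (t1120_1122 i) (t1122_1125 i) (Nat.ble (nat_lit 1122) i)) (Nat.ble (nat_lit 1120) i)) (Nat.ble (nat_lit 1115) i))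
noncomputable def t1125_1127 (i : ℕ) : ℕ := (@Bool.rec (fun _ => ℕ) l1125 l1126 (Nat.ble (nat_lit 1126) i))
noncomputable def t1127_1129 (i : ℕ) : ℕ := (@Bool.rec (fun _ => ℕ) l1127 l1128 (Nat.ble (nat_lit 1128) i))
noncomputable def t1129_1131 (i : ℕ) : ℕ := (@Bool.rec (fun _ => ℕ) l1129 l1130 (Nat.ble (nat_lit 1130) i))
noncomputable def t1131_1134 (i : ℕ) : ℕ := (@Bool.rec (fun _ => ℕ) l1131 (@Bool.rec (fun _ => ℕ) l1132 l1133 (Nat.ble (nat_lit 1133) i)) (Nat.ble (nat_lit 1132) i))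
noncomputable def t1134_1136 (i : ℕ) : ℕ := (@Bool.rec (fun _ => ℕ) l1134 l1135 (Nat.ble (nat_lit 1135) i))
noncomputable def t1136_1138 (i : ℕ) : ℕ := (@Bool.rec (fun _ => ℕ) l1136 l1137 (Nat.ble (nat_lit 1137) i))
noncomputable def t1138_1140 (i : ℕ) : ℕ := (@Bool.rec (fun _ => ℕ) l1138 l1139 (Nat.ble (nat_lit 1139) i))
noncomputable def t1140_1143 (i : ℕ) : ℕ := (@Bool.rec (fun _ => ℕ) l1140 (@Bool.rec (fun _ => ℕ) l1141 l1142 (Nat.ble (nat_lit 1142) i)) (Nat.ble (nat_lit 1141) i))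
noncomputable def t1125_1143 (i : ℕ) : ℕ := (@Bool.rec (fun _ => ℕ) (@Bool.rec (fun _ => ℕ) (@Bool.rec (fun _ => ℕ) (t1125_1127 i) (t1127_1129 i) (Nat.ble (nat_lit 1127) i)) (@Bool.rec (fun _ => ℕ) (t1129_1131 i) (t1131_1134 i) (Nat.ble (nat_lit 1131) i)) (Nat.ble (nat_lit 1129) i)) (@Bool.rec (fun _ => ℕ) (@Bool.rec (fun _ => ℕ) (t1134_1136 i) (t1136_1138 i) (Nat.ble (nat_lit 1136) i)) (@Bool.rec (fun _ => ℕ) (t1138_1140 i) (t1140_1143 i) (Nat.ble (nat_lit 1140) i)) (Nat.ble (nat_lit 1138) i)) (Nat.ble (nat_lit 1134) i))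
noncomputable def t1143_1145 (i : ℕ) : ℕ := (@Bool.rec (fun _ => ℕ) l1143 l1144 (Nat.ble (nat_lit 1144) i))
noncomputable def t1145_1147 (i : ℕ) : ℕ := (@Bool.rec (fun _ => ℕ) l1145 l1146 (Nat.ble (nat_lit 1146) i))
noncomputable def t1147_1149 (i : ℕ) : ℕ := (@Bool.rec (fun _ => ℕ) l1147 l1148 (Nat.ble (nat_lit 1148) i))
noncomputable def t1149_1152 (i : ℕ) : ℕ := (@Bool.rec (fun _ => ℕ) l1149 (@Bool.rec (fun _ => ℕ) l1150 l1151 (Nat.ble (nat_lit 1151) i)) (Nat.ble (nat_lit 1150) i))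
noncomputable def t1152_1154 (i : ℕ) : ℕ := (@Bool.rec (fun _ => ℕ) l1152 l1153 (Nat.ble (nat_lit 1153) i))
noncomputable def t1154_1157 (i : ℕ) : ℕ := (@Bool.rec (fun _ => ℕ) l1154 (@Bool.rec (fun _ => ℕ) l1155 l1156 (Nat.ble (nat_lit 1156) i)) (Nat.ble (nat_lit 1155) i))
noncomputable def t1157_1159 (i : ℕ) : ℕ := (@Bool.rec (fun _ => ℕ) l1157 l1158 (Nat.ble (nat_lit 1158) i))
noncomputable def t1159_1162 (i : ℕ) : ℕ := (@Bool.rec (fun _ => ℕ) l1159 (@Bool.rec (fun _ => ℕ) l1160 l1161 (Nat.ble (nat_lit 1161) i)) (Nat.ble (nat_lit 1160) i))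
noncomputable def t1143_1162 (i : ℕ) : ℕ := (@Bool.rec (fun _ => ℕ) (@Bool.rec (fun _ => ℕ) (@Bool.rec (fun _ => ℕ) (t1143_1145 i) (t1145_1147 i) (Nat.ble (nat_lit 1145) i)) (@Bool.rec (fun _ => ℕ) (t1147_1149 i) (t1149_1152 i) (Nat.ble (nat_lit 1149) i)) (Nat.ble (nat_lit 1147) i)) (@Bool.rec (fun _ => ℕ) (@Bool.rec (fun _ => ℕ) (t1152_1154 i) (t1154_1157 i) (Nat.ble (nat_lit 1154) i)) (@Bool.rec (fun _ => ℕ) (t1157_1159 i) (t1159_1162 i) (Nat.ble (nat_lit 1159) i)) (Nat.ble (nat_lit 1157) i)) (Nat.ble (nat_lit 1152) i))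
noncomputable def t1162_1164 (i : ℕ) : ℕ := (@Bool.rec (fun _ => ℕ) l1162 l1163 (Nat.ble (nat_lit 1163) i))
noncomputable def t1164_1166 (i : ℕ) : ℕ := (@Bool.rec (fun _ => ℕ) l1164 l1165 (Nat.ble (nat_lit 1165) i))
noncomputable def t1166_1168 (i : ℕ) : ℕ := (@Bool.rec (fun _ => ℕ) l1166 l1167 (Nat.ble (nat_lit 1167) i))
noncomputable def t1168_1171 (i : ℕ) : ℕ := (@Bool.rec (fun _ => ℕ) l1168 (@Bool.rec (fun _ => ℕ) l1169 l1170 (Nat.ble (nat_lit 1170) i)) (Nat.ble (nat_lit 1169) i))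
noncomputable def t1171_1173 (i : ℕ) : ℕ := (@Bool.rec (fun _ => ℕ) l1171 l1172 (Nat.ble (nat_lit 1172) i))
noncomputable def t1173_1176 (i : ℕ) : ℕ := (@Bool.rec (fun _ => ℕ) l1173 (@Bool.rec (fun _ => ℕ) l1174 l1175 (Nat.ble (nat_lit 1175) i)) (Nat.ble (nat_lit 1174) i))
noncomputable def t1176_1178 (i : ℕ) : ℕ := (@Bool.rec (fun _ => ℕ) l1176 l1177 (Nat.ble (nat_lit 1177) i))
noncomputable def t1178_1181 (i : ℕ) : ℕ := (@Bool.rec (fun _ => ℕ) l1178 (@Bool.rec (fun _ => ℕ) l1179 l1180 (Nat.ble (nat_lit 1180) i)) (Nat.ble (nat_lit 1179) i))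
noncomputable def t1162_1181 (i : ℕ) : ℕ := (@Bool.rec (fun _ => ℕ) (@Bool.rec (fun _ => ℕ) (@Bool.rec (fun _ => ℕ) (t1162_1164 i) (t1164_1166 i) (Nat.ble (nat_lit 1164) i)) (@Bool.rec (fun _ => ℕ) (t1166_1168 i) (t1168_1171 i) (Nat.ble (nat_lit 1168) i)) (Nat.ble (nat_lit 1166) i)) (@Bool.rec (fun _ => ℕ) (@Bool.rec (fun _ => ℕ) (t1171_1173 i) (t1173_1176 i) (Nat.ble (nat_lit 1173) i)) (@Bool.rec (fun _ => ℕ) (t1176_1178 i) (t1178_1181 i) (Nat.ble (nat_lit 1178) i)) (Nat.ble (nat_lit 1176) i)) (Nat.ble (nat_lit 1171) i))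
noncomputable def t1181_1183 (i : ℕ) : ℕ := (@Bool.rec (fun _ => ℕ) l1181 l1182 (Nat.ble (nat_lit 1182) i))
noncomputable def t1183_1185 (i : ℕ) : ℕ := (@Bool.rec (fun _ => ℕ) l1183 l1184 (Nat.ble (nat_lit 1184) i))
noncomputable def t1185_1187 (i : ℕ) : ℕ := (@Bool.rec (fun _ => ℕ) l1185 l1186 (Nat.ble (nat_lit 1186) i))
noncomputable def t1187_1190 (i : ℕ) : ℕ := (@Bool.rec (fun _ => ℕ) l1187 (@Bool.rec (fun _ => ℕ) l1188 l1189 (Nat.ble (nat_lit 1189) i)) (Nat.ble (nat_lit 1188) i))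
noncomputable def t1190_1192 (i : ℕ) : ℕ := (@Bool.rec (fun _ => ℕ) l1190 l1191 (Nat.ble (nat_lit 1191) i))
noncomputable def t1192_1195 (i : ℕ) : ℕ := (@Bool.rec (fun _ => ℕ) l1192 (@Bool.rec (fun _ => ℕ) l1193 l1194 (Nat.ble (nat_lit 1194) i)) (Nat.ble (nat_lit 1193) i))
noncomputable def t1195_1197 (i : ℕ) : ℕ := (@Bool.rec (fun _ => ℕ) l1195 l1196 (Nat.ble (nat_lit 1196) i))
noncomputable def t1197_1200 (i : ℕ) : ℕ := (@Bool.rec (fun _ => ℕ) l1197 (@Bool.rec (fun _ => ℕ) l1198 l1199 (Nat.ble (nat_lit 1199) i)) (Nat.ble (nat_lit 1198) i))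
noncomputable def t1181_1200 (i : ℕ) : ℕ := (@Bool.rec (fun _ => ℕ) (@Bool.rec (fun _ => ℕ) (@Bool.rec (fun _ => ℕ) (t1181_1183 i) (t1183_1185 i) (Nat.ble (nat_lit 1183) i)) (@Bool.rec (fun _ => ℕ) (t1185_1187 i) (t1187_1190 i) (Nat.ble (nat_lit 1187) i)) (Nat.ble (nat_lit 1185) i)) (@Bool.rec (fun _ => ℕ) (@Bool.rec (fun _ => ℕ) (t1190_1192 i) (t1192_1195 i) (Nat.ble (nat_lit 1192) i)) (@Bool.rec (fun _ => ℕ) (t1195_1197 i) (t1197_1200 i) (Nat.ble (nat_lit 1197) i)) (Nat.ble (nat_lit 1195) i)) (Nat.ble (nat_lit 1190) i))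
noncomputable def t1050_1200 (i : ℕ) : ℕ := (@Bool.rec (fun _ => ℕ) (@Bool.rec (fun _ => ℕ) (@Bool.rec (fun _ => ℕ) (t1050_1068 i) (t1068_1087 i) (Nat.ble (nat_lit 1068) i)) (@Bool.rec (fun _ => ℕ) (t1087_1106 i) (t1106_1125 i) (Nat.ble (nat_lit 1106) i)) (Nat.ble (nat_lit 1087) i)) (@Bool.rec (fun _ => ℕ) (@Bool.rec (fun _ => ℕ) (t1125_1143 i) (t1143_1162 i) (Nat.ble (nat_lit 1143) i)) (@Bool.rec (fun _ => ℕ) (t1162_1181 i) (t1181_1200 i) (Nat.ble (nat_lit 1181) i)) (Nat.ble (nat_lit 1162) i)) (Nat.ble (nat_lit 1125) i))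
noncomputable def t0_1200 (i : ℕ) : ℕ := (@Bool.rec (fun _ => ℕ) (@Bool.rec (fun _ => ℕ) (@Bool.rec (fun _ => ℕ) (t0_150 i) (t150_300 i) (Nat.ble (nat_lit 150) i)) (@Bool.rec (fun _ => ℕ) (t300_450 i) (t450_600 i) (Nat.ble (nat_lit 450) i)) (Nat.ble (nat_lit 300) i)) (@Bool.rec (fun _ => ℕ) (@Bool.rec (fun _ => ℕ) (t600_750 i) (t750_900 i) (Nat.ble (nat_lit 750) i)) (@Bool.rec (fun _ => ℕ) (t900_1050 i) (t1050_1200 i) (Nat.ble (nat_lit 1050) i)) (Nat.ble (nat_lit 900) i)) (Nat.ble (nat_lit 600) i))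
noncomputable def t1200_1202 (i : ℕ) : ℕ := (@Bool.rec (fun _ => ℕ) l1200 l1201 (Nat.ble (nat_lit 1201) i))
noncomputable def t1202_1204 (i : ℕ) : ℕ := (@Bool.rec (fun _ => ℕ) l1202 l1203 (Nat.ble (nat_lit 1203) i))
noncomputable def t1204_1206 (i : ℕ) : ℕ := (@Bool.rec (fun _ => ℕ) l1204 l1205 (Nat.ble (nat_lit 1205) i))
noncomputable def t1206_1209 (i : ℕ) : ℕ := (@Bool.rec (fun _ => ℕ) l1206 (@Bool.rec (fun _ => ℕ) l1207 l1208 (Nat.ble (nat_lit 1208) i)) (Nat.ble (nat_lit 1207) i))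
noncomputable def t1209_1211 (i : ℕ) : ℕ := (@Bool.rec (fun _ => ℕ) l1209 l1210 (Nat.ble (nat_lit 1210) i))
noncomputable def t1211_1213 (i : ℕ) : ℕ := (@Bool.rec (fun _ => ℕ) l1211 l1212 (Nat.ble (nat_lit 1212) i))
noncomputable def t1213_1215 (i : ℕ) : ℕ := (@Bool.rec (fun _ => ℕ) l1213 l1214 (Nat.ble (nat_lit 1214) i))
noncomputable def t1215_1218 (i : ℕ) : ℕ := (@Bool.rec (fun _ => ℕ) l1215 (@Bool.rec (fun _ => ℕ) l1216 l1217 (Nat.ble (nat_lit 1217) i)) (Nat.ble (nat_lit 1216) i))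
noncomputable def t1200_1218 (i : ℕ) : ℕ := (@Bool.rec (fun _ => ℕ) (@Bool.rec (fun _ => ℕ) (@Bool.rec (fun _ => ℕ) (t1200_1202 i) (t1202_1204 i) (Nat.ble (nat_lit 1202) i)) (@Bool.rec (fun _ => ℕ) (t1204_1206 i) (t1206_1209 i) (Nat.ble (nat_lit 1206) i)) (Nat.ble (nat_lit 1204) i)) (@Bool.rec (fun _ => ℕ) (@Bool.rec (fun _ => ℕ) (t1209_1211 i) (t1211_1213 i) (Nat.ble (nat_lit 1211) i)) (@Bool.rec (fun _ => ℕ) (t1213_1215 i) (t1215_1218 i) (Nat.ble (nat_lit 1215) i)) (Nat.ble (nat_lit 1213) i)) (Nat.ble (nat_lit 1209) i))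
noncomputable def t1218_1220 (i : ℕ) : ℕ := (@Bool.rec (fun _ => ℕ) l1218 l1219 (Nat.ble (nat_lit 1219) i))
noncomputable def t1220_1222 (i : ℕ) : ℕ := (@Bool.rec (fun _ => ℕ) l1220 l1221 (Nat.ble (nat_lit 1221) i))
noncomputable def t1222_1224 (i : ℕ) : ℕ := (@Bool.rec (fun _ => ℕ) l1222 l1223 (Nat.ble (nat_lit 1223) i))
noncomputable def t1224_1227 (i : ℕ) : ℕ := (@Bool.rec (fun _ => ℕ) l1224 (@Bool.rec (fun _ => ℕ) l1225 l1226 (Nat.ble (nat_lit 1226) i)) (Nat.ble (nat_lit 1225) i))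
noncomputable def t1227_1229 (i : ℕ) : ℕ := (@Bool.rec (fun _ => ℕ) l1227 l1228 (Nat.ble (nat_lit 1228) i))
noncomputable def t1229_1232 (i : ℕ) : ℕ := (@Bool.rec (fun _ => ℕ) l1229 (@Bool.rec (fun _ => ℕ) l1230 l1231 (Nat.ble (nat_lit 1231) i)) (Nat.ble (nat_lit 1230) i))
noncomputable def t1232_1234 (i : ℕ) : ℕ := (@Bool.rec (fun _ => ℕ) l1232 l1233 (Nat.ble (nat_lit 1233) i))
noncomputable def t1234_1237 (i : ℕ) : ℕ := (@Bool.rec (fun _ => ℕ) l1234 (@Bool.rec (fun _ => ℕ) l1235 l1236 (Nat.ble (nat_lit 1236) i)) (Nat.ble (nat_lit 1235) i))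
noncomputable def t1218_1237 (i : ℕ) : ℕ := (@Bool.rec (fun _ => ℕ) (@Bool.rec (fun _ => ℕ) (@Bool.rec (fun _ => ℕ) (t1218_1220 i) (t1220_1222 i) (Nat.ble (nat_lit 1220) i)) (@Bool.rec (fun _ => ℕ) (t1222_1224 i) (t1224_1227 i) (Nat.ble (nat_lit 1224) i)) (Nat.ble (nat_lit 1222) i)) (@Bool.rec (fun _ => ℕ) (@Bool.rec (fun _ => ℕ) (t1227_1229 i) (t1229_1232 i) (Nat.ble (nat_lit 1229) i)) (@Bool.rec (fun _ => ℕ) (t1232_1234 i) (t1234_1237 i) (Nat.ble (nat_lit 1234) i)) (Nat.ble (nat_lit 1232) i)) (Nat.ble (nat_lit 1227) i))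
noncomputable def t1237_1239 (i : ℕ) : ℕ := (@Bool.rec (fun _ => ℕ) l1237 l1238 (Nat.ble (nat_lit 1238) i))
noncomputable def t1239_1241 (i : ℕ) : ℕ := (@Bool.rec (fun _ => ℕ) l1239 l1240 (Nat.ble (nat_lit 1240) i))
noncomputable def t1241_1243 (i : ℕ) : ℕ := (@Bool.rec (fun _ => ℕ) l1241 l1242 (Nat.ble (nat_lit 1242) i))
noncomputable def t1243_1246 (i : ℕ) : ℕ := (@Bool.rec (fun _ => ℕ) l1243 (@Bool.rec (fun _ => ℕ) l1244 l1245 (Nat.ble (nat_lit 1245) i)) (Nat.ble (nat_lit 1244) i))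
noncomputable def t1246_1248 (i : ℕ) : ℕ := (@Bool.rec (fun _ => ℕ) l1246 l1247 (Nat.ble (nat_lit 1247) i))
noncomputable def t1248_1251 (i : ℕ) : ℕ := (@Bool.rec (fun _ => ℕ) l1248 (@Bool.rec (fun _ => ℕ) l1249 l1250 (Nat.ble (nat_lit 1250) i)) (Nat.ble (nat_lit 1249) i))
noncomputable def t1251_1253 (i : ℕ) : ℕ := (@Bool.rec (fun _ => ℕ) l1251 l1252 (Nat.ble (nat_lit 1252) i))
noncomputable def t1253_1256 (i : ℕ) : ℕ := (@Bool.rec (fun _ => ℕ) l1253 (@Bool.rec (fun _ => ℕ) l1254 l1255 (Nat.ble (nat_lit 1255) i)) (Nat.ble (nat_lit 1254) i))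
noncomputable def t1237_1256 (i : ℕ) : ℕ := (@Bool.rec (fun _ => ℕ) (@Bool.rec (fun _ => ℕ) (@Bool.rec (fun _ => ℕ) (t1237_1239 i) (t1239_1241 i) (Nat.ble (nat_lit 1239) i)) (@Bool.rec (fun _ => ℕ) (t1241_1243 i) (t1243_1246 i) (Nat.ble (nat_lit 1243) i)) (Nat.ble (nat_lit 1241) i)) (@Bool.rec (fun _ => ℕ) (@Bool.rec (fun _ => ℕ) (t1246_1248 i) (t1248_1251 i) (Nat.ble (nat_lit 1248) i)) (@Bool.rec (fun _ => ℕ) (t1251_1253 i) (t1253_1256 i) (Nat.ble (nat_lit 1253) i)) (Nat.ble (nat_lit 1251) i)) (Nat.ble (nat_lit 1246) i))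
noncomputable def t1256_1258 (i : ℕ) : ℕ := (@Bool.rec (fun _ => ℕ) l1256 l1257 (Nat.ble (nat_lit 1257) i))
noncomputable def t1258_1260 (i : ℕ) : ℕ := (@Bool.rec (fun _ => ℕ) l1258 l1259 (Nat.ble (nat_lit 1259) i))
noncomputable def t1260_1262 (i : ℕ) : ℕ := (@Bool.rec (fun _ => ℕ) l1260 l1261 (Nat.ble (nat_lit 1261) i))
noncomputable def t1262_1265 (i : ℕ) : ℕ := (@Bool.rec (fun _ => ℕ) l1262 (@Bool.rec (fun _ => ℕ) l1263 l1264 (Nat.ble (nat_lit 1264) i)) (Nat.ble (nat_lit 1263) i))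
noncomputable def t1265_1267 (i : ℕ) : ℕ := (@Bool.rec (fun _ => ℕ) l1265 l1266 (Nat.ble (nat_lit 1266) i))
noncomputable def t1267_1270 (i : ℕ) : ℕ := (@Bool.rec (fun _ => ℕ) l1267 (@Bool.rec (fun _ => ℕ) l1268 l1269 (Nat.ble (nat_lit 1269) i)) (Nat.ble (nat_lit 1268) i))
noncomputable def t1270_1272 (i : ℕ) : ℕ := (@Bool.rec (fun _ => ℕ) l1270 l1271 (Nat.ble (nat_lit 1271) i))
noncomputable def t1272_1275 (i : ℕ) : ℕ := (@Bool.rec (fun _ => ℕ) l1272 (@Bool.rec (fun _ => ℕ) l1273 l1274 (Nat.ble (nat_lit 1274) i)) (Nat.ble (nat_lit 1273) i))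
noncomputable def t1256_1275 (i : ℕ) : ℕ := (@Bool.rec (fun _ => ℕ) (@Bool.rec (fun _ => ℕ) (@Bool.rec (fun _ => ℕ) (t1256_1258 i) (t1258_1260 i) (Nat.ble (nat_lit 1258) i)) (@Bool.rec (fun _ => ℕ) (t1260_1262 i) (t1262_1265 i) (Nat.ble (nat_lit 1262) i)) (Nat.ble (nat_lit 1260) i)) (@Bool.rec (fun _ => ℕ) (@Bool.rec (fun _ => ℕ) (t1265_1267 i) (t1267_1270 i) (Nat.ble (nat_lit 1267) i)) (@Bool.rec (fun _ => ℕ) (t1270_1272 i) (t1272_1275 i) (Nat.ble (nat_lit 1272) i)) (Nat.ble (nat_lit 1270) i)) (Nat.ble (nat_lit 1265) i))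
noncomputable def t1275_1277 (i : ℕ) : ℕ := (@Bool.rec (fun _ => ℕ) l1275 l1276 (Nat.ble (nat_lit 1276) i))
noncomputable def t1277_1279 (i : ℕ) : ℕ := (@Bool.rec (fun _ => ℕ) l1277 l1278 (Nat.ble (nat_lit 1278) i))
noncomputable def t1279_1281 (i : ℕ) : ℕ := (@Bool.rec (fun _ => ℕ) l1279 l1280 (Nat.ble (nat_lit 1280) i))
noncomputable def t1281_1284 (i : ℕ) : ℕ := (@Bool.rec (fun _ => ℕ) l1281 (@Bool.rec (fun _ => ℕ) l1282 l1283 (Nat.ble (nat_lit 1283) i)) (Nat.ble (nat_lit 1282) i))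
noncomputable def t1284_1286 (i : ℕ) : ℕ := (@Bool.rec (fun _ => ℕ) l1284 l1285 (Nat.ble (nat_lit 1285) i))
noncomputable def t1286_1288 (i : ℕ) : ℕ := (@Bool.rec (fun _ => ℕ) l1286 l1287 (Nat.ble (nat_lit 1287) i))
noncomputable def t1288_1290 (i : ℕ) : ℕ := (@Bool.rec (fun _ => ℕ) l1288 l1289 (Nat.ble (nat_lit 1289) i))
noncomputable def t1290_1293 (i : ℕ) : ℕ := (@Bool.rec (fun _ => ℕ) l1290 (@Bool.rec (fun _ => ℕ) l1291 l1292 (Nat.ble (nat_lit 1292) i)) (Nat.ble (nat_lit 1291) i))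
noncomputable def t1275_1293 (i : ℕ) : ℕ := (@Bool.rec (fun _ => ℕ) (@Bool.rec (fun _ => ℕ) (@Bool.rec (fun _ => ℕ) (t1275_1277 i) (t1277_1279 i) (Nat.ble (nat_lit 1277) i)) (@Bool.rec (fun _ => ℕ) (t1279_1281 i) (t1281_1284 i) (Nat.ble (nat_lit 1281) i)) (Nat.ble (nat_lit 1279) i)) (@Bool.rec (fun _ => ℕ) (@Bool.rec (fun _ => ℕ) (t1284_1286 i) (t1286_1288 i) (Nat.ble (nat_lit 1286) i)) (@Bool.rec (fun _ => ℕ) (t1288_1290 i) (t1290_1293 i) (Nat.ble (nat_lit 1290) i)) (Nat.ble (nat_lit 1288) i)) (Nat.ble (nat_lit 1284) i))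
noncomputable def t1293_1295 (i : ℕ) : ℕ := (@Bool.rec (fun _ => ℕ) l1293 l1294 (Nat.ble (nat_lit 1294) i))
noncomputable def t1295_1297 (i : ℕ) : ℕ := (@Bool.rec (fun _ => ℕ) l1295 l1296 (Nat.ble (nat_lit 1296) i))
noncomputable def t1297_1299 (i : ℕ) : ℕ := (@Bool.rec (fun _ => ℕ) l1297 l1298 (Nat.ble (nat_lit 1298) i))
noncomputable def t1299_1302 (i : ℕ) : ℕ := (@Bool.rec (fun _ => ℕ) l1299 (@Bool.rec (fun _ => ℕ) l1300 l1301 (Nat.ble (nat_lit 1301) i)) (Nat.ble (nat_lit 1300) i))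
noncomputable def t1302_1304 (i : ℕ) : ℕ := (@Bool.rec (fun _ => ℕ) l1302 l1303 (Nat.ble (nat_lit 1303) i))
noncomputable def t1304_1307 (i : ℕ) : ℕ := (@Bool.rec (fun _ => ℕ) l1304 (@Bool.rec (fun _ => ℕ) l1305 l1306 (Nat.ble (nat_lit 1306) i)) (Nat.ble (nat_lit 1305) i))
noncomputable def t1307_1309 (i : ℕ) : ℕ := (@Bool.rec (fun _ => ℕ) l1307 l1308 (Nat.ble (nat_lit 1308) i))
noncomputable def t1309_1312 (i : ℕ) : ℕ := (@Bool.rec (fun _ => ℕ) l1309 (@Bool.rec (fun _ => ℕ) l1310 l1311 (Nat.ble (nat_lit 1311) i)) (Nat.ble (nat_lit 1310) i))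
noncomputable def t1293_1312 (i : ℕ) : ℕ := (@Bool.rec (fun _ => ℕ) (@Bool.rec (fun _ => ℕ) (@Bool.rec (fun _ => ℕ) (t1293_1295 i) (t1295_1297 i) (Nat.ble (nat_lit 1295) i)) (@Bool.rec (fun _ => ℕ) (t1297_1299 i) (t1299_1302 i) (Nat.ble (nat_lit 1299) i)) (Nat.ble (nat_lit 1297) i)) (@Bool.rec (fun _ => ℕ) (@Bool.rec (fun _ => ℕ) (t1302_1304 i) (t1304_1307 i) (Nat.ble (nat_lit 1304) i)) (@Bool.rec (fun _ => ℕ) (t1307_1309 i) (t1309_1312 i) (Nat.ble (nat_lit 1309) i)) (Nat.ble (nat_lit 1307) i)) (Nat.ble (nat_lit 1302) i))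
noncomputable def t1312_1314 (i : ℕ) : ℕ := (@Bool.rec (fun _ => ℕ) l1312 l1313 (Nat.ble (nat_lit 1313) i))
noncomputable def t1314_1316 (i : ℕ) : ℕ := (@Bool.rec (fun _ => ℕ) l1314 l1315 (Nat.ble (nat_lit 1315) i))
noncomputable def t1316_1318 (i : ℕ) : ℕ := (@Bool.rec (fun _ => ℕ) l1316 l1317 (Nat.ble (nat_lit 1317) i))
noncomputable def t1318_1321 (i : ℕ) : ℕ := (@Bool.rec (fun _ => ℕ) l1318 (@Bool.rec (fun _ => ℕ) l1319 l1320 (Nat.ble (nat_lit 1320) i)) (Nat.ble (nat_lit 1319) i))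
noncomputable def t1321_1323 (i : ℕ) : ℕ := (@Bool.rec (fun _ => ℕ) l1321 l1322 (Nat.ble (nat_lit 1322) i))
noncomputable def t1323_1326 (i : ℕ) : ℕ := (@Bool.rec (fun _ => ℕ) l1323 (@Bool.rec (fun _ => ℕ) l1324 l1325 (Nat.ble (nat_lit 1325) i)) (Nat.ble (nat_lit 1324) i))
noncomputable def t1326_1328 (i : ℕ) : ℕ := (@Bool.rec (fun _ => ℕ) l1326 l1327 (Nat.ble (nat_lit 1327) i))
noncomputable def t1328_1331 (i : ℕ) : ℕ := (@Bool.rec (fun _ => ℕ) l1328 (@Bool.rec (fun _ => ℕ) l1329 l1330 (Nat.ble (nat_lit 1330) i)) (Nat.ble (nat_lit 1329) i))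
noncomputable def t1312_1331 (i : ℕ) : ℕ := (@Bool.rec (fun _ => ℕ) (@Bool.rec (fun _ => ℕ) (@Bool.rec (fun _ => ℕ) (t1312_1314 i) (t1314_1316 i) (Nat.ble (nat_lit 1314) i)) (@Bool.rec (fun _ => ℕ) (t1316_1318 i) (t1318_1321 i) (Nat.ble (nat_lit 1318) i)) (Nat.ble (nat_lit 1316) i)) (@Bool.rec (fun _ => ℕ) (@Bool.rec (fun _ => ℕ) (t1321_1323 i) (t1323_1326 i) (Nat.ble (nat_lit 1323) i)) (@Bool.rec (fun _ => ℕ) (t1326_1328 i) (t1328_1331 i) (Nat.ble (nat_lit 1328) i)) (Nat.ble (nat_lit 1326) i)) (Nat.ble (nat_lit 1321) i))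
noncomputable def t1331_1333 (i : ℕ) : ℕ := (@Bool.rec (fun _ => ℕ) l1331 l1332 (Nat.ble (nat_lit 1332) i))
noncomputable def t1333_1335 (i : ℕ) : ℕ := (@Bool.rec (fun _ => ℕ) l1333 l1334 (Nat.ble (nat_lit 1334) i))
noncomputable def t1335_1337 (i : ℕ) : ℕ := (@Bool.rec (fun _ => ℕ) l1335 l1336 (Nat.ble (nat_lit 1336) i))
noncomputable def t1337_1340 (i : ℕ) : ℕ := (@Bool.rec (fun _ => ℕ) l1337 (@Bool.rec (fun _ => ℕ) l1338 l1339 (Nat.ble (nat_lit 1339) i)) (Nat.ble (nat_lit 1338) i))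
noncomputable def t1340_1342 (i : ℕ) : ℕ := (@Bool.rec (fun _ => ℕ) l1340 l1341 (Nat.ble (nat_lit 1341) i))
noncomputable def t1342_1345 (i : ℕ) : ℕ := (@Bool.rec (fun _ => ℕ) l1342 (@Bool.rec (fun _ => ℕ) l1343 l1344 (Nat.ble (nat_lit 1344) i)) (Nat.ble (nat_lit 1343) i))
noncomputable def t1345_1347 (i : ℕ) : ℕ := (@Bool.rec (fun _ => ℕ) l1345 l1346 (Nat.ble (nat_lit 1346) i))
noncomputable def t1347_1350 (i : ℕ) : ℕ := (@Bool.rec (fun _ => ℕ) l1347 (@Bool.rec (fun _ => ℕ) l1348 l1349 (Nat.ble (nat_lit 1349) i)) (Nat.ble (nat_lit 1348) i))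
noncomputable def t1331_1350 (i : ℕ) : ℕ := (@Bool.rec (fun _ => ℕ) (@Bool.rec (fun _ => ℕ) (@Bool.rec (fun _ => ℕ) (t1331_1333 i) (t1333_1335 i) (Nat.ble (nat_lit 1333) i)) (@Bool.rec (fun _ => ℕ) (t1335_1337 i) (t1337_1340 i) (Nat.ble (nat_lit 1337) i)) (Nat.ble (nat_lit 1335) i)) (@Bool.rec (fun _ => ℕ) (@Bool.rec (fun _ => ℕ) (t1340_1342 i) (t1342_1345 i) (Nat.ble (nat_lit 1342) i)) (@Bool.rec (fun _ => ℕ) (t1345_1347 i) (t1347_1350 i) (Nat.ble (nat_lit 1347) i)) (Nat.ble (nat_lit 1345) i)) (Nat.ble (nat_lit 1340) i))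
noncomputable def t1200_1350 (i : ℕ) : ℕ := (@Bool.rec (fun _ => ℕ) (@Bool.rec (fun _ => ℕ) (@Bool.rec (fun _ => ℕ) (t1200_1218 i) (t1218_1237 i) (Nat.ble (nat_lit 1218) i)) (@Bool.rec (fun _ => ℕ) (t1237_1256 i) (t1256_1275 i) (Nat.ble (nat_lit 1256) i)) (Nat.ble (nat_lit 1237) i)) (@Bool.rec (fun _ => ℕ) (@Bool.rec (fun _ => ℕ) (t1275_1293 i) (t1293_1312 i) (Nat.ble (nat_lit 1293) i)) (@Bool.rec (fun _ => ℕ) (t1312_1331 i) (t1331_1350 i) (Nat.ble (nat_lit 1331) i)) (Nat.ble (nat_lit 1312) i)) (Nat.ble (nat_lit 1275) i))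
noncomputable def t1350_1352 (i : ℕ) : ℕ := (@Bool.rec (fun _ => ℕ) l1350 l1351 (Nat.ble (nat_lit 1351) i))
noncomputable def t1352_1354 (i : ℕ) : ℕ := (@Bool.rec (fun _ => ℕ) l1352 l1353 (Nat.ble (nat_lit 1353) i))
noncomputable def t1354_1356 (i : ℕ) : ℕ := (@Bool.rec (fun _ => ℕ) l1354 l1355 (Nat.ble (nat_lit 1355) i))
noncomputable def t1356_1359 (i : ℕ) : ℕ := (@Bool.rec (fun _ => ℕ) l1356 (@Bool.rec (fun _ => ℕ) l1357 l1358 (Nat.ble (nat_lit 1358) i)) (Nat.ble (nat_lit 1357) i))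
noncomputable def t1359_1361 (i : ℕ) : ℕ := (@Bool.rec (fun _ => ℕ) l1359 l1360 (Nat.ble (nat_lit 1360) i))
noncomputable def t1361_1363 (i : ℕ) : ℕ := (@Bool.rec (fun _ => ℕ) l1361 l1362 (Nat.ble (nat_lit 1362) i))
noncomputable def t1363_1365 (i : ℕ) : ℕ := (@Bool.rec (fun _ => ℕ) l1363 l1364 (Nat.ble (nat_lit 1364) i))
noncomputable def t1365_1368 (i : ℕ) : ℕ := (@Bool.rec (fun _ => ℕ) l1365 (@Bool.rec (fun _ => ℕ) l1366 l1367 (Nat.ble (nat_lit 1367) i)) (Nat.ble (nat_lit 1366) i))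
noncomputable def t1350_1368 (i : ℕ) : ℕ := (@Bool.rec (fun _ => ℕ) (@Bool.rec (fun _ => ℕ) (@Bool.rec (fun _ => ℕ) (t1350_1352 i) (t1352_1354 i) (Nat.ble (nat_lit 1352) i)) (@Bool.rec (fun _ => ℕ) (t1354_1356 i) (t1356_1359 i) (Nat.ble (nat_lit 1356) i)) (Nat.ble (nat_lit 1354) i)) (@Bool.rec (fun _ => ℕ) (@Bool.rec (fun _ => ℕ) (t1359_1361 i) (t1361_1363 i) (Nat.ble (nat_lit 1361) i)) (@Bool.rec (fun _ => ℕ) (t1363_1365 i) (t1365_1368 i) (Nat.ble (nat_lit 1365) i)) (Nat.ble (nat_lit 1363) i)) (Nat.ble (nat_lit 1359) i))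
noncomputable def t1368_1370 (i : ℕ) : ℕ := (@Bool.rec (fun _ => ℕ) l1368 l1369 (Nat.ble (nat_lit 1369) i))
noncomputable def t1370_1372 (i : ℕ) : ℕ := (@Bool.rec (fun _ => ℕ) l1370 l1371 (Nat.ble (nat_lit 1371) i))
noncomputable def t1372_1374 (i : ℕ) : ℕ := (@Bool.rec (fun _ => ℕ) l1372 l1373 (Nat.ble (nat_lit 1373) i))
noncomputable def t1374_1377 (i : ℕ) : ℕ := (@Bool.rec (fun _ => ℕ) l1374 (@Bool.rec (fun _ => ℕ) l1375 l1376 (Nat.ble (nat_lit 1376) i)) (Nat.ble (nat_lit 1375) i))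
noncomputable def t1377_1379 (i : ℕ) : ℕ := (@Bool.rec (fun _ => ℕ) l1377 l1378 (Nat.ble (nat_lit 1378) i))
noncomputable def t1379_1382 (i : ℕ) : ℕ := (@Bool.rec (fun _ => ℕ) l1379 (@Bool.rec (fun _ => ℕ) l1380 l1381 (Nat.ble (nat_lit 1381) i)) (Nat.ble (nat_lit 1380) i))
noncomputable def t1382_1384 (i : ℕ) : ℕ := (@Bool.rec (fun _ => ℕ) l1382 l1383 (Nat.ble (nat_lit 1383) i))
noncomputable def t1384_1387 (i : ℕ) : ℕ := (@Bool.rec (fun _ => ℕ) l1384 (@Bool.rec (fun _ => ℕ) l1385 l1386 (Nat.ble (nat_lit 1386) i)) (Nat.ble (nat_lit 1385) i))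
noncomputable def t1368_1387 (i : ℕ) : ℕ := (@Bool.rec (fun _ => ℕ) (@Bool.rec (fun _ => ℕ) (@Bool.rec (fun _ => ℕ) (t1368_1370 i) (t1370_1372 i) (Nat.ble (nat_lit 1370) i)) (@Bool.rec (fun _ => ℕ) (t1372_1374 i) (t1374_1377 i) (Nat.ble (nat_lit 1374) i)) (Nat.ble (nat_lit 1372) i)) (@Bool.rec (fun _ => ℕ) (@Bool.rec (fun _ => ℕ) (t1377_1379 i) (t1379_1382 i) (Nat.ble (nat_lit 1379) i)) (@Bool.rec (fun _ => ℕ) (t1382_1384 i) (t1384_1387 i) (Nat.ble (nat_lit 1384) i)) (Nat.ble (nat_lit 1382) i)) (Nat.ble (nat_lit 1377) i))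
noncomputable def t1387_1389 (i : ℕ) : ℕ := (@Bool.rec (fun _ => ℕ) l1387 l1388 (Nat.ble (nat_lit 1388) i))
noncomputable def t1389_1391 (i : ℕ) : ℕ := (@Bool.rec (fun _ => ℕ) l1389 l1390 (Nat.ble (nat_lit 1390) i))
noncomputable def t1391_1393 (i : ℕ) : ℕ := (@Bool.rec (fun _ => ℕ) l1391 l1392 (Nat.ble (nat_lit 1392) i))
noncomputable def t1393_1396 (i : ℕ) : ℕ := (@Bool.rec (fun _ => ℕ) l1393 (@Bool.rec (fun _ => ℕ) l1394 l1395 (Nat.ble (nat_lit 1395) i)) (Nat.ble (nat_lit 1394) i))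
noncomputable def t1396_1398 (i : ℕ) : ℕ := (@Bool.rec (fun _ => ℕ) l1396 l1397 (Nat.ble (nat_lit 1397) i))
noncomputable def t1398_1401 (i : ℕ) : ℕ := (@Bool.rec (fun _ => ℕ) l1398 (@Bool.rec (fun _ => ℕ) l1399 l1400 (Nat.ble (nat_lit 1400) i)) (Nat.ble (nat_lit 1399) i))
noncomputable def t1401_1403 (i : ℕ) : ℕ := (@Bool.rec (fun _ => ℕ) l1401 l1402 (Nat.ble (nat_lit 1402) i))
noncomputable def t1403_1406 (i : ℕ) : ℕ := (@Bool.rec (fun _ => ℕ) l1403 (@Bool.rec (fun _ => ℕ) l1404 l1405 (Nat.ble (nat_lit 1405) i)) (Nat.ble (nat_lit 1404) i))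
noncomputable def t1387_1406 (i : ℕ) : ℕ := (@Bool.rec (fun _ => ℕ) (@Bool.rec (fun _ => ℕ) (@Bool.rec (fun _ => ℕ) (t1387_1389 i) (t1389_1391 i) (Nat.ble (nat_lit 1389) i)) (@Bool.rec (fun _ => ℕ) (t1391_1393 i) (t1393_1396 i) (Nat.ble (nat_lit 1393) i)) (Nat.ble (nat_lit 1391) i)) (@Bool.rec (fun _ => ℕ) (@Bool.rec (fun _ => ℕ) (t1396_1398 i) (t1398_1401 i) (Nat.ble (nat_lit 1398) i)) (@Bool.rec (fun _ => ℕ) (t1401_1403 i) (t1403_1406 i) (Nat.ble (nat_lit 1403) i)) (Nat.ble (nat_lit 1401) i)) (Nat.ble (nat_lit 1396) i))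
noncomputable def t1406_1408 (i : ℕ) : ℕ := (@Bool.rec (fun _ => ℕ) l1406 l1407 (Nat.ble (nat_lit 1407) i))
noncomputable def t1408_1410 (i : ℕ) : ℕ := (@Bool.rec (fun _ => ℕ) l1408 l1409 (Nat.ble (nat_lit 1409) i))
noncomputable def t1410_1412 (i : ℕ) : ℕ := (@Bool.rec (fun _ => ℕ) l1410 l1411 (Nat.ble (nat_lit 1411) i))
noncomputable def t1412_1415 (i : ℕ) : ℕ := (@Bool.rec (fun _ => ℕ) l1412 (@Bool.rec (fun _ => ℕ) l1413 l1414 (Nat.ble (nat_lit 1414) i)) (Nat.ble (nat_lit 1413) i))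
noncomputable def t1415_1417 (i : ℕ) : ℕ := (@Bool.rec (fun _ => ℕ) l1415 l1416 (Nat.ble (nat_lit 1416) i))
noncomputable def t1417_1420 (i : ℕ) : ℕ := (@Bool.rec (fun _ => ℕ) l1417 (@Bool.rec (fun _ => ℕ) l1418 l1419 (Nat.ble (nat_lit 1419) i)) (Nat.ble (nat_lit 1418) i))
noncomputable def t1420_1422 (i : ℕ) : ℕ := (@Bool.rec (fun _ => ℕ) l1420 l1421 (Nat.ble (nat_lit 1421) i))
noncomputable def t1422_1425 (i : ℕ) : ℕ := (@Bool.rec (fun _ => ℕ) l1422 (@Bool.rec (fun _ => ℕ) l1423 l1424 (Nat.ble (nat_lit 1424) i)) (Nat.ble (nat_lit 1423) i))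
noncomputable def t1406_1425 (i : ℕ) : ℕ := (@Bool.rec (fun _ => ℕ) (@Bool.rec (fun _ => ℕ) (@Bool.rec (fun _ => ℕ) (t1406_1408 i) (t1408_1410 i) (Nat.ble (nat_lit 1408) i)) (@Bool.rec (fun _ => ℕ) (t1410_1412 i) (t1412_1415 i) (Nat.ble (nat_lit 1412) i)) (Nat.ble (nat_lit 1410) i)) (@Bool.rec (fun _ => ℕ) (@Bool.rec (fun _ => ℕ) (t1415_1417 i) (t1417_1420 i) (Nat.ble (nat_lit 1417) i)) (@Bool.rec (fun _ => ℕ) (t1420_1422 i) (t1422_1425 i) (Nat.ble (nat_lit 1422) i)) (Nat.ble (nat_lit 1420) i)) (Nat.ble (nat_lit 1415) i))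
noncomputable def t1425_1427 (i : ℕ) : ℕ := (@Bool.rec (fun _ => ℕ) l1425 l1426 (Nat.ble (nat_lit 1426) i))
noncomputable def t1427_1429 (i : ℕ) : ℕ := (@Bool.rec (fun _ => ℕ) l1427 l1428 (Nat.ble (nat_lit 1428) i))
noncomputable def t1429_1431 (i : ℕ) : ℕ := (@Bool.rec (fun _ => ℕ) l1429 l1430 (Nat.ble (nat_lit 1430) i))
noncomputable def t1431_1434 (i : ℕ) : ℕ := (@Bool.rec (fun _ => ℕ) l1431 (@Bool.rec (fun _ => ℕ) l1432 l1433 (Nat.ble (nat_lit 1433) i)) (Nat.ble (nat_lit 1432) i))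
noncomputable def t1434_1436 (i : ℕ) : ℕ := (@Bool.rec (fun _ => ℕ) l1434 l1435 (Nat.ble (nat_lit 1435) i))
noncomputable def t1436_1438 (i : ℕ) : ℕ := (@Bool.rec (fun _ => ℕ) l1436 l1437 (Nat.ble (nat_lit 1437) i))
noncomputable def t1438_1440 (i : ℕ) : ℕ := (@Bool.rec (fun _ => ℕ) l1438 l1439 (Nat.ble (nat_lit 1439) i))
noncomputable def t1440_1443 (i : ℕ) : ℕ := (@Bool.rec (fun _ => ℕ) l1440 (@Bool.rec (fun _ => ℕ) l1441 l1442 (Nat.ble (nat_lit 1442) i)) (Nat.ble (nat_lit 1441) i))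
noncomputable def t1425_1443 (i : ℕ) : ℕ := (@Bool.rec (fun _ => ℕ) (@Bool.rec (fun _ => ℕ) (@Bool.rec (fun _ => ℕ) (t1425_1427 i) (t1427_1429 i) (Nat.ble (nat_lit 1427) i)) (@Bool.rec (fun _ => ℕ) (t1429_1431 i) (t1431_1434 i) (Nat.ble (nat_lit 1431) i)) (Nat.ble (nat_lit 1429) i)) (@Bool.rec (fun _ => ℕ) (@Bool.rec (fun _ => ℕ) (t1434_1436 i) (t1436_1438 i) (Nat.ble (nat_lit 1436) i)) (@Bool.rec (fun _ => ℕ) (t1438_1440 i) (t1440_1443 i) (Nat.ble (nat_lit 1440) i)) (Nat.ble (nat_lit 1438) i)) (Nat.ble (nat_lit 1434) i))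
noncomputable def t1443_1445 (i : ℕ) : ℕ := (@Bool.rec (fun _ => ℕ) l1443 l1444 (Nat.ble (nat_lit 1444) i))
noncomputable def t1445_1447 (i : ℕ) : ℕ := (@Bool.rec (fun _ => ℕ) l1445 l1446 (Nat.ble (nat_lit 1446) i))
noncomputable def t1447_1449 (i : ℕ) : ℕ := (@Bool.rec (fun _ => ℕ) l1447 l1448 (Nat.ble (nat_lit 1448) i))
noncomputable def t1449_1452 (i : ℕ) : ℕ := (@Bool.rec (fun _ => ℕ) l1449 (@Bool.rec (fun _ => ℕ) l1450 l1451 (Nat.ble (nat_lit 1451) i)) (Nat.ble (nat_lit 1450) i))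
noncomputable def t1452_1454 (i : ℕ) : ℕ := (@Bool.rec (fun _ => ℕ) l1452 l1453 (Nat.ble (nat_lit 1453) i))
noncomputable def t1454_1457 (i : ℕ) : ℕ := (@Bool.rec (fun _ => ℕ) l1454 (@Bool.rec (fun _ => ℕ) l1455 l1456 (Nat.ble (nat_lit 1456) i)) (Nat.ble (nat_lit 1455) i))
noncomputable def t1457_1459 (i : ℕ) : ℕ := (@Bool.rec (fun _ => ℕ) l1457 l1458 (Nat.ble (nat_lit 1458) i))
noncomputable def t1459_1462 (i : ℕ) : ℕ := (@Bool.rec (fun _ => ℕ) l1459 (@Bool.rec (fun _ => ℕ) l1460 l1461 (Nat.ble (nat_lit 1461) i)) (Nat.ble (nat_lit 1460) i))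
noncomputable def t1443_1462 (i : ℕ) : ℕ := (@Bool.rec (fun _ => ℕ) (@Bool.rec (fun _ => ℕ) (@Bool.rec (fun _ => ℕ) (t1443_1445 i) (t1445_1447 i) (Nat.ble (nat_lit 1445) i)) (@Bool.rec (fun _ => ℕ) (t1447_1449 i) (t1449_1452 i) (Nat.ble (nat_lit 1449) i)) (Nat.ble (nat_lit 1447) i)) (@Bool.rec (fun _ => ℕ) (@Bool.rec (fun _ => ℕ) (t1452_1454 i) (t1454_1457 i) (Nat.ble (nat_lit 1454) i)) (@Bool.rec (fun _ => ℕ) (t1457_1459 i) (t1459_1462 i) (Nat.ble (nat_lit 1459) i)) (Nat.ble (nat_lit 1457) i)) (Nat.ble (nat_lit 1452) i))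
noncomputable def t1462_1464 (i : ℕ) : ℕ := (@Bool.rec (fun _ => ℕ) l1462 l1463 (Nat.ble (nat_lit 1463) i))
noncomputable def t1464_1466 (i : ℕ) : ℕ := (@Bool.rec (fun _ => ℕ) l1464 l1465 (Nat.ble (nat_lit 1465) i))
noncomputable def t1466_1468 (i : ℕ) : ℕ := (@Bool.rec (fun _ => ℕ) l1466 l1467 (Nat.ble (nat_lit 1467) i))
noncomputable def t1468_1471 (i : ℕ) : ℕ := (@Bool.rec (fun _ => ℕ) l1468 (@Bool.rec (fun _ => ℕ) l1469 l1470 (Nat.ble (nat_lit 1470) i)) (Nat.ble (nat_lit 1469) i))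
noncomputable def t1471_1473 (i : ℕ) : ℕ := (@Bool.rec (fun _ => ℕ) l1471 l1472 (Nat.ble (nat_lit 1472) i))
noncomputable def t1473_1476 (i : ℕ) : ℕ := (@Bool.rec (fun _ => ℕ) l1473 (@Bool.rec (fun _ => ℕ) l1474 l1475 (Nat.ble (nat_lit 1475) i)) (Nat.ble (nat_lit 1474) i))
noncomputable def t1476_1478 (i : ℕ) : ℕ := (@Bool.rec (fun _ => ℕ) l1476 l1477 (Nat.ble (nat_lit 1477) i))
noncomputable def t1478_1481 (i : ℕ) : ℕ := (@Bool.rec (fun _ => ℕ) l1478 (@Bool.rec (fun _ => ℕ) l1479 l1480 (Nat.ble (nat_lit 1480) i)) (Nat.ble (nat_lit 1479) i))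
noncomputable def t1462_1481 (i : ℕ) : ℕ := (@Bool.rec (fun _ => ℕ) (@Bool.rec (fun _ => ℕ) (@Bool.rec (fun _ => ℕ) (t1462_1464 i) (t1464_1466 i) (Nat.ble (nat_lit 1464) i)) (@Bool.rec (fun _ => ℕ) (t1466_1468 i) (t1468_1471 i) (Nat.ble (nat_lit 1468) i)) (Nat.ble (nat_lit 1466) i)) (@Bool.rec (fun _ => ℕ) (@Bool.rec (fun _ => ℕ) (t1471_1473 i) (t1473_1476 i) (Nat.ble (nat_lit 1473) i)) (@Bool.rec (fun _ => ℕ) (t1476_1478 i) (t1478_1481 i) (Nat.ble (nat_lit 1478) i)) (Nat.ble (nat_lit 1476) i)) (Nat.ble (nat_lit 1471) i))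
noncomputable def t1481_1483 (i : ℕ) : ℕ := (@Bool.rec (fun _ => ℕ) l1481 l1482 (Nat.ble (nat_lit 1482) i))
noncomputable def t1483_1485 (i : ℕ) : ℕ := (@Bool.rec (fun _ => ℕ) l1483 l1484 (Nat.ble (nat_lit 1484) i))
noncomputable def t1485_1487 (i : ℕ) : ℕ := (@Bool.rec (fun _ => ℕ) l1485 l1486 (Nat.ble (nat_lit 1486) i))
noncomputable def t1487_1490 (i : ℕ) : ℕ := (@Bool.rec (fun _ => ℕ) l1487 (@Bool.rec (fun _ => ℕ) l1488 l1489 (Nat.ble (nat_lit 1489) i)) (Nat.ble (nat_lit 1488) i))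
noncomputable def t1490_1492 (i : ℕ) : ℕ := (@Bool.rec (fun _ => ℕ) l1490 l1491 (Nat.ble (nat_lit 1491) i))
noncomputable def t1492_1495 (i : ℕ) : ℕ := (@Bool.rec (fun _ => ℕ) l1492 (@Bool.rec (fun _ => ℕ) l1493 l1494 (Nat.ble (nat_lit 1494) i)) (Nat.ble (nat_lit 1493) i))
noncomputable def t1495_1497 (i : ℕ) : ℕ := (@Bool.rec (fun _ => ℕ) l1495 l1496 (Nat.ble (nat_lit 1496) i))
noncomputable def t1497_1500 (i : ℕ) : ℕ := (@Bool.rec (fun _ => ℕ) l1497 (@Bool.rec (fun _ => ℕ) l1498 l1499 (Nat.ble (nat_lit 1499) i)) (Nat.ble (nat_lit 1498) i))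
noncomputable def t1481_1500 (i : ℕ) : ℕ := (@Bool.rec (fun _ => ℕ) (@Bool.rec (fun _ => ℕ) (@Bool.rec (fun _ => ℕ) (t1481_1483 i) (t1483_1485 i) (Nat.ble (nat_lit 1483) i)) (@Bool.rec (fun _ => ℕ) (t1485_1487 i) (t1487_1490 i) (Nat.ble (nat_lit 1487) i)) (Nat.ble (nat_lit 1485) i)) (@Bool.rec (fun _ => ℕ) (@Bool.rec (fun _ => ℕ) (t1490_1492 i) (t1492_1495 i) (Nat.ble (nat_lit 1492) i)) (@Bool.rec (fun _ => ℕ) (t1495_1497 i) (t1497_1500 i) (Nat.ble (nat_lit 1497) i)) (Nat.ble (nat_lit 1495) i)) (Nat.ble (nat_lit 1490) i))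
noncomputable def t1350_1500 (i : ℕ) : ℕ := (@Bool.rec (fun _ => ℕ) (@Bool.rec (fun _ => ℕ) (@Bool.rec (fun _ => ℕ) (t1350_1368 i) (t1368_1387 i) (Nat.ble (nat_lit 1368) i)) (@Bool.rec (fun _ => ℕ) (t1387_1406 i) (t1406_1425 i) (Nat.ble (nat_lit 1406) i)) (Nat.ble (nat_lit 1387) i)) (@Bool.rec (fun _ => ℕ) (@Bool.rec (fun _ => ℕ) (t1425_1443 i) (t1443_1462 i) (Nat.ble (nat_lit 1443) i)) (@Bool.rec (fun _ => ℕ) (t1462_1481 i) (t1481_1500 i) (Nat.ble (nat_lit 1481) i)) (Nat.ble (nat_lit 1462) i)) (Nat.ble (nat_lit 1425) i))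
noncomputable def t1500_1502 (i : ℕ) : ℕ := (@Bool.rec (fun _ => ℕ) l1500 l1501 (Nat.ble (nat_lit 1501) i))
noncomputable def t1502_1504 (i : ℕ) : ℕ := (@Bool.rec (fun _ => ℕ) l1502 l1503 (Nat.ble (nat_lit 1503) i))
noncomputable def t1504_1506 (i : ℕ) : ℕ := (@Bool.rec (fun _ => ℕ) l1504 l1505 (Nat.ble (nat_lit 1505) i))
noncomputable def t1506_1509 (i : ℕ) : ℕ := (@Bool.rec (fun _ => ℕ) l1506 (@Bool.rec (fun _ => ℕ) l1507 l1508 (Nat.ble (nat_lit 1508) i)) (Nat.ble (nat_lit 1507) i))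
noncomputable def t1509_1511 (i : ℕ) : ℕ := (@Bool.rec (fun _ => ℕ) l1509 l1510 (Nat.ble (nat_lit 1510) i))
noncomputable def t1511_1513 (i : ℕ) : ℕ := (@Bool.rec (fun _ => ℕ) l1511 l1512 (Nat.ble (nat_lit 1512) i))
noncomputable def t1513_1515 (i : ℕ) : ℕ := (@Bool.rec (fun _ => ℕ) l1513 l1514 (Nat.ble (nat_lit 1514) i))
noncomputable def t1515_1518 (i : ℕ) : ℕ := (@Bool.rec (fun _ => ℕ) l1515 (@Bool.rec (fun _ => ℕ) l1516 l1517 (Nat.ble (nat_lit 1517) i)) (Nat.ble (nat_lit 1516) i))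
noncomputable def t1500_1518 (i : ℕ) : ℕ := (@Bool.rec (fun _ => ℕ) (@Bool.rec (fun _ => ℕ) (@Bool.rec (fun _ => ℕ) (t1500_1502 i) (t1502_1504 i) (Nat.ble (nat_lit 1502) i)) (@Bool.rec (fun _ => ℕ) (t1504_1506 i) (t1506_1509 i) (Nat.ble (nat_lit 1506) i)) (Nat.ble (nat_lit 1504) i)) (@Bool.rec (fun _ => ℕ) (@Bool.rec (fun _ => ℕ) (t1509_1511 i) (t1511_1513 i) (Nat.ble (nat_lit 1511) i)) (@Bool.rec (fun _ => ℕ) (t1513_1515 i) (t1515_1518 i) (Nat.ble (nat_lit 1515) i)) (Nat.ble (nat_lit 1513) i)) (Nat.ble (nat_lit 1509) i))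
noncomputable def t1518_1520 (i : ℕ) : ℕ := (@Bool.rec (fun _ => ℕ) l1518 l1519 (Nat.ble (nat_lit 1519) i))
noncomputable def t1520_1522 (i : ℕ) : ℕ := (@Bool.rec (fun _ => ℕ) l1520 l1521 (Nat.ble (nat_lit 1521) i))
noncomputable def t1522_1524 (i : ℕ) : ℕ := (@Bool.rec (fun _ => ℕ) l1522 l1523 (Nat.ble (nat_lit 1523) i))
noncomputable def t1524_1527 (i : ℕ) : ℕ := (@Bool.rec (fun _ => ℕ) l1524 (@Bool.rec (fun _ => ℕ) l1525 l1526 (Nat.ble (nat_lit 1526) i)) (Nat.ble (nat_lit 1525) i))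
noncomputable def t1527_1529 (i : ℕ) : ℕ := (@Bool.rec (fun _ => ℕ) l1527 l1528 (Nat.ble (nat_lit 1528) i))
noncomputable def t1529_1532 (i : ℕ) : ℕ := (@Bool.rec (fun _ => ℕ) l1529 (@Bool.rec (fun _ => ℕ) l1530 l1531 (Nat.ble (nat_lit 1531) i)) (Nat.ble (nat_lit 1530) i))
noncomputable def t1532_1534 (i : ℕ) : ℕ := (@Bool.rec (fun _ => ℕ) l1532 l1533 (Nat.ble (nat_lit 1533) i))
noncomputable def t1534_1537 (i : ℕ) : ℕ := (@Bool.rec (fun _ => ℕ) l1534 (@Bool.rec (fun _ => ℕ) l1535 l1536 (Nat.ble (nat_lit 1536) i)) (Nat.ble (nat_lit 1535) i))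
noncomputable def t1518_1537 (i : ℕ) : ℕ := (@Bool.rec (fun _ => ℕ) (@Bool.rec (fun _ => ℕ) (@Bool.rec (fun _ => ℕ) (t1518_1520 i) (t1520_1522 i) (Nat.ble (nat_lit 1520) i)) (@Bool.rec (fun _ => ℕ) (t1522_1524 i) (t1524_1527 i) (Nat.ble (nat_lit 1524) i)) (Nat.ble (nat_lit 1522) i)) (@Bool.rec (fun _ => ℕ) (@Bool.rec (fun _ => ℕ) (t1527_1529 i) (t1529_1532 i) (Nat.ble (nat_lit 1529) i)) (@Bool.rec (fun _ => ℕ) (t1532_1534 i) (t1534_1537 i) (Nat.ble (nat_lit 1534) i)) (Nat.ble (nat_lit 1532) i)) (Nat.ble (nat_lit 1527) i))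
noncomputable def t1537_1539 (i : ℕ) : ℕ := (@Bool.rec (fun _ => ℕ) l1537 l1538 (Nat.ble (nat_lit 1538) i))
noncomputable def t1539_1541 (i : ℕ) : ℕ := (@Bool.rec (fun _ => ℕ) l1539 l1540 (Nat.ble (nat_lit 1540) i))
noncomputable def t1541_1543 (i : ℕ) : ℕ := (@Bool.rec (fun _ => ℕ) l1541 l1542 (Nat.ble (nat_lit 1542) i))
noncomputable def t1543_1546 (i : ℕ) : ℕ := (@Bool.rec (fun _ => ℕ) l1543 (@Bool.rec (fun _ => ℕ) l1544 l1545 (Nat.ble (nat_lit 1545) i)) (Nat.ble (nat_lit 1544) i))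
noncomputable def t1546_1548 (i : ℕ) : ℕ := (@Bool.rec (fun _ => ℕ) l1546 l1547 (Nat.ble (nat_lit 1547) i))
noncomputable def t1548_1551 (i : ℕ) : ℕ := (@Bool.rec (fun _ => ℕ) l1548 (@Bool.rec (fun _ => ℕ) l1549 l1550 (Nat.ble (nat_lit 1550) i)) (Nat.ble (nat_lit 1549) i))
noncomputable def t1551_1553 (i : ℕ) : ℕ := (@Bool.rec (fun _ => ℕ) l1551 l1552 (Nat.ble (nat_lit 1552) i))
noncomputable def t1553_1556 (i : ℕ) : ℕ := (@Bool.rec (fun _ => ℕ) l1553 (@Bool.rec (fun _ => ℕ) l1554 l1555 (Nat.ble (nat_lit 1555) i)) (Nat.ble (nat_lit 1554) i))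
noncomputable def t1537_1556 (i : ℕ) : ℕ := (@Bool.rec (fun _ => ℕ) (@Bool.rec (fun _ => ℕ) (@Bool.rec (fun _ => ℕ) (t1537_1539 i) (t1539_1541 i) (Nat.ble (nat_lit 1539) i)) (@Bool.rec (fun _ => ℕ) (t1541_1543 i) (t1543_1546 i) (Nat.ble (nat_lit 1543) i)) (Nat.ble (nat_lit 1541) i)) (@Bool.rec (fun _ => ℕ) (@Bool.rec (fun _ => ℕ) (t1546_1548 i) (t1548_1551 i) (Nat.ble (nat_lit 1548) i)) (@Bool.rec (fun _ => ℕ) (t1551_1553 i) (t1553_1556 i) (Nat.ble (nat_lit 1553) i)) (Nat.ble (nat_lit 1551) i)) (Nat.ble (nat_lit 1546) i))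
noncomputable def t1556_1558 (i : ℕ) : ℕ := (@Bool.rec (fun _ => ℕ) l1556 l1557 (Nat.ble (nat_lit 1557) i))
noncomputable def t1558_1560 (i : ℕ) : ℕ := (@Bool.rec (fun _ => ℕ) l1558 l1559 (Nat.ble (nat_lit 1559) i))
noncomputable def t1560_1562 (i : ℕ) : ℕ := (@Bool.rec (fun _ => ℕ) l1560 l1561 (Nat.ble (nat_lit 1561) i))
noncomputable def t1562_1565 (i : ℕ) : ℕ := (@Bool.rec (fun _ => ℕ) l1562 (@Bool.rec (fun _ => ℕ) l1563 l1564 (Nat.ble (nat_lit 1564) i)) (Nat.ble (nat_lit 1563) i))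
noncomputable def t1565_1567 (i : ℕ) : ℕ := (@Bool.rec (fun _ => ℕ) l1565 l1566 (Nat.ble (nat_lit 1566) i))
noncomputable def t1567_1570 (i : ℕ) : ℕ := (@Bool.rec (fun _ => ℕ) l1567 (@Bool.rec (fun _ => ℕ) l1568 l1569 (Nat.ble (nat_lit 1569) i)) (Nat.ble (nat_lit 1568) i))
noncomputable def t1570_1572 (i : ℕ) : ℕ := (@Bool.rec (fun _ => ℕ) l1570 l1571 (Nat.ble (nat_lit 1571) i))
noncomputable def t1572_1575 (i : ℕ) : ℕ := (@Bool.rec (fun _ => ℕ) l1572 (@Bool.rec (fun _ => ℕ) l1573 l1574 (Nat.ble (nat_lit 1574) i)) (Nat.ble (nat_lit 1573) i))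
noncomputable def t1556_1575 (i : ℕ) : ℕ := (@Bool.rec (fun _ => ℕ) (@Bool.rec (fun _ => ℕ) (@Bool.rec (fun _ => ℕ) (t1556_1558 i) (t1558_1560 i) (Nat.ble (nat_lit 1558) i)) (@Bool.rec (fun _ => ℕ) (t1560_1562 i) (t1562_1565 i) (Nat.ble (nat_lit 1562) i)) (Nat.ble (nat_lit 1560) i)) (@Bool.rec (fun _ => ℕ) (@Bool.rec (fun _ => ℕ) (t1565_1567 i) (t1567_1570 i) (Nat.ble (nat_lit 1567) i)) (@Bool.rec (fun _ => ℕ) (t1570_1572 i) (t1572_1575 i) (Nat.ble (nat_lit 1572) i)) (Nat.ble (nat_lit 1570) i)) (Nat.ble (nat_lit 1565) i))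
noncomputable def t1575_1577 (i : ℕ) : ℕ := (@Bool.rec (fun _ => ℕ) l1575 l1576 (Nat.ble (nat_lit 1576) i))
noncomputable def t1577_1579 (i : ℕ) : ℕ := (@Bool.rec (fun _ => ℕ) l1577 l1578 (Nat.ble (nat_lit 1578) i))
noncomputable def t1579_1581 (i : ℕ) : ℕ := (@Bool.rec (fun _ => ℕ) l1579 l1580 (Nat.ble (nat_lit 1580) i))
noncomputable def t1581_1584 (i : ℕ) : ℕ := (@Bool.rec (fun _ => ℕ) l1581 (@Bool.rec (fun _ => ℕ) l1582 l1583 (Nat.ble (nat_lit 1583) i)) (Nat.ble (nat_lit 1582) i))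
noncomputable def t1584_1586 (i : ℕ) : ℕ := (@Bool.rec (fun _ => ℕ) l1584 l1585 (Nat.ble (nat_lit 1585) i))
noncomputable def t1586_1588 (i : ℕ) : ℕ := (@Bool.rec (fun _ => ℕ) l1586 l1587 (Nat.ble (nat_lit 1587) i))
noncomputable def t1588_1590 (i : ℕ) : ℕ := (@Bool.rec (fun _ => ℕ) l1588 l1589 (Nat.ble (nat_lit 1589) i))
noncomputable def t1590_1593 (i : ℕ) : ℕ := (@Bool.rec (fun _ => ℕ) l1590 (@Bool.rec (fun _ => ℕ) l1591 l1592 (Nat.ble (nat_lit 1592) i)) (Nat.ble (nat_lit 1591) i))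
noncomputable def t1575_1593 (i : ℕ) : ℕ := (@Bool.rec (fun _ => ℕ) (@Bool.rec (fun _ => ℕ) (@Bool.rec (fun _ => ℕ) (t1575_1577 i) (t1577_1579 i) (Nat.ble (nat_lit 1577) i)) (@Bool.rec (fun _ => ℕ) (t1579_1581 i) (t1581_1584 i) (Nat.ble (nat_lit 1581) i)) (Nat.ble (nat_lit 1579) i)) (@Bool.rec (fun _ => ℕ) (@Bool.rec (fun _ => ℕ) (t1584_1586 i) (t1586_1588 i) (Nat.ble (nat_lit 1586) i)) (@Bool.rec (fun _ => ℕ) (t1588_1590 i) (t1590_1593 i) (Nat.ble (nat_lit 1590) i)) (Nat.ble (nat_lit 1588) i)) (Nat.ble (nat_lit 1584) i))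
noncomputable def t1593_1595 (i : ℕ) : ℕ := (@Bool.rec (fun _ => ℕ) l1593 l1594 (Nat.ble (nat_lit 1594) i))
noncomputable def t1595_1597 (i : ℕ) : ℕ := (@Bool.rec (fun _ => ℕ) l1595 l1596 (Nat.ble (nat_lit 1596) i))
noncomputable def t1597_1599 (i : ℕ) : ℕ := (@Bool.rec (fun _ => ℕ) l1597 l1598 (Nat.ble (nat_lit 1598) i))
noncomputable def t1599_1602 (i : ℕ) : ℕ := (@Bool.rec (fun _ => ℕ) l1599 (@Bool.rec (fun _ => ℕ) l1600 l1601 (Nat.ble (nat_lit 1601) i)) (Nat.ble (nat_lit 1600) i))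
noncomputable def t1602_1604 (i : ℕ) : ℕ := (@Bool.rec (fun _ => ℕ) l1602 l1603 (Nat.ble (nat_lit 1603) i))
noncomputable def t1604_1607 (i : ℕ) : ℕ := (@Bool.rec (fun _ => ℕ) l1604 (@Bool.rec (fun _ => ℕ) l1605 l1606 (Nat.ble (nat_lit 1606) i)) (Nat.ble (nat_lit 1605) i))
noncomputable def t1607_1609 (i : ℕ) : ℕ := (@Bool.rec (fun _ => ℕ) l1607 l1608 (Nat.ble (nat_lit 1608) i))
noncomputable def t1609_1612 (i : ℕ) : ℕ := (@Bool.rec (fun _ => ℕ) l1609 (@Bool.rec (fun _ => ℕ) l1610 l1611 (Nat.ble (nat_lit 1611) i)) (Nat.ble (nat_lit 1610) i))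
noncomputable def t1593_1612 (i : ℕ) : ℕ := (@Bool.rec (fun _ => ℕ) (@Bool.rec (fun _ => ℕ) (@Bool.rec (fun _ => ℕ) (t1593_1595 i) (t1595_1597 i) (Nat.ble (nat_lit 1595) i)) (@Bool.rec (fun _ => ℕ) (t1597_1599 i) (t1599_1602 i) (Nat.ble (nat_lit 1599) i)) (Nat.ble (nat_lit 1597) i)) (@Bool.rec (fun _ => ℕ) (@Bool.rec (fun _ => ℕ) (t1602_1604 i) (t1604_1607 i) (Nat.ble (nat_lit 1604) i)) (@Bool.rec (fun _ => ℕ) (t1607_1609 i) (t1609_1612 i) (Nat.ble (nat_lit 1609) i)) (Nat.ble (nat_lit 1607) i)) (Nat.ble (nat_lit 1602) i))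
noncomputable def t1612_1614 (i : ℕ) : ℕ := (@Bool.rec (fun _ => ℕ) l1612 l1613 (Nat.ble (nat_lit 1613) i))
noncomputable def t1614_1616 (i : ℕ) : ℕ := (@Bool.rec (fun _ => ℕ) l1614 l1615 (Nat.ble (nat_lit 1615) i))
noncomputable def t1616_1618 (i : ℕ) : ℕ := (@Bool.rec (fun _ => ℕ) l1616 l1617 (Nat.ble (nat_lit 1617) i))
noncomputable def t1618_1621 (i : ℕ) : ℕ := (@Bool.rec (fun _ => ℕ) l1618 (@Bool.rec (fun _ => ℕ) l1619 l1620 (Nat.ble (nat_lit 1620) i)) (Nat.ble (nat_lit 1619) i))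
noncomputable def t1621_1623 (i : ℕ) : ℕ := (@Bool.rec (fun _ => ℕ) l1621 l1622 (Nat.ble (nat_lit 1622) i))
noncomputable def t1623_1626 (i : ℕ) : ℕ := (@Bool.rec (fun _ => ℕ) l1623 (@Bool.rec (fun _ => ℕ) l1624 l1625 (Nat.ble (nat_lit 1625) i)) (Nat.ble (nat_lit 1624) i))
noncomputable def t1626_1628 (i : ℕ) : ℕ := (@Bool.rec (fun _ => ℕ) l1626 l1627 (Nat.ble (nat_lit 1627) i))
noncomputable def t1628_1631 (i : ℕ) : ℕ := (@Bool.rec (fun _ => ℕ) l1628 (@Bool.rec (fun _ => ℕ) l1629 l1630 (Nat.ble (nat_lit 1630) i)) (Nat.ble (nat_lit 1629) i))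
noncomputable def t1612_1631 (i : ℕ) : ℕ := (@Bool.rec (fun _ => ℕ) (@Bool.rec (fun _ => ℕ) (@Bool.rec (fun _ => ℕ) (t1612_1614 i) (t1614_1616 i) (Nat.ble (nat_lit 1614) i)) (@Bool.rec (fun _ => ℕ) (t1616_1618 i) (t1618_1621 i) (Nat.ble (nat_lit 1618) i)) (Nat.ble (nat_lit 1616) i)) (@Bool.rec (fun _ => ℕ) (@Bool.rec (fun _ => ℕ) (t1621_1623 i) (t1623_1626 i) (Nat.ble (nat_lit 1623) i)) (@Bool.rec (fun _ => ℕ) (t1626_1628 i) (t1628_1631 i) (Nat.ble (nat_lit 1628) i)) (Nat.ble (nat_lit 1626) i)) (Nat.ble (nat_lit 1621) i))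
noncomputable def t1631_1633 (i : ℕ) : ℕ := (@Bool.rec (fun _ => ℕ) l1631 l1632 (Nat.ble (nat_lit 1632) i))
noncomputable def t1633_1635 (i : ℕ) : ℕ := (@Bool.rec (fun _ => ℕ) l1633 l1634 (Nat.ble (nat_lit 1634) i))
noncomputable def t1635_1637 (i : ℕ) : ℕ := (@Bool.rec (fun _ => ℕ) l1635 l1636 (Nat.ble (nat_lit 1636) i))
noncomputable def t1637_1640 (i : ℕ) : ℕ := (@Bool.rec (fun _ => ℕ) l1637 (@Bool.rec (fun _ => ℕ) l1638 l1639 (Nat.ble (nat_lit 1639) i)) (Nat.ble (nat_lit 1638) i))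
noncomputable def t1640_1642 (i : ℕ) : ℕ := (@Bool.rec (fun _ => ℕ) l1640 l1641 (Nat.ble (nat_lit 1641) i))
noncomputable def t1642_1645 (i : ℕ) : ℕ := (@Bool.rec (fun _ => ℕ) l1642 (@Bool.rec (fun _ => ℕ) l1643 l1644 (Nat.ble (nat_lit 1644) i)) (Nat.ble (nat_lit 1643) i))
noncomputable def t1645_1647 (i : ℕ) : ℕ := (@Bool.rec (fun _ => ℕ) l1645 l1646 (Nat.ble (nat_lit 1646) i))
noncomputable def t1647_1650 (i : ℕ) : ℕ := (@Bool.rec (fun _ => ℕ) l1647 (@Bool.rec (fun _ => ℕ) l1648 l1649 (Nat.ble (nat_lit 1649) i)) (Nat.ble (nat_lit 1648) i))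
noncomputable def t1631_1650 (i : ℕ) : ℕ := (@Bool.rec (fun _ => ℕ) (@Bool.rec (fun _ => ℕ) (@Bool.rec (fun _ => ℕ) (t1631_1633 i) (t1633_1635 i) (Nat.ble (nat_lit 1633) i)) (@Bool.rec (fun _ => ℕ) (t1635_1637 i) (t1637_1640 i) (Nat.ble (nat_lit 1637) i)) (Nat.ble (nat_lit 1635) i)) (@Bool.rec (fun _ => ℕ) (@Bool.rec (fun _ => ℕ) (t1640_1642 i) (t1642_1645 i) (Nat.ble (nat_lit 1642) i)) (@Bool.rec (fun _ => ℕ) (t1645_1647 i) (t1647_1650 i) (Nat.ble (nat_lit 1647) i)) (Nat.ble (nat_lit 1645) i)) (Nat.ble (nat_lit 1640) i))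
noncomputable def t1500_1650 (i : ℕ) : ℕ := (@Bool.rec (fun _ => ℕ) (@Bool.rec (fun _ => ℕ) (@Bool.rec (fun _ => ℕ) (t1500_1518 i) (t1518_1537 i) (Nat.ble (nat_lit 1518) i)) (@Bool.rec (fun _ => ℕ) (t1537_1556 i) (t1556_1575 i) (Nat.ble (nat_lit 1556) i)) (Nat.ble (nat_lit 1537) i)) (@Bool.rec (fun _ => ℕ) (@Bool.rec (fun _ => ℕ) (t1575_1593 i) (t1593_1612 i) (Nat.ble (nat_lit 1593) i)) (@Bool.rec (fun _ => ℕ) (t1612_1631 i) (t1631_1650 i) (Nat.ble (nat_lit 1631) i)) (Nat.ble (nat_lit 1612) i)) (Nat.ble (nat_lit 1575) i))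
noncomputable def t1650_1652 (i : ℕ) : ℕ := (@Bool.rec (fun _ => ℕ) l1650 l1651 (Nat.ble (nat_lit 1651) i))
noncomputable def t1652_1654 (i : ℕ) : ℕ := (@Bool.rec (fun _ => ℕ) l1652 l1653 (Nat.ble (nat_lit 1653) i))
noncomputable def t1654_1656 (i : ℕ) : ℕ := (@Bool.rec (fun _ => ℕ) l1654 l1655 (Nat.ble (nat_lit 1655) i))
noncomputable def t1656_1659 (i : ℕ) : ℕ := (@Bool.rec (fun _ => ℕ) l1656 (@Bool.rec (fun _ => ℕ) l1657 l1658 (Nat.ble (nat_lit 1658) i)) (Nat.ble (nat_lit 1657) i))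
noncomputable def t1659_1661 (i : ℕ) : ℕ := (@Bool.rec (fun _ => ℕ) l1659 l1660 (Nat.ble (nat_lit 1660) i))
noncomputable def t1661_1663 (i : ℕ) : ℕ := (@Bool.rec (fun _ => ℕ) l1661 l1662 (Nat.ble (nat_lit 1662) i))
noncomputable def t1663_1665 (i : ℕ) : ℕ := (@Bool.rec (fun _ => ℕ) l1663 l1664 (Nat.ble (nat_lit 1664) i))
noncomputable def t1665_1668 (i : ℕ) : ℕ := (@Bool.rec (fun _ => ℕ) l1665 (@Bool.rec (fun _ => ℕ) l1666 l1667 (Nat.ble (nat_lit 1667) i)) (Nat.ble (nat_lit 1666) i))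
noncomputable def t1650_1668 (i : ℕ) : ℕ := (@Bool.rec (fun _ => ℕ) (@Bool.rec (fun _ => ℕ) (@Bool.rec (fun _ => ℕ) (t1650_1652 i) (t1652_1654 i) (Nat.ble (nat_lit 1652) i)) (@Bool.rec (fun _ => ℕ) (t1654_1656 i) (t1656_1659 i) (Nat.ble (nat_lit 1656) i)) (Nat.ble (nat_lit 1654) i)) (@Bool.rec (fun _ => ℕ) (@Bool.rec (fun _ => ℕ) (t1659_1661 i) (t1661_1663 i) (Nat.ble (nat_lit 1661) i)) (@Bool.rec (fun _ => ℕ) (t1663_1665 i) (t1665_1668 i) (Nat.ble (nat_lit 1665) i)) (Nat.ble (nat_lit 1663) i)) (Nat.ble (nat_lit 1659) i))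
noncomputable def t1668_1670 (i : ℕ) : ℕ := (@Bool.rec (fun _ => ℕ) l1668 l1669 (Nat.ble (nat_lit 1669) i))
noncomputable def t1670_1672 (i : ℕ) : ℕ := (@Bool.rec (fun _ => ℕ) l1670 l1671 (Nat.ble (nat_lit 1671) i))
noncomputable def t1672_1674 (i : ℕ) : ℕ := (@Bool.rec (fun _ => ℕ) l1672 l1673 (Nat.ble (nat_lit 1673) i))
noncomputable def t1674_1677 (i : ℕ) : ℕ := (@Bool.rec (fun _ => ℕ) l1674 (@Bool.rec (fun _ => ℕ) l1675 l1676 (Nat.ble (nat_lit 1676) i)) (Nat.ble (nat_lit 1675) i))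
noncomputable def t1677_1679 (i : ℕ) : ℕ := (@Bool.rec (fun _ => ℕ) l1677 l1678 (Nat.ble (nat_lit 1678) i))
noncomputable def t1679_1682 (i : ℕ) : ℕ := (@Bool.rec (fun _ => ℕ) l1679 (@Bool.rec (fun _ => ℕ) l1680 l1681 (Nat.ble (nat_lit 1681) i)) (Nat.ble (nat_lit 1680) i))
noncomputable def t1682_1684 (i : ℕ) : ℕ := (@Bool.rec (fun _ => ℕ) l1682 l1683 (Nat.ble (nat_lit 1683) i))
noncomputable def t1684_1687 (i : ℕ) : ℕ := (@Bool.rec (fun _ => ℕ) l1684 (@Bool.rec (fun _ => ℕ) l1685 l1686 (Nat.ble (nat_lit 1686) i)) (Nat.ble (nat_lit 1685) i))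
noncomputable def t1668_1687 (i : ℕ) : ℕ := (@Bool.rec (fun _ => ℕ) (@Bool.rec (fun _ => ℕ) (@Bool.rec (fun _ => ℕ) (t1668_1670 i) (t1670_1672 i) (Nat.ble (nat_lit 1670) i)) (@Bool.rec (fun _ => ℕ) (t1672_1674 i) (t1674_1677 i) (Nat.ble (nat_lit 1674) i)) (Nat.ble (nat_lit 1672) i)) (@Bool.rec (fun _ => ℕ) (@Bool.rec (fun _ => ℕ) (t1677_1679 i) (t1679_1682 i) (Nat.ble (nat_lit 1679) i)) (@Bool.rec (fun _ => ℕ) (t1682_1684 i) (t1684_1687 i) (Nat.ble (nat_lit 1684) i)) (Nat.ble (nat_lit 1682) i)) (Nat.ble (nat_lit 1677) i))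
noncomputable def t1687_1689 (i : ℕ) : ℕ := (@Bool.rec (fun _ => ℕ) l1687 l1688 (Nat.ble (nat_lit 1688) i))
noncomputable def t1689_1691 (i : ℕ) : ℕ := (@Bool.rec (fun _ => ℕ) l1689 l1690 (Nat.ble (nat_lit 1690) i))
noncomputable def t1691_1693 (i : ℕ) : ℕ := (@Bool.rec (fun _ => ℕ) l1691 l1692 (Nat.ble (nat_lit 1692) i))
noncomputable def t1693_1696 (i : ℕ) : ℕ := (@Bool.rec (fun _ => ℕ) l1693 (@Bool.rec (fun _ => ℕ) l1694 l1695 (Nat.ble (nat_lit 1695) i)) (Nat.ble (nat_lit 1694) i))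
noncomputable def t1696_1698 (i : ℕ) : ℕ := (@Bool.rec (fun _ => ℕ) l1696 l1697 (Nat.ble (nat_lit 1697) i))
noncomputable def t1698_1701 (i : ℕ) : ℕ := (@Bool.rec (fun _ => ℕ) l1698 (@Bool.rec (fun _ => ℕ) l1699 l1700 (Nat.ble (nat_lit 1700) i)) (Nat.ble (nat_lit 1699) i))
noncomputable def t1701_1703 (i : ℕ) : ℕ := (@Bool.rec (fun _ => ℕ) l1701 l1702 (Nat.ble (nat_lit 1702) i))
noncomputable def t1703_1706 (i : ℕ) : ℕ := (@Bool.rec (fun _ => ℕ) l1703 (@Bool.rec (fun _ => ℕ) l1704 l1705 (Nat.ble (nat_lit 1705) i)) (Nat.ble (nat_lit 1704) i))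
noncomputable def t1687_1706 (i : ℕ) : ℕ := (@Bool.rec (fun _ => ℕ) (@Bool.rec (fun _ => ℕ) (@Bool.rec (fun _ => ℕ) (t1687_1689 i) (t1689_1691 i) (Nat.ble (nat_lit 1689) i)) (@Bool.rec (fun _ => ℕ) (t1691_1693 i) (t1693_1696 i) (Nat.ble (nat_lit 1693) i)) (Nat.ble (nat_lit 1691) i)) (@Bool.rec (fun _ => ℕ) (@Bool.rec (fun _ => ℕ) (t1696_1698 i) (t1698_1701 i) (Nat.ble (nat_lit 1698) i)) (@Bool.rec (fun _ => ℕ) (t1701_1703 i) (t1703_1706 i) (Nat.ble (nat_lit 1703) i)) (Nat.ble (nat_lit 1701) i)) (Nat.ble (nat_lit 1696) i))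
noncomputable def t1706_1708 (i : ℕ) : ℕ := (@Bool.rec (fun _ => ℕ) l1706 l1707 (Nat.ble (nat_lit 1707) i))
noncomputable def t1708_1710 (i : ℕ) : ℕ := (@Bool.rec (fun _ => ℕ) l1708 l1709 (Nat.ble (nat_lit 1709) i))
noncomputable def t1710_1712 (i : ℕ) : ℕ := (@Bool.rec (fun _ => ℕ) l1710 l1711 (Nat.ble (nat_lit 1711) i))
noncomputable def t1712_1715 (i : ℕ) : ℕ := (@Bool.rec (fun _ => ℕ) l1712 (@Bool.rec (fun _ => ℕ) l1713 l1714 (Nat.ble (nat_lit 1714) i)) (Nat.ble (nat_lit 1713) i))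
noncomputable def t1715_1717 (i : ℕ) : ℕ := (@Bool.rec (fun _ => ℕ) l1715 l1716 (Nat.ble (nat_lit 1716) i))
noncomputable def t1717_1720 (i : ℕ) : ℕ := (@Bool.rec (fun _ => ℕ) l1717 (@Bool.rec (fun _ => ℕ) l1718 l1719 (Nat.ble (nat_lit 1719) i)) (Nat.ble (nat_lit 1718) i))
noncomputable def t1720_1722 (i : ℕ) : ℕ := (@Bool.rec (fun _ => ℕ) l1720 l1721 (Nat.ble (nat_lit 1721) i))
noncomputable def t1722_1725 (i : ℕ) : ℕ := (@Bool.rec (fun _ => ℕ) l1722 (@Bool.rec (fun _ => ℕ) l1723 l1724 (Nat.ble (nat_lit 1724) i)) (Nat.ble (nat_lit 1723) i))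
noncomputable def t1706_1725 (i : ℕ) : ℕ := (@Bool.rec (fun _ => ℕ) (@Bool.rec (fun _ => ℕ) (@Bool.rec (fun _ => ℕ) (t1706_1708 i) (t1708_1710 i) (Nat.ble (nat_lit 1708) i)) (@Bool.rec (fun _ => ℕ) (t1710_1712 i) (t1712_1715 i) (Nat.ble (nat_lit 1712) i)) (Nat.ble (nat_lit 1710) i)) (@Bool.rec (fun _ => ℕ) (@Bool.rec (fun _ => ℕ) (t1715_1717 i) (t1717_1720 i) (Nat.ble (nat_lit 1717) i)) (@Bool.rec (fun _ => ℕ) (t1720_1722 i) (t1722_1725 i) (Nat.ble (nat_lit 1722) i)) (Nat.ble (nat_lit 1720) i)) (Nat.ble (nat_lit 1715) i))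
noncomputable def t1725_1727 (i : ℕ) : ℕ := (@Bool.rec (fun _ => ℕ) l1725 l1726 (Nat.ble (nat_lit 1726) i))
noncomputable def t1727_1729 (i : ℕ) : ℕ := (@Bool.rec (fun _ => ℕ) l1727 l1728 (Nat.ble (nat_lit 1728) i))
noncomputable def t1729_1731 (i : ℕ) : ℕ := (@Bool.rec (fun _ => ℕ) l1729 l1730 (Nat.ble (nat_lit 1730) i))
noncomputable def t1731_1734 (i : ℕ) : ℕ := (@Bool.rec (fun _ => ℕ) l1731 (@Bool.rec (fun _ => ℕ) l1732 l1733 (Nat.ble (nat_lit 1733) i)) (Nat.ble (nat_lit 1732) i))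
noncomputable def t1734_1736 (i : ℕ) : ℕ := (@Bool.rec (fun _ => ℕ) l1734 l1735 (Nat.ble (nat_lit 1735) i))
noncomputable def t1736_1738 (i : ℕ) : ℕ := (@Bool.rec (fun _ => ℕ) l1736 l1737 (Nat.ble (nat_lit 1737) i))
noncomputable def t1738_1740 (i : ℕ) : ℕ := (@Bool.rec (fun _ => ℕ) l1738 l1739 (Nat.ble (nat_lit 1739) i))
noncomputable def t1740_1743 (i : ℕ) : ℕ := (@Bool.rec (fun _ => ℕ) l1740 (@Bool.rec (fun _ => ℕ) l1741 l1742 (Nat.ble (nat_lit 1742) i)) (Nat.ble (nat_lit 1741) i))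
noncomputable def t1725_1743 (i : ℕ) : ℕ := (@Bool.rec (fun _ => ℕ) (@Bool.rec (fun _ => ℕ) (@Bool.rec (fun _ => ℕ) (t1725_1727 i) (t1727_1729 i) (Nat.ble (nat_lit 1727) i)) (@Bool.rec (fun _ => ℕ) (t1729_1731 i) (t1731_1734 i) (Nat.ble (nat_lit 1731) i)) (Nat.ble (nat_lit 1729) i)) (@Bool.rec (fun _ => ℕ) (@Bool.rec (fun _ => ℕ) (t1734_1736 i) (t1736_1738 i) (Nat.ble (nat_lit 1736) i)) (@Bool.rec (fun _ => ℕ) (t1738_1740 i) (t1740_1743 i) (Nat.ble (nat_lit 1740) i)) (Nat.ble (nat_lit 1738) i)) (Nat.ble (nat_lit 1734) i))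
noncomputable def t1743_1745 (i : ℕ) : ℕ := (@Bool.rec (fun _ => ℕ) l1743 l1744 (Nat.ble (nat_lit 1744) i))
noncomputable def t1745_1747 (i : ℕ) : ℕ := (@Bool.rec (fun _ => ℕ) l1745 l1746 (Nat.ble (nat_lit 1746) i))
noncomputable def t1747_1749 (i : ℕ) : ℕ := (@Bool.rec (fun _ => ℕ) l1747 l1748 (Nat.ble (nat_lit 1748) i))
noncomputable def t1749_1752 (i : ℕ) : ℕ := (@Bool.rec (fun _ => ℕ) l1749 (@Bool.rec (fun _ => ℕ) l1750 l1751 (Nat.ble (nat_lit 1751) i)) (Nat.ble (nat_lit 1750) i))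
noncomputable def t1752_1754 (i : ℕ) : ℕ := (@Bool.rec (fun _ => ℕ) l1752 l1753 (Nat.ble (nat_lit 1753) i))
noncomputable def t1754_1757 (i : ℕ) : ℕ := (@Bool.rec (fun _ => ℕ) l1754 (@Bool.rec (fun _ => ℕ) l1755 l1756 (Nat.ble (nat_lit 1756) i)) (Nat.ble (nat_lit 1755) i))
noncomputable def t1757_1759 (i : ℕ) : ℕ := (@Bool.rec (fun _ => ℕ) l1757 l1758 (Nat.ble (nat_lit 1758) i))
noncomputable def t1759_1762 (i : ℕ) : ℕ := (@Bool.rec (fun _ => ℕ) l1759 (@Bool.rec (fun _ => ℕ) l1760 l1761 (Nat.ble (nat_lit 1761) i)) (Nat.ble (nat_lit 1760) i))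
noncomputable def t1743_1762 (i : ℕ) : ℕ := (@Bool.rec (fun _ => ℕ) (@Bool.rec (fun _ => ℕ) (@Bool.rec (fun _ => ℕ) (t1743_1745 i) (t1745_1747 i) (Nat.ble (nat_lit 1745) i)) (@Bool.rec (fun _ => ℕ) (t1747_1749 i) (t1749_1752 i) (Nat.ble (nat_lit 1749) i)) (Nat.ble (nat_lit 1747) i)) (@Bool.rec (fun _ => ℕ) (@Bool.rec (fun _ => ℕ) (t1752_1754 i) (t1754_1757 i) (Nat.ble (nat_lit 1754) i)) (@Bool.rec (fun _ => ℕ) (t1757_1759 i) (t1759_1762 i) (Nat.ble (nat_lit 1759) i)) (Nat.ble (nat_lit 1757) i)) (Nat.ble (nat_lit 1752) i))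
noncomputable def t1762_1764 (i : ℕ) : ℕ := (@Bool.rec (fun _ => ℕ) l1762 l1763 (Nat.ble (nat_lit 1763) i))
noncomputable def t1764_1766 (i : ℕ) : ℕ := (@Bool.rec (fun _ => ℕ) l1764 l1765 (Nat.ble (nat_lit 1765) i))
noncomputable def t1766_1768 (i : ℕ) : ℕ := (@Bool.rec (fun _ => ℕ) l1766 l1767 (Nat.ble (nat_lit 1767) i))
noncomputable def t1768_1771 (i : ℕ) : ℕ := (@Bool.rec (fun _ => ℕ) l1768 (@Bool.rec (fun _ => ℕ) l1769 l1770 (Nat.ble (nat_lit 1770) i)) (Nat.ble (nat_lit 1769) i))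
noncomputable def t1771_1773 (i : ℕ) : ℕ := (@Bool.rec (fun _ => ℕ) l1771 l1772 (Nat.ble (nat_lit 1772) i))
noncomputable def t1773_1776 (i : ℕ) : ℕ := (@Bool.rec (fun _ => ℕ) l1773 (@Bool.rec (fun _ => ℕ) l1774 l1775 (Nat.ble (nat_lit 1775) i)) (Nat.ble (nat_lit 1774) i))
noncomputable def t1776_1778 (i : ℕ) : ℕ := (@Bool.rec (fun _ => ℕ) l1776 l1777 (Nat.ble (nat_lit 1777) i))
noncomputable def t1778_1781 (i : ℕ) : ℕ := (@Bool.rec (fun _ => ℕ) l1778 (@Bool.rec (fun _ => ℕ) l1779 l1780 (Nat.ble (nat_lit 1780) i)) (Nat.ble (nat_lit 1779) i))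
noncomputable def t1762_1781 (i : ℕ) : ℕ := (@Bool.rec (fun _ => ℕ) (@Bool.rec (fun _ => ℕ) (@Bool.rec (fun _ => ℕ) (t1762_1764 i) (t1764_1766 i) (Nat.ble (nat_lit 1764) i)) (@Bool.rec (fun _ => ℕ) (t1766_1768 i) (t1768_1771 i) (Nat.ble (nat_lit 1768) i)) (Nat.ble (nat_lit 1766) i)) (@Bool.rec (fun _ => ℕ) (@Bool.rec (fun _ => ℕ) (t1771_1773 i) (t1773_1776 i) (Nat.ble (nat_lit 1773) i)) (@Bool.rec (fun _ => ℕ) (t1776_1778 i) (t1778_1781 i) (Nat.ble (nat_lit 1778) i)) (Nat.ble (nat_lit 1776) i)) (Nat.ble (nat_lit 1771) i))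
noncomputable def t1781_1783 (i : ℕ) : ℕ := (@Bool.rec (fun _ => ℕ) l1781 l1782 (Nat.ble (nat_lit 1782) i))
noncomputable def t1783_1785 (i : ℕ) : ℕ := (@Bool.rec (fun _ => ℕ) l1783 l1784 (Nat.ble (nat_lit 1784) i))
noncomputable def t1785_1787 (i : ℕ) : ℕ := (@Bool.rec (fun _ => ℕ) l1785 l1786 (Nat.ble (nat_lit 1786) i))
noncomputable def t1787_1790 (i : ℕ) : ℕ := (@Bool.rec (fun _ => ℕ) l1787 (@Bool.rec (fun _ => ℕ) l1788 l1789 (Nat.ble (nat_lit 1789) i)) (Nat.ble (nat_lit 1788) i))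
noncomputable def t1790_1792 (i : ℕ) : ℕ := (@Bool.rec (fun _ => ℕ) l1790 l1791 (Nat.ble (nat_lit 1791) i))
noncomputable def t1792_1795 (i : ℕ) : ℕ := (@Bool.rec (fun _ => ℕ) l1792 (@Bool.rec (fun _ => ℕ) l1793 l1794 (Nat.ble (nat_lit 1794) i)) (Nat.ble (nat_lit 1793) i))
noncomputable def t1795_1797 (i : ℕ) : ℕ := (@Bool.rec (fun _ => ℕ) l1795 l1796 (Nat.ble (nat_lit 1796) i))
noncomputable def t1797_1800 (i : ℕ) : ℕ := (@Bool.rec (fun _ => ℕ) l1797 (@Bool.rec (fun _ => ℕ) l1798 l1799 (Nat.ble (nat_lit 1799) i)) (Nat.ble (nat_lit 1798) i))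
noncomputable def t1781_1800 (i : ℕ) : ℕ := (@Bool.rec (fun _ => ℕ) (@Bool.rec (fun _ => ℕ) (@Bool.rec (fun _ => ℕ) (t1781_1783 i) (t1783_1785 i) (Nat.ble (nat_lit 1783) i)) (@Bool.rec (fun _ => ℕ) (t1785_1787 i) (t1787_1790 i) (Nat.ble (nat_lit 1787) i)) (Nat.ble (nat_lit 1785) i)) (@Bool.rec (fun _ => ℕ) (@Bool.rec (fun _ => ℕ) (t1790_1792 i) (t1792_1795 i) (Nat.ble (nat_lit 1792) i)) (@Bool.rec (fun _ => ℕ) (t1795_1797 i) (t1797_1800 i) (Nat.ble (nat_lit 1797) i)) (Nat.ble (nat_lit 1795) i)) (Nat.ble (nat_lit 1790) i))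
noncomputable def t1650_1800 (i : ℕ) : ℕ := (@Bool.rec (fun _ => ℕ) (@Bool.rec (fun _ => ℕ) (@Bool.rec (fun _ => ℕ) (t1650_1668 i) (t1668_1687 i) (Nat.ble (nat_lit 1668) i)) (@Bool.rec (fun _ => ℕ) (t1687_1706 i) (t1706_1725 i) (Nat.ble (nat_lit 1706) i)) (Nat.ble (nat_lit 1687) i)) (@Bool.rec (fun _ => ℕ) (@Bool.rec (fun _ => ℕ) (t1725_1743 i) (t1743_1762 i) (Nat.ble (nat_lit 1743) i)) (@Bool.rec (fun _ => ℕ) (t1762_1781 i) (t1781_1800 i) (Nat.ble (nat_lit 1781) i)) (Nat.ble (nat_lit 1762) i)) (Nat.ble (nat_lit 1725) i))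
noncomputable def t1800_1802 (i : ℕ) : ℕ := (@Bool.rec (fun _ => ℕ) l1800 l1801 (Nat.ble (nat_lit 1801) i))
noncomputable def t1802_1804 (i : ℕ) : ℕ := (@Bool.rec (fun _ => ℕ) l1802 l1803 (Nat.ble (nat_lit 1803) i))
noncomputable def t1804_1806 (i : ℕ) : ℕ := (@Bool.rec (fun _ => ℕ) l1804 l1805 (Nat.ble (nat_lit 1805) i))
noncomputable def t1806_1809 (i : ℕ) : ℕ := (@Bool.rec (fun _ => ℕ) l1806 (@Bool.rec (fun _ => ℕ) l1807 l1808 (Nat.ble (nat_lit 1808) i)) (Nat.ble (nat_lit 1807) i))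
noncomputable def t1809_1811 (i : ℕ) : ℕ := (@Bool.rec (fun _ => ℕ) l1809 l1810 (Nat.ble (nat_lit 1810) i))
noncomputable def t1811_1813 (i : ℕ) : ℕ := (@Bool.rec (fun _ => ℕ) l1811 l1812 (Nat.ble (nat_lit 1812) i))
noncomputable def t1813_1815 (i : ℕ) : ℕ := (@Bool.rec (fun _ => ℕ) l1813 l1814 (Nat.ble (nat_lit 1814) i))
noncomputable def t1815_1818 (i : ℕ) : ℕ := (@Bool.rec (fun _ => ℕ) l1815 (@Bool.rec (fun _ => ℕ) l1816 l1817 (Nat.ble (nat_lit 1817) i)) (Nat.ble (nat_lit 1816) i))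
noncomputable def t1800_1818 (i : ℕ) : ℕ := (@Bool.rec (fun _ => ℕ) (@Bool.rec (fun _ => ℕ) (@Bool.rec (fun _ => ℕ) (t1800_1802 i) (t1802_1804 i) (Nat.ble (nat_lit 1802) i)) (@Bool.rec (fun _ => ℕ) (t1804_1806 i) (t1806_1809 i) (Nat.ble (nat_lit 1806) i)) (Nat.ble (nat_lit 1804) i)) (@Bool.rec (fun _ => ℕ) (@Bool.rec (fun _ => ℕ) (t1809_1811 i) (t1811_1813 i) (Nat.ble (nat_lit 1811) i)) (@Bool.rec (fun _ => ℕ) (t1813_1815 i) (t1815_1818 i) (Nat.ble (nat_lit 1815) i)) (Nat.ble (nat_lit 1813) i)) (Nat.ble (nat_lit 1809) i))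
noncomputable def t1818_1820 (i : ℕ) : ℕ := (@Bool.rec (fun _ => ℕ) l1818 l1819 (Nat.ble (nat_lit 1819) i))
noncomputable def t1820_1822 (i : ℕ) : ℕ := (@Bool.rec (fun _ => ℕ) l1820 l1821 (Nat.ble (nat_lit 1821) i))
noncomputable def t1822_1824 (i : ℕ) : ℕ := (@Bool.rec (fun _ => ℕ) l1822 l1823 (Nat.ble (nat_lit 1823) i))
noncomputable def t1824_1827 (i : ℕ) : ℕ := (@Bool.rec (fun _ => ℕ) l1824 (@Bool.rec (fun _ => ℕ) l1825 l1826 (Nat.ble (nat_lit 1826) i)) (Nat.ble (nat_lit 1825) i))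
noncomputable def t1827_1829 (i : ℕ) : ℕ := (@Bool.rec (fun _ => ℕ) l1827 l1828 (Nat.ble (nat_lit 1828) i))
noncomputable def t1829_1832 (i : ℕ) : ℕ := (@Bool.rec (fun _ => ℕ) l1829 (@Bool.rec (fun _ => ℕ) l1830 l1831 (Nat.ble (nat_lit 1831) i)) (Nat.ble (nat_lit 1830) i))
noncomputable def t1832_1834 (i : ℕ) : ℕ := (@Bool.rec (fun _ => ℕ) l1832 l1833 (Nat.ble (nat_lit 1833) i))
noncomputable def t1834_1837 (i : ℕ) : ℕ := (@Bool.rec (fun _ => ℕ) l1834 (@Bool.rec (fun _ => ℕ) l1835 l1836 (Nat.ble (nat_lit 1836) i)) (Nat.ble (nat_lit 1835) i))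
noncomputable def t1818_1837 (i : ℕ) : ℕ := (@Bool.rec (fun _ => ℕ) (@Bool.rec (fun _ => ℕ) (@Bool.rec (fun _ => ℕ) (t1818_1820 i) (t1820_1822 i) (Nat.ble (nat_lit 1820) i)) (@Bool.rec (fun _ => ℕ) (t1822_1824 i) (t1824_1827 i) (Nat.ble (nat_lit 1824) i)) (Nat.ble (nat_lit 1822) i)) (@Bool.rec (fun _ => ℕ) (@Bool.rec (fun _ => ℕ) (t1827_1829 i) (t1829_1832 i) (Nat.ble (nat_lit 1829) i)) (@Bool.rec (fun _ => ℕ) (t1832_1834 i) (t1834_1837 i) (Nat.ble (nat_lit 1834) i)) (Nat.ble (nat_lit 1832) i)) (Nat.ble (nat_lit 1827) i))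
noncomputable def t1837_1839 (i : ℕ) : ℕ := (@Bool.rec (fun _ => ℕ) l1837 l1838 (Nat.ble (nat_lit 1838) i))
noncomputable def t1839_1841 (i : ℕ) : ℕ := (@Bool.rec (fun _ => ℕ) l1839 l1840 (Nat.ble (nat_lit 1840) i))
noncomputable def t1841_1843 (i : ℕ) : ℕ := (@Bool.rec (fun _ => ℕ) l1841 l1842 (Nat.ble (nat_lit 1842) i))
noncomputable def t1843_1846 (i : ℕ) : ℕ := (@Bool.rec (fun _ => ℕ) l1843 (@Bool.rec (fun _ => ℕ) l1844 l1845 (Nat.ble (nat_lit 1845) i)) (Nat.ble (nat_lit 1844) i))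
noncomputable def t1846_1848 (i : ℕ) : ℕ := (@Bool.rec (fun _ => ℕ) l1846 l1847 (Nat.ble (nat_lit 1847) i))
noncomputable def t1848_1851 (i : ℕ) : ℕ := (@Bool.rec (fun _ => ℕ) l1848 (@Bool.rec (fun _ => ℕ) l1849 l1850 (Nat.ble (nat_lit 1850) i)) (Nat.ble (nat_lit 1849) i))
noncomputable def t1851_1853 (i : ℕ) : ℕ := (@Bool.rec (fun _ => ℕ) l1851 l1852 (Nat.ble (nat_lit 1852) i))
noncomputable def t1853_1856 (i : ℕ) : ℕ := (@Bool.rec (fun _ => ℕ) l1853 (@Bool.rec (fun _ => ℕ) l1854 l1855 (Nat.ble (nat_lit 1855) i)) (Nat.ble (nat_lit 1854) i))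
noncomputable def t1837_1856 (i : ℕ) : ℕ := (@Bool.rec (fun _ => ℕ) (@Bool.rec (fun _ => ℕ) (@Bool.rec (fun _ => ℕ) (t1837_1839 i) (t1839_1841 i) (Nat.ble (nat_lit 1839) i)) (@Bool.rec (fun _ => ℕ) (t1841_1843 i) (t1843_1846 i) (Nat.ble (nat_lit 1843) i)) (Nat.ble (nat_lit 1841) i)) (@Bool.rec (fun _ => ℕ) (@Bool.rec (fun _ => ℕ) (t1846_1848 i) (t1848_1851 i) (Nat.ble (nat_lit 1848) i)) (@Bool.rec (fun _ => ℕ) (t1851_1853 i) (t1853_1856 i) (Nat.ble (nat_lit 1853) i)) (Nat.ble (nat_lit 1851) i)) (Nat.ble (nat_lit 1846) i))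
noncomputable def t1856_1858 (i : ℕ) : ℕ := (@Bool.rec (fun _ => ℕ) l1856 l1857 (Nat.ble (nat_lit 1857) i))
noncomputable def t1858_1860 (i : ℕ) : ℕ := (@Bool.rec (fun _ => ℕ) l1858 l1859 (Nat.ble (nat_lit 1859) i))
noncomputable def t1860_1862 (i : ℕ) : ℕ := (@Bool.rec (fun _ => ℕ) l1860 l1861 (Nat.ble (nat_lit 1861) i))
noncomputable def t1862_1865 (i : ℕ) : ℕ := (@Bool.rec (fun _ => ℕ) l1862 (@Bool.rec (fun _ => ℕ) l1863 l1864 (Nat.ble (nat_lit 1864) i)) (Nat.ble (nat_lit 1863) i))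
noncomputable def t1865_1867 (i : ℕ) : ℕ := (@Bool.rec (fun _ => ℕ) l1865 l1866 (Nat.ble (nat_lit 1866) i))
noncomputable def t1867_1870 (i : ℕ) : ℕ := (@Bool.rec (fun _ => ℕ) l1867 (@Bool.rec (fun _ => ℕ) l1868 l1869 (Nat.ble (nat_lit 1869) i)) (Nat.ble (nat_lit 1868) i))
noncomputable def t1870_1872 (i : ℕ) : ℕ := (@Bool.rec (fun _ => ℕ) l1870 l1871 (Nat.ble (nat_lit 1871) i))
noncomputable def t1872_1875 (i : ℕ) : ℕ := (@Bool.rec (fun _ => ℕ) l1872 (@Bool.rec (fun _ => ℕ) l1873 l1874 (Nat.ble (nat_lit 1874) i)) (Nat.ble (nat_lit 1873) i))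
noncomputable def t1856_1875 (i : ℕ) : ℕ := (@Bool.rec (fun _ => ℕ) (@Bool.rec (fun _ => ℕ) (@Bool.rec (fun _ => ℕ) (t1856_1858 i) (t1858_1860 i) (Nat.ble (nat_lit 1858) i)) (@Bool.rec (fun _ => ℕ) (t1860_1862 i) (t1862_1865 i) (Nat.ble (nat_lit 1862) i)) (Nat.ble (nat_lit 1860) i)) (@Bool.rec (fun _ => ℕ) (@Bool.rec (fun _ => ℕ) (t1865_1867 i) (t1867_1870 i) (Nat.ble (nat_lit 1867) i)) (@Bool.rec (fun _ => ℕ) (t1870_1872 i) (t1872_1875 i) (Nat.ble (nat_lit 1872) i)) (Nat.ble (nat_lit 1870) i)) (Nat.ble (nat_lit 1865) i))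
noncomputable def t1875_1877 (i : ℕ) : ℕ := (@Bool.rec (fun _ => ℕ) l1875 l1876 (Nat.ble (nat_lit 1876) i))
noncomputable def t1877_1879 (i : ℕ) : ℕ := (@Bool.rec (fun _ => ℕ) l1877 l1878 (Nat.ble (nat_lit 1878) i))
noncomputable def t1879_1881 (i : ℕ) : ℕ := (@Bool.rec (fun _ => ℕ) l1879 l1880 (Nat.ble (nat_lit 1880) i))
noncomputable def t1881_1884 (i : ℕ) : ℕ := (@Bool.rec (fun _ => ℕ) l1881 (@Bool.rec (fun _ => ℕ) l1882 l1883 (Nat.ble (nat_lit 1883) i)) (Nat.ble (nat_lit 1882) i))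
noncomputable def t1884_1886 (i : ℕ) : ℕ := (@Bool.rec (fun _ => ℕ) l1884 l1885 (Nat.ble (nat_lit 1885) i))
noncomputable def t1886_1888 (i : ℕ) : ℕ := (@Bool.rec (fun _ => ℕ) l1886 l1887 (Nat.ble (nat_lit 1887) i))
noncomputable def t1888_1890 (i : ℕ) : ℕ := (@Bool.rec (fun _ => ℕ) l1888 l1889 (Nat.ble (nat_lit 1889) i))
noncomputable def t1890_1893 (i : ℕ) : ℕ := (@Bool.rec (fun _ => ℕ) l1890 (@Bool.rec (fun _ => ℕ) l1891 l1892 (Nat.ble (nat_lit 1892) i)) (Nat.ble (nat_lit 1891) i))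
noncomputable def t1875_1893 (i : ℕ) : ℕ := (@Bool.rec (fun _ => ℕ) (@Bool.rec (fun _ => ℕ) (@Bool.rec (fun _ => ℕ) (t1875_1877 i) (t1877_1879 i) (Nat.ble (nat_lit 1877) i)) (@Bool.rec (fun _ => ℕ) (t1879_1881 i) (t1881_1884 i) (Nat.ble (nat_lit 1881) i)) (Nat.ble (nat_lit 1879) i)) (@Bool.rec (fun _ => ℕ) (@Bool.rec (fun _ => ℕ) (t1884_1886 i) (t1886_1888 i) (Nat.ble (nat_lit 1886) i)) (@Bool.rec (fun _ => ℕ) (t1888_1890 i) (t1890_1893 i) (Nat.ble (nat_lit 1890) i)) (Nat.ble (nat_lit 1888) i)) (Nat.ble (nat_lit 1884) i))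
noncomputable def t1893_1895 (i : ℕ) : ℕ := (@Bool.rec (fun _ => ℕ) l1893 l1894 (Nat.ble (nat_lit 1894) i))
noncomputable def t1895_1897 (i : ℕ) : ℕ := (@Bool.rec (fun _ => ℕ) l1895 l1896 (Nat.ble (nat_lit 1896) i))
noncomputable def t1897_1899 (i : ℕ) : ℕ := (@Bool.rec (fun _ => ℕ) l1897 l1898 (Nat.ble (nat_lit 1898) i))
noncomputable def t1899_1902 (i : ℕ) : ℕ := (@Bool.rec (fun _ => ℕ) l1899 (@Bool.rec (fun _ => ℕ) l1900 l1901 (Nat.ble (nat_lit 1901) i)) (Nat.ble (nat_lit 1900) i))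
noncomputable def t1902_1904 (i : ℕ) : ℕ := (@Bool.rec (fun _ => ℕ) l1902 l1903 (Nat.ble (nat_lit 1903) i))
noncomputable def t1904_1907 (i : ℕ) : ℕ := (@Bool.rec (fun _ => ℕ) l1904 (@Bool.rec (fun _ => ℕ) l1905 l1906 (Nat.ble (nat_lit 1906) i)) (Nat.ble (nat_lit 1905) i))
noncomputable def t1907_1909 (i : ℕ) : ℕ := (@Bool.rec (fun _ => ℕ) l1907 l1908 (Nat.ble (nat_lit 1908) i))
noncomputable def t1909_1912 (i : ℕ) : ℕ := (@Bool.rec (fun _ => ℕ) l1909 (@Bool.rec (fun _ => ℕ) l1910 l1911 (Nat.ble (nat_lit 1911) i)) (Nat.ble (nat_lit 1910) i))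
noncomputable def t1893_1912 (i : ℕ) : ℕ := (@Bool.rec (fun _ => ℕ) (@Bool.rec (fun _ => ℕ) (@Bool.rec (fun _ => ℕ) (t1893_1895 i) (t1895_1897 i) (Nat.ble (nat_lit 1895) i)) (@Bool.rec (fun _ => ℕ) (t1897_1899 i) (t1899_1902 i) (Nat.ble (nat_lit 1899) i)) (Nat.ble (nat_lit 1897) i)) (@Bool.rec (fun _ => ℕ) (@Bool.rec (fun _ => ℕ) (t1902_1904 i) (t1904_1907 i) (Nat.ble (nat_lit 1904) i)) (@Bool.rec (fun _ => ℕ) (t1907_1909 i) (t1909_1912 i) (Nat.ble (nat_lit 1909) i)) (Nat.ble (nat_lit 1907) i)) (Nat.ble (nat_lit 1902) i))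
noncomputable def t1912_1914 (i : ℕ) : ℕ := (@Bool.rec (fun _ => ℕ) l1912 l1913 (Nat.ble (nat_lit 1913) i))
noncomputable def t1914_1916 (i : ℕ) : ℕ := (@Bool.rec (fun _ => ℕ) l1914 l1915 (Nat.ble (nat_lit 1915) i))
noncomputable def t1916_1918 (i : ℕ) : ℕ := (@Bool.rec (fun _ => ℕ) l1916 l1917 (Nat.ble (nat_lit 1917) i))
noncomputable def t1918_1921 (i : ℕ) : ℕ := (@Bool.rec (fun _ => ℕ) l1918 (@Bool.rec (fun _ => ℕ) l1919 l1920 (Nat.ble (nat_lit 1920) i)) (Nat.ble (nat_lit 1919) i))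
noncomputable def t1921_1923 (i : ℕ) : ℕ := (@Bool.rec (fun _ => ℕ) l1921 l1922 (Nat.ble (nat_lit 1922) i))
noncomputable def t1923_1926 (i : ℕ) : ℕ := (@Bool.rec (fun _ => ℕ) l1923 (@Bool.rec (fun _ => ℕ) l1924 l1925 (Nat.ble (nat_lit 1925) i)) (Nat.ble (nat_lit 1924) i))
noncomputable def t1926_1928 (i : ℕ) : ℕ := (@Bool.rec (fun _ => ℕ) l1926 l1927 (Nat.ble (nat_lit 1927) i))
noncomputable def t1928_1931 (i : ℕ) : ℕ := (@Bool.rec (fun _ => ℕ) l1928 (@Bool.rec (fun _ => ℕ) l1929 l1930 (Nat.ble (nat_lit 1930) i)) (Nat.ble (nat_lit 1929) i))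
noncomputable def t1912_1931 (i : ℕ) : ℕ := (@Bool.rec (fun _ => ℕ) (@Bool.rec (fun _ => ℕ) (@Bool.rec (fun _ => ℕ) (t1912_1914 i) (t1914_1916 i) (Nat.ble (nat_lit 1914) i)) (@Bool.rec (fun _ => ℕ) (t1916_1918 i) (t1918_1921 i) (Nat.ble (nat_lit 1918) i)) (Nat.ble (nat_lit 1916) i)) (@Bool.rec (fun _ => ℕ) (@Bool.rec (fun _ => ℕ) (t1921_1923 i) (t1923_1926 i) (Nat.ble (nat_lit 1923) i)) (@Bool.rec (fun _ => ℕ) (t1926_1928 i) (t1928_1931 i) (Nat.ble (nat_lit 1928) i)) (Nat.ble (nat_lit 1926) i)) (Nat.ble (nat_lit 1921) i))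
noncomputable def t1931_1933 (i : ℕ) : ℕ := (@Bool.rec (fun _ => ℕ) l1931 l1932 (Nat.ble (nat_lit 1932) i))
noncomputable def t1933_1935 (i : ℕ) : ℕ := (@Bool.rec (fun _ => ℕ) l1933 l1934 (Nat.ble (nat_lit 1934) i))
noncomputable def t1935_1937 (i : ℕ) : ℕ := (@Bool.rec (fun _ => ℕ) l1935 l1936 (Nat.ble (nat_lit 1936) i))
noncomputable def t1937_1940 (i : ℕ) : ℕ := (@Bool.rec (fun _ => ℕ) l1937 (@Bool.rec (fun _ => ℕ) l1938 l1939 (Nat.ble (nat_lit 1939) i)) (Nat.ble (nat_lit 1938) i))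
noncomputable def t1940_1942 (i : ℕ) : ℕ := (@Bool.rec (fun _ => ℕ) l1940 l1941 (Nat.ble (nat_lit 1941) i))
noncomputable def t1942_1945 (i : ℕ) : ℕ := (@Bool.rec (fun _ => ℕ) l1942 (@Bool.rec (fun _ => ℕ) l1943 l1944 (Nat.ble (nat_lit 1944) i)) (Nat.ble (nat_lit 1943) i))
noncomputable def t1945_1947 (i : ℕ) : ℕ := (@Bool.rec (fun _ => ℕ) l1945 l1946 (Nat.ble (nat_lit 1946) i))
noncomputable def t1947_1950 (i : ℕ) : ℕ := (@Bool.rec (fun _ => ℕ) l1947 (@Bool.rec (fun _ => ℕ) l1948 l1949 (Nat.ble (nat_lit 1949) i)) (Nat.ble (nat_lit 1948) i))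
noncomputable def t1931_1950 (i : ℕ) : ℕ := (@Bool.rec (fun _ => ℕ) (@Bool.rec (fun _ => ℕ) (@Bool.rec (fun _ => ℕ) (t1931_1933 i) (t1933_1935 i) (Nat.ble (nat_lit 1933) i)) (@Bool.rec (fun _ => ℕ) (t1935_1937 i) (t1937_1940 i) (Nat.ble (nat_lit 1937) i)) (Nat.ble (nat_lit 1935) i)) (@Bool.rec (fun _ => ℕ) (@Bool.rec (fun _ => ℕ) (t1940_1942 i) (t1942_1945 i) (Nat.ble (nat_lit 1942) i)) (@Bool.rec (fun _ => ℕ) (t1945_1947 i) (t1947_1950 i) (Nat.ble (nat_lit 1947) i)) (Nat.ble (nat_lit 1945) i)) (Nat.ble (nat_lit 1940) i))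
noncomputable def t1800_1950 (i : ℕ) : ℕ := (@Bool.rec (fun _ => ℕ) (@Bool.rec (fun _ => ℕ) (@Bool.rec (fun _ => ℕ) (t1800_1818 i) (t1818_1837 i) (Nat.ble (nat_lit 1818) i)) (@Bool.rec (fun _ => ℕ) (t1837_1856 i) (t1856_1875 i) (Nat.ble (nat_lit 1856) i)) (Nat.ble (nat_lit 1837) i)) (@Bool.rec (fun _ => ℕ) (@Bool.rec (fun _ => ℕ) (t1875_1893 i) (t1893_1912 i) (Nat.ble (nat_lit 1893) i)) (@Bool.rec (fun _ => ℕ) (t1912_1931 i) (t1931_1950 i) (Nat.ble (nat_lit 1931) i)) (Nat.ble (nat_lit 1912) i)) (Nat.ble (nat_lit 1875) i))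
noncomputable def t1950_1952 (i : ℕ) : ℕ := (@Bool.rec (fun _ => ℕ) l1950 l1951 (Nat.ble (nat_lit 1951) i))
noncomputable def t1952_1954 (i : ℕ) : ℕ := (@Bool.rec (fun _ => ℕ) l1952 l1953 (Nat.ble (nat_lit 1953) i))
noncomputable def t1954_1956 (i : ℕ) : ℕ := (@Bool.rec (fun _ => ℕ) l1954 l1955 (Nat.ble (nat_lit 1955) i))
noncomputable def t1956_1959 (i : ℕ) : ℕ := (@Bool.rec (fun _ => ℕ) l1956 (@Bool.rec (fun _ => ℕ) l1957 l1958 (Nat.ble (nat_lit 1958) i)) (Nat.ble (nat_lit 1957) i))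
noncomputable def t1959_1961 (i : ℕ) : ℕ := (@Bool.rec (fun _ => ℕ) l1959 l1960 (Nat.ble (nat_lit 1960) i))
noncomputable def t1961_1963 (i : ℕ) : ℕ := (@Bool.rec (fun _ => ℕ) l1961 l1962 (Nat.ble (nat_lit 1962) i))
noncomputable def t1963_1965 (i : ℕ) : ℕ := (@Bool.rec (fun _ => ℕ) l1963 l1964 (Nat.ble (nat_lit 1964) i))
noncomputable def t1965_1968 (i : ℕ) : ℕ := (@Bool.rec (fun _ => ℕ) l1965 (@Bool.rec (fun _ => ℕ) l1966 l1967 (Nat.ble (nat_lit 1967) i)) (Nat.ble (nat_lit 1966) i))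
noncomputable def t1950_1968 (i : ℕ) : ℕ := (@Bool.rec (fun _ => ℕ) (@Bool.rec (fun _ => ℕ) (@Bool.rec (fun _ => ℕ) (t1950_1952 i) (t1952_1954 i) (Nat.ble (nat_lit 1952) i)) (@Bool.rec (fun _ => ℕ) (t1954_1956 i) (t1956_1959 i) (Nat.ble (nat_lit 1956) i)) (Nat.ble (nat_lit 1954) i)) (@Bool.rec (fun _ => ℕ) (@Bool.rec (fun _ => ℕ) (t1959_1961 i) (t1961_1963 i) (Nat.ble (nat_lit 1961) i)) (@Bool.rec (fun _ => ℕ) (t1963_1965 i) (t1965_1968 i) (Nat.ble (nat_lit 1965) i)) (Nat.ble (nat_lit 1963) i)) (Nat.ble (nat_lit 1959) i))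
noncomputable def t1968_1970 (i : ℕ) : ℕ := (@Bool.rec (fun _ => ℕ) l1968 l1969 (Nat.ble (nat_lit 1969) i))
noncomputable def t1970_1972 (i : ℕ) : ℕ := (@Bool.rec (fun _ => ℕ) l1970 l1971 (Nat.ble (nat_lit 1971) i))
noncomputable def t1972_1974 (i : ℕ) : ℕ := (@Bool.rec (fun _ => ℕ) l1972 l1973 (Nat.ble (nat_lit 1973) i))
noncomputable def t1974_1977 (i : ℕ) : ℕ := (@Bool.rec (fun _ => ℕ) l1974 (@Bool.rec (fun _ => ℕ) l1975 l1976 (Nat.ble (nat_lit 1976) i)) (Nat.ble (nat_lit 1975) i))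
noncomputable def t1977_1979 (i : ℕ) : ℕ := (@Bool.rec (fun _ => ℕ) l1977 l1978 (Nat.ble (nat_lit 1978) i))
noncomputable def t1979_1982 (i : ℕ) : ℕ := (@Bool.rec (fun _ => ℕ) l1979 (@Bool.rec (fun _ => ℕ) l1980 l1981 (Nat.ble (nat_lit 1981) i)) (Nat.ble (nat_lit 1980) i))
noncomputable def t1982_1984 (i : ℕ) : ℕ := (@Bool.rec (fun _ => ℕ) l1982 l1983 (Nat.ble (nat_lit 1983) i))
noncomputable def t1984_1987 (i : ℕ) : ℕ := (@Bool.rec (fun _ => ℕ) l1984 (@Bool.rec (fun _ => ℕ) l1985 l1986 (Nat.ble (nat_lit 1986) i)) (Nat.ble (nat_lit 1985) i))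
noncomputable def t1968_1987 (i : ℕ) : ℕ := (@Bool.rec (fun _ => ℕ) (@Bool.rec (fun _ => ℕ) (@Bool.rec (fun _ => ℕ) (t1968_1970 i) (t1970_1972 i) (Nat.ble (nat_lit 1970) i)) (@Bool.rec (fun _ => ℕ) (t1972_1974 i) (t1974_1977 i) (Nat.ble (nat_lit 1974) i)) (Nat.ble (nat_lit 1972) i)) (@Bool.rec (fun _ => ℕ) (@Bool.rec (fun _ => ℕ) (t1977_1979 i) (t1979_1982 i) (Nat.ble (nat_lit 1979) i)) (@Bool.rec (fun _ => ℕ) (t1982_1984 i) (t1984_1987 i) (Nat.ble (nat_lit 1984) i)) (Nat.ble (nat_lit 1982) i)) (Nat.ble (nat_lit 1977) i))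
noncomputable def t1987_1989 (i : ℕ) : ℕ := (@Bool.rec (fun _ => ℕ) l1987 l1988 (Nat.ble (nat_lit 1988) i))
noncomputable def t1989_1991 (i : ℕ) : ℕ := (@Bool.rec (fun _ => ℕ) l1989 l1990 (Nat.ble (nat_lit 1990) i))
noncomputable def t1991_1993 (i : ℕ) : ℕ := (@Bool.rec (fun _ => ℕ) l1991 l1992 (Nat.ble (nat_lit 1992) i))
noncomputable def t1993_1996 (i : ℕ) : ℕ := (@Bool.rec (fun _ => ℕ) l1993 (@Bool.rec (fun _ => ℕ) l1994 l1995 (Nat.ble (nat_lit 1995) i)) (Nat.ble (nat_lit 1994) i))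
noncomputable def t1996_1998 (i : ℕ) : ℕ := (@Bool.rec (fun _ => ℕ) l1996 l1997 (Nat.ble (nat_lit 1997) i))
noncomputable def t1998_2001 (i : ℕ) : ℕ := (@Bool.rec (fun _ => ℕ) l1998 (@Bool.rec (fun _ => ℕ) l1999 l2000 (Nat.ble (nat_lit 2000) i)) (Nat.ble (nat_lit 1999) i))
noncomputable def t2001_2003 (i : ℕ) : ℕ := (@Bool.rec (fun _ => ℕ) l2001 l2002 (Nat.ble (nat_lit 2002) i))
noncomputable def t2003_2006 (i : ℕ) : ℕ := (@Bool.rec (fun _ => ℕ) l2003 (@Bool.rec (fun _ => ℕ) l2004 l2005 (Nat.ble (nat_lit 2005) i)) (Nat.ble (nat_lit 2004) i))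
noncomputable def t1987_2006 (i : ℕ) : ℕ := (@Bool.rec (fun _ => ℕ) (@Bool.rec (fun _ => ℕ) (@Bool.rec (fun _ => ℕ) (t1987_1989 i) (t1989_1991 i) (Nat.ble (nat_lit 1989) i)) (@Bool.rec (fun _ => ℕ) (t1991_1993 i) (t1993_1996 i) (Nat.ble (nat_lit 1993) i)) (Nat.ble (nat_lit 1991) i)) (@Bool.rec (fun _ => ℕ) (@Bool.rec (fun _ => ℕ) (t1996_1998 i) (t1998_2001 i) (Nat.ble (nat_lit 1998) i)) (@Bool.rec (fun _ => ℕ) (t2001_2003 i) (t2003_2006 i) (Nat.ble (nat_lit 2003) i)) (Nat.ble (nat_lit 2001) i)) (Nat.ble (nat_lit 1996) i))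
noncomputable def t2006_2008 (i : ℕ) : ℕ := (@Bool.rec (fun _ => ℕ) l2006 l2007 (Nat.ble (nat_lit 2007) i))
noncomputable def t2008_2010 (i : ℕ) : ℕ := (@Bool.rec (fun _ => ℕ) l2008 l2009 (Nat.ble (nat_lit 2009) i))
noncomputable def t2010_2012 (i : ℕ) : ℕ := (@Bool.rec (fun _ => ℕ) l2010 l2011 (Nat.ble (nat_lit 2011) i))
noncomputable def t2012_2015 (i : ℕ) : ℕ := (@Bool.rec (fun _ => ℕ) l2012 (@Bool.rec (fun _ => ℕ) l2013 l2014 (Nat.ble (nat_lit 2014) i)) (Nat.ble (nat_lit 2013) i))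
noncomputable def t2015_2017 (i : ℕ) : ℕ := (@Bool.rec (fun _ => ℕ) l2015 l2016 (Nat.ble (nat_lit 2016) i))
noncomputable def t2017_2020 (i : ℕ) : ℕ := (@Bool.rec (fun _ => ℕ) l2017 (@Bool.rec (fun _ => ℕ) l2018 l2019 (Nat.ble (nat_lit 2019) i)) (Nat.ble (nat_lit 2018) i))
noncomputable def t2020_2022 (i : ℕ) : ℕ := (@Bool.rec (fun _ => ℕ) l2020 l2021 (Nat.ble (nat_lit 2021) i))
noncomputable def t2022_2025 (i : ℕ) : ℕ := (@Bool.rec (fun _ => ℕ) l2022 (@Bool.rec (fun _ => ℕ) l2023 l2024 (Nat.ble (nat_lit 2024) i)) (Nat.ble (nat_lit 2023) i))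
noncomputable def t2006_2025 (i : ℕ) : ℕ := (@Bool.rec (fun _ => ℕ) (@Bool.rec (fun _ => ℕ) (@Bool.rec (fun _ => ℕ) (t2006_2008 i) (t2008_2010 i) (Nat.ble (nat_lit 2008) i)) (@Bool.rec (fun _ => ℕ) (t2010_2012 i) (t2012_2015 i) (Nat.ble (nat_lit 2012) i)) (Nat.ble (nat_lit 2010) i)) (@Bool.rec (fun _ => ℕ) (@Bool.rec (fun _ => ℕ) (t2015_2017 i) (t2017_2020 i) (Nat.ble (nat_lit 2017) i)) (@Bool.rec (fun _ => ℕ) (t2020_2022 i) (t2022_2025 i) (Nat.ble (nat_lit 2022) i)) (Nat.ble (nat_lit 2020) i)) (Nat.ble (nat_lit 2015) i))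
noncomputable def t2025_2027 (i : ℕ) : ℕ := (@Bool.rec (fun _ => ℕ) l2025 l2026 (Nat.ble (nat_lit 2026) i))
noncomputable def t2027_2029 (i : ℕ) : ℕ := (@Bool.rec (fun _ => ℕ) l2027 l2028 (Nat.ble (nat_lit 2028) i))
noncomputable def t2029_2031 (i : ℕ) : ℕ := (@Bool.rec (fun _ => ℕ) l2029 l2030 (Nat.ble (nat_lit 2030) i))
noncomputable def t2031_2034 (i : ℕ) : ℕ := (@Bool.rec (fun _ => ℕ) l2031 (@Bool.rec (fun _ => ℕ) l2032 l2033 (Nat.ble (nat_lit 2033) i)) (Nat.ble (nat_lit 2032) i))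
noncomputable def t2034_2036 (i : ℕ) : ℕ := (@Bool.rec (fun _ => ℕ) l2034 l2035 (Nat.ble (nat_lit 2035) i))
noncomputable def t2036_2038 (i : ℕ) : ℕ := (@Bool.rec (fun _ => ℕ) l2036 l2037 (Nat.ble (nat_lit 2037) i))
noncomputable def t2038_2040 (i : ℕ) : ℕ := (@Bool.rec (fun _ => ℕ) l2038 l2039 (Nat.ble (nat_lit 2039) i))
noncomputable def t2040_2043 (i : ℕ) : ℕ := (@Bool.rec (fun _ => ℕ) l2040 (@Bool.rec (fun _ => ℕ) l2041 l2042 (Nat.ble (nat_lit 2042) i)) (Nat.ble (nat_lit 2041) i))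
noncomputable def t2025_2043 (i : ℕ) : ℕ := (@Bool.rec (fun _ => ℕ) (@Bool.rec (fun _ => ℕ) (@Bool.rec (fun _ => ℕ) (t2025_2027 i) (t2027_2029 i) (Nat.ble (nat_lit 2027) i)) (@Bool.rec (fun _ => ℕ) (t2029_2031 i) (t2031_2034 i) (Nat.ble (nat_lit 2031) i)) (Nat.ble (nat_lit 2029) i)) (@Bool.rec (fun _ => ℕ) (@Bool.rec (fun _ => ℕ) (t2034_2036 i) (t2036_2038 i) (Nat.ble (nat_lit 2036) i)) (@Bool.rec (fun _ => ℕ) (t2038_2040 i) (t2040_2043 i) (Nat.ble (nat_lit 2040) i)) (Nat.ble (nat_lit 2038) i)) (Nat.ble (nat_lit 2034) i))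
noncomputable def t2043_2045 (i : ℕ) : ℕ := (@Bool.rec (fun _ => ℕ) l2043 l2044 (Nat.ble (nat_lit 2044) i))
noncomputable def t2045_2047 (i : ℕ) : ℕ := (@Bool.rec (fun _ => ℕ) l2045 l2046 (Nat.ble (nat_lit 2046) i))
noncomputable def t2047_2049 (i : ℕ) : ℕ := (@Bool.rec (fun _ => ℕ) l2047 l2048 (Nat.ble (nat_lit 2048) i))
noncomputable def t2049_2052 (i : ℕ) : ℕ := (@Bool.rec (fun _ => ℕ) l2049 (@Bool.rec (fun _ => ℕ) l2050 l2051 (Nat.ble (nat_lit 2051) i)) (Nat.ble (nat_lit 2050) i))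
noncomputable def t2052_2054 (i : ℕ) : ℕ := (@Bool.rec (fun _ => ℕ) l2052 l2053 (Nat.ble (nat_lit 2053) i))
noncomputable def t2054_2057 (i : ℕ) : ℕ := (@Bool.rec (fun _ => ℕ) l2054 (@Bool.rec (fun _ => ℕ) l2055 l2056 (Nat.ble (nat_lit 2056) i)) (Nat.ble (nat_lit 2055) i))
noncomputable def t2057_2059 (i : ℕ) : ℕ := (@Bool.rec (fun _ => ℕ) l2057 l2058 (Nat.ble (nat_lit 2058) i))
noncomputable def t2059_2062 (i : ℕ) : ℕ := (@Bool.rec (fun _ => ℕ) l2059 (@Bool.rec (fun _ => ℕ) l2060 l2061 (Nat.ble (nat_lit 2061) i)) (Nat.ble (nat_lit 2060) i))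
noncomputable def t2043_2062 (i : ℕ) : ℕ := (@Bool.rec (fun _ => ℕ) (@Bool.rec (fun _ => ℕ) (@Bool.rec (fun _ => ℕ) (t2043_2045 i) (t2045_2047 i) (Nat.ble (nat_lit 2045) i)) (@Bool.rec (fun _ => ℕ) (t2047_2049 i) (t2049_2052 i) (Nat.ble (nat_lit 2049) i)) (Nat.ble (nat_lit 2047) i)) (@Bool.rec (fun _ => ℕ) (@Bool.rec (fun _ => ℕ) (t2052_2054 i) (t2054_2057 i) (Nat.ble (nat_lit 2054) i)) (@Bool.rec (fun _ => ℕ) (t2057_2059 i) (t2059_2062 i) (Nat.ble (nat_lit 2059) i)) (Nat.ble (nat_lit 2057) i)) (Nat.ble (nat_lit 2052) i))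
noncomputable def t2062_2064 (i : ℕ) : ℕ := (@Bool.rec (fun _ => ℕ) l2062 l2063 (Nat.ble (nat_lit 2063) i))
noncomputable def t2064_2066 (i : ℕ) : ℕ := (@Bool.rec (fun _ => ℕ) l2064 l2065 (Nat.ble (nat_lit 2065) i))
noncomputable def t2066_2068 (i : ℕ) : ℕ := (@Bool.rec (fun _ => ℕ) l2066 l2067 (Nat.ble (nat_lit 2067) i))
noncomputable def t2068_2071 (i : ℕ) : ℕ := (@Bool.rec (fun _ => ℕ) l2068 (@Bool.rec (fun _ => ℕ) l2069 l2070 (Nat.ble (nat_lit 2070) i)) (Nat.ble (nat_lit 2069) i))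
noncomputable def t2071_2073 (i : ℕ) : ℕ := (@Bool.rec (fun _ => ℕ) l2071 l2072 (Nat.ble (nat_lit 2072) i))
noncomputable def t2073_2076 (i : ℕ) : ℕ := (@Bool.rec (fun _ => ℕ) l2073 (@Bool.rec (fun _ => ℕ) l2074 l2075 (Nat.ble (nat_lit 2075) i)) (Nat.ble (nat_lit 2074) i))
noncomputable def t2076_2078 (i : ℕ) : ℕ := (@Bool.rec (fun _ => ℕ) l2076 l2077 (Nat.ble (nat_lit 2077) i))
noncomputable def t2078_2081 (i : ℕ) : ℕ := (@Bool.rec (fun _ => ℕ) l2078 (@Bool.rec (fun _ => ℕ) l2079 l2080 (Nat.ble (nat_lit 2080) i)) (Nat.ble (nat_lit 2079) i))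
noncomputable def t2062_2081 (i : ℕ) : ℕ := (@Bool.rec (fun _ => ℕ) (@Bool.rec (fun _ => ℕ) (@Bool.rec (fun _ => ℕ) (t2062_2064 i) (t2064_2066 i) (Nat.ble (nat_lit 2064) i)) (@Bool.rec (fun _ => ℕ) (t2066_2068 i) (t2068_2071 i) (Nat.ble (nat_lit 2068) i)) (Nat.ble (nat_lit 2066) i)) (@Bool.rec (fun _ => ℕ) (@Bool.rec (fun _ => ℕ) (t2071_2073 i) (t2073_2076 i) (Nat.ble (nat_lit 2073) i)) (@Bool.rec (fun _ => ℕ) (t2076_2078 i) (t2078_2081 i) (Nat.ble (nat_lit 2078) i)) (Nat.ble (nat_lit 2076) i)) (Nat.ble (nat_lit 2071) i))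
noncomputable def t2081_2083 (i : ℕ) : ℕ := (@Bool.rec (fun _ => ℕ) l2081 l2082 (Nat.ble (nat_lit 2082) i))
noncomputable def t2083_2085 (i : ℕ) : ℕ := (@Bool.rec (fun _ => ℕ) l2083 l2084 (Nat.ble (nat_lit 2084) i))
noncomputable def t2085_2087 (i : ℕ) : ℕ := (@Bool.rec (fun _ => ℕ) l2085 l2086 (Nat.ble (nat_lit 2086) i))
noncomputable def t2087_2090 (i : ℕ) : ℕ := (@Bool.rec (fun _ => ℕ) l2087 (@Bool.rec (fun _ => ℕ) l2088 l2089 (Nat.ble (nat_lit 2089) i)) (Nat.ble (nat_lit 2088) i))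
noncomputable def t2090_2092 (i : ℕ) : ℕ := (@Bool.rec (fun _ => ℕ) l2090 l2091 (Nat.ble (nat_lit 2091) i))
noncomputable def t2092_2095 (i : ℕ) : ℕ := (@Bool.rec (fun _ => ℕ) l2092 (@Bool.rec (fun _ => ℕ) l2093 l2094 (Nat.ble (nat_lit 2094) i)) (Nat.ble (nat_lit 2093) i))
noncomputable def t2095_2097 (i : ℕ) : ℕ := (@Bool.rec (fun _ => ℕ) l2095 l2096 (Nat.ble (nat_lit 2096) i))
noncomputable def t2097_2100 (i : ℕ) : ℕ := (@Bool.rec (fun _ => ℕ) l2097 (@Bool.rec (fun _ => ℕ) l2098 l2099 (Nat.ble (nat_lit 2099) i)) (Nat.ble (nat_lit 2098) i))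
noncomputable def t2081_2100 (i : ℕ) : ℕ := (@Bool.rec (fun _ => ℕ) (@Bool.rec (fun _ => ℕ) (@Bool.rec (fun _ => ℕ) (t2081_2083 i) (t2083_2085 i) (Nat.ble (nat_lit 2083) i)) (@Bool.rec (fun _ => ℕ) (t2085_2087 i) (t2087_2090 i) (Nat.ble (nat_lit 2087) i)) (Nat.ble (nat_lit 2085) i)) (@Bool.rec (fun _ => ℕ) (@Bool.rec (fun _ => ℕ) (t2090_2092 i) (t2092_2095 i) (Nat.ble (nat_lit 2092) i)) (@Bool.rec (fun _ => ℕ) (t2095_2097 i) (t2097_2100 i) (Nat.ble (nat_lit 2097) i)) (Nat.ble (nat_lit 2095) i)) (Nat.ble (nat_lit 2090) i))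
noncomputable def t1950_2100 (i : ℕ) : ℕ := (@Bool.rec (fun _ => ℕ) (@Bool.rec (fun _ => ℕ) (@Bool.rec (fun _ => ℕ) (t1950_1968 i) (t1968_1987 i) (Nat.ble (nat_lit 1968) i)) (@Bool.rec (fun _ => ℕ) (t1987_2006 i) (t2006_2025 i) (Nat.ble (nat_lit 2006) i)) (Nat.ble (nat_lit 1987) i)) (@Bool.rec (fun _ => ℕ) (@Bool.rec (fun _ => ℕ) (t2025_2043 i) (t2043_2062 i) (Nat.ble (nat_lit 2043) i)) (@Bool.rec (fun _ => ℕ) (t2062_2081 i) (t2081_2100 i) (Nat.ble (nat_lit 2081) i)) (Nat.ble (nat_lit 2062) i)) (Nat.ble (nat_lit 2025) i))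
noncomputable def t2100_2102 (i : ℕ) : ℕ := (@Bool.rec (fun _ => ℕ) l2100 l2101 (Nat.ble (nat_lit 2101) i))
noncomputable def t2102_2104 (i : ℕ) : ℕ := (@Bool.rec (fun _ => ℕ) l2102 l2103 (Nat.ble (nat_lit 2103) i))
noncomputable def t2104_2106 (i : ℕ) : ℕ := (@Bool.rec (fun _ => ℕ) l2104 l2105 (Nat.ble (nat_lit 2105) i))
noncomputable def t2106_2109 (i : ℕ) : ℕ := (@Bool.rec (fun _ => ℕ) l2106 (@Bool.rec (fun _ => ℕ) l2107 l2108 (Nat.ble (nat_lit 2108) i)) (Nat.ble (nat_lit 2107) i))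
noncomputable def t2109_2111 (i : ℕ) : ℕ := (@Bool.rec (fun _ => ℕ) l2109 l2110 (Nat.ble (nat_lit 2110) i))
noncomputable def t2111_2113 (i : ℕ) : ℕ := (@Bool.rec (fun _ => ℕ) l2111 l2112 (Nat.ble (nat_lit 2112) i))
noncomputable def t2113_2115 (i : ℕ) : ℕ := (@Bool.rec (fun _ => ℕ) l2113 l2114 (Nat.ble (nat_lit 2114) i))
noncomputable def t2115_2118 (i : ℕ) : ℕ := (@Bool.rec (fun _ => ℕ) l2115 (@Bool.rec (fun _ => ℕ) l2116 l2117 (Nat.ble (nat_lit 2117) i)) (Nat.ble (nat_lit 2116) i))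
noncomputable def t2100_2118 (i : ℕ) : ℕ := (@Bool.rec (fun _ => ℕ) (@Bool.rec (fun _ => ℕ) (@Bool.rec (fun _ => ℕ) (t2100_2102 i) (t2102_2104 i) (Nat.ble (nat_lit 2102) i)) (@Bool.rec (fun _ => ℕ) (t2104_2106 i) (t2106_2109 i) (Nat.ble (nat_lit 2106) i)) (Nat.ble (nat_lit 2104) i)) (@Bool.rec (fun _ => ℕ) (@Bool.rec (fun _ => ℕ) (t2109_2111 i) (t2111_2113 i) (Nat.ble (nat_lit 2111) i)) (@Bool.rec (fun _ => ℕ) (t2113_2115 i) (t2115_2118 i) (Nat.ble (nat_lit 2115) i)) (Nat.ble (nat_lit 2113) i)) (Nat.ble (nat_lit 2109) i))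
noncomputable def t2118_2120 (i : ℕ) : ℕ := (@Bool.rec (fun _ => ℕ) l2118 l2119 (Nat.ble (nat_lit 2119) i))
noncomputable def t2120_2122 (i : ℕ) : ℕ := (@Bool.rec (fun _ => ℕ) l2120 l2121 (Nat.ble (nat_lit 2121) i))
noncomputable def t2122_2124 (i : ℕ) : ℕ := (@Bool.rec (fun _ => ℕ) l2122 l2123 (Nat.ble (nat_lit 2123) i))
noncomputable def t2124_2127 (i : ℕ) : ℕ := (@Bool.rec (fun _ => ℕ) l2124 (@Bool.rec (fun _ => ℕ) l2125 l2126 (Nat.ble (nat_lit 2126) i)) (Nat.ble (nat_lit 2125) i))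
noncomputable def t2127_2129 (i : ℕ) : ℕ := (@Bool.rec (fun _ => ℕ) l2127 l2128 (Nat.ble (nat_lit 2128) i))
noncomputable def t2129_2132 (i : ℕ) : ℕ := (@Bool.rec (fun _ => ℕ) l2129 (@Bool.rec (fun _ => ℕ) l2130 l2131 (Nat.ble (nat_lit 2131) i)) (Nat.ble (nat_lit 2130) i))
noncomputable def t2132_2134 (i : ℕ) : ℕ := (@Bool.rec (fun _ => ℕ) l2132 l2133 (Nat.ble (nat_lit 2133) i))
noncomputable def t2134_2137 (i : ℕ) : ℕ := (@Bool.rec (fun _ => ℕ) l2134 (@Bool.rec (fun _ => ℕ) l2135 l2136 (Nat.ble (nat_lit 2136) i)) (Nat.ble (nat_lit 2135) i))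
noncomputable def t2118_2137 (i : ℕ) : ℕ := (@Bool.rec (fun _ => ℕ) (@Bool.rec (fun _ => ℕ) (@Bool.rec (fun _ => ℕ) (t2118_2120 i) (t2120_2122 i) (Nat.ble (nat_lit 2120) i)) (@Bool.rec (fun _ => ℕ) (t2122_2124 i) (t2124_2127 i) (Nat.ble (nat_lit 2124) i)) (Nat.ble (nat_lit 2122) i)) (@Bool.rec (fun _ => ℕ) (@Bool.rec (fun _ => ℕ) (t2127_2129 i) (t2129_2132 i) (Nat.ble (nat_lit 2129) i)) (@Bool.rec (fun _ => ℕ) (t2132_2134 i) (t2134_2137 i) (Nat.ble (nat_lit 2134) i)) (Nat.ble (nat_lit 2132) i)) (Nat.ble (nat_lit 2127) i))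
noncomputable def t2137_2139 (i : ℕ) : ℕ := (@Bool.rec (fun _ => ℕ) l2137 l2138 (Nat.ble (nat_lit 2138) i))
noncomputable def t2139_2141 (i : ℕ) : ℕ := (@Bool.rec (fun _ => ℕ) l2139 l2140 (Nat.ble (nat_lit 2140) i))
noncomputable def t2141_2143 (i : ℕ) : ℕ := (@Bool.rec (fun _ => ℕ) l2141 l2142 (Nat.ble (nat_lit 2142) i))
noncomputable def t2143_2146 (i : ℕ) : ℕ := (@Bool.rec (fun _ => ℕ) l2143 (@Bool.rec (fun _ => ℕ) l2144 l2145 (Nat.ble (nat_lit 2145) i)) (Nat.ble (nat_lit 2144) i))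
noncomputable def t2146_2148 (i : ℕ) : ℕ := (@Bool.rec (fun _ => ℕ) l2146 l2147 (Nat.ble (nat_lit 2147) i))
noncomputable def t2148_2151 (i : ℕ) : ℕ := (@Bool.rec (fun _ => ℕ) l2148 (@Bool.rec (fun _ => ℕ) l2149 l2150 (Nat.ble (nat_lit 2150) i)) (Nat.ble (nat_lit 2149) i))
noncomputable def t2151_2153 (i : ℕ) : ℕ := (@Bool.rec (fun _ => ℕ) l2151 l2152 (Nat.ble (nat_lit 2152) i))
noncomputable def t2153_2156 (i : ℕ) : ℕ := (@Bool.rec (fun _ => ℕ) l2153 (@Bool.rec (fun _ => ℕ) l2154 l2155 (Nat.ble (nat_lit 2155) i)) (Nat.ble (nat_lit 2154) i))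
noncomputable def t2137_2156 (i : ℕ) : ℕ := (@Bool.rec (fun _ => ℕ) (@Bool.rec (fun _ => ℕ) (@Bool.rec (fun _ => ℕ) (t2137_2139 i) (t2139_2141 i) (Nat.ble (nat_lit 2139) i)) (@Bool.rec (fun _ => ℕ) (t2141_2143 i) (t2143_2146 i) (Nat.ble (nat_lit 2143) i)) (Nat.ble (nat_lit 2141) i)) (@Bool.rec (fun _ => ℕ) (@Bool.rec (fun _ => ℕ) (t2146_2148 i) (t2148_2151 i) (Nat.ble (nat_lit 2148) i)) (@Bool.rec (fun _ => ℕ) (t2151_2153 i) (t2153_2156 i) (Nat.ble (nat_lit 2153) i)) (Nat.ble (nat_lit 2151) i)) (Nat.ble (nat_lit 2146) i))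
noncomputable def t2156_2158 (i : ℕ) : ℕ := (@Bool.rec (fun _ => ℕ) l2156 l2157 (Nat.ble (nat_lit 2157) i))
noncomputable def t2158_2160 (i : ℕ) : ℕ := (@Bool.rec (fun _ => ℕ) l2158 l2159 (Nat.ble (nat_lit 2159) i))
noncomputable def t2160_2162 (i : ℕ) : ℕ := (@Bool.rec (fun _ => ℕ) l2160 l2161 (Nat.ble (nat_lit 2161) i))
noncomputable def t2162_2165 (i : ℕ) : ℕ := (@Bool.rec (fun _ => ℕ) l2162 (@Bool.rec (fun _ => ℕ) l2163 l2164 (Nat.ble (nat_lit 2164) i)) (Nat.ble (nat_lit 2163) i))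
noncomputable def t2165_2167 (i : ℕ) : ℕ := (@Bool.rec (fun _ => ℕ) l2165 l2166 (Nat.ble (nat_lit 2166) i))
noncomputable def t2167_2170 (i : ℕ) : ℕ := (@Bool.rec (fun _ => ℕ) l2167 (@Bool.rec (fun _ => ℕ) l2168 l2169 (Nat.ble (nat_lit 2169) i)) (Nat.ble (nat_lit 2168) i))
noncomputable def t2170_2172 (i : ℕ) : ℕ := (@Bool.rec (fun _ => ℕ) l2170 l2171 (Nat.ble (nat_lit 2171) i))
noncomputable def t2172_2175 (i : ℕ) : ℕ := (@Bool.rec (fun _ => ℕ) l2172 (@Bool.rec (fun _ => ℕ) l2173 l2174 (Nat.ble (nat_lit 2174) i)) (Nat.ble (nat_lit 2173) i))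
noncomputable def t2156_2175 (i : ℕ) : ℕ := (@Bool.rec (fun _ => ℕ) (@Bool.rec (fun _ => ℕ) (@Bool.rec (fun _ => ℕ) (t2156_2158 i) (t2158_2160 i) (Nat.ble (nat_lit 2158) i)) (@Bool.rec (fun _ => ℕ) (t2160_2162 i) (t2162_2165 i) (Nat.ble (nat_lit 2162) i)) (Nat.ble (nat_lit 2160) i)) (@Bool.rec (fun _ => ℕ) (@Bool.rec (fun _ => ℕ) (t2165_2167 i) (t2167_2170 i) (Nat.ble (nat_lit 2167) i)) (@Bool.rec (fun _ => ℕ) (t2170_2172 i) (t2172_2175 i) (Nat.ble (nat_lit 2172) i)) (Nat.ble (nat_lit 2170) i)) (Nat.ble (nat_lit 2165) i))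
noncomputable def t2175_2177 (i : ℕ) : ℕ := (@Bool.rec (fun _ => ℕ) l2175 l2176 (Nat.ble (nat_lit 2176) i))
noncomputable def t2177_2179 (i : ℕ) : ℕ := (@Bool.rec (fun _ => ℕ) l2177 l2178 (Nat.ble (nat_lit 2178) i))
noncomputable def t2179_2181 (i : ℕ) : ℕ := (@Bool.rec (fun _ => ℕ) l2179 l2180 (Nat.ble (nat_lit 2180) i))
noncomputable def t2181_2184 (i : ℕ) : ℕ := (@Bool.rec (fun _ => ℕ) l2181 (@Bool.rec (fun _ => ℕ) l2182 l2183 (Nat.ble (nat_lit 2183) i)) (Nat.ble (nat_lit 2182) i))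
noncomputable def t2184_2186 (i : ℕ) : ℕ := (@Bool.rec (fun _ => ℕ) l2184 l2185 (Nat.ble (nat_lit 2185) i))
noncomputable def t2186_2188 (i : ℕ) : ℕ := (@Bool.rec (fun _ => ℕ) l2186 l2187 (Nat.ble (nat_lit 2187) i))
noncomputable def t2188_2190 (i : ℕ) : ℕ := (@Bool.rec (fun _ => ℕ) l2188 l2189 (Nat.ble (nat_lit 2189) i))
noncomputable def t2190_2193 (i : ℕ) : ℕ := (@Bool.rec (fun _ => ℕ) l2190 (@Bool.rec (fun _ => ℕ) l2191 l2192 (Nat.ble (nat_lit 2192) i)) (Nat.ble (nat_lit 2191) i))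
noncomputable def t2175_2193 (i : ℕ) : ℕ := (@Bool.rec (fun _ => ℕ) (@Bool.rec (fun _ => ℕ) (@Bool.rec (fun _ => ℕ) (t2175_2177 i) (t2177_2179 i) (Nat.ble (nat_lit 2177) i)) (@Bool.rec (fun _ => ℕ) (t2179_2181 i) (t2181_2184 i) (Nat.ble (nat_lit 2181) i)) (Nat.ble (nat_lit 2179) i)) (@Bool.rec (fun _ => ℕ) (@Bool.rec (fun _ => ℕ) (t2184_2186 i) (t2186_2188 i) (Nat.ble (nat_lit 2186) i)) (@Bool.rec (fun _ => ℕ) (t2188_2190 i) (t2190_2193 i) (Nat.ble (nat_lit 2190) i)) (Nat.ble (nat_lit 2188) i)) (Nat.ble (nat_lit 2184) i))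
noncomputable def t2193_2195 (i : ℕ) : ℕ := (@Bool.rec (fun _ => ℕ) l2193 l2194 (Nat.ble (nat_lit 2194) i))
noncomputable def t2195_2197 (i : ℕ) : ℕ := (@Bool.rec (fun _ => ℕ) l2195 l2196 (Nat.ble (nat_lit 2196) i))
noncomputable def t2197_2199 (i : ℕ) : ℕ := (@Bool.rec (fun _ => ℕ) l2197 l2198 (Nat.ble (nat_lit 2198) i))
noncomputable def t2199_2202 (i : ℕ) : ℕ := (@Bool.rec (fun _ => ℕ) l2199 (@Bool.rec (fun _ => ℕ) l2200 l2201 (Nat.ble (nat_lit 2201) i)) (Nat.ble (nat_lit 2200) i))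
noncomputable def t2202_2204 (i : ℕ) : ℕ := (@Bool.rec (fun _ => ℕ) l2202 l2203 (Nat.ble (nat_lit 2203) i))
noncomputable def t2204_2207 (i : ℕ) : ℕ := (@Bool.rec (fun _ => ℕ) l2204 (@Bool.rec (fun _ => ℕ) l2205 l2206 (Nat.ble (nat_lit 2206) i)) (Nat.ble (nat_lit 2205) i))
noncomputable def t2207_2209 (i : ℕ) : ℕ := (@Bool.rec (fun _ => ℕ) l2207 l2208 (Nat.ble (nat_lit 2208) i))
noncomputable def t2209_2212 (i : ℕ) : ℕ := (@Bool.rec (fun _ => ℕ) l2209 (@Bool.rec (fun _ => ℕ) l2210 l2211 (Nat.ble (nat_lit 2211) i)) (Nat.ble (nat_lit 2210) i))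
noncomputable def t2193_2212 (i : ℕ) : ℕ := (@Bool.rec (fun _ => ℕ) (@Bool.rec (fun _ => ℕ) (@Bool.rec (fun _ => ℕ) (t2193_2195 i) (t2195_2197 i) (Nat.ble (nat_lit 2195) i)) (@Bool.rec (fun _ => ℕ) (t2197_2199 i) (t2199_2202 i) (Nat.ble (nat_lit 2199) i)) (Nat.ble (nat_lit 2197) i)) (@Bool.rec (fun _ => ℕ) (@Bool.rec (fun _ => ℕ) (t2202_2204 i) (t2204_2207 i) (Nat.ble (nat_lit 2204) i)) (@Bool.rec (fun _ => ℕ) (t2207_2209 i) (t2209_2212 i) (Nat.ble (nat_lit 2209) i)) (Nat.ble (nat_lit 2207) i)) (Nat.ble (nat_lit 2202) i))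
noncomputable def t2212_2214 (i : ℕ) : ℕ := (@Bool.rec (fun _ => ℕ) l2212 l2213 (Nat.ble (nat_lit 2213) i))
noncomputable def t2214_2216 (i : ℕ) : ℕ := (@Bool.rec (fun _ => ℕ) l2214 l2215 (Nat.ble (nat_lit 2215) i))
noncomputable def t2216_2218 (i : ℕ) : ℕ := (@Bool.rec (fun _ => ℕ) l2216 l2217 (Nat.ble (nat_lit 2217) i))
noncomputable def t2218_2221 (i : ℕ) : ℕ := (@Bool.rec (fun _ => ℕ) l2218 (@Bool.rec (fun _ => ℕ) l2219 l2220 (Nat.ble (nat_lit 2220) i)) (Nat.ble (nat_lit 2219) i))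
noncomputable def t2221_2223 (i : ℕ) : ℕ := (@Bool.rec (fun _ => ℕ) l2221 l2222 (Nat.ble (nat_lit 2222) i))
noncomputable def t2223_2226 (i : ℕ) : ℕ := (@Bool.rec (fun _ => ℕ) l2223 (@Bool.rec (fun _ => ℕ) l2224 l2225 (Nat.ble (nat_lit 2225) i)) (Nat.ble (nat_lit 2224) i))
noncomputable def t2226_2228 (i : ℕ) : ℕ := (@Bool.rec (fun _ => ℕ) l2226 l2227 (Nat.ble (nat_lit 2227) i))
noncomputable def t2228_2231 (i : ℕ) : ℕ := (@Bool.rec (fun _ => ℕ) l2228 (@Bool.rec (fun _ => ℕ) l2229 l2230 (Nat.ble (nat_lit 2230) i)) (Nat.ble (nat_lit 2229) i))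
noncomputable def t2212_2231 (i : ℕ) : ℕ := (@Bool.rec (fun _ => ℕ) (@Bool.rec (fun _ => ℕ) (@Bool.rec (fun _ => ℕ) (t2212_2214 i) (t2214_2216 i) (Nat.ble (nat_lit 2214) i)) (@Bool.rec (fun _ => ℕ) (t2216_2218 i) (t2218_2221 i) (Nat.ble (nat_lit 2218) i)) (Nat.ble (nat_lit 2216) i)) (@Bool.rec (fun _ => ℕ) (@Bool.rec (fun _ => ℕ) (t2221_2223 i) (t2223_2226 i) (Nat.ble (nat_lit 2223) i)) (@Bool.rec (fun _ => ℕ) (t2226_2228 i) (t2228_2231 i) (Nat.ble (nat_lit 2228) i)) (Nat.ble (nat_lit 2226) i)) (Nat.ble (nat_lit 2221) i))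
noncomputable def t2231_2233 (i : ℕ) : ℕ := (@Bool.rec (fun _ => ℕ) l2231 l2232 (Nat.ble (nat_lit 2232) i))
noncomputable def t2233_2235 (i : ℕ) : ℕ := (@Bool.rec (fun _ => ℕ) l2233 l2234 (Nat.ble (nat_lit 2234) i))
noncomputable def t2235_2237 (i : ℕ) : ℕ := (@Bool.rec (fun _ => ℕ) l2235 l2236 (Nat.ble (nat_lit 2236) i))
noncomputable def t2237_2240 (i : ℕ) : ℕ := (@Bool.rec (fun _ => ℕ) l2237 (@Bool.rec (fun _ => ℕ) l2238 l2239 (Nat.ble (nat_lit 2239) i)) (Nat.ble (nat_lit 2238) i))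
noncomputable def t2240_2242 (i : ℕ) : ℕ := (@Bool.rec (fun _ => ℕ) l2240 l2241 (Nat.ble (nat_lit 2241) i))
noncomputable def t2242_2245 (i : ℕ) : ℕ := (@Bool.rec (fun _ => ℕ) l2242 (@Bool.rec (fun _ => ℕ) l2243 l2244 (Nat.ble (nat_lit 2244) i)) (Nat.ble (nat_lit 2243) i))
noncomputable def t2245_2247 (i : ℕ) : ℕ := (@Bool.rec (fun _ => ℕ) l2245 l2246 (Nat.ble (nat_lit 2246) i))
noncomputable def t2247_2250 (i : ℕ) : ℕ := (@Bool.rec (fun _ => ℕ) l2247 (@Bool.rec (fun _ => ℕ) l2248 l2249 (Nat.ble (nat_lit 2249) i)) (Nat.ble (nat_lit 2248) i))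
noncomputable def t2231_2250 (i : ℕ) : ℕ := (@Bool.rec (fun _ => ℕ) (@Bool.rec (fun _ => ℕ) (@Bool.rec (fun _ => ℕ) (t2231_2233 i) (t2233_2235 i) (Nat.ble (nat_lit 2233) i)) (@Bool.rec (fun _ => ℕ) (t2235_2237 i) (t2237_2240 i) (Nat.ble (nat_lit 2237) i)) (Nat.ble (nat_lit 2235) i)) (@Bool.rec (fun _ => ℕ) (@Bool.rec (fun _ => ℕ) (t2240_2242 i) (t2242_2245 i) (Nat.ble (nat_lit 2242) i)) (@Bool.rec (fun _ => ℕ) (t2245_2247 i) (t2247_2250 i) (Nat.ble (nat_lit 2247) i)) (Nat.ble (nat_lit 2245) i)) (Nat.ble (nat_lit 2240) i))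
noncomputable def t2100_2250 (i : ℕ) : ℕ := (@Bool.rec (fun _ => ℕ) (@Bool.rec (fun _ => ℕ) (@Bool.rec (fun _ => ℕ) (t2100_2118 i) (t2118_2137 i) (Nat.ble (nat_lit 2118) i)) (@Bool.rec (fun _ => ℕ) (t2137_2156 i) (t2156_2175 i) (Nat.ble (nat_lit 2156) i)) (Nat.ble (nat_lit 2137) i)) (@Bool.rec (fun _ => ℕ) (@Bool.rec (fun _ => ℕ) (t2175_2193 i) (t2193_2212 i) (Nat.ble (nat_lit 2193) i)) (@Bool.rec (fun _ => ℕ) (t2212_2231 i) (t2231_2250 i) (Nat.ble (nat_lit 2231) i)) (Nat.ble (nat_lit 2212) i)) (Nat.ble (nat_lit 2175) i))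
noncomputable def t2250_2252 (i : ℕ) : ℕ := (@Bool.rec (fun _ => ℕ) l2250 l2251 (Nat.ble (nat_lit 2251) i))
noncomputable def t2252_2254 (i : ℕ) : ℕ := (@Bool.rec (fun _ => ℕ) l2252 l2253 (Nat.ble (nat_lit 2253) i))
noncomputable def t2254_2256 (i : ℕ) : ℕ := (@Bool.rec (fun _ => ℕ) l2254 l2255 (Nat.ble (nat_lit 2255) i))
noncomputable def t2256_2259 (i : ℕ) : ℕ := (@Bool.rec (fun _ => ℕ) l2256 (@Bool.rec (fun _ => ℕ) l2257 l2258 (Nat.ble (nat_lit 2258) i)) (Nat.ble (nat_lit 2257) i))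
noncomputable def t2259_2261 (i : ℕ) : ℕ := (@Bool.rec (fun _ => ℕ) l2259 l2260 (Nat.ble (nat_lit 2260) i))
noncomputable def t2261_2263 (i : ℕ) : ℕ := (@Bool.rec (fun _ => ℕ) l2261 l2262 (Nat.ble (nat_lit 2262) i))
noncomputable def t2263_2265 (i : ℕ) : ℕ := (@Bool.rec (fun _ => ℕ) l2263 l2264 (Nat.ble (nat_lit 2264) i))
noncomputable def t2265_2268 (i : ℕ) : ℕ := (@Bool.rec (fun _ => ℕ) l2265 (@Bool.rec (fun _ => ℕ) l2266 l2267 (Nat.ble (nat_lit 2267) i)) (Nat.ble (nat_lit 2266) i))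
noncomputable def t2250_2268 (i : ℕ) : ℕ := (@Bool.rec (fun _ => ℕ) (@Bool.rec (fun _ => ℕ) (@Bool.rec (fun _ => ℕ) (t2250_2252 i) (t2252_2254 i) (Nat.ble (nat_lit 2252) i)) (@Bool.rec (fun _ => ℕ) (t2254_2256 i) (t2256_2259 i) (Nat.ble (nat_lit 2256) i)) (Nat.ble (nat_lit 2254) i)) (@Bool.rec (fun _ => ℕ) (@Bool.rec (fun _ => ℕ) (t2259_2261 i) (t2261_2263 i) (Nat.ble (nat_lit 2261) i)) (@Bool.rec (fun _ => ℕ) (t2263_2265 i) (t2265_2268 i) (Nat.ble (nat_lit 2265) i)) (Nat.ble (nat_lit 2263) i)) (Nat.ble (nat_lit 2259) i))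
noncomputable def t2268_2270 (i : ℕ) : ℕ := (@Bool.rec (fun _ => ℕ) l2268 l2269 (Nat.ble (nat_lit 2269) i))
noncomputable def t2270_2272 (i : ℕ) : ℕ := (@Bool.rec (fun _ => ℕ) l2270 l2271 (Nat.ble (nat_lit 2271) i))
noncomputable def t2272_2274 (i : ℕ) : ℕ := (@Bool.rec (fun _ => ℕ) l2272 l2273 (Nat.ble (nat_lit 2273) i))
noncomputable def t2274_2277 (i : ℕ) : ℕ := (@Bool.rec (fun _ => ℕ) l2274 (@Bool.rec (fun _ => ℕ) l2275 l2276 (Nat.ble (nat_lit 2276) i)) (Nat.ble (nat_lit 2275) i))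
noncomputable def t2277_2279 (i : ℕ) : ℕ := (@Bool.rec (fun _ => ℕ) l2277 l2278 (Nat.ble (nat_lit 2278) i))
noncomputable def t2279_2282 (i : ℕ) : ℕ := (@Bool.rec (fun _ => ℕ) l2279 (@Bool.rec (fun _ => ℕ) l2280 l2281 (Nat.ble (nat_lit 2281) i)) (Nat.ble (nat_lit 2280) i))
noncomputable def t2282_2284 (i : ℕ) : ℕ := (@Bool.rec (fun _ => ℕ) l2282 l2283 (Nat.ble (nat_lit 2283) i))
noncomputable def t2284_2287 (i : ℕ) : ℕ := (@Bool.rec (fun _ => ℕ) l2284 (@Bool.rec (fun _ => ℕ) l2285 l2286 (Nat.ble (nat_lit 2286) i)) (Nat.ble (nat_lit 2285) i))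
noncomputable def t2268_2287 (i : ℕ) : ℕ := (@Bool.rec (fun _ => ℕ) (@Bool.rec (fun _ => ℕ) (@Bool.rec (fun _ => ℕ) (t2268_2270 i) (t2270_2272 i) (Nat.ble (nat_lit 2270) i)) (@Bool.rec (fun _ => ℕ) (t2272_2274 i) (t2274_2277 i) (Nat.ble (nat_lit 2274) i)) (Nat.ble (nat_lit 2272) i)) (@Bool.rec (fun _ => ℕ) (@Bool.rec (fun _ => ℕ) (t2277_2279 i) (t2279_2282 i) (Nat.ble (nat_lit 2279) i)) (@Bool.rec (fun _ => ℕ) (t2282_2284 i) (t2284_2287 i) (Nat.ble (nat_lit 2284) i)) (Nat.ble (nat_lit 2282) i)) (Nat.ble (nat_lit 2277) i))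
noncomputable def t2287_2289 (i : ℕ) : ℕ := (@Bool.rec (fun _ => ℕ) l2287 l2288 (Nat.ble (nat_lit 2288) i))
noncomputable def t2289_2291 (i : ℕ) : ℕ := (@Bool.rec (fun _ => ℕ) l2289 l2290 (Nat.ble (nat_lit 2290) i))
noncomputable def t2291_2293 (i : ℕ) : ℕ := (@Bool.rec (fun _ => ℕ) l2291 l2292 (Nat.ble (nat_lit 2292) i))
noncomputable def t2293_2296 (i : ℕ) : ℕ := (@Bool.rec (fun _ => ℕ) l2293 (@Bool.rec (fun _ => ℕ) l2294 l2295 (Nat.ble (nat_lit 2295) i)) (Nat.ble (nat_lit 2294) i))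
noncomputable def t2296_2298 (i : ℕ) : ℕ := (@Bool.rec (fun _ => ℕ) l2296 l2297 (Nat.ble (nat_lit 2297) i))
noncomputable def t2298_2301 (i : ℕ) : ℕ := (@Bool.rec (fun _ => ℕ) l2298 (@Bool.rec (fun _ => ℕ) l2299 l2300 (Nat.ble (nat_lit 2300) i)) (Nat.ble (nat_lit 2299) i))
noncomputable def t2301_2303 (i : ℕ) : ℕ := (@Bool.rec (fun _ => ℕ) l2301 l2302 (Nat.ble (nat_lit 2302) i))
noncomputable def t2303_2306 (i : ℕ) : ℕ := (@Bool.rec (fun _ => ℕ) l2303 (@Bool.rec (fun _ => ℕ) l2304 l2305 (Nat.ble (nat_lit 2305) i)) (Nat.ble (nat_lit 2304) i))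
noncomputable def t2287_2306 (i : ℕ) : ℕ := (@Bool.rec (fun _ => ℕ) (@Bool.rec (fun _ => ℕ) (@Bool.rec (fun _ => ℕ) (t2287_2289 i) (t2289_2291 i) (Nat.ble (nat_lit 2289) i)) (@Bool.rec (fun _ => ℕ) (t2291_2293 i) (t2293_2296 i) (Nat.ble (nat_lit 2293) i)) (Nat.ble (nat_lit 2291) i)) (@Bool.rec (fun _ => ℕ) (@Bool.rec (fun _ => ℕ) (t2296_2298 i) (t2298_2301 i) (Nat.ble (nat_lit 2298) i)) (@Bool.rec (fun _ => ℕ) (t2301_2303 i) (t2303_2306 i) (Nat.ble (nat_lit 2303) i)) (Nat.ble (nat_lit 2301) i)) (Nat.ble (nat_lit 2296) i))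
noncomputable def t2306_2308 (i : ℕ) : ℕ := (@Bool.rec (fun _ => ℕ) l2306 l2307 (Nat.ble (nat_lit 2307) i))
noncomputable def t2308_2310 (i : ℕ) : ℕ := (@Bool.rec (fun _ => ℕ) l2308 l2309 (Nat.ble (nat_lit 2309) i))
noncomputable def t2310_2312 (i : ℕ) : ℕ := (@Bool.rec (fun _ => ℕ) l2310 l2311 (Nat.ble (nat_lit 2311) i))
noncomputable def t2312_2315 (i : ℕ) : ℕ := (@Bool.rec (fun _ => ℕ) l2312 (@Bool.rec (fun _ => ℕ) l2313 l2314 (Nat.ble (nat_lit 2314) i)) (Nat.ble (nat_lit 2313) i))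
noncomputable def t2315_2317 (i : ℕ) : ℕ := (@Bool.rec (fun _ => ℕ) l2315 l2316 (Nat.ble (nat_lit 2316) i))
noncomputable def t2317_2320 (i : ℕ) : ℕ := (@Bool.rec (fun _ => ℕ) l2317 (@Bool.rec (fun _ => ℕ) l2318 l2319 (Nat.ble (nat_lit 2319) i)) (Nat.ble (nat_lit 2318) i))
noncomputable def t2320_2322 (i : ℕ) : ℕ := (@Bool.rec (fun _ => ℕ) l2320 l2321 (Nat.ble (nat_lit 2321) i))
noncomputable def t2322_2325 (i : ℕ) : ℕ := (@Bool.rec (fun _ => ℕ) l2322 (@Bool.rec (fun _ => ℕ) l2323 l2324 (Nat.ble (nat_lit 2324) i)) (Nat.ble (nat_lit 2323) i))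
noncomputable def t2306_2325 (i : ℕ) : ℕ := (@Bool.rec (fun _ => ℕ) (@Bool.rec (fun _ => ℕ) (@Bool.rec (fun _ => ℕ) (t2306_2308 i) (t2308_2310 i) (Nat.ble (nat_lit 2308) i)) (@Bool.rec (fun _ => ℕ) (t2310_2312 i) (t2312_2315 i) (Nat.ble (nat_lit 2312) i)) (Nat.ble (nat_lit 2310) i)) (@Bool.rec (fun _ => ℕ) (@Bool.rec (fun _ => ℕ) (t2315_2317 i) (t2317_2320 i) (Nat.ble (nat_lit 2317) i)) (@Bool.rec (fun _ => ℕ) (t2320_2322 i) (t2322_2325 i) (Nat.ble (nat_lit 2322) i)) (Nat.ble (nat_lit 2320) i)) (Nat.ble (nat_lit 2315) i))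
noncomputable def t2325_2327 (i : ℕ) : ℕ := (@Bool.rec (fun _ => ℕ) l2325 l2326 (Nat.ble (nat_lit 2326) i))
noncomputable def t2327_2329 (i : ℕ) : ℕ := (@Bool.rec (fun _ => ℕ) l2327 l2328 (Nat.ble (nat_lit 2328) i))
noncomputable def t2329_2331 (i : ℕ) : ℕ := (@Bool.rec (fun _ => ℕ) l2329 l2330 (Nat.ble (nat_lit 2330) i))
noncomputable def t2331_2334 (i : ℕ) : ℕ := (@Bool.rec (fun _ => ℕ) l2331 (@Bool.rec (fun _ => ℕ) l2332 l2333 (Nat.ble (nat_lit 2333) i)) (Nat.ble (nat_lit 2332) i))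
noncomputable def t2334_2336 (i : ℕ) : ℕ := (@Bool.rec (fun _ => ℕ) l2334 l2335 (Nat.ble (nat_lit 2335) i))
noncomputable def t2336_2339 (i : ℕ) : ℕ := (@Bool.rec (fun _ => ℕ) l2336 (@Bool.rec (fun _ => ℕ) l2337 l2338 (Nat.ble (nat_lit 2338) i)) (Nat.ble (nat_lit 2337) i))
noncomputable def t2339_2341 (i : ℕ) : ℕ := (@Bool.rec (fun _ => ℕ) l2339 l2340 (Nat.ble (nat_lit 2340) i))
noncomputable def t2341_2344 (i : ℕ) : ℕ := (@Bool.rec (fun _ => ℕ) l2341 (@Bool.rec (fun _ => ℕ) l2342 l2343 (Nat.ble (nat_lit 2343) i)) (Nat.ble (nat_lit 2342) i))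
noncomputable def t2325_2344 (i : ℕ) : ℕ := (@Bool.rec (fun _ => ℕ) (@Bool.rec (fun _ => ℕ) (@Bool.rec (fun _ => ℕ) (t2325_2327 i) (t2327_2329 i) (Nat.ble (nat_lit 2327) i)) (@Bool.rec (fun _ => ℕ) (t2329_2331 i) (t2331_2334 i) (Nat.ble (nat_lit 2331) i)) (Nat.ble (nat_lit 2329) i)) (@Bool.rec (fun _ => ℕ) (@Bool.rec (fun _ => ℕ) (t2334_2336 i) (t2336_2339 i) (Nat.ble (nat_lit 2336) i)) (@Bool.rec (fun _ => ℕ) (t2339_2341 i) (t2341_2344 i) (Nat.ble (nat_lit 2341) i)) (Nat.ble (nat_lit 2339) i)) (Nat.ble (nat_lit 2334) i))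
noncomputable def t2344_2346 (i : ℕ) : ℕ := (@Bool.rec (fun _ => ℕ) l2344 l2345 (Nat.ble (nat_lit 2345) i))
noncomputable def t2346_2348 (i : ℕ) : ℕ := (@Bool.rec (fun _ => ℕ) l2346 l2347 (Nat.ble (nat_lit 2347) i))
noncomputable def t2348_2350 (i : ℕ) : ℕ := (@Bool.rec (fun _ => ℕ) l2348 l2349 (Nat.ble (nat_lit 2349) i))
noncomputable def t2350_2353 (i : ℕ) : ℕ := (@Bool.rec (fun _ => ℕ) l2350 (@Bool.rec (fun _ => ℕ) l2351 l2352 (Nat.ble (nat_lit 2352) i)) (Nat.ble (nat_lit 2351) i))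
noncomputable def t2353_2355 (i : ℕ) : ℕ := (@Bool.rec (fun _ => ℕ) l2353 l2354 (Nat.ble (nat_lit 2354) i))
noncomputable def t2355_2358 (i : ℕ) : ℕ := (@Bool.rec (fun _ => ℕ) l2355 (@Bool.rec (fun _ => ℕ) l2356 l2357 (Nat.ble (nat_lit 2357) i)) (Nat.ble (nat_lit 2356) i))
noncomputable def t2358_2360 (i : ℕ) : ℕ := (@Bool.rec (fun _ => ℕ) l2358 l2359 (Nat.ble (nat_lit 2359) i))
noncomputable def t2360_2363 (i : ℕ) : ℕ := (@Bool.rec (fun _ => ℕ) l2360 (@Bool.rec (fun _ => ℕ) l2361 l2362 (Nat.ble (nat_lit 2362) i)) (Nat.ble (nat_lit 2361) i))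
noncomputable def t2344_2363 (i : ℕ) : ℕ := (@Bool.rec (fun _ => ℕ) (@Bool.rec (fun _ => ℕ) (@Bool.rec (fun _ => ℕ) (t2344_2346 i) (t2346_2348 i) (Nat.ble (nat_lit 2346) i)) (@Bool.rec (fun _ => ℕ) (t2348_2350 i) (t2350_2353 i) (Nat.ble (nat_lit 2350) i)) (Nat.ble (nat_lit 2348) i)) (@Bool.rec (fun _ => ℕ) (@Bool.rec (fun _ => ℕ) (t2353_2355 i) (t2355_2358 i) (Nat.ble (nat_lit 2355) i)) (@Bool.rec (fun _ => ℕ) (t2358_2360 i) (t2360_2363 i) (Nat.ble (nat_lit 2360) i)) (Nat.ble (nat_lit 2358) i)) (Nat.ble (nat_lit 2353) i))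
noncomputable def t2363_2365 (i : ℕ) : ℕ := (@Bool.rec (fun _ => ℕ) l2363 l2364 (Nat.ble (nat_lit 2364) i))
noncomputable def t2365_2367 (i : ℕ) : ℕ := (@Bool.rec (fun _ => ℕ) l2365 l2366 (Nat.ble (nat_lit 2366) i))
noncomputable def t2367_2369 (i : ℕ) : ℕ := (@Bool.rec (fun _ => ℕ) l2367 l2368 (Nat.ble (nat_lit 2368) i))
noncomputable def t2369_2372 (i : ℕ) : ℕ := (@Bool.rec (fun _ => ℕ) l2369 (@Bool.rec (fun _ => ℕ) l2370 l2371 (Nat.ble (nat_lit 2371) i)) (Nat.ble (nat_lit 2370) i))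
noncomputable def t2372_2374 (i : ℕ) : ℕ := (@Bool.rec (fun _ => ℕ) l2372 l2373 (Nat.ble (nat_lit 2373) i))
noncomputable def t2374_2377 (i : ℕ) : ℕ := (@Bool.rec (fun _ => ℕ) l2374 (@Bool.rec (fun _ => ℕ) l2375 l2376 (Nat.ble (nat_lit 2376) i)) (Nat.ble (nat_lit 2375) i))
noncomputable def t2377_2379 (i : ℕ) : ℕ := (@Bool.rec (fun _ => ℕ) l2377 l2378 (Nat.ble (nat_lit 2378) i))
noncomputable def t2379_2382 (i : ℕ) : ℕ := (@Bool.rec (fun _ => ℕ) l2379 (@Bool.rec (fun _ => ℕ) l2380 l2381 (Nat.ble (nat_lit 2381) i)) (Nat.ble (nat_lit 2380) i))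
noncomputable def t2363_2382 (i : ℕ) : ℕ := (@Bool.rec (fun _ => ℕ) (@Bool.rec (fun _ => ℕ) (@Bool.rec (fun _ => ℕ) (t2363_2365 i) (t2365_2367 i) (Nat.ble (nat_lit 2365) i)) (@Bool.rec (fun _ => ℕ) (t2367_2369 i) (t2369_2372 i) (Nat.ble (nat_lit 2369) i)) (Nat.ble (nat_lit 2367) i)) (@Bool.rec (fun _ => ℕ) (@Bool.rec (fun _ => ℕ) (t2372_2374 i) (t2374_2377 i) (Nat.ble (nat_lit 2374) i)) (@Bool.rec (fun _ => ℕ) (t2377_2379 i) (t2379_2382 i) (Nat.ble (nat_lit 2379) i)) (Nat.ble (nat_lit 2377) i)) (Nat.ble (nat_lit 2372) i))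
noncomputable def t2382_2384 (i : ℕ) : ℕ := (@Bool.rec (fun _ => ℕ) l2382 l2383 (Nat.ble (nat_lit 2383) i))
noncomputable def t2384_2386 (i : ℕ) : ℕ := (@Bool.rec (fun _ => ℕ) l2384 l2385 (Nat.ble (nat_lit 2385) i))
noncomputable def t2386_2388 (i : ℕ) : ℕ := (@Bool.rec (fun _ => ℕ) l2386 l2387 (Nat.ble (nat_lit 2387) i))
noncomputable def t2388_2391 (i : ℕ) : ℕ := (@Bool.rec (fun _ => ℕ) l2388 (@Bool.rec (fun _ => ℕ) l2389 l2390 (Nat.ble (nat_lit 2390) i)) (Nat.ble (nat_lit 2389) i))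
noncomputable def t2391_2393 (i : ℕ) : ℕ := (@Bool.rec (fun _ => ℕ) l2391 l2392 (Nat.ble (nat_lit 2392) i))
noncomputable def t2393_2396 (i : ℕ) : ℕ := (@Bool.rec (fun _ => ℕ) l2393 (@Bool.rec (fun _ => ℕ) l2394 l2395 (Nat.ble (nat_lit 2395) i)) (Nat.ble (nat_lit 2394) i))
noncomputable def t2396_2398 (i : ℕ) : ℕ := (@Bool.rec (fun _ => ℕ) l2396 l2397 (Nat.ble (nat_lit 2397) i))
noncomputable def t2398_2401 (i : ℕ) : ℕ := (@Bool.rec (fun _ => ℕ) l2398 (@Bool.rec (fun _ => ℕ) l2399 l2400 (Nat.ble (nat_lit 2400) i)) (Nat.ble (nat_lit 2399) i))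
noncomputable def t2382_2401 (i : ℕ) : ℕ := (@Bool.rec (fun _ => ℕ) (@Bool.rec (fun _ => ℕ) (@Bool.rec (fun _ => ℕ) (t2382_2384 i) (t2384_2386 i) (Nat.ble (nat_lit 2384) i)) (@Bool.rec (fun _ => ℕ) (t2386_2388 i) (t2388_2391 i) (Nat.ble (nat_lit 2388) i)) (Nat.ble (nat_lit 2386) i)) (@Bool.rec (fun _ => ℕ) (@Bool.rec (fun _ => ℕ) (t2391_2393 i) (t2393_2396 i) (Nat.ble (nat_lit 2393) i)) (@Bool.rec (fun _ => ℕ) (t2396_2398 i) (t2398_2401 i) (Nat.ble (nat_lit 2398) i)) (Nat.ble (nat_lit 2396) i)) (Nat.ble (nat_lit 2391) i))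
noncomputable def t2250_2401 (i : ℕ) : ℕ := (@Bool.rec (fun _ => ℕ) (@Bool.rec (fun _ => ℕ) (@Bool.rec (fun _ => ℕ) (t2250_2268 i) (t2268_2287 i) (Nat.ble (nat_lit 2268) i)) (@Bool.rec (fun _ => ℕ) (t2287_2306 i) (t2306_2325 i) (Nat.ble (nat_lit 2306) i)) (Nat.ble (nat_lit 2287) i)) (@Bool.rec (fun _ => ℕ) (@Bool.rec (fun _ => ℕ) (t2325_2344 i) (t2344_2363 i) (Nat.ble (nat_lit 2344) i)) (@Bool.rec (fun _ => ℕ) (t2363_2382 i) (t2382_2401 i) (Nat.ble (nat_lit 2382) i)) (Nat.ble (nat_lit 2363) i)) (Nat.ble (nat_lit 2325) i))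
noncomputable def t1200_2401 (i : ℕ) : ℕ := (@Bool.rec (fun _ => ℕ) (@Bool.rec (fun _ => ℕ) (@Bool.rec (fun _ => ℕ) (t1200_1350 i) (t1350_1500 i) (Nat.ble (nat_lit 1350) i)) (@Bool.rec (fun _ => ℕ) (t1500_1650 i) (t1650_1800 i) (Nat.ble (nat_lit 1650) i)) (Nat.ble (nat_lit 1500) i)) (@Bool.rec (fun _ => ℕ) (@Bool.rec (fun _ => ℕ) (t1800_1950 i) (t1950_2100 i) (Nat.ble (nat_lit 1950) i)) (@Bool.rec (fun _ => ℕ) (t2100_2250 i) (t2250_2401 i) (Nat.ble (nat_lit 2250) i)) (Nat.ble (nat_lit 2100) i)) (Nat.ble (nat_lit 1800) i))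
noncomputable def t2401_2403 (i : ℕ) : ℕ := (@Bool.rec (fun _ => ℕ) l2401 l2402 (Nat.ble (nat_lit 2402) i))
noncomputable def t2403_2405 (i : ℕ) : ℕ := (@Bool.rec (fun _ => ℕ) l2403 l2404 (Nat.ble (nat_lit 2404) i))
noncomputable def t2405_2407 (i : ℕ) : ℕ := (@Bool.rec (fun _ => ℕ) l2405 l2406 (Nat.ble (nat_lit 2406) i))
noncomputable def t2407_2410 (i : ℕ) : ℕ := (@Bool.rec (fun _ => ℕ) l2407 (@Bool.rec (fun _ => ℕ) l2408 l2409 (Nat.ble (nat_lit 2409) i)) (Nat.ble (nat_lit 2408) i))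
noncomputable def t2410_2412 (i : ℕ) : ℕ := (@Bool.rec (fun _ => ℕ) l2410 l2411 (Nat.ble (nat_lit 2411) i))
noncomputable def t2412_2414 (i : ℕ) : ℕ := (@Bool.rec (fun _ => ℕ) l2412 l2413 (Nat.ble (nat_lit 2413) i))
noncomputable def t2414_2416 (i : ℕ) : ℕ := (@Bool.rec (fun _ => ℕ) l2414 l2415 (Nat.ble (nat_lit 2415) i))
noncomputable def t2416_2419 (i : ℕ) : ℕ := (@Bool.rec (fun _ => ℕ) l2416 (@Bool.rec (fun _ => ℕ) l2417 l2418 (Nat.ble (nat_lit 2418) i)) (Nat.ble (nat_lit 2417) i))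
noncomputable def t2401_2419 (i : ℕ) : ℕ := (@Bool.rec (fun _ => ℕ) (@Bool.rec (fun _ => ℕ) (@Bool.rec (fun _ => ℕ) (t2401_2403 i) (t2403_2405 i) (Nat.ble (nat_lit 2403) i)) (@Bool.rec (fun _ => ℕ) (t2405_2407 i) (t2407_2410 i) (Nat.ble (nat_lit 2407) i)) (Nat.ble (nat_lit 2405) i)) (@Bool.rec (fun _ => ℕ) (@Bool.rec (fun _ => ℕ) (t2410_2412 i) (t2412_2414 i) (Nat.ble (nat_lit 2412) i)) (@Bool.rec (fun _ => ℕ) (t2414_2416 i) (t2416_2419 i) (Nat.ble (nat_lit 2416) i)) (Nat.ble (nat_lit 2414) i)) (Nat.ble (nat_lit 2410) i))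
noncomputable def t2419_2421 (i : ℕ) : ℕ := (@Bool.rec (fun _ => ℕ) l2419 l2420 (Nat.ble (nat_lit 2420) i))
noncomputable def t2421_2423 (i : ℕ) : ℕ := (@Bool.rec (fun _ => ℕ) l2421 l2422 (Nat.ble (nat_lit 2422) i))
noncomputable def t2423_2425 (i : ℕ) : ℕ := (@Bool.rec (fun _ => ℕ) l2423 l2424 (Nat.ble (nat_lit 2424) i))
noncomputable def t2425_2428 (i : ℕ) : ℕ := (@Bool.rec (fun _ => ℕ) l2425 (@Bool.rec (fun _ => ℕ) l2426 l2427 (Nat.ble (nat_lit 2427) i)) (Nat.ble (nat_lit 2426) i))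
noncomputable def t2428_2430 (i : ℕ) : ℕ := (@Bool.rec (fun _ => ℕ) l2428 l2429 (Nat.ble (nat_lit 2429) i))
noncomputable def t2430_2433 (i : ℕ) : ℕ := (@Bool.rec (fun _ => ℕ) l2430 (@Bool.rec (fun _ => ℕ) l2431 l2432 (Nat.ble (nat_lit 2432) i)) (Nat.ble (nat_lit 2431) i))
noncomputable def t2433_2435 (i : ℕ) : ℕ := (@Bool.rec (fun _ => ℕ) l2433 l2434 (Nat.ble (nat_lit 2434) i))
noncomputable def t2435_2438 (i : ℕ) : ℕ := (@Bool.rec (fun _ => ℕ) l2435 (@Bool.rec (fun _ => ℕ) l2436 l2437 (Nat.ble (nat_lit 2437) i)) (Nat.ble (nat_lit 2436) i))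
noncomputable def t2419_2438 (i : ℕ) : ℕ := (@Bool.rec (fun _ => ℕ) (@Bool.rec (fun _ => ℕ) (@Bool.rec (fun _ => ℕ) (t2419_2421 i) (t2421_2423 i) (Nat.ble (nat_lit 2421) i)) (@Bool.rec (fun _ => ℕ) (t2423_2425 i) (t2425_2428 i) (Nat.ble (nat_lit 2425) i)) (Nat.ble (nat_lit 2423) i)) (@Bool.rec (fun _ => ℕ) (@Bool.rec (fun _ => ℕ) (t2428_2430 i) (t2430_2433 i) (Nat.ble (nat_lit 2430) i)) (@Bool.rec (fun _ => ℕ) (t2433_2435 i) (t2435_2438 i) (Nat.ble (nat_lit 2435) i)) (Nat.ble (nat_lit 2433) i)) (Nat.ble (nat_lit 2428) i))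
noncomputable def t2438_2440 (i : ℕ) : ℕ := (@Bool.rec (fun _ => ℕ) l2438 l2439 (Nat.ble (nat_lit 2439) i))
noncomputable def t2440_2442 (i : ℕ) : ℕ := (@Bool.rec (fun _ => ℕ) l2440 l2441 (Nat.ble (nat_lit 2441) i))
noncomputable def t2442_2444 (i : ℕ) : ℕ := (@Bool.rec (fun _ => ℕ) l2442 l2443 (Nat.ble (nat_lit 2443) i))
noncomputable def t2444_2447 (i : ℕ) : ℕ := (@Bool.rec (fun _ => ℕ) l2444 (@Bool.rec (fun _ => ℕ) l2445 l2446 (Nat.ble (nat_lit 2446) i)) (Nat.ble (nat_lit 2445) i))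
noncomputable def t2447_2449 (i : ℕ) : ℕ := (@Bool.rec (fun _ => ℕ) l2447 l2448 (Nat.ble (nat_lit 2448) i))
noncomputable def t2449_2452 (i : ℕ) : ℕ := (@Bool.rec (fun _ => ℕ) l2449 (@Bool.rec (fun _ => ℕ) l2450 l2451 (Nat.ble (nat_lit 2451) i)) (Nat.ble (nat_lit 2450) i))
noncomputable def t2452_2454 (i : ℕ) : ℕ := (@Bool.rec (fun _ => ℕ) l2452 l2453 (Nat.ble (nat_lit 2453) i))
noncomputable def t2454_2457 (i : ℕ) : ℕ := (@Bool.rec (fun _ => ℕ) l2454 (@Bool.rec (fun _ => ℕ) l2455 l2456 (Nat.ble (nat_lit 2456) i)) (Nat.ble (nat_lit 2455) i))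
noncomputable def t2438_2457 (i : ℕ) : ℕ := (@Bool.rec (fun _ => ℕ) (@Bool.rec (fun _ => ℕ) (@Bool.rec (fun _ => ℕ) (t2438_2440 i) (t2440_2442 i) (Nat.ble (nat_lit 2440) i)) (@Bool.rec (fun _ => ℕ) (t2442_2444 i) (t2444_2447 i) (Nat.ble (nat_lit 2444) i)) (Nat.ble (nat_lit 2442) i)) (@Bool.rec (fun _ => ℕ) (@Bool.rec (fun _ => ℕ) (t2447_2449 i) (t2449_2452 i) (Nat.ble (nat_lit 2449) i)) (@Bool.rec (fun _ => ℕ) (t2452_2454 i) (t2454_2457 i) (Nat.ble (nat_lit 2454) i)) (Nat.ble (nat_lit 2452) i)) (Nat.ble (nat_lit 2447) i))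
noncomputable def t2457_2459 (i : ℕ) : ℕ := (@Bool.rec (fun _ => ℕ) l2457 l2458 (Nat.ble (nat_lit 2458) i))
noncomputable def t2459_2461 (i : ℕ) : ℕ := (@Bool.rec (fun _ => ℕ) l2459 l2460 (Nat.ble (nat_lit 2460) i))
noncomputable def t2461_2463 (i : ℕ) : ℕ := (@Bool.rec (fun _ => ℕ) l2461 l2462 (Nat.ble (nat_lit 2462) i))
noncomputable def t2463_2466 (i : ℕ) : ℕ := (@Bool.rec (fun _ => ℕ) l2463 (@Bool.rec (fun _ => ℕ) l2464 l2465 (Nat.ble (nat_lit 2465) i)) (Nat.ble (nat_lit 2464) i))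
noncomputable def t2466_2468 (i : ℕ) : ℕ := (@Bool.rec (fun _ => ℕ) l2466 l2467 (Nat.ble (nat_lit 2467) i))
noncomputable def t2468_2471 (i : ℕ) : ℕ := (@Bool.rec (fun _ => ℕ) l2468 (@Bool.rec (fun _ => ℕ) l2469 l2470 (Nat.ble (nat_lit 2470) i)) (Nat.ble (nat_lit 2469) i))
noncomputable def t2471_2473 (i : ℕ) : ℕ := (@Bool.rec (fun _ => ℕ) l2471 l2472 (Nat.ble (nat_lit 2472) i))
noncomputable def t2473_2476 (i : ℕ) : ℕ := (@Bool.rec (fun _ => ℕ) l2473 (@Bool.rec (fun _ => ℕ) l2474 l2475 (Nat.ble (nat_lit 2475) i)) (Nat.ble (nat_lit 2474) i))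
noncomputable def t2457_2476 (i : ℕ) : ℕ := (@Bool.rec (fun _ => ℕ) (@Bool.rec (fun _ => ℕ) (@Bool.rec (fun _ => ℕ) (t2457_2459 i) (t2459_2461 i) (Nat.ble (nat_lit 2459) i)) (@Bool.rec (fun _ => ℕ) (t2461_2463 i) (t2463_2466 i) (Nat.ble (nat_lit 2463) i)) (Nat.ble (nat_lit 2461) i)) (@Bool.rec (fun _ => ℕ) (@Bool.rec (fun _ => ℕ) (t2466_2468 i) (t2468_2471 i) (Nat.ble (nat_lit 2468) i)) (@Bool.rec (fun _ => ℕ) (t2471_2473 i) (t2473_2476 i) (Nat.ble (nat_lit 2473) i)) (Nat.ble (nat_lit 2471) i)) (Nat.ble (nat_lit 2466) i))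
noncomputable def t2476_2478 (i : ℕ) : ℕ := (@Bool.rec (fun _ => ℕ) l2476 l2477 (Nat.ble (nat_lit 2477) i))
noncomputable def t2478_2480 (i : ℕ) : ℕ := (@Bool.rec (fun _ => ℕ) l2478 l2479 (Nat.ble (nat_lit 2479) i))
noncomputable def t2480_2482 (i : ℕ) : ℕ := (@Bool.rec (fun _ => ℕ) l2480 l2481 (Nat.ble (nat_lit 2481) i))
noncomputable def t2482_2485 (i : ℕ) : ℕ := (@Bool.rec (fun _ => ℕ) l2482 (@Bool.rec (fun _ => ℕ) l2483 l2484 (Nat.ble (nat_lit 2484) i)) (Nat.ble (nat_lit 2483) i))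
noncomputable def t2485_2487 (i : ℕ) : ℕ := (@Bool.rec (fun _ => ℕ) l2485 l2486 (Nat.ble (nat_lit 2486) i))
noncomputable def t2487_2489 (i : ℕ) : ℕ := (@Bool.rec (fun _ => ℕ) l2487 l2488 (Nat.ble (nat_lit 2488) i))
noncomputable def t2489_2491 (i : ℕ) : ℕ := (@Bool.rec (fun _ => ℕ) l2489 l2490 (Nat.ble (nat_lit 2490) i))
noncomputable def t2491_2494 (i : ℕ) : ℕ := (@Bool.rec (fun _ => ℕ) l2491 (@Bool.rec (fun _ => ℕ) l2492 l2493 (Nat.ble (nat_lit 2493) i)) (Nat.ble (nat_lit 2492) i))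
noncomputable def t2476_2494 (i : ℕ) : ℕ := (@Bool.rec (fun _ => ℕ) (@Bool.rec (fun _ => ℕ) (@Bool.rec (fun _ => ℕ) (t2476_2478 i) (t2478_2480 i) (Nat.ble (nat_lit 2478) i)) (@Bool.rec (fun _ => ℕ) (t2480_2482 i) (t2482_2485 i) (Nat.ble (nat_lit 2482) i)) (Nat.ble (nat_lit 2480) i)) (@Bool.rec (fun _ => ℕ) (@Bool.rec (fun _ => ℕ) (t2485_2487 i) (t2487_2489 i) (Nat.ble (nat_lit 2487) i)) (@Bool.rec (fun _ => ℕ) (t2489_2491 i) (t2491_2494 i) (Nat.ble (nat_lit 2491) i)) (Nat.ble (nat_lit 2489) i)) (Nat.ble (nat_lit 2485) i))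
noncomputable def t2494_2496 (i : ℕ) : ℕ := (@Bool.rec (fun _ => ℕ) l2494 l2495 (Nat.ble (nat_lit 2495) i))
noncomputable def t2496_2498 (i : ℕ) : ℕ := (@Bool.rec (fun _ => ℕ) l2496 l2497 (Nat.ble (nat_lit 2497) i))
noncomputable def t2498_2500 (i : ℕ) : ℕ := (@Bool.rec (fun _ => ℕ) l2498 l2499 (Nat.ble (nat_lit 2499) i))
noncomputable def t2500_2503 (i : ℕ) : ℕ := (@Bool.rec (fun _ => ℕ) l2500 (@Bool.rec (fun _ => ℕ) l2501 l2502 (Nat.ble (nat_lit 2502) i)) (Nat.ble (nat_lit 2501) i))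
noncomputable def t2503_2505 (i : ℕ) : ℕ := (@Bool.rec (fun _ => ℕ) l2503 l2504 (Nat.ble (nat_lit 2504) i))
noncomputable def t2505_2508 (i : ℕ) : ℕ := (@Bool.rec (fun _ => ℕ) l2505 (@Bool.rec (fun _ => ℕ) l2506 l2507 (Nat.ble (nat_lit 2507) i)) (Nat.ble (nat_lit 2506) i))
noncomputable def t2508_2510 (i : ℕ) : ℕ := (@Bool.rec (fun _ => ℕ) l2508 l2509 (Nat.ble (nat_lit 2509) i))
noncomputable def t2510_2513 (i : ℕ) : ℕ := (@Bool.rec (fun _ => ℕ) l2510 (@Bool.rec (fun _ => ℕ) l2511 l2512 (Nat.ble (nat_lit 2512) i)) (Nat.ble (nat_lit 2511) i))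
noncomputable def t2494_2513 (i : ℕ) : ℕ := (@Bool.rec (fun _ => ℕ) (@Bool.rec (fun _ => ℕ) (@Bool.rec (fun _ => ℕ) (t2494_2496 i) (t2496_2498 i) (Nat.ble (nat_lit 2496) i)) (@Bool.rec (fun _ => ℕ) (t2498_2500 i) (t2500_2503 i) (Nat.ble (nat_lit 2500) i)) (Nat.ble (nat_lit 2498) i)) (@Bool.rec (fun _ => ℕ) (@Bool.rec (fun _ => ℕ) (t2503_2505 i) (t2505_2508 i) (Nat.ble (nat_lit 2505) i)) (@Bool.rec (fun _ => ℕ) (t2508_2510 i) (t2510_2513 i) (Nat.ble (nat_lit 2510) i)) (Nat.ble (nat_lit 2508) i)) (Nat.ble (nat_lit 2503) i))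
noncomputable def t2513_2515 (i : ℕ) : ℕ := (@Bool.rec (fun _ => ℕ) l2513 l2514 (Nat.ble (nat_lit 2514) i))
noncomputable def t2515_2517 (i : ℕ) : ℕ := (@Bool.rec (fun _ => ℕ) l2515 l2516 (Nat.ble (nat_lit 2516) i))
noncomputable def t2517_2519 (i : ℕ) : ℕ := (@Bool.rec (fun _ => ℕ) l2517 l2518 (Nat.ble (nat_lit 2518) i))
noncomputable def t2519_2522 (i : ℕ) : ℕ := (@Bool.rec (fun _ => ℕ) l2519 (@Bool.rec (fun _ => ℕ) l2520 l2521 (Nat.ble (nat_lit 2521) i)) (Nat.ble (nat_lit 2520) i))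
noncomputable def t2522_2524 (i : ℕ) : ℕ := (@Bool.rec (fun _ => ℕ) l2522 l2523 (Nat.ble (nat_lit 2523) i))
noncomputable def t2524_2527 (i : ℕ) : ℕ := (@Bool.rec (fun _ => ℕ) l2524 (@Bool.rec (fun _ => ℕ) l2525 l2526 (Nat.ble (nat_lit 2526) i)) (Nat.ble (nat_lit 2525) i))
noncomputable def t2527_2529 (i : ℕ) : ℕ := (@Bool.rec (fun _ => ℕ) l2527 l2528 (Nat.ble (nat_lit 2528) i))
noncomputable def t2529_2532 (i : ℕ) : ℕ := (@Bool.rec (fun _ => ℕ) l2529 (@Bool.rec (fun _ => ℕ) l2530 l2531 (Nat.ble (nat_lit 2531) i)) (Nat.ble (nat_lit 2530) i))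
noncomputable def t2513_2532 (i : ℕ) : ℕ := (@Bool.rec (fun _ => ℕ) (@Bool.rec (fun _ => ℕ) (@Bool.rec (fun _ => ℕ) (t2513_2515 i) (t2515_2517 i) (Nat.ble (nat_lit 2515) i)) (@Bool.rec (fun _ => ℕ) (t2517_2519 i) (t2519_2522 i) (Nat.ble (nat_lit 2519) i)) (Nat.ble (nat_lit 2517) i)) (@Bool.rec (fun _ => ℕ) (@Bool.rec (fun _ => ℕ) (t2522_2524 i) (t2524_2527 i) (Nat.ble (nat_lit 2524) i)) (@Bool.rec (fun _ => ℕ) (t2527_2529 i) (t2529_2532 i) (Nat.ble (nat_lit 2529) i)) (Nat.ble (nat_lit 2527) i)) (Nat.ble (nat_lit 2522) i))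
noncomputable def t2532_2534 (i : ℕ) : ℕ := (@Bool.rec (fun _ => ℕ) l2532 l2533 (Nat.ble (nat_lit 2533) i))
noncomputable def t2534_2536 (i : ℕ) : ℕ := (@Bool.rec (fun _ => ℕ) l2534 l2535 (Nat.ble (nat_lit 2535) i))
noncomputable def t2536_2538 (i : ℕ) : ℕ := (@Bool.rec (fun _ => ℕ) l2536 l2537 (Nat.ble (nat_lit 2537) i))
noncomputable def t2538_2541 (i : ℕ) : ℕ := (@Bool.rec (fun _ => ℕ) l2538 (@Bool.rec (fun _ => ℕ) l2539 l2540 (Nat.ble (nat_lit 2540) i)) (Nat.ble (nat_lit 2539) i))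
noncomputable def t2541_2543 (i : ℕ) : ℕ := (@Bool.rec (fun _ => ℕ) l2541 l2542 (Nat.ble (nat_lit 2542) i))
noncomputable def t2543_2546 (i : ℕ) : ℕ := (@Bool.rec (fun _ => ℕ) l2543 (@Bool.rec (fun _ => ℕ) l2544 l2545 (Nat.ble (nat_lit 2545) i)) (Nat.ble (nat_lit 2544) i))
noncomputable def t2546_2548 (i : ℕ) : ℕ := (@Bool.rec (fun _ => ℕ) l2546 l2547 (Nat.ble (nat_lit 2547) i))
noncomputable def t2548_2551 (i : ℕ) : ℕ := (@Bool.rec (fun _ => ℕ) l2548 (@Bool.rec (fun _ => ℕ) l2549 l2550 (Nat.ble (nat_lit 2550) i)) (Nat.ble (nat_lit 2549) i))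
noncomputable def t2532_2551 (i : ℕ) : ℕ := (@Bool.rec (fun _ => ℕ) (@Bool.rec (fun _ => ℕ) (@Bool.rec (fun _ => ℕ) (t2532_2534 i) (t2534_2536 i) (Nat.ble (nat_lit 2534) i)) (@Bool.rec (fun _ => ℕ) (t2536_2538 i) (t2538_2541 i) (Nat.ble (nat_lit 2538) i)) (Nat.ble (nat_lit 2536) i)) (@Bool.rec (fun _ => ℕ) (@Bool.rec (fun _ => ℕ) (t2541_2543 i) (t2543_2546 i) (Nat.ble (nat_lit 2543) i)) (@Bool.rec (fun _ => ℕ) (t2546_2548 i) (t2548_2551 i) (Nat.ble (nat_lit 2548) i)) (Nat.ble (nat_lit 2546) i)) (Nat.ble (nat_lit 2541) i))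
noncomputable def t2401_2551 (i : ℕ) : ℕ := (@Bool.rec (fun _ => ℕ) (@Bool.rec (fun _ => ℕ) (@Bool.rec (fun _ => ℕ) (t2401_2419 i) (t2419_2438 i) (Nat.ble (nat_lit 2419) i)) (@Bool.rec (fun _ => ℕ) (t2438_2457 i) (t2457_2476 i) (Nat.ble (nat_lit 2457) i)) (Nat.ble (nat_lit 2438) i)) (@Bool.rec (fun _ => ℕ) (@Bool.rec (fun _ => ℕ) (t2476_2494 i) (t2494_2513 i) (Nat.ble (nat_lit 2494) i)) (@Bool.rec (fun _ => ℕ) (t2513_2532 i) (t2532_2551 i) (Nat.ble (nat_lit 2532) i)) (Nat.ble (nat_lit 2513) i)) (Nat.ble (nat_lit 2476) i))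
noncomputable def t2551_2553 (i : ℕ) : ℕ := (@Bool.rec (fun _ => ℕ) l2551 l2552 (Nat.ble (nat_lit 2552) i))
noncomputable def t2553_2555 (i : ℕ) : ℕ := (@Bool.rec (fun _ => ℕ) l2553 l2554 (Nat.ble (nat_lit 2554) i))
noncomputable def t2555_2557 (i : ℕ) : ℕ := (@Bool.rec (fun _ => ℕ) l2555 l2556 (Nat.ble (nat_lit 2556) i))
noncomputable def t2557_2560 (i : ℕ) : ℕ := (@Bool.rec (fun _ => ℕ) l2557 (@Bool.rec (fun _ => ℕ) l2558 l2559 (Nat.ble (nat_lit 2559) i)) (Nat.ble (nat_lit 2558) i))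
noncomputable def t2560_2562 (i : ℕ) : ℕ := (@Bool.rec (fun _ => ℕ) l2560 l2561 (Nat.ble (nat_lit 2561) i))
noncomputable def t2562_2564 (i : ℕ) : ℕ := (@Bool.rec (fun _ => ℕ) l2562 l2563 (Nat.ble (nat_lit 2563) i))
noncomputable def t2564_2566 (i : ℕ) : ℕ := (@Bool.rec (fun _ => ℕ) l2564 l2565 (Nat.ble (nat_lit 2565) i))
noncomputable def t2566_2569 (i : ℕ) : ℕ := (@Bool.rec (fun _ => ℕ) l2566 (@Bool.rec (fun _ => ℕ) l2567 l2568 (Nat.ble (nat_lit 2568) i)) (Nat.ble (nat_lit 2567) i))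
noncomputable def t2551_2569 (i : ℕ) : ℕ := (@Bool.rec (fun _ => ℕ) (@Bool.rec (fun _ => ℕ) (@Bool.rec (fun _ => ℕ) (t2551_2553 i) (t2553_2555 i) (Nat.ble (nat_lit 2553) i)) (@Bool.rec (fun _ => ℕ) (t2555_2557 i) (t2557_2560 i) (Nat.ble (nat_lit 2557) i)) (Nat.ble (nat_lit 2555) i)) (@Bool.rec (fun _ => ℕ) (@Bool.rec (fun _ => ℕ) (t2560_2562 i) (t2562_2564 i) (Nat.ble (nat_lit 2562) i)) (@Bool.rec (fun _ => ℕ) (t2564_2566 i) (t2566_2569 i) (Nat.ble (nat_lit 2566) i)) (Nat.ble (nat_lit 2564) i)) (Nat.ble (nat_lit 2560) i))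
noncomputable def t2569_2571 (i : ℕ) : ℕ := (@Bool.rec (fun _ => ℕ) l2569 l2570 (Nat.ble (nat_lit 2570) i))
noncomputable def t2571_2573 (i : ℕ) : ℕ := (@Bool.rec (fun _ => ℕ) l2571 l2572 (Nat.ble (nat_lit 2572) i))
noncomputable def t2573_2575 (i : ℕ) : ℕ := (@Bool.rec (fun _ => ℕ) l2573 l2574 (Nat.ble (nat_lit 2574) i))
noncomputable def t2575_2578 (i : ℕ) : ℕ := (@Bool.rec (fun _ => ℕ) l2575 (@Bool.rec (fun _ => ℕ) l2576 l2577 (Nat.ble (nat_lit 2577) i)) (Nat.ble (nat_lit 2576) i))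
noncomputable def t2578_2580 (i : ℕ) : ℕ := (@Bool.rec (fun _ => ℕ) l2578 l2579 (Nat.ble (nat_lit 2579) i))
noncomputable def t2580_2583 (i : ℕ) : ℕ := (@Bool.rec (fun _ => ℕ) l2580 (@Bool.rec (fun _ => ℕ) l2581 l2582 (Nat.ble (nat_lit 2582) i)) (Nat.ble (nat_lit 2581) i))
noncomputable def t2583_2585 (i : ℕ) : ℕ := (@Bool.rec (fun _ => ℕ) l2583 l2584 (Nat.ble (nat_lit 2584) i))
noncomputable def t2585_2588 (i : ℕ) : ℕ := (@Bool.rec (fun _ => ℕ) l2585 (@Bool.rec (fun _ => ℕ) l2586 l2587 (Nat.ble (nat_lit 2587) i)) (Nat.ble (nat_lit 2586) i))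
noncomputable def t2569_2588 (i : ℕ) : ℕ := (@Bool.rec (fun _ => ℕ) (@Bool.rec (fun _ => ℕ) (@Bool.rec (fun _ => ℕ) (t2569_2571 i) (t2571_2573 i) (Nat.ble (nat_lit 2571) i)) (@Bool.rec (fun _ => ℕ) (t2573_2575 i) (t2575_2578 i) (Nat.ble (nat_lit 2575) i)) (Nat.ble (nat_lit 2573) i)) (@Bool.rec (fun _ => ℕ) (@Bool.rec (fun _ => ℕ) (t2578_2580 i) (t2580_2583 i) (Nat.ble (nat_lit 2580) i)) (@Bool.rec (fun _ => ℕ) (t2583_2585 i) (t2585_2588 i) (Nat.ble (nat_lit 2585) i)) (Nat.ble (nat_lit 2583) i)) (Nat.ble (nat_lit 2578) i))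
noncomputable def t2588_2590 (i : ℕ) : ℕ := (@Bool.rec (fun _ => ℕ) l2588 l2589 (Nat.ble (nat_lit 2589) i))
noncomputable def t2590_2592 (i : ℕ) : ℕ := (@Bool.rec (fun _ => ℕ) l2590 l2591 (Nat.ble (nat_lit 2591) i))
noncomputable def t2592_2594 (i : ℕ) : ℕ := (@Bool.rec (fun _ => ℕ) l2592 l2593 (Nat.ble (nat_lit 2593) i))
noncomputable def t2594_2597 (i : ℕ) : ℕ := (@Bool.rec (fun _ => ℕ) l2594 (@Bool.rec (fun _ => ℕ) l2595 l2596 (Nat.ble (nat_lit 2596) i)) (Nat.ble (nat_lit 2595) i))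
noncomputable def t2597_2599 (i : ℕ) : ℕ := (@Bool.rec (fun _ => ℕ) l2597 l2598 (Nat.ble (nat_lit 2598) i))
noncomputable def t2599_2602 (i : ℕ) : ℕ := (@Bool.rec (fun _ => ℕ) l2599 (@Bool.rec (fun _ => ℕ) l2600 l2601 (Nat.ble (nat_lit 2601) i)) (Nat.ble (nat_lit 2600) i))
noncomputable def t2602_2604 (i : ℕ) : ℕ := (@Bool.rec (fun _ => ℕ) l2602 l2603 (Nat.ble (nat_lit 2603) i))
noncomputable def t2604_2607 (i : ℕ) : ℕ := (@Bool.rec (fun _ => ℕ) l2604 (@Bool.rec (fun _ => ℕ) l2605 l2606 (Nat.ble (nat_lit 2606) i)) (Nat.ble (nat_lit 2605) i))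
noncomputable def t2588_2607 (i : ℕ) : ℕ := (@Bool.rec (fun _ => ℕ) (@Bool.rec (fun _ => ℕ) (@Bool.rec (fun _ => ℕ) (t2588_2590 i) (t2590_2592 i) (Nat.ble (nat_lit 2590) i)) (@Bool.rec (fun _ => ℕ) (t2592_2594 i) (t2594_2597 i) (Nat.ble (nat_lit 2594) i)) (Nat.ble (nat_lit 2592) i)) (@Bool.rec (fun _ => ℕ) (@Bool.rec (fun _ => ℕ) (t2597_2599 i) (t2599_2602 i) (Nat.ble (nat_lit 2599) i)) (@Bool.rec (fun _ => ℕ) (t2602_2604 i) (t2604_2607 i) (Nat.ble (nat_lit 2604) i)) (Nat.ble (nat_lit 2602) i)) (Nat.ble (nat_lit 2597) i))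
noncomputable def t2607_2609 (i : ℕ) : ℕ := (@Bool.rec (fun _ => ℕ) l2607 l2608 (Nat.ble (nat_lit 2608) i))
noncomputable def t2609_2611 (i : ℕ) : ℕ := (@Bool.rec (fun _ => ℕ) l2609 l2610 (Nat.ble (nat_lit 2610) i))
noncomputable def t2611_2613 (i : ℕ) : ℕ := (@Bool.rec (fun _ => ℕ) l2611 l2612 (Nat.ble (nat_lit 2612) i))
noncomputable def t2613_2616 (i : ℕ) : ℕ := (@Bool.rec (fun _ => ℕ) l2613 (@Bool.rec (fun _ => ℕ) l2614 l2615 (Nat.ble (nat_lit 2615) i)) (Nat.ble (nat_lit 2614) i))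
noncomputable def t2616_2618 (i : ℕ) : ℕ := (@Bool.rec (fun _ => ℕ) l2616 l2617 (Nat.ble (nat_lit 2617) i))
noncomputable def t2618_2621 (i : ℕ) : ℕ := (@Bool.rec (fun _ => ℕ) l2618 (@Bool.rec (fun _ => ℕ) l2619 l2620 (Nat.ble (nat_lit 2620) i)) (Nat.ble (nat_lit 2619) i))
noncomputable def t2621_2623 (i : ℕ) : ℕ := (@Bool.rec (fun _ => ℕ) l2621 l2622 (Nat.ble (nat_lit 2622) i))
noncomputable def t2623_2626 (i : ℕ) : ℕ := (@Bool.rec (fun _ => ℕ) l2623 (@Bool.rec (fun _ => ℕ) l2624 l2625 (Nat.ble (nat_lit 2625) i)) (Nat.ble (nat_lit 2624) i))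
noncomputable def t2607_2626 (i : ℕ) : ℕ := (@Bool.rec (fun _ => ℕ) (@Bool.rec (fun _ => ℕ) (@Bool.rec (fun _ => ℕ) (t2607_2609 i) (t2609_2611 i) (Nat.ble (nat_lit 2609) i)) (@Bool.rec (fun _ => ℕ) (t2611_2613 i) (t2613_2616 i) (Nat.ble (nat_lit 2613) i)) (Nat.ble (nat_lit 2611) i)) (@Bool.rec (fun _ => ℕ) (@Bool.rec (fun _ => ℕ) (t2616_2618 i) (t2618_2621 i) (Nat.ble (nat_lit 2618) i)) (@Bool.rec (fun _ => ℕ) (t2621_2623 i) (t2623_2626 i) (Nat.ble (nat_lit 2623) i)) (Nat.ble (nat_lit 2621) i)) (Nat.ble (nat_lit 2616) i))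
noncomputable def t2626_2628 (i : ℕ) : ℕ := (@Bool.rec (fun _ => ℕ) l2626 l2627 (Nat.ble (nat_lit 2627) i))
noncomputable def t2628_2630 (i : ℕ) : ℕ := (@Bool.rec (fun _ => ℕ) l2628 l2629 (Nat.ble (nat_lit 2629) i))
noncomputable def t2630_2632 (i : ℕ) : ℕ := (@Bool.rec (fun _ => ℕ) l2630 l2631 (Nat.ble (nat_lit 2631) i))
noncomputable def t2632_2635 (i : ℕ) : ℕ := (@Bool.rec (fun _ => ℕ) l2632 (@Bool.rec (fun _ => ℕ) l2633 l2634 (Nat.ble (nat_lit 2634) i)) (Nat.ble (nat_lit 2633) i))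
noncomputable def t2635_2637 (i : ℕ) : ℕ := (@Bool.rec (fun _ => ℕ) l2635 l2636 (Nat.ble (nat_lit 2636) i))
noncomputable def t2637_2639 (i : ℕ) : ℕ := (@Bool.rec (fun _ => ℕ) l2637 l2638 (Nat.ble (nat_lit 2638) i))
noncomputable def t2639_2641 (i : ℕ) : ℕ := (@Bool.rec (fun _ => ℕ) l2639 l2640 (Nat.ble (nat_lit 2640) i))
noncomputable def t2641_2644 (i : ℕ) : ℕ := (@Bool.rec (fun _ => ℕ) l2641 (@Bool.rec (fun _ => ℕ) l2642 l2643 (Nat.ble (nat_lit 2643) i)) (Nat.ble (nat_lit 2642) i))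
noncomputable def t2626_2644 (i : ℕ) : ℕ := (@Bool.rec (fun _ => ℕ) (@Bool.rec (fun _ => ℕ) (@Bool.rec (fun _ => ℕ) (t2626_2628 i) (t2628_2630 i) (Nat.ble (nat_lit 2628) i)) (@Bool.rec (fun _ => ℕ) (t2630_2632 i) (t2632_2635 i) (Nat.ble (nat_lit 2632) i)) (Nat.ble (nat_lit 2630) i)) (@Bool.rec (fun _ => ℕ) (@Bool.rec (fun _ => ℕ) (t2635_2637 i) (t2637_2639 i) (Nat.ble (nat_lit 2637) i)) (@Bool.rec (fun _ => ℕ) (t2639_2641 i) (t2641_2644 i) (Nat.ble (nat_lit 2641) i)) (Nat.ble (nat_lit 2639) i)) (Nat.ble (nat_lit 2635) i))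
noncomputable def t2644_2646 (i : ℕ) : ℕ := (@Bool.rec (fun _ => ℕ) l2644 l2645 (Nat.ble (nat_lit 2645) i))
noncomputable def t2646_2648 (i : ℕ) : ℕ := (@Bool.rec (fun _ => ℕ) l2646 l2647 (Nat.ble (nat_lit 2647) i))
noncomputable def t2648_2650 (i : ℕ) : ℕ := (@Bool.rec (fun _ => ℕ) l2648 l2649 (Nat.ble (nat_lit 2649) i))
noncomputable def t2650_2653 (i : ℕ) : ℕ := (@Bool.rec (fun _ => ℕ) l2650 (@Bool.rec (fun _ => ℕ) l2651 l2652 (Nat.ble (nat_lit 2652) i)) (Nat.ble (nat_lit 2651) i))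
noncomputable def t2653_2655 (i : ℕ) : ℕ := (@Bool.rec (fun _ => ℕ) l2653 l2654 (Nat.ble (nat_lit 2654) i))
noncomputable def t2655_2658 (i : ℕ) : ℕ := (@Bool.rec (fun _ => ℕ) l2655 (@Bool.rec (fun _ => ℕ) l2656 l2657 (Nat.ble (nat_lit 2657) i)) (Nat.ble (nat_lit 2656) i))
noncomputable def t2658_2660 (i : ℕ) : ℕ := (@Bool.rec (fun _ => ℕ) l2658 l2659 (Nat.ble (nat_lit 2659) i))
noncomputable def t2660_2663 (i : ℕ) : ℕ := (@Bool.rec (fun _ => ℕ) l2660 (@Bool.rec (fun _ => ℕ) l2661 l2662 (Nat.ble (nat_lit 2662) i)) (Nat.ble (nat_lit 2661) i))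
noncomputable def t2644_2663 (i : ℕ) : ℕ := (@Bool.rec (fun _ => ℕ) (@Bool.rec (fun _ => ℕ) (@Bool.rec (fun _ => ℕ) (t2644_2646 i) (t2646_2648 i) (Nat.ble (nat_lit 2646) i)) (@Bool.rec (fun _ => ℕ) (t2648_2650 i) (t2650_2653 i) (Nat.ble (nat_lit 2650) i)) (Nat.ble (nat_lit 2648) i)) (@Bool.rec (fun _ => ℕ) (@Bool.rec (fun _ => ℕ) (t2653_2655 i) (t2655_2658 i) (Nat.ble (nat_lit 2655) i)) (@Bool.rec (fun _ => ℕ) (t2658_2660 i) (t2660_2663 i) (Nat.ble (nat_lit 2660) i)) (Nat.ble (nat_lit 2658) i)) (Nat.ble (nat_lit 2653) i))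
noncomputable def t2663_2665 (i : ℕ) : ℕ := (@Bool.rec (fun _ => ℕ) l2663 l2664 (Nat.ble (nat_lit 2664) i))
noncomputable def t2665_2667 (i : ℕ) : ℕ := (@Bool.rec (fun _ => ℕ) l2665 l2666 (Nat.ble (nat_lit 2666) i))
noncomputable def t2667_2669 (i : ℕ) : ℕ := (@Bool.rec (fun _ => ℕ) l2667 l2668 (Nat.ble (nat_lit 2668) i))
noncomputable def t2669_2672 (i : ℕ) : ℕ := (@Bool.rec (fun _ => ℕ) l2669 (@Bool.rec (fun _ => ℕ) l2670 l2671 (Nat.ble (nat_lit 2671) i)) (Nat.ble (nat_lit 2670) i))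
noncomputable def t2672_2674 (i : ℕ) : ℕ := (@Bool.rec (fun _ => ℕ) l2672 l2673 (Nat.ble (nat_lit 2673) i))
noncomputable def t2674_2677 (i : ℕ) : ℕ := (@Bool.rec (fun _ => ℕ) l2674 (@Bool.rec (fun _ => ℕ) l2675 l2676 (Nat.ble (nat_lit 2676) i)) (Nat.ble (nat_lit 2675) i))
noncomputable def t2677_2679 (i : ℕ) : ℕ := (@Bool.rec (fun _ => ℕ) l2677 l2678 (Nat.ble (nat_lit 2678) i))
noncomputable def t2679_2682 (i : ℕ) : ℕ := (@Bool.rec (fun _ => ℕ) l2679 (@Bool.rec (fun _ => ℕ) l2680 l2681 (Nat.ble (nat_lit 2681) i)) (Nat.ble (nat_lit 2680) i))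
noncomputable def t2663_2682 (i : ℕ) : ℕ := (@Bool.rec (fun _ => ℕ) (@Bool.rec (fun _ => ℕ) (@Bool.rec (fun _ => ℕ) (t2663_2665 i) (t2665_2667 i) (Nat.ble (nat_lit 2665) i)) (@Bool.rec (fun _ => ℕ) (t2667_2669 i) (t2669_2672 i) (Nat.ble (nat_lit 2669) i)) (Nat.ble (nat_lit 2667) i)) (@Bool.rec (fun _ => ℕ) (@Bool.rec (fun _ => ℕ) (t2672_2674 i) (t2674_2677 i) (Nat.ble (nat_lit 2674) i)) (@Bool.rec (fun _ => ℕ) (t2677_2679 i) (t2679_2682 i) (Nat.ble (nat_lit 2679) i)) (Nat.ble (nat_lit 2677) i)) (Nat.ble (nat_lit 2672) i))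
noncomputable def t2682_2684 (i : ℕ) : ℕ := (@Bool.rec (fun _ => ℕ) l2682 l2683 (Nat.ble (nat_lit 2683) i))
noncomputable def t2684_2686 (i : ℕ) : ℕ := (@Bool.rec (fun _ => ℕ) l2684 l2685 (Nat.ble (nat_lit 2685) i))
noncomputable def t2686_2688 (i : ℕ) : ℕ := (@Bool.rec (fun _ => ℕ) l2686 l2687 (Nat.ble (nat_lit 2687) i))
noncomputable def t2688_2691 (i : ℕ) : ℕ := (@Bool.rec (fun _ => ℕ) l2688 (@Bool.rec (fun _ => ℕ) l2689 l2690 (Nat.ble (nat_lit 2690) i)) (Nat.ble (nat_lit 2689) i))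
noncomputable def t2691_2693 (i : ℕ) : ℕ := (@Bool.rec (fun _ => ℕ) l2691 l2692 (Nat.ble (nat_lit 2692) i))
noncomputable def t2693_2696 (i : ℕ) : ℕ := (@Bool.rec (fun _ => ℕ) l2693 (@Bool.rec (fun _ => ℕ) l2694 l2695 (Nat.ble (nat_lit 2695) i)) (Nat.ble (nat_lit 2694) i))
noncomputable def t2696_2698 (i : ℕ) : ℕ := (@Bool.rec (fun _ => ℕ) l2696 l2697 (Nat.ble (nat_lit 2697) i))
noncomputable def t2698_2701 (i : ℕ) : ℕ := (@Bool.rec (fun _ => ℕ) l2698 (@Bool.rec (fun _ => ℕ) l2699 l2700 (Nat.ble (nat_lit 2700) i)) (Nat.ble (nat_lit 2699) i))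
noncomputable def t2682_2701 (i : ℕ) : ℕ := (@Bool.rec (fun _ => ℕ) (@Bool.rec (fun _ => ℕ) (@Bool.rec (fun _ => ℕ) (t2682_2684 i) (t2684_2686 i) (Nat.ble (nat_lit 2684) i)) (@Bool.rec (fun _ => ℕ) (t2686_2688 i) (t2688_2691 i) (Nat.ble (nat_lit 2688) i)) (Nat.ble (nat_lit 2686) i)) (@Bool.rec (fun _ => ℕ) (@Bool.rec (fun _ => ℕ) (t2691_2693 i) (t2693_2696 i) (Nat.ble (nat_lit 2693) i)) (@Bool.rec (fun _ => ℕ) (t2696_2698 i) (t2698_2701 i) (Nat.ble (nat_lit 2698) i)) (Nat.ble (nat_lit 2696) i)) (Nat.ble (nat_lit 2691) i))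
noncomputable def t2551_2701 (i : ℕ) : ℕ := (@Bool.rec (fun _ => ℕ) (@Bool.rec (fun _ => ℕ) (@Bool.rec (fun _ => ℕ) (t2551_2569 i) (t2569_2588 i) (Nat.ble (nat_lit 2569) i)) (@Bool.rec (fun _ => ℕ) (t2588_2607 i) (t2607_2626 i) (Nat.ble (nat_lit 2607) i)) (Nat.ble (nat_lit 2588) i)) (@Bool.rec (fun _ => ℕ) (@Bool.rec (fun _ => ℕ) (t2626_2644 i) (t2644_2663 i) (Nat.ble (nat_lit 2644) i)) (@Bool.rec (fun _ => ℕ) (t2663_2682 i) (t2682_2701 i) (Nat.ble (nat_lit 2682) i)) (Nat.ble (nat_lit 2663) i)) (Nat.ble (nat_lit 2626) i))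
noncomputable def t2701_2703 (i : ℕ) : ℕ := (@Bool.rec (fun _ => ℕ) l2701 l2702 (Nat.ble (nat_lit 2702) i))
noncomputable def t2703_2705 (i : ℕ) : ℕ := (@Bool.rec (fun _ => ℕ) l2703 l2704 (Nat.ble (nat_lit 2704) i))
noncomputable def t2705_2707 (i : ℕ) : ℕ := (@Bool.rec (fun _ => ℕ) l2705 l2706 (Nat.ble (nat_lit 2706) i))
noncomputable def t2707_2710 (i : ℕ) : ℕ := (@Bool.rec (fun _ => ℕ) l2707 (@Bool.rec (fun _ => ℕ) l2708 l2709 (Nat.ble (nat_lit 2709) i)) (Nat.ble (nat_lit 2708) i))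
noncomputable def t2710_2712 (i : ℕ) : ℕ := (@Bool.rec (fun _ => ℕ) l2710 l2711 (Nat.ble (nat_lit 2711) i))
noncomputable def t2712_2714 (i : ℕ) : ℕ := (@Bool.rec (fun _ => ℕ) l2712 l2713 (Nat.ble (nat_lit 2713) i))
noncomputable def t2714_2716 (i : ℕ) : ℕ := (@Bool.rec (fun _ => ℕ) l2714 l2715 (Nat.ble (nat_lit 2715) i))
noncomputable def t2716_2719 (i : ℕ) : ℕ := (@Bool.rec (fun _ => ℕ) l2716 (@Bool.rec (fun _ => ℕ) l2717 l2718 (Nat.ble (nat_lit 2718) i)) (Nat.ble (nat_lit 2717) i))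
noncomputable def t2701_2719 (i : ℕ) : ℕ := (@Bool.rec (fun _ => ℕ) (@Bool.rec (fun _ => ℕ) (@Bool.rec (fun _ => ℕ) (t2701_2703 i) (t2703_2705 i) (Nat.ble (nat_lit 2703) i)) (@Bool.rec (fun _ => ℕ) (t2705_2707 i) (t2707_2710 i) (Nat.ble (nat_lit 2707) i)) (Nat.ble (nat_lit 2705) i)) (@Bool.rec (fun _ => ℕ) (@Bool.rec (fun _ => ℕ) (t2710_2712 i) (t2712_2714 i) (Nat.ble (nat_lit 2712) i)) (@Bool.rec (fun _ => ℕ) (t2714_2716 i) (t2716_2719 i) (Nat.ble (nat_lit 2716) i)) (Nat.ble (nat_lit 2714) i)) (Nat.ble (nat_lit 2710) i))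
noncomputable def t2719_2721 (i : ℕ) : ℕ := (@Bool.rec (fun _ => ℕ) l2719 l2720 (Nat.ble (nat_lit 2720) i))
noncomputable def t2721_2723 (i : ℕ) : ℕ := (@Bool.rec (fun _ => ℕ) l2721 l2722 (Nat.ble (nat_lit 2722) i))
noncomputable def t2723_2725 (i : ℕ) : ℕ := (@Bool.rec (fun _ => ℕ) l2723 l2724 (Nat.ble (nat_lit 2724) i))
noncomputable def t2725_2728 (i : ℕ) : ℕ := (@Bool.rec (fun _ => ℕ) l2725 (@Bool.rec (fun _ => ℕ) l2726 l2727 (Nat.ble (nat_lit 2727) i)) (Nat.ble (nat_lit 2726) i))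
noncomputable def t2728_2730 (i : ℕ) : ℕ := (@Bool.rec (fun _ => ℕ) l2728 l2729 (Nat.ble (nat_lit 2729) i))
noncomputable def t2730_2733 (i : ℕ) : ℕ := (@Bool.rec (fun _ => ℕ) l2730 (@Bool.rec (fun _ => ℕ) l2731 l2732 (Nat.ble (nat_lit 2732) i)) (Nat.ble (nat_lit 2731) i))
noncomputable def t2733_2735 (i : ℕ) : ℕ := (@Bool.rec (fun _ => ℕ) l2733 l2734 (Nat.ble (nat_lit 2734) i))
noncomputable def t2735_2738 (i : ℕ) : ℕ := (@Bool.rec (fun _ => ℕ) l2735 (@Bool.rec (fun _ => ℕ) l2736 l2737 (Nat.ble (nat_lit 2737) i)) (Nat.ble (nat_lit 2736) i))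
noncomputable def t2719_2738 (i : ℕ) : ℕ := (@Bool.rec (fun _ => ℕ) (@Bool.rec (fun _ => ℕ) (@Bool.rec (fun _ => ℕ) (t2719_2721 i) (t2721_2723 i) (Nat.ble (nat_lit 2721) i)) (@Bool.rec (fun _ => ℕ) (t2723_2725 i) (t2725_2728 i) (Nat.ble (nat_lit 2725) i)) (Nat.ble (nat_lit 2723) i)) (@Bool.rec (fun _ => ℕ) (@Bool.rec (fun _ => ℕ) (t2728_2730 i) (t2730_2733 i) (Nat.ble (nat_lit 2730) i)) (@Bool.rec (fun _ => ℕ) (t2733_2735 i) (t2735_2738 i) (Nat.ble (nat_lit 2735) i)) (Nat.ble (nat_lit 2733) i)) (Nat.ble (nat_lit 2728) i))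
noncomputable def t2738_2740 (i : ℕ) : ℕ := (@Bool.rec (fun _ => ℕ) l2738 l2739 (Nat.ble (nat_lit 2739) i))
noncomputable def t2740_2742 (i : ℕ) : ℕ := (@Bool.rec (fun _ => ℕ) l2740 l2741 (Nat.ble (nat_lit 2741) i))
noncomputable def t2742_2744 (i : ℕ) : ℕ := (@Bool.rec (fun _ => ℕ) l2742 l2743 (Nat.ble (nat_lit 2743) i))
noncomputable def t2744_2747 (i : ℕ) : ℕ := (@Bool.rec (fun _ => ℕ) l2744 (@Bool.rec (fun _ => ℕ) l2745 l2746 (Nat.ble (nat_lit 2746) i)) (Nat.ble (nat_lit 2745) i))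
noncomputable def t2747_2749 (i : ℕ) : ℕ := (@Bool.rec (fun _ => ℕ) l2747 l2748 (Nat.ble (nat_lit 2748) i))
noncomputable def t2749_2752 (i : ℕ) : ℕ := (@Bool.rec (fun _ => ℕ) l2749 (@Bool.rec (fun _ => ℕ) l2750 l2751 (Nat.ble (nat_lit 2751) i)) (Nat.ble (nat_lit 2750) i))
noncomputable def t2752_2754 (i : ℕ) : ℕ := (@Bool.rec (fun _ => ℕ) l2752 l2753 (Nat.ble (nat_lit 2753) i))
noncomputable def t2754_2757 (i : ℕ) : ℕ := (@Bool.rec (fun _ => ℕ) l2754 (@Bool.rec (fun _ => ℕ) l2755 l2756 (Nat.ble (nat_lit 2756) i)) (Nat.ble (nat_lit 2755) i))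
noncomputable def t2738_2757 (i : ℕ) : ℕ := (@Bool.rec (fun _ => ℕ) (@Bool.rec (fun _ => ℕ) (@Bool.rec (fun _ => ℕ) (t2738_2740 i) (t2740_2742 i) (Nat.ble (nat_lit 2740) i)) (@Bool.rec (fun _ => ℕ) (t2742_2744 i) (t2744_2747 i) (Nat.ble (nat_lit 2744) i)) (Nat.ble (nat_lit 2742) i)) (@Bool.rec (fun _ => ℕ) (@Bool.rec (fun _ => ℕ) (t2747_2749 i) (t2749_2752 i) (Nat.ble (nat_lit 2749) i)) (@Bool.rec (fun _ => ℕ) (t2752_2754 i) (t2754_2757 i) (Nat.ble (nat_lit 2754) i)) (Nat.ble (nat_lit 2752) i)) (Nat.ble (nat_lit 2747) i))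
noncomputable def t2757_2759 (i : ℕ) : ℕ := (@Bool.rec (fun _ => ℕ) l2757 l2758 (Nat.ble (nat_lit 2758) i))
noncomputable def t2759_2761 (i : ℕ) : ℕ := (@Bool.rec (fun _ => ℕ) l2759 l2760 (Nat.ble (nat_lit 2760) i))
noncomputable def t2761_2763 (i : ℕ) : ℕ := (@Bool.rec (fun _ => ℕ) l2761 l2762 (Nat.ble (nat_lit 2762) i))
noncomputable def t2763_2766 (i : ℕ) : ℕ := (@Bool.rec (fun _ => ℕ) l2763 (@Bool.rec (fun _ => ℕ) l2764 l2765 (Nat.ble (nat_lit 2765) i)) (Nat.ble (nat_lit 2764) i))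
noncomputable def t2766_2768 (i : ℕ) : ℕ := (@Bool.rec (fun _ => ℕ) l2766 l2767 (Nat.ble (nat_lit 2767) i))
noncomputable def t2768_2771 (i : ℕ) : ℕ := (@Bool.rec (fun _ => ℕ) l2768 (@Bool.rec (fun _ => ℕ) l2769 l2770 (Nat.ble (nat_lit 2770) i)) (Nat.ble (nat_lit 2769) i))
noncomputable def t2771_2773 (i : ℕ) : ℕ := (@Bool.rec (fun _ => ℕ) l2771 l2772 (Nat.ble (nat_lit 2772) i))
noncomputable def t2773_2776 (i : ℕ) : ℕ := (@Bool.rec (fun _ => ℕ) l2773 (@Bool.rec (fun _ => ℕ) l2774 l2775 (Nat.ble (nat_lit 2775) i)) (Nat.ble (nat_lit 2774) i))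
noncomputable def t2757_2776 (i : ℕ) : ℕ := (@Bool.rec (fun _ => ℕ) (@Bool.rec (fun _ => ℕ) (@Bool.rec (fun _ => ℕ) (t2757_2759 i) (t2759_2761 i) (Nat.ble (nat_lit 2759) i)) (@Bool.rec (fun _ => ℕ) (t2761_2763 i) (t2763_2766 i) (Nat.ble (nat_lit 2763) i)) (Nat.ble (nat_lit 2761) i)) (@Bool.rec (fun _ => ℕ) (@Bool.rec (fun _ => ℕ) (t2766_2768 i) (t2768_2771 i) (Nat.ble (nat_lit 2768) i)) (@Bool.rec (fun _ => ℕ) (t2771_2773 i) (t2773_2776 i) (Nat.ble (nat_lit 2773) i)) (Nat.ble (nat_lit 2771) i)) (Nat.ble (nat_lit 2766) i))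
noncomputable def t2776_2778 (i : ℕ) : ℕ := (@Bool.rec (fun _ => ℕ) l2776 l2777 (Nat.ble (nat_lit 2777) i))
noncomputable def t2778_2780 (i : ℕ) : ℕ := (@Bool.rec (fun _ => ℕ) l2778 l2779 (Nat.ble (nat_lit 2779) i))
noncomputable def t2780_2782 (i : ℕ) : ℕ := (@Bool.rec (fun _ => ℕ) l2780 l2781 (Nat.ble (nat_lit 2781) i))
noncomputable def t2782_2785 (i : ℕ) : ℕ := (@Bool.rec (fun _ => ℕ) l2782 (@Bool.rec (fun _ => ℕ) l2783 l2784 (Nat.ble (nat_lit 2784) i)) (Nat.ble (nat_lit 2783) i))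
noncomputable def t2785_2787 (i : ℕ) : ℕ := (@Bool.rec (fun _ => ℕ) l2785 l2786 (Nat.ble (nat_lit 2786) i))
noncomputable def t2787_2789 (i : ℕ) : ℕ := (@Bool.rec (fun _ => ℕ) l2787 l2788 (Nat.ble (nat_lit 2788) i))
noncomputable def t2789_2791 (i : ℕ) : ℕ := (@Bool.rec (fun _ => ℕ) l2789 l2790 (Nat.ble (nat_lit 2790) i))
noncomputable def t2791_2794 (i : ℕ) : ℕ := (@Bool.rec (fun _ => ℕ) l2791 (@Bool.rec (fun _ => ℕ) l2792 l2793 (Nat.ble (nat_lit 2793) i)) (Nat.ble (nat_lit 2792) i))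
noncomputable def t2776_2794 (i : ℕ) : ℕ := (@Bool.rec (fun _ => ℕ) (@Bool.rec (fun _ => ℕ) (@Bool.rec (fun _ => ℕ) (t2776_2778 i) (t2778_2780 i) (Nat.ble (nat_lit 2778) i)) (@Bool.rec (fun _ => ℕ) (t2780_2782 i) (t2782_2785 i) (Nat.ble (nat_lit 2782) i)) (Nat.ble (nat_lit 2780) i)) (@Bool.rec (fun _ => ℕ) (@Bool.rec (fun _ => ℕ) (t2785_2787 i) (t2787_2789 i) (Nat.ble (nat_lit 2787) i)) (@Bool.rec (fun _ => ℕ) (t2789_2791 i) (t2791_2794 i) (Nat.ble (nat_lit 2791) i)) (Nat.ble (nat_lit 2789) i)) (Nat.ble (nat_lit 2785) i))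
noncomputable def t2794_2796 (i : ℕ) : ℕ := (@Bool.rec (fun _ => ℕ) l2794 l2795 (Nat.ble (nat_lit 2795) i))
noncomputable def t2796_2798 (i : ℕ) : ℕ := (@Bool.rec (fun _ => ℕ) l2796 l2797 (Nat.ble (nat_lit 2797) i))
noncomputable def t2798_2800 (i : ℕ) : ℕ := (@Bool.rec (fun _ => ℕ) l2798 l2799 (Nat.ble (nat_lit 2799) i))
noncomputable def t2800_2803 (i : ℕ) : ℕ := (@Bool.rec (fun _ => ℕ) l2800 (@Bool.rec (fun _ => ℕ) l2801 l2802 (Nat.ble (nat_lit 2802) i)) (Nat.ble (nat_lit 2801) i))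
noncomputable def t2803_2805 (i : ℕ) : ℕ := (@Bool.rec (fun _ => ℕ) l2803 l2804 (Nat.ble (nat_lit 2804) i))
noncomputable def t2805_2808 (i : ℕ) : ℕ := (@Bool.rec (fun _ => ℕ) l2805 (@Bool.rec (fun _ => ℕ) l2806 l2807 (Nat.ble (nat_lit 2807) i)) (Nat.ble (nat_lit 2806) i))
noncomputable def t2808_2810 (i : ℕ) : ℕ := (@Bool.rec (fun _ => ℕ) l2808 l2809 (Nat.ble (nat_lit 2809) i))
noncomputable def t2810_2813 (i : ℕ) : ℕ := (@Bool.rec (fun _ => ℕ) l2810 (@Bool.rec (fun _ => ℕ) l2811 l2812 (Nat.ble (nat_lit 2812) i)) (Nat.ble (nat_lit 2811) i))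
noncomputable def t2794_2813 (i : ℕ) : ℕ := (@Bool.rec (fun _ => ℕ) (@Bool.rec (fun _ => ℕ) (@Bool.rec (fun _ => ℕ) (t2794_2796 i) (t2796_2798 i) (Nat.ble (nat_lit 2796) i)) (@Bool.rec (fun _ => ℕ) (t2798_2800 i) (t2800_2803 i) (Nat.ble (nat_lit 2800) i)) (Nat.ble (nat_lit 2798) i)) (@Bool.rec (fun _ => ℕ) (@Bool.rec (fun _ => ℕ) (t2803_2805 i) (t2805_2808 i) (Nat.ble (nat_lit 2805) i)) (@Bool.rec (fun _ => ℕ) (t2808_2810 i) (t2810_2813 i) (Nat.ble (nat_lit 2810) i)) (Nat.ble (nat_lit 2808) i)) (Nat.ble (nat_lit 2803) i))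
noncomputable def t2813_2815 (i : ℕ) : ℕ := (@Bool.rec (fun _ => ℕ) l2813 l2814 (Nat.ble (nat_lit 2814) i))
noncomputable def t2815_2817 (i : ℕ) : ℕ := (@Bool.rec (fun _ => ℕ) l2815 l2816 (Nat.ble (nat_lit 2816) i))
noncomputable def t2817_2819 (i : ℕ) : ℕ := (@Bool.rec (fun _ => ℕ) l2817 l2818 (Nat.ble (nat_lit 2818) i))
noncomputable def t2819_2822 (i : ℕ) : ℕ := (@Bool.rec (fun _ => ℕ) l2819 (@Bool.rec (fun _ => ℕ) l2820 l2821 (Nat.ble (nat_lit 2821) i)) (Nat.ble (nat_lit 2820) i))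
noncomputable def t2822_2824 (i : ℕ) : ℕ := (@Bool.rec (fun _ => ℕ) l2822 l2823 (Nat.ble (nat_lit 2823) i))
noncomputable def t2824_2827 (i : ℕ) : ℕ := (@Bool.rec (fun _ => ℕ) l2824 (@Bool.rec (fun _ => ℕ) l2825 l2826 (Nat.ble (nat_lit 2826) i)) (Nat.ble (nat_lit 2825) i))
noncomputable def t2827_2829 (i : ℕ) : ℕ := (@Bool.rec (fun _ => ℕ) l2827 l2828 (Nat.ble (nat_lit 2828) i))
noncomputable def t2829_2832 (i : ℕ) : ℕ := (@Bool.rec (fun _ => ℕ) l2829 (@Bool.rec (fun _ => ℕ) l2830 l2831 (Nat.ble (nat_lit 2831) i)) (Nat.ble (nat_lit 2830) i))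
noncomputable def t2813_2832 (i : ℕ) : ℕ := (@Bool.rec (fun _ => ℕ) (@Bool.rec (fun _ => ℕ) (@Bool.rec (fun _ => ℕ) (t2813_2815 i) (t2815_2817 i) (Nat.ble (nat_lit 2815) i)) (@Bool.rec (fun _ => ℕ) (t2817_2819 i) (t2819_2822 i) (Nat.ble (nat_lit 2819) i)) (Nat.ble (nat_lit 2817) i)) (@Bool.rec (fun _ => ℕ) (@Bool.rec (fun _ => ℕ) (t2822_2824 i) (t2824_2827 i) (Nat.ble (nat_lit 2824) i)) (@Bool.rec (fun _ => ℕ) (t2827_2829 i) (t2829_2832 i) (Nat.ble (nat_lit 2829) i)) (Nat.ble (nat_lit 2827) i)) (Nat.ble (nat_lit 2822) i))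
noncomputable def t2832_2834 (i : ℕ) : ℕ := (@Bool.rec (fun _ => ℕ) l2832 l2833 (Nat.ble (nat_lit 2833) i))
noncomputable def t2834_2836 (i : ℕ) : ℕ := (@Bool.rec (fun _ => ℕ) l2834 l2835 (Nat.ble (nat_lit 2835) i))
noncomputable def t2836_2838 (i : ℕ) : ℕ := (@Bool.rec (fun _ => ℕ) l2836 l2837 (Nat.ble (nat_lit 2837) i))
noncomputable def t2838_2841 (i : ℕ) : ℕ := (@Bool.rec (fun _ => ℕ) l2838 (@Bool.rec (fun _ => ℕ) l2839 l2840 (Nat.ble (nat_lit 2840) i)) (Nat.ble (nat_lit 2839) i))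
noncomputable def t2841_2843 (i : ℕ) : ℕ := (@Bool.rec (fun _ => ℕ) l2841 l2842 (Nat.ble (nat_lit 2842) i))
noncomputable def t2843_2846 (i : ℕ) : ℕ := (@Bool.rec (fun _ => ℕ) l2843 (@Bool.rec (fun _ => ℕ) l2844 l2845 (Nat.ble (nat_lit 2845) i)) (Nat.ble (nat_lit 2844) i))
noncomputable def t2846_2848 (i : ℕ) : ℕ := (@Bool.rec (fun _ => ℕ) l2846 l2847 (Nat.ble (nat_lit 2847) i))
noncomputable def t2848_2851 (i : ℕ) : ℕ := (@Bool.rec (fun _ => ℕ) l2848 (@Bool.rec (fun _ => ℕ) l2849 l2850 (Nat.ble (nat_lit 2850) i)) (Nat.ble (nat_lit 2849) i))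
noncomputable def t2832_2851 (i : ℕ) : ℕ := (@Bool.rec (fun _ => ℕ) (@Bool.rec (fun _ => ℕ) (@Bool.rec (fun _ => ℕ) (t2832_2834 i) (t2834_2836 i) (Nat.ble (nat_lit 2834) i)) (@Bool.rec (fun _ => ℕ) (t2836_2838 i) (t2838_2841 i) (Nat.ble (nat_lit 2838) i)) (Nat.ble (nat_lit 2836) i)) (@Bool.rec (fun _ => ℕ) (@Bool.rec (fun _ => ℕ) (t2841_2843 i) (t2843_2846 i) (Nat.ble (nat_lit 2843) i)) (@Bool.rec (fun _ => ℕ) (t2846_2848 i) (t2848_2851 i) (Nat.ble (nat_lit 2848) i)) (Nat.ble (nat_lit 2846) i)) (Nat.ble (nat_lit 2841) i))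
noncomputable def t2701_2851 (i : ℕ) : ℕ := (@Bool.rec (fun _ => ℕ) (@Bool.rec (fun _ => ℕ) (@Bool.rec (fun _ => ℕ) (t2701_2719 i) (t2719_2738 i) (Nat.ble (nat_lit 2719) i)) (@Bool.rec (fun _ => ℕ) (t2738_2757 i) (t2757_2776 i) (Nat.ble (nat_lit 2757) i)) (Nat.ble (nat_lit 2738) i)) (@Bool.rec (fun _ => ℕ) (@Bool.rec (fun _ => ℕ) (t2776_2794 i) (t2794_2813 i) (Nat.ble (nat_lit 2794) i)) (@Bool.rec (fun _ => ℕ) (t2813_2832 i) (t2832_2851 i) (Nat.ble (nat_lit 2832) i)) (Nat.ble (nat_lit 2813) i)) (Nat.ble (nat_lit 2776) i))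
noncomputable def t2851_2853 (i : ℕ) : ℕ := (@Bool.rec (fun _ => ℕ) l2851 l2852 (Nat.ble (nat_lit 2852) i))
noncomputable def t2853_2855 (i : ℕ) : ℕ := (@Bool.rec (fun _ => ℕ) l2853 l2854 (Nat.ble (nat_lit 2854) i))
noncomputable def t2855_2857 (i : ℕ) : ℕ := (@Bool.rec (fun _ => ℕ) l2855 l2856 (Nat.ble (nat_lit 2856) i))
noncomputable def t2857_2860 (i : ℕ) : ℕ := (@Bool.rec (fun _ => ℕ) l2857 (@Bool.rec (fun _ => ℕ) l2858 l2859 (Nat.ble (nat_lit 2859) i)) (Nat.ble (nat_lit 2858) i))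
noncomputable def t2860_2862 (i : ℕ) : ℕ := (@Bool.rec (fun _ => ℕ) l2860 l2861 (Nat.ble (nat_lit 2861) i))
noncomputable def t2862_2864 (i : ℕ) : ℕ := (@Bool.rec (fun _ => ℕ) l2862 l2863 (Nat.ble (nat_lit 2863) i))
noncomputable def t2864_2866 (i : ℕ) : ℕ := (@Bool.rec (fun _ => ℕ) l2864 l2865 (Nat.ble (nat_lit 2865) i))
noncomputable def t2866_2869 (i : ℕ) : ℕ := (@Bool.rec (fun _ => ℕ) l2866 (@Bool.rec (fun _ => ℕ) l2867 l2868 (Nat.ble (nat_lit 2868) i)) (Nat.ble (nat_lit 2867) i))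
noncomputable def t2851_2869 (i : ℕ) : ℕ := (@Bool.rec (fun _ => ℕ) (@Bool.rec (fun _ => ℕ) (@Bool.rec (fun _ => ℕ) (t2851_2853 i) (t2853_2855 i) (Nat.ble (nat_lit 2853) i)) (@Bool.rec (fun _ => ℕ) (t2855_2857 i) (t2857_2860 i) (Nat.ble (nat_lit 2857) i)) (Nat.ble (nat_lit 2855) i)) (@Bool.rec (fun _ => ℕ) (@Bool.rec (fun _ => ℕ) (t2860_2862 i) (t2862_2864 i) (Nat.ble (nat_lit 2862) i)) (@Bool.rec (fun _ => ℕ) (t2864_2866 i) (t2866_2869 i) (Nat.ble (nat_lit 2866) i)) (Nat.ble (nat_lit 2864) i)) (Nat.ble (nat_lit 2860) i))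
noncomputable def t2869_2871 (i : ℕ) : ℕ := (@Bool.rec (fun _ => ℕ) l2869 l2870 (Nat.ble (nat_lit 2870) i))
noncomputable def t2871_2873 (i : ℕ) : ℕ := (@Bool.rec (fun _ => ℕ) l2871 l2872 (Nat.ble (nat_lit 2872) i))
noncomputable def t2873_2875 (i : ℕ) : ℕ := (@Bool.rec (fun _ => ℕ) l2873 l2874 (Nat.ble (nat_lit 2874) i))
noncomputable def t2875_2878 (i : ℕ) : ℕ := (@Bool.rec (fun _ => ℕ) l2875 (@Bool.rec (fun _ => ℕ) l2876 l2877 (Nat.ble (nat_lit 2877) i)) (Nat.ble (nat_lit 2876) i))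
noncomputable def t2878_2880 (i : ℕ) : ℕ := (@Bool.rec (fun _ => ℕ) l2878 l2879 (Nat.ble (nat_lit 2879) i))
noncomputable def t2880_2883 (i : ℕ) : ℕ := (@Bool.rec (fun _ => ℕ) l2880 (@Bool.rec (fun _ => ℕ) l2881 l2882 (Nat.ble (nat_lit 2882) i)) (Nat.ble (nat_lit 2881) i))
noncomputable def t2883_2885 (i : ℕ) : ℕ := (@Bool.rec (fun _ => ℕ) l2883 l2884 (Nat.ble (nat_lit 2884) i))
noncomputable def t2885_2888 (i : ℕ) : ℕ := (@Bool.rec (fun _ => ℕ) l2885 (@Bool.rec (fun _ => ℕ) l2886 l2887 (Nat.ble (nat_lit 2887) i)) (Nat.ble (nat_lit 2886) i))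
noncomputable def t2869_2888 (i : ℕ) : ℕ := (@Bool.rec (fun _ => ℕ) (@Bool.rec (fun _ => ℕ) (@Bool.rec (fun _ => ℕ) (t2869_2871 i) (t2871_2873 i) (Nat.ble (nat_lit 2871) i)) (@Bool.rec (fun _ => ℕ) (t2873_2875 i) (t2875_2878 i) (Nat.ble (nat_lit 2875) i)) (Nat.ble (nat_lit 2873) i)) (@Bool.rec (fun _ => ℕ) (@Bool.rec (fun _ => ℕ) (t2878_2880 i) (t2880_2883 i) (Nat.ble (nat_lit 2880) i)) (@Bool.rec (fun _ => ℕ) (t2883_2885 i) (t2885_2888 i) (Nat.ble (nat_lit 2885) i)) (Nat.ble (nat_lit 2883) i)) (Nat.ble (nat_lit 2878) i))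
noncomputable def t2888_2890 (i : ℕ) : ℕ := (@Bool.rec (fun _ => ℕ) l2888 l2889 (Nat.ble (nat_lit 2889) i))
noncomputable def t2890_2892 (i : ℕ) : ℕ := (@Bool.rec (fun _ => ℕ) l2890 l2891 (Nat.ble (nat_lit 2891) i))
noncomputable def t2892_2894 (i : ℕ) : ℕ := (@Bool.rec (fun _ => ℕ) l2892 l2893 (Nat.ble (nat_lit 2893) i))
noncomputable def t2894_2897 (i : ℕ) : ℕ := (@Bool.rec (fun _ => ℕ) l2894 (@Bool.rec (fun _ => ℕ) l2895 l2896 (Nat.ble (nat_lit 2896) i)) (Nat.ble (nat_lit 2895) i))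
noncomputable def t2897_2899 (i : ℕ) : ℕ := (@Bool.rec (fun _ => ℕ) l2897 l2898 (Nat.ble (nat_lit 2898) i))
noncomputable def t2899_2902 (i : ℕ) : ℕ := (@Bool.rec (fun _ => ℕ) l2899 (@Bool.rec (fun _ => ℕ) l2900 l2901 (Nat.ble (nat_lit 2901) i)) (Nat.ble (nat_lit 2900) i))
noncomputable def t2902_2904 (i : ℕ) : ℕ := (@Bool.rec (fun _ => ℕ) l2902 l2903 (Nat.ble (nat_lit 2903) i))
noncomputable def t2904_2907 (i : ℕ) : ℕ := (@Bool.rec (fun _ => ℕ) l2904 (@Bool.rec (fun _ => ℕ) l2905 l2906 (Nat.ble (nat_lit 2906) i)) (Nat.ble (nat_lit 2905) i))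
noncomputable def t2888_2907 (i : ℕ) : ℕ := (@Bool.rec (fun _ => ℕ) (@Bool.rec (fun _ => ℕ) (@Bool.rec (fun _ => ℕ) (t2888_2890 i) (t2890_2892 i) (Nat.ble (nat_lit 2890) i)) (@Bool.rec (fun _ => ℕ) (t2892_2894 i) (t2894_2897 i) (Nat.ble (nat_lit 2894) i)) (Nat.ble (nat_lit 2892) i)) (@Bool.rec (fun _ => ℕ) (@Bool.rec (fun _ => ℕ) (t2897_2899 i) (t2899_2902 i) (Nat.ble (nat_lit 2899) i)) (@Bool.rec (fun _ => ℕ) (t2902_2904 i) (t2904_2907 i) (Nat.ble (nat_lit 2904) i)) (Nat.ble (nat_lit 2902) i)) (Nat.ble (nat_lit 2897) i))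
noncomputable def t2907_2909 (i : ℕ) : ℕ := (@Bool.rec (fun _ => ℕ) l2907 l2908 (Nat.ble (nat_lit 2908) i))
noncomputable def t2909_2911 (i : ℕ) : ℕ := (@Bool.rec (fun _ => ℕ) l2909 l2910 (Nat.ble (nat_lit 2910) i))
noncomputable def t2911_2913 (i : ℕ) : ℕ := (@Bool.rec (fun _ => ℕ) l2911 l2912 (Nat.ble (nat_lit 2912) i))
noncomputable def t2913_2916 (i : ℕ) : ℕ := (@Bool.rec (fun _ => ℕ) l2913 (@Bool.rec (fun _ => ℕ) l2914 l2915 (Nat.ble (nat_lit 2915) i)) (Nat.ble (nat_lit 2914) i))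
noncomputable def t2916_2918 (i : ℕ) : ℕ := (@Bool.rec (fun _ => ℕ) l2916 l2917 (Nat.ble (nat_lit 2917) i))
noncomputable def t2918_2921 (i : ℕ) : ℕ := (@Bool.rec (fun _ => ℕ) l2918 (@Bool.rec (fun _ => ℕ) l2919 l2920 (Nat.ble (nat_lit 2920) i)) (Nat.ble (nat_lit 2919) i))
noncomputable def t2921_2923 (i : ℕ) : ℕ := (@Bool.rec (fun _ => ℕ) l2921 l2922 (Nat.ble (nat_lit 2922) i))
noncomputable def t2923_2926 (i : ℕ) : ℕ := (@Bool.rec (fun _ => ℕ) l2923 (@Bool.rec (fun _ => ℕ) l2924 l2925 (Nat.ble (nat_lit 2925) i)) (Nat.ble (nat_lit 2924) i))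
noncomputable def t2907_2926 (i : ℕ) : ℕ := (@Bool.rec (fun _ => ℕ) (@Bool.rec (fun _ => ℕ) (@Bool.rec (fun _ => ℕ) (t2907_2909 i) (t2909_2911 i) (Nat.ble (nat_lit 2909) i)) (@Bool.rec (fun _ => ℕ) (t2911_2913 i) (t2913_2916 i) (Nat.ble (nat_lit 2913) i)) (Nat.ble (nat_lit 2911) i)) (@Bool.rec (fun _ => ℕ) (@Bool.rec (fun _ => ℕ) (t2916_2918 i) (t2918_2921 i) (Nat.ble (nat_lit 2918) i)) (@Bool.rec (fun _ => ℕ) (t2921_2923 i) (t2923_2926 i) (Nat.ble (nat_lit 2923) i)) (Nat.ble (nat_lit 2921) i)) (Nat.ble (nat_lit 2916) i))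
noncomputable def t2926_2928 (i : ℕ) : ℕ := (@Bool.rec (fun _ => ℕ) l2926 l2927 (Nat.ble (nat_lit 2927) i))
noncomputable def t2928_2930 (i : ℕ) : ℕ := (@Bool.rec (fun _ => ℕ) l2928 l2929 (Nat.ble (nat_lit 2929) i))
noncomputable def t2930_2932 (i : ℕ) : ℕ := (@Bool.rec (fun _ => ℕ) l2930 l2931 (Nat.ble (nat_lit 2931) i))
noncomputable def t2932_2935 (i : ℕ) : ℕ := (@Bool.rec (fun _ => ℕ) l2932 (@Bool.rec (fun _ => ℕ) l2933 l2934 (Nat.ble (nat_lit 2934) i)) (Nat.ble (nat_lit 2933) i))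
noncomputable def t2935_2937 (i : ℕ) : ℕ := (@Bool.rec (fun _ => ℕ) l2935 l2936 (Nat.ble (nat_lit 2936) i))
noncomputable def t2937_2939 (i : ℕ) : ℕ := (@Bool.rec (fun _ => ℕ) l2937 l2938 (Nat.ble (nat_lit 2938) i))
noncomputable def t2939_2941 (i : ℕ) : ℕ := (@Bool.rec (fun _ => ℕ) l2939 l2940 (Nat.ble (nat_lit 2940) i))
noncomputable def t2941_2944 (i : ℕ) : ℕ := (@Bool.rec (fun _ => ℕ) l2941 (@Bool.rec (fun _ => ℕ) l2942 l2943 (Nat.ble (nat_lit 2943) i)) (Nat.ble (nat_lit 2942) i))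
noncomputable def t2926_2944 (i : ℕ) : ℕ := (@Bool.rec (fun _ => ℕ) (@Bool.rec (fun _ => ℕ) (@Bool.rec (fun _ => ℕ) (t2926_2928 i) (t2928_2930 i) (Nat.ble (nat_lit 2928) i)) (@Bool.rec (fun _ => ℕ) (t2930_2932 i) (t2932_2935 i) (Nat.ble (nat_lit 2932) i)) (Nat.ble (nat_lit 2930) i)) (@Bool.rec (fun _ => ℕ) (@Bool.rec (fun _ => ℕ) (t2935_2937 i) (t2937_2939 i) (Nat.ble (nat_lit 2937) i)) (@Bool.rec (fun _ => ℕ) (t2939_2941 i) (t2941_2944 i) (Nat.ble (nat_lit 2941) i)) (Nat.ble (nat_lit 2939) i)) (Nat.ble (nat_lit 2935) i))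
noncomputable def t2944_2946 (i : ℕ) : ℕ := (@Bool.rec (fun _ => ℕ) l2944 l2945 (Nat.ble (nat_lit 2945) i))
noncomputable def t2946_2948 (i : ℕ) : ℕ := (@Bool.rec (fun _ => ℕ) l2946 l2947 (Nat.ble (nat_lit 2947) i))
noncomputable def t2948_2950 (i : ℕ) : ℕ := (@Bool.rec (fun _ => ℕ) l2948 l2949 (Nat.ble (nat_lit 2949) i))
noncomputable def t2950_2953 (i : ℕ) : ℕ := (@Bool.rec (fun _ => ℕ) l2950 (@Bool.rec (fun _ => ℕ) l2951 l2952 (Nat.ble (nat_lit 2952) i)) (Nat.ble (nat_lit 2951) i))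
noncomputable def t2953_2955 (i : ℕ) : ℕ := (@Bool.rec (fun _ => ℕ) l2953 l2954 (Nat.ble (nat_lit 2954) i))
noncomputable def t2955_2958 (i : ℕ) : ℕ := (@Bool.rec (fun _ => ℕ) l2955 (@Bool.rec (fun _ => ℕ) l2956 l2957 (Nat.ble (nat_lit 2957) i)) (Nat.ble (nat_lit 2956) i))
noncomputable def t2958_2960 (i : ℕ) : ℕ := (@Bool.rec (fun _ => ℕ) l2958 l2959 (Nat.ble (nat_lit 2959) i))
noncomputable def t2960_2963 (i : ℕ) : ℕ := (@Bool.rec (fun _ => ℕ) l2960 (@Bool.rec (fun _ => ℕ) l2961 l2962 (Nat.ble (nat_lit 2962) i)) (Nat.ble (nat_lit 2961) i))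
noncomputable def t2944_2963 (i : ℕ) : ℕ := (@Bool.rec (fun _ => ℕ) (@Bool.rec (fun _ => ℕ) (@Bool.rec (fun _ => ℕ) (t2944_2946 i) (t2946_2948 i) (Nat.ble (nat_lit 2946) i)) (@Bool.rec (fun _ => ℕ) (t2948_2950 i) (t2950_2953 i) (Nat.ble (nat_lit 2950) i)) (Nat.ble (nat_lit 2948) i)) (@Bool.rec (fun _ => ℕ) (@Bool.rec (fun _ => ℕ) (t2953_2955 i) (t2955_2958 i) (Nat.ble (nat_lit 2955) i)) (@Bool.rec (fun _ => ℕ) (t2958_2960 i) (t2960_2963 i) (Nat.ble (nat_lit 2960) i)) (Nat.ble (nat_lit 2958) i)) (Nat.ble (nat_lit 2953) i))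
noncomputable def t2963_2965 (i : ℕ) : ℕ := (@Bool.rec (fun _ => ℕ) l2963 l2964 (Nat.ble (nat_lit 2964) i))
noncomputable def t2965_2967 (i : ℕ) : ℕ := (@Bool.rec (fun _ => ℕ) l2965 l2966 (Nat.ble (nat_lit 2966) i))
noncomputable def t2967_2969 (i : ℕ) : ℕ := (@Bool.rec (fun _ => ℕ) l2967 l2968 (Nat.ble (nat_lit 2968) i))
noncomputable def t2969_2972 (i : ℕ) : ℕ := (@Bool.rec (fun _ => ℕ) l2969 (@Bool.rec (fun _ => ℕ) l2970 l2971 (Nat.ble (nat_lit 2971) i)) (Nat.ble (nat_lit 2970) i))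
noncomputable def t2972_2974 (i : ℕ) : ℕ := (@Bool.rec (fun _ => ℕ) l2972 l2973 (Nat.ble (nat_lit 2973) i))
noncomputable def t2974_2977 (i : ℕ) : ℕ := (@Bool.rec (fun _ => ℕ) l2974 (@Bool.rec (fun _ => ℕ) l2975 l2976 (Nat.ble (nat_lit 2976) i)) (Nat.ble (nat_lit 2975) i))
noncomputable def t2977_2979 (i : ℕ) : ℕ := (@Bool.rec (fun _ => ℕ) l2977 l2978 (Nat.ble (nat_lit 2978) i))
noncomputable def t2979_2982 (i : ℕ) : ℕ := (@Bool.rec (fun _ => ℕ) l2979 (@Bool.rec (fun _ => ℕ) l2980 l2981 (Nat.ble (nat_lit 2981) i)) (Nat.ble (nat_lit 2980) i))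
noncomputable def t2963_2982 (i : ℕ) : ℕ := (@Bool.rec (fun _ => ℕ) (@Bool.rec (fun _ => ℕ) (@Bool.rec (fun _ => ℕ) (t2963_2965 i) (t2965_2967 i) (Nat.ble (nat_lit 2965) i)) (@Bool.rec (fun _ => ℕ) (t2967_2969 i) (t2969_2972 i) (Nat.ble (nat_lit 2969) i)) (Nat.ble (nat_lit 2967) i)) (@Bool.rec (fun _ => ℕ) (@Bool.rec (fun _ => ℕ) (t2972_2974 i) (t2974_2977 i) (Nat.ble (nat_lit 2974) i)) (@Bool.rec (fun _ => ℕ) (t2977_2979 i) (t2979_2982 i) (Nat.ble (nat_lit 2979) i)) (Nat.ble (nat_lit 2977) i)) (Nat.ble (nat_lit 2972) i))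
noncomputable def t2982_2984 (i : ℕ) : ℕ := (@Bool.rec (fun _ => ℕ) l2982 l2983 (Nat.ble (nat_lit 2983) i))
noncomputable def t2984_2986 (i : ℕ) : ℕ := (@Bool.rec (fun _ => ℕ) l2984 l2985 (Nat.ble (nat_lit 2985) i))
noncomputable def t2986_2988 (i : ℕ) : ℕ := (@Bool.rec (fun _ => ℕ) l2986 l2987 (Nat.ble (nat_lit 2987) i))
noncomputable def t2988_2991 (i : ℕ) : ℕ := (@Bool.rec (fun _ => ℕ) l2988 (@Bool.rec (fun _ => ℕ) l2989 l2990 (Nat.ble (nat_lit 2990) i)) (Nat.ble (nat_lit 2989) i))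
noncomputable def t2991_2993 (i : ℕ) : ℕ := (@Bool.rec (fun _ => ℕ) l2991 l2992 (Nat.ble (nat_lit 2992) i))
noncomputable def t2993_2996 (i : ℕ) : ℕ := (@Bool.rec (fun _ => ℕ) l2993 (@Bool.rec (fun _ => ℕ) l2994 l2995 (Nat.ble (nat_lit 2995) i)) (Nat.ble (nat_lit 2994) i))
noncomputable def t2996_2998 (i : ℕ) : ℕ := (@Bool.rec (fun _ => ℕ) l2996 l2997 (Nat.ble (nat_lit 2997) i))
noncomputable def t2998_3001 (i : ℕ) : ℕ := (@Bool.rec (fun _ => ℕ) l2998 (@Bool.rec (fun _ => ℕ) l2999 l3000 (Nat.ble (nat_lit 3000) i)) (Nat.ble (nat_lit 2999) i))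
noncomputable def t2982_3001 (i : ℕ) : ℕ := (@Bool.rec (fun _ => ℕ) (@Bool.rec (fun _ => ℕ) (@Bool.rec (fun _ => ℕ) (t2982_2984 i) (t2984_2986 i) (Nat.ble (nat_lit 2984) i)) (@Bool.rec (fun _ => ℕ) (t2986_2988 i) (t2988_2991 i) (Nat.ble (nat_lit 2988) i)) (Nat.ble (nat_lit 2986) i)) (@Bool.rec (fun _ => ℕ) (@Bool.rec (fun _ => ℕ) (t2991_2993 i) (t2993_2996 i) (Nat.ble (nat_lit 2993) i)) (@Bool.rec (fun _ => ℕ) (t2996_2998 i) (t2998_3001 i) (Nat.ble (nat_lit 2998) i)) (Nat.ble (nat_lit 2996) i)) (Nat.ble (nat_lit 2991) i))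
noncomputable def t2851_3001 (i : ℕ) : ℕ := (@Bool.rec (fun _ => ℕ) (@Bool.rec (fun _ => ℕ) (@Bool.rec (fun _ => ℕ) (t2851_2869 i) (t2869_2888 i) (Nat.ble (nat_lit 2869) i)) (@Bool.rec (fun _ => ℕ) (t2888_2907 i) (t2907_2926 i) (Nat.ble (nat_lit 2907) i)) (Nat.ble (nat_lit 2888) i)) (@Bool.rec (fun _ => ℕ) (@Bool.rec (fun _ => ℕ) (t2926_2944 i) (t2944_2963 i) (Nat.ble (nat_lit 2944) i)) (@Bool.rec (fun _ => ℕ) (t2963_2982 i) (t2982_3001 i) (Nat.ble (nat_lit 2982) i)) (Nat.ble (nat_lit 2963) i)) (Nat.ble (nat_lit 2926) i))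
noncomputable def t3001_3003 (i : ℕ) : ℕ := (@Bool.rec (fun _ => ℕ) l3001 l3002 (Nat.ble (nat_lit 3002) i))
noncomputable def t3003_3005 (i : ℕ) : ℕ := (@Bool.rec (fun _ => ℕ) l3003 l3004 (Nat.ble (nat_lit 3004) i))
noncomputable def t3005_3007 (i : ℕ) : ℕ := (@Bool.rec (fun _ => ℕ) l3005 l3006 (Nat.ble (nat_lit 3006) i))
noncomputable def t3007_3010 (i : ℕ) : ℕ := (@Bool.rec (fun _ => ℕ) l3007 (@Bool.rec (fun _ => ℕ) l3008 l3009 (Nat.ble (nat_lit 3009) i)) (Nat.ble (nat_lit 3008) i))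
noncomputable def t3010_3012 (i : ℕ) : ℕ := (@Bool.rec (fun _ => ℕ) l3010 l3011 (Nat.ble (nat_lit 3011) i))
noncomputable def t3012_3014 (i : ℕ) : ℕ := (@Bool.rec (fun _ => ℕ) l3012 l3013 (Nat.ble (nat_lit 3013) i))
noncomputable def t3014_3016 (i : ℕ) : ℕ := (@Bool.rec (fun _ => ℕ) l3014 l3015 (Nat.ble (nat_lit 3015) i))
noncomputable def t3016_3019 (i : ℕ) : ℕ := (@Bool.rec (fun _ => ℕ) l3016 (@Bool.rec (fun _ => ℕ) l3017 l3018 (Nat.ble (nat_lit 3018) i)) (Nat.ble (nat_lit 3017) i))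
noncomputable def t3001_3019 (i : ℕ) : ℕ := (@Bool.rec (fun _ => ℕ) (@Bool.rec (fun _ => ℕ) (@Bool.rec (fun _ => ℕ) (t3001_3003 i) (t3003_3005 i) (Nat.ble (nat_lit 3003) i)) (@Bool.rec (fun _ => ℕ) (t3005_3007 i) (t3007_3010 i) (Nat.ble (nat_lit 3007) i)) (Nat.ble (nat_lit 3005) i)) (@Bool.rec (fun _ => ℕ) (@Bool.rec (fun _ => ℕ) (t3010_3012 i) (t3012_3014 i) (Nat.ble (nat_lit 3012) i)) (@Bool.rec (fun _ => ℕ) (t3014_3016 i) (t3016_3019 i) (Nat.ble (nat_lit 3016) i)) (Nat.ble (nat_lit 3014) i)) (Nat.ble (nat_lit 3010) i))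
noncomputable def t3019_3021 (i : ℕ) : ℕ := (@Bool.rec (fun _ => ℕ) l3019 l3020 (Nat.ble (nat_lit 3020) i))
noncomputable def t3021_3023 (i : ℕ) : ℕ := (@Bool.rec (fun _ => ℕ) l3021 l3022 (Nat.ble (nat_lit 3022) i))
noncomputable def t3023_3025 (i : ℕ) : ℕ := (@Bool.rec (fun _ => ℕ) l3023 l3024 (Nat.ble (nat_lit 3024) i))
noncomputable def t3025_3028 (i : ℕ) : ℕ := (@Bool.rec (fun _ => ℕ) l3025 (@Bool.rec (fun _ => ℕ) l3026 l3027 (Nat.ble (nat_lit 3027) i)) (Nat.ble (nat_lit 3026) i))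
noncomputable def t3028_3030 (i : ℕ) : ℕ := (@Bool.rec (fun _ => ℕ) l3028 l3029 (Nat.ble (nat_lit 3029) i))
noncomputable def t3030_3033 (i : ℕ) : ℕ := (@Bool.rec (fun _ => ℕ) l3030 (@Bool.rec (fun _ => ℕ) l3031 l3032 (Nat.ble (nat_lit 3032) i)) (Nat.ble (nat_lit 3031) i))
noncomputable def t3033_3035 (i : ℕ) : ℕ := (@Bool.rec (fun _ => ℕ) l3033 l3034 (Nat.ble (nat_lit 3034) i))
noncomputable def t3035_3038 (i : ℕ) : ℕ := (@Bool.rec (fun _ => ℕ) l3035 (@Bool.rec (fun _ => ℕ) l3036 l3037 (Nat.ble (nat_lit 3037) i)) (Nat.ble (nat_lit 3036) i))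
noncomputable def t3019_3038 (i : ℕ) : ℕ := (@Bool.rec (fun _ => ℕ) (@Bool.rec (fun _ => ℕ) (@Bool.rec (fun _ => ℕ) (t3019_3021 i) (t3021_3023 i) (Nat.ble (nat_lit 3021) i)) (@Bool.rec (fun _ => ℕ) (t3023_3025 i) (t3025_3028 i) (Nat.ble (nat_lit 3025) i)) (Nat.ble (nat_lit 3023) i)) (@Bool.rec (fun _ => ℕ) (@Bool.rec (fun _ => ℕ) (t3028_3030 i) (t3030_3033 i) (Nat.ble (nat_lit 3030) i)) (@Bool.rec (fun _ => ℕ) (t3033_3035 i) (t3035_3038 i) (Nat.ble (nat_lit 3035) i)) (Nat.ble (nat_lit 3033) i)) (Nat.ble (nat_lit 3028) i))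
noncomputable def t3038_3040 (i : ℕ) : ℕ := (@Bool.rec (fun _ => ℕ) l3038 l3039 (Nat.ble (nat_lit 3039) i))
noncomputable def t3040_3042 (i : ℕ) : ℕ := (@Bool.rec (fun _ => ℕ) l3040 l3041 (Nat.ble (nat_lit 3041) i))
noncomputable def t3042_3044 (i : ℕ) : ℕ := (@Bool.rec (fun _ => ℕ) l3042 l3043 (Nat.ble (nat_lit 3043) i))
noncomputable def t3044_3047 (i : ℕ) : ℕ := (@Bool.rec (fun _ => ℕ) l3044 (@Bool.rec (fun _ => ℕ) l3045 l3046 (Nat.ble (nat_lit 3046) i)) (Nat.ble (nat_lit 3045) i))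
noncomputable def t3047_3049 (i : ℕ) : ℕ := (@Bool.rec (fun _ => ℕ) l3047 l3048 (Nat.ble (nat_lit 3048) i))
noncomputable def t3049_3052 (i : ℕ) : ℕ := (@Bool.rec (fun _ => ℕ) l3049 (@Bool.rec (fun _ => ℕ) l3050 l3051 (Nat.ble (nat_lit 3051) i)) (Nat.ble (nat_lit 3050) i))
noncomputable def t3052_3054 (i : ℕ) : ℕ := (@Bool.rec (fun _ => ℕ) l3052 l3053 (Nat.ble (nat_lit 3053) i))
noncomputable def t3054_3057 (i : ℕ) : ℕ := (@Bool.rec (fun _ => ℕ) l3054 (@Bool.rec (fun _ => ℕ) l3055 l3056 (Nat.ble (nat_lit 3056) i)) (Nat.ble (nat_lit 3055) i))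
noncomputable def t3038_3057 (i : ℕ) : ℕ := (@Bool.rec (fun _ => ℕ) (@Bool.rec (fun _ => ℕ) (@Bool.rec (fun _ => ℕ) (t3038_3040 i) (t3040_3042 i) (Nat.ble (nat_lit 3040) i)) (@Bool.rec (fun _ => ℕ) (t3042_3044 i) (t3044_3047 i) (Nat.ble (nat_lit 3044) i)) (Nat.ble (nat_lit 3042) i)) (@Bool.rec (fun _ => ℕ) (@Bool.rec (fun _ => ℕ) (t3047_3049 i) (t3049_3052 i) (Nat.ble (nat_lit 3049) i)) (@Bool.rec (fun _ => ℕ) (t3052_3054 i) (t3054_3057 i) (Nat.ble (nat_lit 3054) i)) (Nat.ble (nat_lit 3052) i)) (Nat.ble (nat_lit 3047) i))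
noncomputable def t3057_3059 (i : ℕ) : ℕ := (@Bool.rec (fun _ => ℕ) l3057 l3058 (Nat.ble (nat_lit 3058) i))
noncomputable def t3059_3061 (i : ℕ) : ℕ := (@Bool.rec (fun _ => ℕ) l3059 l3060 (Nat.ble (nat_lit 3060) i))
noncomputable def t3061_3063 (i : ℕ) : ℕ := (@Bool.rec (fun _ => ℕ) l3061 l3062 (Nat.ble (nat_lit 3062) i))
noncomputable def t3063_3066 (i : ℕ) : ℕ := (@Bool.rec (fun _ => ℕ) l3063 (@Bool.rec (fun _ => ℕ) l3064 l3065 (Nat.ble (nat_lit 3065) i)) (Nat.ble (nat_lit 3064) i))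
noncomputable def t3066_3068 (i : ℕ) : ℕ := (@Bool.rec (fun _ => ℕ) l3066 l3067 (Nat.ble (nat_lit 3067) i))
noncomputable def t3068_3071 (i : ℕ) : ℕ := (@Bool.rec (fun _ => ℕ) l3068 (@Bool.rec (fun _ => ℕ) l3069 l3070 (Nat.ble (nat_lit 3070) i)) (Nat.ble (nat_lit 3069) i))
noncomputable def t3071_3073 (i : ℕ) : ℕ := (@Bool.rec (fun _ => ℕ) l3071 l3072 (Nat.ble (nat_lit 3072) i))
noncomputable def t3073_3076 (i : ℕ) : ℕ := (@Bool.rec (fun _ => ℕ) l3073 (@Bool.rec (fun _ => ℕ) l3074 l3075 (Nat.ble (nat_lit 3075) i)) (Nat.ble (nat_lit 3074) i))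
noncomputable def t3057_3076 (i : ℕ) : ℕ := (@Bool.rec (fun _ => ℕ) (@Bool.rec (fun _ => ℕ) (@Bool.rec (fun _ => ℕ) (t3057_3059 i) (t3059_3061 i) (Nat.ble (nat_lit 3059) i)) (@Bool.rec (fun _ => ℕ) (t3061_3063 i) (t3063_3066 i) (Nat.ble (nat_lit 3063) i)) (Nat.ble (nat_lit 3061) i)) (@Bool.rec (fun _ => ℕ) (@Bool.rec (fun _ => ℕ) (t3066_3068 i) (t3068_3071 i) (Nat.ble (nat_lit 3068) i)) (@Bool.rec (fun _ => ℕ) (t3071_3073 i) (t3073_3076 i) (Nat.ble (nat_lit 3073) i)) (Nat.ble (nat_lit 3071) i)) (Nat.ble (nat_lit 3066) i))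
noncomputable def t3076_3078 (i : ℕ) : ℕ := (@Bool.rec (fun _ => ℕ) l3076 l3077 (Nat.ble (nat_lit 3077) i))
noncomputable def t3078_3080 (i : ℕ) : ℕ := (@Bool.rec (fun _ => ℕ) l3078 l3079 (Nat.ble (nat_lit 3079) i))
noncomputable def t3080_3082 (i : ℕ) : ℕ := (@Bool.rec (fun _ => ℕ) l3080 l3081 (Nat.ble (nat_lit 3081) i))
noncomputable def t3082_3085 (i : ℕ) : ℕ := (@Bool.rec (fun _ => ℕ) l3082 (@Bool.rec (fun _ => ℕ) l3083 l3084 (Nat.ble (nat_lit 3084) i)) (Nat.ble (nat_lit 3083) i))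
noncomputable def t3085_3087 (i : ℕ) : ℕ := (@Bool.rec (fun _ => ℕ) l3085 l3086 (Nat.ble (nat_lit 3086) i))
noncomputable def t3087_3089 (i : ℕ) : ℕ := (@Bool.rec (fun _ => ℕ) l3087 l3088 (Nat.ble (nat_lit 3088) i))
noncomputable def t3089_3091 (i : ℕ) : ℕ := (@Bool.rec (fun _ => ℕ) l3089 l3090 (Nat.ble (nat_lit 3090) i))
noncomputable def t3091_3094 (i : ℕ) : ℕ := (@Bool.rec (fun _ => ℕ) l3091 (@Bool.rec (fun _ => ℕ) l3092 l3093 (Nat.ble (nat_lit 3093) i)) (Nat.ble (nat_lit 3092) i))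
noncomputable def t3076_3094 (i : ℕ) : ℕ := (@Bool.rec (fun _ => ℕ) (@Bool.rec (fun _ => ℕ) (@Bool.rec (fun _ => ℕ) (t3076_3078 i) (t3078_3080 i) (Nat.ble (nat_lit 3078) i)) (@Bool.rec (fun _ => ℕ) (t3080_3082 i) (t3082_3085 i) (Nat.ble (nat_lit 3082) i)) (Nat.ble (nat_lit 3080) i)) (@Bool.rec (fun _ => ℕ) (@Bool.rec (fun _ => ℕ) (t3085_3087 i) (t3087_3089 i) (Nat.ble (nat_lit 3087) i)) (@Bool.rec (fun _ => ℕ) (t3089_3091 i) (t3091_3094 i) (Nat.ble (nat_lit 3091) i)) (Nat.ble (nat_lit 3089) i)) (Nat.ble (nat_lit 3085) i))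
noncomputable def t3094_3096 (i : ℕ) : ℕ := (@Bool.rec (fun _ => ℕ) l3094 l3095 (Nat.ble (nat_lit 3095) i))
noncomputable def t3096_3098 (i : ℕ) : ℕ := (@Bool.rec (fun _ => ℕ) l3096 l3097 (Nat.ble (nat_lit 3097) i))
noncomputable def t3098_3100 (i : ℕ) : ℕ := (@Bool.rec (fun _ => ℕ) l3098 l3099 (Nat.ble (nat_lit 3099) i))
noncomputable def t3100_3103 (i : ℕ) : ℕ := (@Bool.rec (fun _ => ℕ) l3100 (@Bool.rec (fun _ => ℕ) l3101 l3102 (Nat.ble (nat_lit 3102) i)) (Nat.ble (nat_lit 3101) i))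
noncomputable def t3103_3105 (i : ℕ) : ℕ := (@Bool.rec (fun _ => ℕ) l3103 l3104 (Nat.ble (nat_lit 3104) i))
noncomputable def t3105_3108 (i : ℕ) : ℕ := (@Bool.rec (fun _ => ℕ) l3105 (@Bool.rec (fun _ => ℕ) l3106 l3107 (Nat.ble (nat_lit 3107) i)) (Nat.ble (nat_lit 3106) i))
noncomputable def t3108_3110 (i : ℕ) : ℕ := (@Bool.rec (fun _ => ℕ) l3108 l3109 (Nat.ble (nat_lit 3109) i))
noncomputable def t3110_3113 (i : ℕ) : ℕ := (@Bool.rec (fun _ => ℕ) l3110 (@Bool.rec (fun _ => ℕ) l3111 l3112 (Nat.ble (nat_lit 3112) i)) (Nat.ble (nat_lit 3111) i))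
noncomputable def t3094_3113 (i : ℕ) : ℕ := (@Bool.rec (fun _ => ℕ) (@Bool.rec (fun _ => ℕ) (@Bool.rec (fun _ => ℕ) (t3094_3096 i) (t3096_3098 i) (Nat.ble (nat_lit 3096) i)) (@Bool.rec (fun _ => ℕ) (t3098_3100 i) (t3100_3103 i) (Nat.ble (nat_lit 3100) i)) (Nat.ble (nat_lit 3098) i)) (@Bool.rec (fun _ => ℕ) (@Bool.rec (fun _ => ℕ) (t3103_3105 i) (t3105_3108 i) (Nat.ble (nat_lit 3105) i)) (@Bool.rec (fun _ => ℕ) (t3108_3110 i) (t3110_3113 i) (Nat.ble (nat_lit 3110) i)) (Nat.ble (nat_lit 3108) i)) (Nat.ble (nat_lit 3103) i))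
noncomputable def t3113_3115 (i : ℕ) : ℕ := (@Bool.rec (fun _ => ℕ) l3113 l3114 (Nat.ble (nat_lit 3114) i))
noncomputable def t3115_3117 (i : ℕ) : ℕ := (@Bool.rec (fun _ => ℕ) l3115 l3116 (Nat.ble (nat_lit 3116) i))
noncomputable def t3117_3119 (i : ℕ) : ℕ := (@Bool.rec (fun _ => ℕ) l3117 l3118 (Nat.ble (nat_lit 3118) i))
noncomputable def t3119_3122 (i : ℕ) : ℕ := (@Bool.rec (fun _ => ℕ) l3119 (@Bool.rec (fun _ => ℕ) l3120 l3121 (Nat.ble (nat_lit 3121) i)) (Nat.ble (nat_lit 3120) i))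
noncomputable def t3122_3124 (i : ℕ) : ℕ := (@Bool.rec (fun _ => ℕ) l3122 l3123 (Nat.ble (nat_lit 3123) i))
noncomputable def t3124_3127 (i : ℕ) : ℕ := (@Bool.rec (fun _ => ℕ) l3124 (@Bool.rec (fun _ => ℕ) l3125 l3126 (Nat.ble (nat_lit 3126) i)) (Nat.ble (nat_lit 3125) i))
noncomputable def t3127_3129 (i : ℕ) : ℕ := (@Bool.rec (fun _ => ℕ) l3127 l3128 (Nat.ble (nat_lit 3128) i))
noncomputable def t3129_3132 (i : ℕ) : ℕ := (@Bool.rec (fun _ => ℕ) l3129 (@Bool.rec (fun _ => ℕ) l3130 l3131 (Nat.ble (nat_lit 3131) i)) (Nat.ble (nat_lit 3130) i))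
noncomputable def t3113_3132 (i : ℕ) : ℕ := (@Bool.rec (fun _ => ℕ) (@Bool.rec (fun _ => ℕ) (@Bool.rec (fun _ => ℕ) (t3113_3115 i) (t3115_3117 i) (Nat.ble (nat_lit 3115) i)) (@Bool.rec (fun _ => ℕ) (t3117_3119 i) (t3119_3122 i) (Nat.ble (nat_lit 3119) i)) (Nat.ble (nat_lit 3117) i)) (@Bool.rec (fun _ => ℕ) (@Bool.rec (fun _ => ℕ) (t3122_3124 i) (t3124_3127 i) (Nat.ble (nat_lit 3124) i)) (@Bool.rec (fun _ => ℕ) (t3127_3129 i) (t3129_3132 i) (Nat.ble (nat_lit 3129) i)) (Nat.ble (nat_lit 3127) i)) (Nat.ble (nat_lit 3122) i))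
noncomputable def t3132_3134 (i : ℕ) : ℕ := (@Bool.rec (fun _ => ℕ) l3132 l3133 (Nat.ble (nat_lit 3133) i))
noncomputable def t3134_3136 (i : ℕ) : ℕ := (@Bool.rec (fun _ => ℕ) l3134 l3135 (Nat.ble (nat_lit 3135) i))
noncomputable def t3136_3138 (i : ℕ) : ℕ := (@Bool.rec (fun _ => ℕ) l3136 l3137 (Nat.ble (nat_lit 3137) i))
noncomputable def t3138_3141 (i : ℕ) : ℕ := (@Bool.rec (fun _ => ℕ) l3138 (@Bool.rec (fun _ => ℕ) l3139 l3140 (Nat.ble (nat_lit 3140) i)) (Nat.ble (nat_lit 3139) i))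
noncomputable def t3141_3143 (i : ℕ) : ℕ := (@Bool.rec (fun _ => ℕ) l3141 l3142 (Nat.ble (nat_lit 3142) i))
noncomputable def t3143_3146 (i : ℕ) : ℕ := (@Bool.rec (fun _ => ℕ) l3143 (@Bool.rec (fun _ => ℕ) l3144 l3145 (Nat.ble (nat_lit 3145) i)) (Nat.ble (nat_lit 3144) i))
noncomputable def t3146_3148 (i : ℕ) : ℕ := (@Bool.rec (fun _ => ℕ) l3146 l3147 (Nat.ble (nat_lit 3147) i))
noncomputable def t3148_3151 (i : ℕ) : ℕ := (@Bool.rec (fun _ => ℕ) l3148 (@Bool.rec (fun _ => ℕ) l3149 l3150 (Nat.ble (nat_lit 3150) i)) (Nat.ble (nat_lit 3149) i))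
noncomputable def t3132_3151 (i : ℕ) : ℕ := (@Bool.rec (fun _ => ℕ) (@Bool.rec (fun _ => ℕ) (@Bool.rec (fun _ => ℕ) (t3132_3134 i) (t3134_3136 i) (Nat.ble (nat_lit 3134) i)) (@Bool.rec (fun _ => ℕ) (t3136_3138 i) (t3138_3141 i) (Nat.ble (nat_lit 3138) i)) (Nat.ble (nat_lit 3136) i)) (@Bool.rec (fun _ => ℕ) (@Bool.rec (fun _ => ℕ) (t3141_3143 i) (t3143_3146 i) (Nat.ble (nat_lit 3143) i)) (@Bool.rec (fun _ => ℕ) (t3146_3148 i) (t3148_3151 i) (Nat.ble (nat_lit 3148) i)) (Nat.ble (nat_lit 3146) i)) (Nat.ble (nat_lit 3141) i))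
noncomputable def t3001_3151 (i : ℕ) : ℕ := (@Bool.rec (fun _ => ℕ) (@Bool.rec (fun _ => ℕ) (@Bool.rec (fun _ => ℕ) (t3001_3019 i) (t3019_3038 i) (Nat.ble (nat_lit 3019) i)) (@Bool.rec (fun _ => ℕ) (t3038_3057 i) (t3057_3076 i) (Nat.ble (nat_lit 3057) i)) (Nat.ble (nat_lit 3038) i)) (@Bool.rec (fun _ => ℕ) (@Bool.rec (fun _ => ℕ) (t3076_3094 i) (t3094_3113 i) (Nat.ble (nat_lit 3094) i)) (@Bool.rec (fun _ => ℕ) (t3113_3132 i) (t3132_3151 i) (Nat.ble (nat_lit 3132) i)) (Nat.ble (nat_lit 3113) i)) (Nat.ble (nat_lit 3076) i))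
noncomputable def t3151_3153 (i : ℕ) : ℕ := (@Bool.rec (fun _ => ℕ) l3151 l3152 (Nat.ble (nat_lit 3152) i))
noncomputable def t3153_3155 (i : ℕ) : ℕ := (@Bool.rec (fun _ => ℕ) l3153 l3154 (Nat.ble (nat_lit 3154) i))
noncomputable def t3155_3157 (i : ℕ) : ℕ := (@Bool.rec (fun _ => ℕ) l3155 l3156 (Nat.ble (nat_lit 3156) i))
noncomputable def t3157_3160 (i : ℕ) : ℕ := (@Bool.rec (fun _ => ℕ) l3157 (@Bool.rec (fun _ => ℕ) l3158 l3159 (Nat.ble (nat_lit 3159) i)) (Nat.ble (nat_lit 3158) i))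
noncomputable def t3160_3162 (i : ℕ) : ℕ := (@Bool.rec (fun _ => ℕ) l3160 l3161 (Nat.ble (nat_lit 3161) i))
noncomputable def t3162_3164 (i : ℕ) : ℕ := (@Bool.rec (fun _ => ℕ) l3162 l3163 (Nat.ble (nat_lit 3163) i))
noncomputable def t3164_3166 (i : ℕ) : ℕ := (@Bool.rec (fun _ => ℕ) l3164 l3165 (Nat.ble (nat_lit 3165) i))
noncomputable def t3166_3169 (i : ℕ) : ℕ := (@Bool.rec (fun _ => ℕ) l3166 (@Bool.rec (fun _ => ℕ) l3167 l3168 (Nat.ble (nat_lit 3168) i)) (Nat.ble (nat_lit 3167) i))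
noncomputable def t3151_3169 (i : ℕ) : ℕ := (@Bool.rec (fun _ => ℕ) (@Bool.rec (fun _ => ℕ) (@Bool.rec (fun _ => ℕ) (t3151_3153 i) (t3153_3155 i) (Nat.ble (nat_lit 3153) i)) (@Bool.rec (fun _ => ℕ) (t3155_3157 i) (t3157_3160 i) (Nat.ble (nat_lit 3157) i)) (Nat.ble (nat_lit 3155) i)) (@Bool.rec (fun _ => ℕ) (@Bool.rec (fun _ => ℕ) (t3160_3162 i) (t3162_3164 i) (Nat.ble (nat_lit 3162) i)) (@Bool.rec (fun _ => ℕ) (t3164_3166 i) (t3166_3169 i) (Nat.ble (nat_lit 3166) i)) (Nat.ble (nat_lit 3164) i)) (Nat.ble (nat_lit 3160) i))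
noncomputable def t3169_3171 (i : ℕ) : ℕ := (@Bool.rec (fun _ => ℕ) l3169 l3170 (Nat.ble (nat_lit 3170) i))
noncomputable def t3171_3173 (i : ℕ) : ℕ := (@Bool.rec (fun _ => ℕ) l3171 l3172 (Nat.ble (nat_lit 3172) i))
noncomputable def t3173_3175 (i : ℕ) : ℕ := (@Bool.rec (fun _ => ℕ) l3173 l3174 (Nat.ble (nat_lit 3174) i))
noncomputable def t3175_3178 (i : ℕ) : ℕ := (@Bool.rec (fun _ => ℕ) l3175 (@Bool.rec (fun _ => ℕ) l3176 l3177 (Nat.ble (nat_lit 3177) i)) (Nat.ble (nat_lit 3176) i))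
noncomputable def t3178_3180 (i : ℕ) : ℕ := (@Bool.rec (fun _ => ℕ) l3178 l3179 (Nat.ble (nat_lit 3179) i))
noncomputable def t3180_3183 (i : ℕ) : ℕ := (@Bool.rec (fun _ => ℕ) l3180 (@Bool.rec (fun _ => ℕ) l3181 l3182 (Nat.ble (nat_lit 3182) i)) (Nat.ble (nat_lit 3181) i))
noncomputable def t3183_3185 (i : ℕ) : ℕ := (@Bool.rec (fun _ => ℕ) l3183 l3184 (Nat.ble (nat_lit 3184) i))
noncomputable def t3185_3188 (i : ℕ) : ℕ := (@Bool.rec (fun _ => ℕ) l3185 (@Bool.rec (fun _ => ℕ) l3186 l3187 (Nat.ble (nat_lit 3187) i)) (Nat.ble (nat_lit 3186) i))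
noncomputable def t3169_3188 (i : ℕ) : ℕ := (@Bool.rec (fun _ => ℕ) (@Bool.rec (fun _ => ℕ) (@Bool.rec (fun _ => ℕ) (t3169_3171 i) (t3171_3173 i) (Nat.ble (nat_lit 3171) i)) (@Bool.rec (fun _ => ℕ) (t3173_3175 i) (t3175_3178 i) (Nat.ble (nat_lit 3175) i)) (Nat.ble (nat_lit 3173) i)) (@Bool.rec (fun _ => ℕ) (@Bool.rec (fun _ => ℕ) (t3178_3180 i) (t3180_3183 i) (Nat.ble (nat_lit 3180) i)) (@Bool.rec (fun _ => ℕ) (t3183_3185 i) (t3185_3188 i) (Nat.ble (nat_lit 3185) i)) (Nat.ble (nat_lit 3183) i)) (Nat.ble (nat_lit 3178) i))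
noncomputable def t3188_3190 (i : ℕ) : ℕ := (@Bool.rec (fun _ => ℕ) l3188 l3189 (Nat.ble (nat_lit 3189) i))
noncomputable def t3190_3192 (i : ℕ) : ℕ := (@Bool.rec (fun _ => ℕ) l3190 l3191 (Nat.ble (nat_lit 3191) i))
noncomputable def t3192_3194 (i : ℕ) : ℕ := (@Bool.rec (fun _ => ℕ) l3192 l3193 (Nat.ble (nat_lit 3193) i))
noncomputable def t3194_3197 (i : ℕ) : ℕ := (@Bool.rec (fun _ => ℕ) l3194 (@Bool.rec (fun _ => ℕ) l3195 l3196 (Nat.ble (nat_lit 3196) i)) (Nat.ble (nat_lit 3195) i))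
noncomputable def t3197_3199 (i : ℕ) : ℕ := (@Bool.rec (fun _ => ℕ) l3197 l3198 (Nat.ble (nat_lit 3198) i))
noncomputable def t3199_3202 (i : ℕ) : ℕ := (@Bool.rec (fun _ => ℕ) l3199 (@Bool.rec (fun _ => ℕ) l3200 l3201 (Nat.ble (nat_lit 3201) i)) (Nat.ble (nat_lit 3200) i))
noncomputable def t3202_3204 (i : ℕ) : ℕ := (@Bool.rec (fun _ => ℕ) l3202 l3203 (Nat.ble (nat_lit 3203) i))
noncomputable def t3204_3207 (i : ℕ) : ℕ := (@Bool.rec (fun _ => ℕ) l3204 (@Bool.rec (fun _ => ℕ) l3205 l3206 (Nat.ble (nat_lit 3206) i)) (Nat.ble (nat_lit 3205) i))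
noncomputable def t3188_3207 (i : ℕ) : ℕ := (@Bool.rec (fun _ => ℕ) (@Bool.rec (fun _ => ℕ) (@Bool.rec (fun _ => ℕ) (t3188_3190 i) (t3190_3192 i) (Nat.ble (nat_lit 3190) i)) (@Bool.rec (fun _ => ℕ) (t3192_3194 i) (t3194_3197 i) (Nat.ble (nat_lit 3194) i)) (Nat.ble (nat_lit 3192) i)) (@Bool.rec (fun _ => ℕ) (@Bool.rec (fun _ => ℕ) (t3197_3199 i) (t3199_3202 i) (Nat.ble (nat_lit 3199) i)) (@Bool.rec (fun _ => ℕ) (t3202_3204 i) (t3204_3207 i) (Nat.ble (nat_lit 3204) i)) (Nat.ble (nat_lit 3202) i)) (Nat.ble (nat_lit 3197) i))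
noncomputable def t3207_3209 (i : ℕ) : ℕ := (@Bool.rec (fun _ => ℕ) l3207 l3208 (Nat.ble (nat_lit 3208) i))
noncomputable def t3209_3211 (i : ℕ) : ℕ := (@Bool.rec (fun _ => ℕ) l3209 l3210 (Nat.ble (nat_lit 3210) i))
noncomputable def t3211_3213 (i : ℕ) : ℕ := (@Bool.rec (fun _ => ℕ) l3211 l3212 (Nat.ble (nat_lit 3212) i))
noncomputable def t3213_3216 (i : ℕ) : ℕ := (@Bool.rec (fun _ => ℕ) l3213 (@Bool.rec (fun _ => ℕ) l3214 l3215 (Nat.ble (nat_lit 3215) i)) (Nat.ble (nat_lit 3214) i))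
noncomputable def t3216_3218 (i : ℕ) : ℕ := (@Bool.rec (fun _ => ℕ) l3216 l3217 (Nat.ble (nat_lit 3217) i))
noncomputable def t3218_3221 (i : ℕ) : ℕ := (@Bool.rec (fun _ => ℕ) l3218 (@Bool.rec (fun _ => ℕ) l3219 l3220 (Nat.ble (nat_lit 3220) i)) (Nat.ble (nat_lit 3219) i))
noncomputable def t3221_3223 (i : ℕ) : ℕ := (@Bool.rec (fun _ => ℕ) l3221 l3222 (Nat.ble (nat_lit 3222) i))
noncomputable def t3223_3226 (i : ℕ) : ℕ := (@Bool.rec (fun _ => ℕ) l3223 (@Bool.rec (fun _ => ℕ) l3224 l3225 (Nat.ble (nat_lit 3225) i)) (Nat.ble (nat_lit 3224) i))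
noncomputable def t3207_3226 (i : ℕ) : ℕ := (@Bool.rec (fun _ => ℕ) (@Bool.rec (fun _ => ℕ) (@Bool.rec (fun _ => ℕ) (t3207_3209 i) (t3209_3211 i) (Nat.ble (nat_lit 3209) i)) (@Bool.rec (fun _ => ℕ) (t3211_3213 i) (t3213_3216 i) (Nat.ble (nat_lit 3213) i)) (Nat.ble (nat_lit 3211) i)) (@Bool.rec (fun _ => ℕ) (@Bool.rec (fun _ => ℕ) (t3216_3218 i) (t3218_3221 i) (Nat.ble (nat_lit 3218) i)) (@Bool.rec (fun _ => ℕ) (t3221_3223 i) (t3223_3226 i) (Nat.ble (nat_lit 3223) i)) (Nat.ble (nat_lit 3221) i)) (Nat.ble (nat_lit 3216) i))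
noncomputable def t3226_3228 (i : ℕ) : ℕ := (@Bool.rec (fun _ => ℕ) l3226 l3227 (Nat.ble (nat_lit 3227) i))
noncomputable def t3228_3230 (i : ℕ) : ℕ := (@Bool.rec (fun _ => ℕ) l3228 l3229 (Nat.ble (nat_lit 3229) i))
noncomputable def t3230_3232 (i : ℕ) : ℕ := (@Bool.rec (fun _ => ℕ) l3230 l3231 (Nat.ble (nat_lit 3231) i))
noncomputable def t3232_3235 (i : ℕ) : ℕ := (@Bool.rec (fun _ => ℕ) l3232 (@Bool.rec (fun _ => ℕ) l3233 l3234 (Nat.ble (nat_lit 3234) i)) (Nat.ble (nat_lit 3233) i))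
noncomputable def t3235_3237 (i : ℕ) : ℕ := (@Bool.rec (fun _ => ℕ) l3235 l3236 (Nat.ble (nat_lit 3236) i))
noncomputable def t3237_3239 (i : ℕ) : ℕ := (@Bool.rec (fun _ => ℕ) l3237 l3238 (Nat.ble (nat_lit 3238) i))
noncomputable def t3239_3241 (i : ℕ) : ℕ := (@Bool.rec (fun _ => ℕ) l3239 l3240 (Nat.ble (nat_lit 3240) i))
noncomputable def t3241_3244 (i : ℕ) : ℕ := (@Bool.rec (fun _ => ℕ) l3241 (@Bool.rec (fun _ => ℕ) l3242 l3243 (Nat.ble (nat_lit 3243) i)) (Nat.ble (nat_lit 3242) i))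
noncomputable def t3226_3244 (i : ℕ) : ℕ := (@Bool.rec (fun _ => ℕ) (@Bool.rec (fun _ => ℕ) (@Bool.rec (fun _ => ℕ) (t3226_3228 i) (t3228_3230 i) (Nat.ble (nat_lit 3228) i)) (@Bool.rec (fun _ => ℕ) (t3230_3232 i) (t3232_3235 i) (Nat.ble (nat_lit 3232) i)) (Nat.ble (nat_lit 3230) i)) (@Bool.rec (fun _ => ℕ) (@Bool.rec (fun _ => ℕ) (t3235_3237 i) (t3237_3239 i) (Nat.ble (nat_lit 3237) i)) (@Bool.rec (fun _ => ℕ) (t3239_3241 i) (t3241_3244 i) (Nat.ble (nat_lit 3241) i)) (Nat.ble (nat_lit 3239) i)) (Nat.ble (nat_lit 3235) i))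
noncomputable def t3244_3246 (i : ℕ) : ℕ := (@Bool.rec (fun _ => ℕ) l3244 l3245 (Nat.ble (nat_lit 3245) i))
noncomputable def t3246_3248 (i : ℕ) : ℕ := (@Bool.rec (fun _ => ℕ) l3246 l3247 (Nat.ble (nat_lit 3247) i))
noncomputable def t3248_3250 (i : ℕ) : ℕ := (@Bool.rec (fun _ => ℕ) l3248 l3249 (Nat.ble (nat_lit 3249) i))
noncomputable def t3250_3253 (i : ℕ) : ℕ := (@Bool.rec (fun _ => ℕ) l3250 (@Bool.rec (fun _ => ℕ) l3251 l3252 (Nat.ble (nat_lit 3252) i)) (Nat.ble (nat_lit 3251) i))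
noncomputable def t3253_3255 (i : ℕ) : ℕ := (@Bool.rec (fun _ => ℕ) l3253 l3254 (Nat.ble (nat_lit 3254) i))
noncomputable def t3255_3258 (i : ℕ) : ℕ := (@Bool.rec (fun _ => ℕ) l3255 (@Bool.rec (fun _ => ℕ) l3256 l3257 (Nat.ble (nat_lit 3257) i)) (Nat.ble (nat_lit 3256) i))
noncomputable def t3258_3260 (i : ℕ) : ℕ := (@Bool.rec (fun _ => ℕ) l3258 l3259 (Nat.ble (nat_lit 3259) i))
noncomputable def t3260_3263 (i : ℕ) : ℕ := (@Bool.rec (fun _ => ℕ) l3260 (@Bool.rec (fun _ => ℕ) l3261 l3262 (Nat.ble (nat_lit 3262) i)) (Nat.ble (nat_lit 3261) i))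
noncomputable def t3244_3263 (i : ℕ) : ℕ := (@Bool.rec (fun _ => ℕ) (@Bool.rec (fun _ => ℕ) (@Bool.rec (fun _ => ℕ) (t3244_3246 i) (t3246_3248 i) (Nat.ble (nat_lit 3246) i)) (@Bool.rec (fun _ => ℕ) (t3248_3250 i) (t3250_3253 i) (Nat.ble (nat_lit 3250) i)) (Nat.ble (nat_lit 3248) i)) (@Bool.rec (fun _ => ℕ) (@Bool.rec (fun _ => ℕ) (t3253_3255 i) (t3255_3258 i) (Nat.ble (nat_lit 3255) i)) (@Bool.rec (fun _ => ℕ) (t3258_3260 i) (t3260_3263 i) (Nat.ble (nat_lit 3260) i)) (Nat.ble (nat_lit 3258) i)) (Nat.ble (nat_lit 3253) i))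
noncomputable def t3263_3265 (i : ℕ) : ℕ := (@Bool.rec (fun _ => ℕ) l3263 l3264 (Nat.ble (nat_lit 3264) i))
noncomputable def t3265_3267 (i : ℕ) : ℕ := (@Bool.rec (fun _ => ℕ) l3265 l3266 (Nat.ble (nat_lit 3266) i))
noncomputable def t3267_3269 (i : ℕ) : ℕ := (@Bool.rec (fun _ => ℕ) l3267 l3268 (Nat.ble (nat_lit 3268) i))
noncomputable def t3269_3272 (i : ℕ) : ℕ := (@Bool.rec (fun _ => ℕ) l3269 (@Bool.rec (fun _ => ℕ) l3270 l3271 (Nat.ble (nat_lit 3271) i)) (Nat.ble (nat_lit 3270) i))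
noncomputable def t3272_3274 (i : ℕ) : ℕ := (@Bool.rec (fun _ => ℕ) l3272 l3273 (Nat.ble (nat_lit 3273) i))
noncomputable def t3274_3277 (i : ℕ) : ℕ := (@Bool.rec (fun _ => ℕ) l3274 (@Bool.rec (fun _ => ℕ) l3275 l3276 (Nat.ble (nat_lit 3276) i)) (Nat.ble (nat_lit 3275) i))
noncomputable def t3277_3279 (i : ℕ) : ℕ := (@Bool.rec (fun _ => ℕ) l3277 l3278 (Nat.ble (nat_lit 3278) i))
noncomputable def t3279_3282 (i : ℕ) : ℕ := (@Bool.rec (fun _ => ℕ) l3279 (@Bool.rec (fun _ => ℕ) l3280 l3281 (Nat.ble (nat_lit 3281) i)) (Nat.ble (nat_lit 3280) i))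
noncomputable def t3263_3282 (i : ℕ) : ℕ := (@Bool.rec (fun _ => ℕ) (@Bool.rec (fun _ => ℕ) (@Bool.rec (fun _ => ℕ) (t3263_3265 i) (t3265_3267 i) (Nat.ble (nat_lit 3265) i)) (@Bool.rec (fun _ => ℕ) (t3267_3269 i) (t3269_3272 i) (Nat.ble (nat_lit 3269) i)) (Nat.ble (nat_lit 3267) i)) (@Bool.rec (fun _ => ℕ) (@Bool.rec (fun _ => ℕ) (t3272_3274 i) (t3274_3277 i) (Nat.ble (nat_lit 3274) i)) (@Bool.rec (fun _ => ℕ) (t3277_3279 i) (t3279_3282 i) (Nat.ble (nat_lit 3279) i)) (Nat.ble (nat_lit 3277) i)) (Nat.ble (nat_lit 3272) i))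
noncomputable def t3282_3284 (i : ℕ) : ℕ := (@Bool.rec (fun _ => ℕ) l3282 l3283 (Nat.ble (nat_lit 3283) i))
noncomputable def t3284_3286 (i : ℕ) : ℕ := (@Bool.rec (fun _ => ℕ) l3284 l3285 (Nat.ble (nat_lit 3285) i))
noncomputable def t3286_3288 (i : ℕ) : ℕ := (@Bool.rec (fun _ => ℕ) l3286 l3287 (Nat.ble (nat_lit 3287) i))
noncomputable def t3288_3291 (i : ℕ) : ℕ := (@Bool.rec (fun _ => ℕ) l3288 (@Bool.rec (fun _ => ℕ) l3289 l3290 (Nat.ble (nat_lit 3290) i)) (Nat.ble (nat_lit 3289) i))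
noncomputable def t3291_3293 (i : ℕ) : ℕ := (@Bool.rec (fun _ => ℕ) l3291 l3292 (Nat.ble (nat_lit 3292) i))
noncomputable def t3293_3296 (i : ℕ) : ℕ := (@Bool.rec (fun _ => ℕ) l3293 (@Bool.rec (fun _ => ℕ) l3294 l3295 (Nat.ble (nat_lit 3295) i)) (Nat.ble (nat_lit 3294) i))
noncomputable def t3296_3298 (i : ℕ) : ℕ := (@Bool.rec (fun _ => ℕ) l3296 l3297 (Nat.ble (nat_lit 3297) i))
noncomputable def t3298_3301 (i : ℕ) : ℕ := (@Bool.rec (fun _ => ℕ) l3298 (@Bool.rec (fun _ => ℕ) l3299 l3300 (Nat.ble (nat_lit 3300) i)) (Nat.ble (nat_lit 3299) i))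
noncomputable def t3282_3301 (i : ℕ) : ℕ := (@Bool.rec (fun _ => ℕ) (@Bool.rec (fun _ => ℕ) (@Bool.rec (fun _ => ℕ) (t3282_3284 i) (t3284_3286 i) (Nat.ble (nat_lit 3284) i)) (@Bool.rec (fun _ => ℕ) (t3286_3288 i) (t3288_3291 i) (Nat.ble (nat_lit 3288) i)) (Nat.ble (nat_lit 3286) i)) (@Bool.rec (fun _ => ℕ) (@Bool.rec (fun _ => ℕ) (t3291_3293 i) (t3293_3296 i) (Nat.ble (nat_lit 3293) i)) (@Bool.rec (fun _ => ℕ) (t3296_3298 i) (t3298_3301 i) (Nat.ble (nat_lit 3298) i)) (Nat.ble (nat_lit 3296) i)) (Nat.ble (nat_lit 3291) i))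
noncomputable def t3151_3301 (i : ℕ) : ℕ := (@Bool.rec (fun _ => ℕ) (@Bool.rec (fun _ => ℕ) (@Bool.rec (fun _ => ℕ) (t3151_3169 i) (t3169_3188 i) (Nat.ble (nat_lit 3169) i)) (@Bool.rec (fun _ => ℕ) (t3188_3207 i) (t3207_3226 i) (Nat.ble (nat_lit 3207) i)) (Nat.ble (nat_lit 3188) i)) (@Bool.rec (fun _ => ℕ) (@Bool.rec (fun _ => ℕ) (t3226_3244 i) (t3244_3263 i) (Nat.ble (nat_lit 3244) i)) (@Bool.rec (fun _ => ℕ) (t3263_3282 i) (t3282_3301 i) (Nat.ble (nat_lit 3282) i)) (Nat.ble (nat_lit 3263) i)) (Nat.ble (nat_lit 3226) i))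
noncomputable def t3301_3303 (i : ℕ) : ℕ := (@Bool.rec (fun _ => ℕ) l3301 l3302 (Nat.ble (nat_lit 3302) i))
noncomputable def t3303_3305 (i : ℕ) : ℕ := (@Bool.rec (fun _ => ℕ) l3303 l3304 (Nat.ble (nat_lit 3304) i))
noncomputable def t3305_3307 (i : ℕ) : ℕ := (@Bool.rec (fun _ => ℕ) l3305 l3306 (Nat.ble (nat_lit 3306) i))
noncomputable def t3307_3310 (i : ℕ) : ℕ := (@Bool.rec (fun _ => ℕ) l3307 (@Bool.rec (fun _ => ℕ) l3308 l3309 (Nat.ble (nat_lit 3309) i)) (Nat.ble (nat_lit 3308) i))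
noncomputable def t3310_3312 (i : ℕ) : ℕ := (@Bool.rec (fun _ => ℕ) l3310 l3311 (Nat.ble (nat_lit 3311) i))
noncomputable def t3312_3314 (i : ℕ) : ℕ := (@Bool.rec (fun _ => ℕ) l3312 l3313 (Nat.ble (nat_lit 3313) i))
noncomputable def t3314_3316 (i : ℕ) : ℕ := (@Bool.rec (fun _ => ℕ) l3314 l3315 (Nat.ble (nat_lit 3315) i))
noncomputable def t3316_3319 (i : ℕ) : ℕ := (@Bool.rec (fun _ => ℕ) l3316 (@Bool.rec (fun _ => ℕ) l3317 l3318 (Nat.ble (nat_lit 3318) i)) (Nat.ble (nat_lit 3317) i))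
noncomputable def t3301_3319 (i : ℕ) : ℕ := (@Bool.rec (fun _ => ℕ) (@Bool.rec (fun _ => ℕ) (@Bool.rec (fun _ => ℕ) (t3301_3303 i) (t3303_3305 i) (Nat.ble (nat_lit 3303) i)) (@Bool.rec (fun _ => ℕ) (t3305_3307 i) (t3307_3310 i) (Nat.ble (nat_lit 3307) i)) (Nat.ble (nat_lit 3305) i)) (@Bool.rec (fun _ => ℕ) (@Bool.rec (fun _ => ℕ) (t3310_3312 i) (t3312_3314 i) (Nat.ble (nat_lit 3312) i)) (@Bool.rec (fun _ => ℕ) (t3314_3316 i) (t3316_3319 i) (Nat.ble (nat_lit 3316) i)) (Nat.ble (nat_lit 3314) i)) (Nat.ble (nat_lit 3310) i))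
noncomputable def t3319_3321 (i : ℕ) : ℕ := (@Bool.rec (fun _ => ℕ) l3319 l3320 (Nat.ble (nat_lit 3320) i))
noncomputable def t3321_3323 (i : ℕ) : ℕ := (@Bool.rec (fun _ => ℕ) l3321 l3322 (Nat.ble (nat_lit 3322) i))
noncomputable def t3323_3325 (i : ℕ) : ℕ := (@Bool.rec (fun _ => ℕ) l3323 l3324 (Nat.ble (nat_lit 3324) i))
noncomputable def t3325_3328 (i : ℕ) : ℕ := (@Bool.rec (fun _ => ℕ) l3325 (@Bool.rec (fun _ => ℕ) l3326 l3327 (Nat.ble (nat_lit 3327) i)) (Nat.ble (nat_lit 3326) i))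
noncomputable def t3328_3330 (i : ℕ) : ℕ := (@Bool.rec (fun _ => ℕ) l3328 l3329 (Nat.ble (nat_lit 3329) i))
noncomputable def t3330_3333 (i : ℕ) : ℕ := (@Bool.rec (fun _ => ℕ) l3330 (@Bool.rec (fun _ => ℕ) l3331 l3332 (Nat.ble (nat_lit 3332) i)) (Nat.ble (nat_lit 3331) i))
noncomputable def t3333_3335 (i : ℕ) : ℕ := (@Bool.rec (fun _ => ℕ) l3333 l3334 (Nat.ble (nat_lit 3334) i))
noncomputable def t3335_3338 (i : ℕ) : ℕ := (@Bool.rec (fun _ => ℕ) l3335 (@Bool.rec (fun _ => ℕ) l3336 l3337 (Nat.ble (nat_lit 3337) i)) (Nat.ble (nat_lit 3336) i))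
noncomputable def t3319_3338 (i : ℕ) : ℕ := (@Bool.rec (fun _ => ℕ) (@Bool.rec (fun _ => ℕ) (@Bool.rec (fun _ => ℕ) (t3319_3321 i) (t3321_3323 i) (Nat.ble (nat_lit 3321) i)) (@Bool.rec (fun _ => ℕ) (t3323_3325 i) (t3325_3328 i) (Nat.ble (nat_lit 3325) i)) (Nat.ble (nat_lit 3323) i)) (@Bool.rec (fun _ => ℕ) (@Bool.rec (fun _ => ℕ) (t3328_3330 i) (t3330_3333 i) (Nat.ble (nat_lit 3330) i)) (@Bool.rec (fun _ => ℕ) (t3333_3335 i) (t3335_3338 i) (Nat.ble (nat_lit 3335) i)) (Nat.ble (nat_lit 3333) i)) (Nat.ble (nat_lit 3328) i))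
noncomputable def t3338_3340 (i : ℕ) : ℕ := (@Bool.rec (fun _ => ℕ) l3338 l3339 (Nat.ble (nat_lit 3339) i))
noncomputable def t3340_3342 (i : ℕ) : ℕ := (@Bool.rec (fun _ => ℕ) l3340 l3341 (Nat.ble (nat_lit 3341) i))
noncomputable def t3342_3344 (i : ℕ) : ℕ := (@Bool.rec (fun _ => ℕ) l3342 l3343 (Nat.ble (nat_lit 3343) i))
noncomputable def t3344_3347 (i : ℕ) : ℕ := (@Bool.rec (fun _ => ℕ) l3344 (@Bool.rec (fun _ => ℕ) l3345 l3346 (Nat.ble (nat_lit 3346) i)) (Nat.ble (nat_lit 3345) i))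
noncomputable def t3347_3349 (i : ℕ) : ℕ := (@Bool.rec (fun _ => ℕ) l3347 l3348 (Nat.ble (nat_lit 3348) i))
noncomputable def t3349_3352 (i : ℕ) : ℕ := (@Bool.rec (fun _ => ℕ) l3349 (@Bool.rec (fun _ => ℕ) l3350 l3351 (Nat.ble (nat_lit 3351) i)) (Nat.ble (nat_lit 3350) i))
noncomputable def t3352_3354 (i : ℕ) : ℕ := (@Bool.rec (fun _ => ℕ) l3352 l3353 (Nat.ble (nat_lit 3353) i))
noncomputable def t3354_3357 (i : ℕ) : ℕ := (@Bool.rec (fun _ => ℕ) l3354 (@Bool.rec (fun _ => ℕ) l3355 l3356 (Nat.ble (nat_lit 3356) i)) (Nat.ble (nat_lit 3355) i))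
noncomputable def t3338_3357 (i : ℕ) : ℕ := (@Bool.rec (fun _ => ℕ) (@Bool.rec (fun _ => ℕ) (@Bool.rec (fun _ => ℕ) (t3338_3340 i) (t3340_3342 i) (Nat.ble (nat_lit 3340) i)) (@Bool.rec (fun _ => ℕ) (t3342_3344 i) (t3344_3347 i) (Nat.ble (nat_lit 3344) i)) (Nat.ble (nat_lit 3342) i)) (@Bool.rec (fun _ => ℕ) (@Bool.rec (fun _ => ℕ) (t3347_3349 i) (t3349_3352 i) (Nat.ble (nat_lit 3349) i)) (@Bool.rec (fun _ => ℕ) (t3352_3354 i) (t3354_3357 i) (Nat.ble (nat_lit 3354) i)) (Nat.ble (nat_lit 3352) i)) (Nat.ble (nat_lit 3347) i))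
noncomputable def t3357_3359 (i : ℕ) : ℕ := (@Bool.rec (fun _ => ℕ) l3357 l3358 (Nat.ble (nat_lit 3358) i))
noncomputable def t3359_3361 (i : ℕ) : ℕ := (@Bool.rec (fun _ => ℕ) l3359 l3360 (Nat.ble (nat_lit 3360) i))
noncomputable def t3361_3363 (i : ℕ) : ℕ := (@Bool.rec (fun _ => ℕ) l3361 l3362 (Nat.ble (nat_lit 3362) i))
noncomputable def t3363_3366 (i : ℕ) : ℕ := (@Bool.rec (fun _ => ℕ) l3363 (@Bool.rec (fun _ => ℕ) l3364 l3365 (Nat.ble (nat_lit 3365) i)) (Nat.ble (nat_lit 3364) i))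
noncomputable def t3366_3368 (i : ℕ) : ℕ := (@Bool.rec (fun _ => ℕ) l3366 l3367 (Nat.ble (nat_lit 3367) i))
noncomputable def t3368_3371 (i : ℕ) : ℕ := (@Bool.rec (fun _ => ℕ) l3368 (@Bool.rec (fun _ => ℕ) l3369 l3370 (Nat.ble (nat_lit 3370) i)) (Nat.ble (nat_lit 3369) i))
noncomputable def t3371_3373 (i : ℕ) : ℕ := (@Bool.rec (fun _ => ℕ) l3371 l3372 (Nat.ble (nat_lit 3372) i))
noncomputable def t3373_3376 (i : ℕ) : ℕ := (@Bool.rec (fun _ => ℕ) l3373 (@Bool.rec (fun _ => ℕ) l3374 l3375 (Nat.ble (nat_lit 3375) i)) (Nat.ble (nat_lit 3374) i))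
noncomputable def t3357_3376 (i : ℕ) : ℕ := (@Bool.rec (fun _ => ℕ) (@Bool.rec (fun _ => ℕ) (@Bool.rec (fun _ => ℕ) (t3357_3359 i) (t3359_3361 i) (Nat.ble (nat_lit 3359) i)) (@Bool.rec (fun _ => ℕ) (t3361_3363 i) (t3363_3366 i) (Nat.ble (nat_lit 3363) i)) (Nat.ble (nat_lit 3361) i)) (@Bool.rec (fun _ => ℕ) (@Bool.rec (fun _ => ℕ) (t3366_3368 i) (t3368_3371 i) (Nat.ble (nat_lit 3368) i)) (@Bool.rec (fun _ => ℕ) (t3371_3373 i) (t3373_3376 i) (Nat.ble (nat_lit 3373) i)) (Nat.ble (nat_lit 3371) i)) (Nat.ble (nat_lit 3366) i))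
noncomputable def t3376_3378 (i : ℕ) : ℕ := (@Bool.rec (fun _ => ℕ) l3376 l3377 (Nat.ble (nat_lit 3377) i))
noncomputable def t3378_3380 (i : ℕ) : ℕ := (@Bool.rec (fun _ => ℕ) l3378 l3379 (Nat.ble (nat_lit 3379) i))
noncomputable def t3380_3382 (i : ℕ) : ℕ := (@Bool.rec (fun _ => ℕ) l3380 l3381 (Nat.ble (nat_lit 3381) i))
noncomputable def t3382_3385 (i : ℕ) : ℕ := (@Bool.rec (fun _ => ℕ) l3382 (@Bool.rec (fun _ => ℕ) l3383 l3384 (Nat.ble (nat_lit 3384) i)) (Nat.ble (nat_lit 3383) i))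
noncomputable def t3385_3387 (i : ℕ) : ℕ := (@Bool.rec (fun _ => ℕ) l3385 l3386 (Nat.ble (nat_lit 3386) i))
noncomputable def t3387_3389 (i : ℕ) : ℕ := (@Bool.rec (fun _ => ℕ) l3387 l3388 (Nat.ble (nat_lit 3388) i))
noncomputable def t3389_3391 (i : ℕ) : ℕ := (@Bool.rec (fun _ => ℕ) l3389 l3390 (Nat.ble (nat_lit 3390) i))
noncomputable def t3391_3394 (i : ℕ) : ℕ := (@Bool.rec (fun _ => ℕ) l3391 (@Bool.rec (fun _ => ℕ) l3392 l3393 (Nat.ble (nat_lit 3393) i)) (Nat.ble (nat_lit 3392) i))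
noncomputable def t3376_3394 (i : ℕ) : ℕ := (@Bool.rec (fun _ => ℕ) (@Bool.rec (fun _ => ℕ) (@Bool.rec (fun _ => ℕ) (t3376_3378 i) (t3378_3380 i) (Nat.ble (nat_lit 3378) i)) (@Bool.rec (fun _ => ℕ) (t3380_3382 i) (t3382_3385 i) (Nat.ble (nat_lit 3382) i)) (Nat.ble (nat_lit 3380) i)) (@Bool.rec (fun _ => ℕ) (@Bool.rec (fun _ => ℕ) (t3385_3387 i) (t3387_3389 i) (Nat.ble (nat_lit 3387) i)) (@Bool.rec (fun _ => ℕ) (t3389_3391 i) (t3391_3394 i) (Nat.ble (nat_lit 3391) i)) (Nat.ble (nat_lit 3389) i)) (Nat.ble (nat_lit 3385) i))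
noncomputable def t3394_3396 (i : ℕ) : ℕ := (@Bool.rec (fun _ => ℕ) l3394 l3395 (Nat.ble (nat_lit 3395) i))
noncomputable def t3396_3398 (i : ℕ) : ℕ := (@Bool.rec (fun _ => ℕ) l3396 l3397 (Nat.ble (nat_lit 3397) i))
noncomputable def t3398_3400 (i : ℕ) : ℕ := (@Bool.rec (fun _ => ℕ) l3398 l3399 (Nat.ble (nat_lit 3399) i))
noncomputable def t3400_3403 (i : ℕ) : ℕ := (@Bool.rec (fun _ => ℕ) l3400 (@Bool.rec (fun _ => ℕ) l3401 l3402 (Nat.ble (nat_lit 3402) i)) (Nat.ble (nat_lit 3401) i))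
noncomputable def t3403_3405 (i : ℕ) : ℕ := (@Bool.rec (fun _ => ℕ) l3403 l3404 (Nat.ble (nat_lit 3404) i))
noncomputable def t3405_3408 (i : ℕ) : ℕ := (@Bool.rec (fun _ => ℕ) l3405 (@Bool.rec (fun _ => ℕ) l3406 l3407 (Nat.ble (nat_lit 3407) i)) (Nat.ble (nat_lit 3406) i))
noncomputable def t3408_3410 (i : ℕ) : ℕ := (@Bool.rec (fun _ => ℕ) l3408 l3409 (Nat.ble (nat_lit 3409) i))
noncomputable def t3410_3413 (i : ℕ) : ℕ := (@Bool.rec (fun _ => ℕ) l3410 (@Bool.rec (fun _ => ℕ) l3411 l3412 (Nat.ble (nat_lit 3412) i)) (Nat.ble (nat_lit 3411) i))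
noncomputable def t3394_3413 (i : ℕ) : ℕ := (@Bool.rec (fun _ => ℕ) (@Bool.rec (fun _ => ℕ) (@Bool.rec (fun _ => ℕ) (t3394_3396 i) (t3396_3398 i) (Nat.ble (nat_lit 3396) i)) (@Bool.rec (fun _ => ℕ) (t3398_3400 i) (t3400_3403 i) (Nat.ble (nat_lit 3400) i)) (Nat.ble (nat_lit 3398) i)) (@Bool.rec (fun _ => ℕ) (@Bool.rec (fun _ => ℕ) (t3403_3405 i) (t3405_3408 i) (Nat.ble (nat_lit 3405) i)) (@Bool.rec (fun _ => ℕ) (t3408_3410 i) (t3410_3413 i) (Nat.ble (nat_lit 3410) i)) (Nat.ble (nat_lit 3408) i)) (Nat.ble (nat_lit 3403) i))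
noncomputable def t3413_3415 (i : ℕ) : ℕ := (@Bool.rec (fun _ => ℕ) l3413 l3414 (Nat.ble (nat_lit 3414) i))
noncomputable def t3415_3417 (i : ℕ) : ℕ := (@Bool.rec (fun _ => ℕ) l3415 l3416 (Nat.ble (nat_lit 3416) i))
noncomputable def t3417_3419 (i : ℕ) : ℕ := (@Bool.rec (fun _ => ℕ) l3417 l3418 (Nat.ble (nat_lit 3418) i))
noncomputable def t3419_3422 (i : ℕ) : ℕ := (@Bool.rec (fun _ => ℕ) l3419 (@Bool.rec (fun _ => ℕ) l3420 l3421 (Nat.ble (nat_lit 3421) i)) (Nat.ble (nat_lit 3420) i))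
noncomputable def t3422_3424 (i : ℕ) : ℕ := (@Bool.rec (fun _ => ℕ) l3422 l3423 (Nat.ble (nat_lit 3423) i))
noncomputable def t3424_3427 (i : ℕ) : ℕ := (@Bool.rec (fun _ => ℕ) l3424 (@Bool.rec (fun _ => ℕ) l3425 l3426 (Nat.ble (nat_lit 3426) i)) (Nat.ble (nat_lit 3425) i))
noncomputable def t3427_3429 (i : ℕ) : ℕ := (@Bool.rec (fun _ => ℕ) l3427 l3428 (Nat.ble (nat_lit 3428) i))
noncomputable def t3429_3432 (i : ℕ) : ℕ := (@Bool.rec (fun _ => ℕ) l3429 (@Bool.rec (fun _ => ℕ) l3430 l3431 (Nat.ble (nat_lit 3431) i)) (Nat.ble (nat_lit 3430) i))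
noncomputable def t3413_3432 (i : ℕ) : ℕ := (@Bool.rec (fun _ => ℕ) (@Bool.rec (fun _ => ℕ) (@Bool.rec (fun _ => ℕ) (t3413_3415 i) (t3415_3417 i) (Nat.ble (nat_lit 3415) i)) (@Bool.rec (fun _ => ℕ) (t3417_3419 i) (t3419_3422 i) (Nat.ble (nat_lit 3419) i)) (Nat.ble (nat_lit 3417) i)) (@Bool.rec (fun _ => ℕ) (@Bool.rec (fun _ => ℕ) (t3422_3424 i) (t3424_3427 i) (Nat.ble (nat_lit 3424) i)) (@Bool.rec (fun _ => ℕ) (t3427_3429 i) (t3429_3432 i) (Nat.ble (nat_lit 3429) i)) (Nat.ble (nat_lit 3427) i)) (Nat.ble (nat_lit 3422) i))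
noncomputable def t3432_3434 (i : ℕ) : ℕ := (@Bool.rec (fun _ => ℕ) l3432 l3433 (Nat.ble (nat_lit 3433) i))
noncomputable def t3434_3436 (i : ℕ) : ℕ := (@Bool.rec (fun _ => ℕ) l3434 l3435 (Nat.ble (nat_lit 3435) i))
noncomputable def t3436_3438 (i : ℕ) : ℕ := (@Bool.rec (fun _ => ℕ) l3436 l3437 (Nat.ble (nat_lit 3437) i))
noncomputable def t3438_3441 (i : ℕ) : ℕ := (@Bool.rec (fun _ => ℕ) l3438 (@Bool.rec (fun _ => ℕ) l3439 l3440 (Nat.ble (nat_lit 3440) i)) (Nat.ble (nat_lit 3439) i))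
noncomputable def t3441_3443 (i : ℕ) : ℕ := (@Bool.rec (fun _ => ℕ) l3441 l3442 (Nat.ble (nat_lit 3442) i))
noncomputable def t3443_3446 (i : ℕ) : ℕ := (@Bool.rec (fun _ => ℕ) l3443 (@Bool.rec (fun _ => ℕ) l3444 l3445 (Nat.ble (nat_lit 3445) i)) (Nat.ble (nat_lit 3444) i))
noncomputable def t3446_3448 (i : ℕ) : ℕ := (@Bool.rec (fun _ => ℕ) l3446 l3447 (Nat.ble (nat_lit 3447) i))
noncomputable def t3448_3451 (i : ℕ) : ℕ := (@Bool.rec (fun _ => ℕ) l3448 (@Bool.rec (fun _ => ℕ) l3449 l3450 (Nat.ble (nat_lit 3450) i)) (Nat.ble (nat_lit 3449) i))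
noncomputable def t3432_3451 (i : ℕ) : ℕ := (@Bool.rec (fun _ => ℕ) (@Bool.rec (fun _ => ℕ) (@Bool.rec (fun _ => ℕ) (t3432_3434 i) (t3434_3436 i) (Nat.ble (nat_lit 3434) i)) (@Bool.rec (fun _ => ℕ) (t3436_3438 i) (t3438_3441 i) (Nat.ble (nat_lit 3438) i)) (Nat.ble (nat_lit 3436) i)) (@Bool.rec (fun _ => ℕ) (@Bool.rec (fun _ => ℕ) (t3441_3443 i) (t3443_3446 i) (Nat.ble (nat_lit 3443) i)) (@Bool.rec (fun _ => ℕ) (t3446_3448 i) (t3448_3451 i) (Nat.ble (nat_lit 3448) i)) (Nat.ble (nat_lit 3446) i)) (Nat.ble (nat_lit 3441) i))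
noncomputable def t3301_3451 (i : ℕ) : ℕ := (@Bool.rec (fun _ => ℕ) (@Bool.rec (fun _ => ℕ) (@Bool.rec (fun _ => ℕ) (t3301_3319 i) (t3319_3338 i) (Nat.ble (nat_lit 3319) i)) (@Bool.rec (fun _ => ℕ) (t3338_3357 i) (t3357_3376 i) (Nat.ble (nat_lit 3357) i)) (Nat.ble (nat_lit 3338) i)) (@Bool.rec (fun _ => ℕ) (@Bool.rec (fun _ => ℕ) (t3376_3394 i) (t3394_3413 i) (Nat.ble (nat_lit 3394) i)) (@Bool.rec (fun _ => ℕ) (t3413_3432 i) (t3432_3451 i) (Nat.ble (nat_lit 3432) i)) (Nat.ble (nat_lit 3413) i)) (Nat.ble (nat_lit 3376) i))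
noncomputable def t3451_3453 (i : ℕ) : ℕ := (@Bool.rec (fun _ => ℕ) l3451 l3452 (Nat.ble (nat_lit 3452) i))
noncomputable def t3453_3455 (i : ℕ) : ℕ := (@Bool.rec (fun _ => ℕ) l3453 l3454 (Nat.ble (nat_lit 3454) i))
noncomputable def t3455_3457 (i : ℕ) : ℕ := (@Bool.rec (fun _ => ℕ) l3455 l3456 (Nat.ble (nat_lit 3456) i))
noncomputable def t3457_3460 (i : ℕ) : ℕ := (@Bool.rec (fun _ => ℕ) l3457 (@Bool.rec (fun _ => ℕ) l3458 l3459 (Nat.ble (nat_lit 3459) i)) (Nat.ble (nat_lit 3458) i))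
noncomputable def t3460_3462 (i : ℕ) : ℕ := (@Bool.rec (fun _ => ℕ) l3460 l3461 (Nat.ble (nat_lit 3461) i))
noncomputable def t3462_3464 (i : ℕ) : ℕ := (@Bool.rec (fun _ => ℕ) l3462 l3463 (Nat.ble (nat_lit 3463) i))
noncomputable def t3464_3466 (i : ℕ) : ℕ := (@Bool.rec (fun _ => ℕ) l3464 l3465 (Nat.ble (nat_lit 3465) i))
noncomputable def t3466_3469 (i : ℕ) : ℕ := (@Bool.rec (fun _ => ℕ) l3466 (@Bool.rec (fun _ => ℕ) l3467 l3468 (Nat.ble (nat_lit 3468) i)) (Nat.ble (nat_lit 3467) i))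
noncomputable def t3451_3469 (i : ℕ) : ℕ := (@Bool.rec (fun _ => ℕ) (@Bool.rec (fun _ => ℕ) (@Bool.rec (fun _ => ℕ) (t3451_3453 i) (t3453_3455 i) (Nat.ble (nat_lit 3453) i)) (@Bool.rec (fun _ => ℕ) (t3455_3457 i) (t3457_3460 i) (Nat.ble (nat_lit 3457) i)) (Nat.ble (nat_lit 3455) i)) (@Bool.rec (fun _ => ℕ) (@Bool.rec (fun _ => ℕ) (t3460_3462 i) (t3462_3464 i) (Nat.ble (nat_lit 3462) i)) (@Bool.rec (fun _ => ℕ) (t3464_3466 i) (t3466_3469 i) (Nat.ble (nat_lit 3466) i)) (Nat.ble (nat_lit 3464) i)) (Nat.ble (nat_lit 3460) i))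
noncomputable def t3469_3471 (i : ℕ) : ℕ := (@Bool.rec (fun _ => ℕ) l3469 l3470 (Nat.ble (nat_lit 3470) i))
noncomputable def t3471_3473 (i : ℕ) : ℕ := (@Bool.rec (fun _ => ℕ) l3471 l3472 (Nat.ble (nat_lit 3472) i))
noncomputable def t3473_3475 (i : ℕ) : ℕ := (@Bool.rec (fun _ => ℕ) l3473 l3474 (Nat.ble (nat_lit 3474) i))
noncomputable def t3475_3478 (i : ℕ) : ℕ := (@Bool.rec (fun _ => ℕ) l3475 (@Bool.rec (fun _ => ℕ) l3476 l3477 (Nat.ble (nat_lit 3477) i)) (Nat.ble (nat_lit 3476) i))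
noncomputable def t3478_3480 (i : ℕ) : ℕ := (@Bool.rec (fun _ => ℕ) l3478 l3479 (Nat.ble (nat_lit 3479) i))
noncomputable def t3480_3483 (i : ℕ) : ℕ := (@Bool.rec (fun _ => ℕ) l3480 (@Bool.rec (fun _ => ℕ) l3481 l3482 (Nat.ble (nat_lit 3482) i)) (Nat.ble (nat_lit 3481) i))
noncomputable def t3483_3485 (i : ℕ) : ℕ := (@Bool.rec (fun _ => ℕ) l3483 l3484 (Nat.ble (nat_lit 3484) i))
noncomputable def t3485_3488 (i : ℕ) : ℕ := (@Bool.rec (fun _ => ℕ) l3485 (@Bool.rec (fun _ => ℕ) l3486 l3487 (Nat.ble (nat_lit 3487) i)) (Nat.ble (nat_lit 3486) i))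
noncomputable def t3469_3488 (i : ℕ) : ℕ := (@Bool.rec (fun _ => ℕ) (@Bool.rec (fun _ => ℕ) (@Bool.rec (fun _ => ℕ) (t3469_3471 i) (t3471_3473 i) (Nat.ble (nat_lit 3471) i)) (@Bool.rec (fun _ => ℕ) (t3473_3475 i) (t3475_3478 i) (Nat.ble (nat_lit 3475) i)) (Nat.ble (nat_lit 3473) i)) (@Bool.rec (fun _ => ℕ) (@Bool.rec (fun _ => ℕ) (t3478_3480 i) (t3480_3483 i) (Nat.ble (nat_lit 3480) i)) (@Bool.rec (fun _ => ℕ) (t3483_3485 i) (t3485_3488 i) (Nat.ble (nat_lit 3485) i)) (Nat.ble (nat_lit 3483) i)) (Nat.ble (nat_lit 3478) i))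
noncomputable def t3488_3490 (i : ℕ) : ℕ := (@Bool.rec (fun _ => ℕ) l3488 l3489 (Nat.ble (nat_lit 3489) i))
noncomputable def t3490_3492 (i : ℕ) : ℕ := (@Bool.rec (fun _ => ℕ) l3490 l3491 (Nat.ble (nat_lit 3491) i))
noncomputable def t3492_3494 (i : ℕ) : ℕ := (@Bool.rec (fun _ => ℕ) l3492 l3493 (Nat.ble (nat_lit 3493) i))
noncomputable def t3494_3497 (i : ℕ) : ℕ := (@Bool.rec (fun _ => ℕ) l3494 (@Bool.rec (fun _ => ℕ) l3495 l3496 (Nat.ble (nat_lit 3496) i)) (Nat.ble (nat_lit 3495) i))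
noncomputable def t3497_3499 (i : ℕ) : ℕ := (@Bool.rec (fun _ => ℕ) l3497 l3498 (Nat.ble (nat_lit 3498) i))
noncomputable def t3499_3502 (i : ℕ) : ℕ := (@Bool.rec (fun _ => ℕ) l3499 (@Bool.rec (fun _ => ℕ) l3500 l3501 (Nat.ble (nat_lit 3501) i)) (Nat.ble (nat_lit 3500) i))
noncomputable def t3502_3504 (i : ℕ) : ℕ := (@Bool.rec (fun _ => ℕ) l3502 l3503 (Nat.ble (nat_lit 3503) i))
noncomputable def t3504_3507 (i : ℕ) : ℕ := (@Bool.rec (fun _ => ℕ) l3504 (@Bool.rec (fun _ => ℕ) l3505 l3506 (Nat.ble (nat_lit 3506) i)) (Nat.ble (nat_lit 3505) i))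
noncomputable def t3488_3507 (i : ℕ) : ℕ := (@Bool.rec (fun _ => ℕ) (@Bool.rec (fun _ => ℕ) (@Bool.rec (fun _ => ℕ) (t3488_3490 i) (t3490_3492 i) (Nat.ble (nat_lit 3490) i)) (@Bool.rec (fun _ => ℕ) (t3492_3494 i) (t3494_3497 i) (Nat.ble (nat_lit 3494) i)) (Nat.ble (nat_lit 3492) i)) (@Bool.rec (fun _ => ℕ) (@Bool.rec (fun _ => ℕ) (t3497_3499 i) (t3499_3502 i) (Nat.ble (nat_lit 3499) i)) (@Bool.rec (fun _ => ℕ) (t3502_3504 i) (t3504_3507 i) (Nat.ble (nat_lit 3504) i)) (Nat.ble (nat_lit 3502) i)) (Nat.ble (nat_lit 3497) i))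
noncomputable def t3507_3509 (i : ℕ) : ℕ := (@Bool.rec (fun _ => ℕ) l3507 l3508 (Nat.ble (nat_lit 3508) i))
noncomputable def t3509_3511 (i : ℕ) : ℕ := (@Bool.rec (fun _ => ℕ) l3509 l3510 (Nat.ble (nat_lit 3510) i))
noncomputable def t3511_3513 (i : ℕ) : ℕ := (@Bool.rec (fun _ => ℕ) l3511 l3512 (Nat.ble (nat_lit 3512) i))
noncomputable def t3513_3516 (i : ℕ) : ℕ := (@Bool.rec (fun _ => ℕ) l3513 (@Bool.rec (fun _ => ℕ) l3514 l3515 (Nat.ble (nat_lit 3515) i)) (Nat.ble (nat_lit 3514) i))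
noncomputable def t3516_3518 (i : ℕ) : ℕ := (@Bool.rec (fun _ => ℕ) l3516 l3517 (Nat.ble (nat_lit 3517) i))
noncomputable def t3518_3521 (i : ℕ) : ℕ := (@Bool.rec (fun _ => ℕ) l3518 (@Bool.rec (fun _ => ℕ) l3519 l3520 (Nat.ble (nat_lit 3520) i)) (Nat.ble (nat_lit 3519) i))
noncomputable def t3521_3523 (i : ℕ) : ℕ := (@Bool.rec (fun _ => ℕ) l3521 l3522 (Nat.ble (nat_lit 3522) i))
noncomputable def t3523_3526 (i : ℕ) : ℕ := (@Bool.rec (fun _ => ℕ) l3523 (@Bool.rec (fun _ => ℕ) l3524 l3525 (Nat.ble (nat_lit 3525) i)) (Nat.ble (nat_lit 3524) i))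
noncomputable def t3507_3526 (i : ℕ) : ℕ := (@Bool.rec (fun _ => ℕ) (@Bool.rec (fun _ => ℕ) (@Bool.rec (fun _ => ℕ) (t3507_3509 i) (t3509_3511 i) (Nat.ble (nat_lit 3509) i)) (@Bool.rec (fun _ => ℕ) (t3511_3513 i) (t3513_3516 i) (Nat.ble (nat_lit 3513) i)) (Nat.ble (nat_lit 3511) i)) (@Bool.rec (fun _ => ℕ) (@Bool.rec (fun _ => ℕ) (t3516_3518 i) (t3518_3521 i) (Nat.ble (nat_lit 3518) i)) (@Bool.rec (fun _ => ℕ) (t3521_3523 i) (t3523_3526 i) (Nat.ble (nat_lit 3523) i)) (Nat.ble (nat_lit 3521) i)) (Nat.ble (nat_lit 3516) i))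
noncomputable def t3526_3528 (i : ℕ) : ℕ := (@Bool.rec (fun _ => ℕ) l3526 l3527 (Nat.ble (nat_lit 3527) i))
noncomputable def t3528_3530 (i : ℕ) : ℕ := (@Bool.rec (fun _ => ℕ) l3528 l3529 (Nat.ble (nat_lit 3529) i))
noncomputable def t3530_3532 (i : ℕ) : ℕ := (@Bool.rec (fun _ => ℕ) l3530 l3531 (Nat.ble (nat_lit 3531) i))
noncomputable def t3532_3535 (i : ℕ) : ℕ := (@Bool.rec (fun _ => ℕ) l3532 (@Bool.rec (fun _ => ℕ) l3533 l3534 (Nat.ble (nat_lit 3534) i)) (Nat.ble (nat_lit 3533) i))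
noncomputable def t3535_3537 (i : ℕ) : ℕ := (@Bool.rec (fun _ => ℕ) l3535 l3536 (Nat.ble (nat_lit 3536) i))
noncomputable def t3537_3540 (i : ℕ) : ℕ := (@Bool.rec (fun _ => ℕ) l3537 (@Bool.rec (fun _ => ℕ) l3538 l3539 (Nat.ble (nat_lit 3539) i)) (Nat.ble (nat_lit 3538) i))
noncomputable def t3540_3542 (i : ℕ) : ℕ := (@Bool.rec (fun _ => ℕ) l3540 l3541 (Nat.ble (nat_lit 3541) i))
noncomputable def t3542_3545 (i : ℕ) : ℕ := (@Bool.rec (fun _ => ℕ) l3542 (@Bool.rec (fun _ => ℕ) l3543 l3544 (Nat.ble (nat_lit 3544) i)) (Nat.ble (nat_lit 3543) i))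
noncomputable def t3526_3545 (i : ℕ) : ℕ := (@Bool.rec (fun _ => ℕ) (@Bool.rec (fun _ => ℕ) (@Bool.rec (fun _ => ℕ) (t3526_3528 i) (t3528_3530 i) (Nat.ble (nat_lit 3528) i)) (@Bool.rec (fun _ => ℕ) (t3530_3532 i) (t3532_3535 i) (Nat.ble (nat_lit 3532) i)) (Nat.ble (nat_lit 3530) i)) (@Bool.rec (fun _ => ℕ) (@Bool.rec (fun _ => ℕ) (t3535_3537 i) (t3537_3540 i) (Nat.ble (nat_lit 3537) i)) (@Bool.rec (fun _ => ℕ) (t3540_3542 i) (t3542_3545 i) (Nat.ble (nat_lit 3542) i)) (Nat.ble (nat_lit 3540) i)) (Nat.ble (nat_lit 3535) i))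
noncomputable def t3545_3547 (i : ℕ) : ℕ := (@Bool.rec (fun _ => ℕ) l3545 l3546 (Nat.ble (nat_lit 3546) i))
noncomputable def t3547_3549 (i : ℕ) : ℕ := (@Bool.rec (fun _ => ℕ) l3547 l3548 (Nat.ble (nat_lit 3548) i))
noncomputable def t3549_3551 (i : ℕ) : ℕ := (@Bool.rec (fun _ => ℕ) l3549 l3550 (Nat.ble (nat_lit 3550) i))
noncomputable def t3551_3554 (i : ℕ) : ℕ := (@Bool.rec (fun _ => ℕ) l3551 (@Bool.rec (fun _ => ℕ) l3552 l3553 (Nat.ble (nat_lit 3553) i)) (Nat.ble (nat_lit 3552) i))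
noncomputable def t3554_3556 (i : ℕ) : ℕ := (@Bool.rec (fun _ => ℕ) l3554 l3555 (Nat.ble (nat_lit 3555) i))
noncomputable def t3556_3559 (i : ℕ) : ℕ := (@Bool.rec (fun _ => ℕ) l3556 (@Bool.rec (fun _ => ℕ) l3557 l3558 (Nat.ble (nat_lit 3558) i)) (Nat.ble (nat_lit 3557) i))
noncomputable def t3559_3561 (i : ℕ) : ℕ := (@Bool.rec (fun _ => ℕ) l3559 l3560 (Nat.ble (nat_lit 3560) i))
noncomputable def t3561_3564 (i : ℕ) : ℕ := (@Bool.rec (fun _ => ℕ) l3561 (@Bool.rec (fun _ => ℕ) l3562 l3563 (Nat.ble (nat_lit 3563) i)) (Nat.ble (nat_lit 3562) i))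
noncomputable def t3545_3564 (i : ℕ) : ℕ := (@Bool.rec (fun _ => ℕ) (@Bool.rec (fun _ => ℕ) (@Bool.rec (fun _ => ℕ) (t3545_3547 i) (t3547_3549 i) (Nat.ble (nat_lit 3547) i)) (@Bool.rec (fun _ => ℕ) (t3549_3551 i) (t3551_3554 i) (Nat.ble (nat_lit 3551) i)) (Nat.ble (nat_lit 3549) i)) (@Bool.rec (fun _ => ℕ) (@Bool.rec (fun _ => ℕ) (t3554_3556 i) (t3556_3559 i) (Nat.ble (nat_lit 3556) i)) (@Bool.rec (fun _ => ℕ) (t3559_3561 i) (t3561_3564 i) (Nat.ble (nat_lit 3561) i)) (Nat.ble (nat_lit 3559) i)) (Nat.ble (nat_lit 3554) i))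
noncomputable def t3564_3566 (i : ℕ) : ℕ := (@Bool.rec (fun _ => ℕ) l3564 l3565 (Nat.ble (nat_lit 3565) i))
noncomputable def t3566_3568 (i : ℕ) : ℕ := (@Bool.rec (fun _ => ℕ) l3566 l3567 (Nat.ble (nat_lit 3567) i))
noncomputable def t3568_3570 (i : ℕ) : ℕ := (@Bool.rec (fun _ => ℕ) l3568 l3569 (Nat.ble (nat_lit 3569) i))
noncomputable def t3570_3573 (i : ℕ) : ℕ := (@Bool.rec (fun _ => ℕ) l3570 (@Bool.rec (fun _ => ℕ) l3571 l3572 (Nat.ble (nat_lit 3572) i)) (Nat.ble (nat_lit 3571) i))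
noncomputable def t3573_3575 (i : ℕ) : ℕ := (@Bool.rec (fun _ => ℕ) l3573 l3574 (Nat.ble (nat_lit 3574) i))
noncomputable def t3575_3578 (i : ℕ) : ℕ := (@Bool.rec (fun _ => ℕ) l3575 (@Bool.rec (fun _ => ℕ) l3576 l3577 (Nat.ble (nat_lit 3577) i)) (Nat.ble (nat_lit 3576) i))
noncomputable def t3578_3580 (i : ℕ) : ℕ := (@Bool.rec (fun _ => ℕ) l3578 l3579 (Nat.ble (nat_lit 3579) i))
noncomputable def t3580_3583 (i : ℕ) : ℕ := (@Bool.rec (fun _ => ℕ) l3580 (@Bool.rec (fun _ => ℕ) l3581 l3582 (Nat.ble (nat_lit 3582) i)) (Nat.ble (nat_lit 3581) i))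
noncomputable def t3564_3583 (i : ℕ) : ℕ := (@Bool.rec (fun _ => ℕ) (@Bool.rec (fun _ => ℕ) (@Bool.rec (fun _ => ℕ) (t3564_3566 i) (t3566_3568 i) (Nat.ble (nat_lit 3566) i)) (@Bool.rec (fun _ => ℕ) (t3568_3570 i) (t3570_3573 i) (Nat.ble (nat_lit 3570) i)) (Nat.ble (nat_lit 3568) i)) (@Bool.rec (fun _ => ℕ) (@Bool.rec (fun _ => ℕ) (t3573_3575 i) (t3575_3578 i) (Nat.ble (nat_lit 3575) i)) (@Bool.rec (fun _ => ℕ) (t3578_3580 i) (t3580_3583 i) (Nat.ble (nat_lit 3580) i)) (Nat.ble (nat_lit 3578) i)) (Nat.ble (nat_lit 3573) i))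
noncomputable def t3583_3585 (i : ℕ) : ℕ := (@Bool.rec (fun _ => ℕ) l3583 l3584 (Nat.ble (nat_lit 3584) i))
noncomputable def t3585_3587 (i : ℕ) : ℕ := (@Bool.rec (fun _ => ℕ) l3585 l3586 (Nat.ble (nat_lit 3586) i))
noncomputable def t3587_3589 (i : ℕ) : ℕ := (@Bool.rec (fun _ => ℕ) l3587 l3588 (Nat.ble (nat_lit 3588) i))
noncomputable def t3589_3592 (i : ℕ) : ℕ := (@Bool.rec (fun _ => ℕ) l3589 (@Bool.rec (fun _ => ℕ) l3590 l3591 (Nat.ble (nat_lit 3591) i)) (Nat.ble (nat_lit 3590) i))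
noncomputable def t3592_3594 (i : ℕ) : ℕ := (@Bool.rec (fun _ => ℕ) l3592 l3593 (Nat.ble (nat_lit 3593) i))
noncomputable def t3594_3597 (i : ℕ) : ℕ := (@Bool.rec (fun _ => ℕ) l3594 (@Bool.rec (fun _ => ℕ) l3595 l3596 (Nat.ble (nat_lit 3596) i)) (Nat.ble (nat_lit 3595) i))
noncomputable def t3597_3599 (i : ℕ) : ℕ := (@Bool.rec (fun _ => ℕ) l3597 l3598 (Nat.ble (nat_lit 3598) i))
noncomputable def t3599_3602 (i : ℕ) : ℕ := (@Bool.rec (fun _ => ℕ) l3599 (@Bool.rec (fun _ => ℕ) l3600 l3601 (Nat.ble (nat_lit 3601) i)) (Nat.ble (nat_lit 3600) i))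
noncomputable def t3583_3602 (i : ℕ) : ℕ := (@Bool.rec (fun _ => ℕ) (@Bool.rec (fun _ => ℕ) (@Bool.rec (fun _ => ℕ) (t3583_3585 i) (t3585_3587 i) (Nat.ble (nat_lit 3585) i)) (@Bool.rec (fun _ => ℕ) (t3587_3589 i) (t3589_3592 i) (Nat.ble (nat_lit 3589) i)) (Nat.ble (nat_lit 3587) i)) (@Bool.rec (fun _ => ℕ) (@Bool.rec (fun _ => ℕ) (t3592_3594 i) (t3594_3597 i) (Nat.ble (nat_lit 3594) i)) (@Bool.rec (fun _ => ℕ) (t3597_3599 i) (t3599_3602 i) (Nat.ble (nat_lit 3599) i)) (Nat.ble (nat_lit 3597) i)) (Nat.ble (nat_lit 3592) i))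
noncomputable def t3451_3602 (i : ℕ) : ℕ := (@Bool.rec (fun _ => ℕ) (@Bool.rec (fun _ => ℕ) (@Bool.rec (fun _ => ℕ) (t3451_3469 i) (t3469_3488 i) (Nat.ble (nat_lit 3469) i)) (@Bool.rec (fun _ => ℕ) (t3488_3507 i) (t3507_3526 i) (Nat.ble (nat_lit 3507) i)) (Nat.ble (nat_lit 3488) i)) (@Bool.rec (fun _ => ℕ) (@Bool.rec (fun _ => ℕ) (t3526_3545 i) (t3545_3564 i) (Nat.ble (nat_lit 3545) i)) (@Bool.rec (fun _ => ℕ) (t3564_3583 i) (t3583_3602 i) (Nat.ble (nat_lit 3583) i)) (Nat.ble (nat_lit 3564) i)) (Nat.ble (nat_lit 3526) i))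
noncomputable def t2401_3602 (i : ℕ) : ℕ := (@Bool.rec (fun _ => ℕ) (@Bool.rec (fun _ => ℕ) (@Bool.rec (fun _ => ℕ) (t2401_2551 i) (t2551_2701 i) (Nat.ble (nat_lit 2551) i)) (@Bool.rec (fun _ => ℕ) (t2701_2851 i) (t2851_3001 i) (Nat.ble (nat_lit 2851) i)) (Nat.ble (nat_lit 2701) i)) (@Bool.rec (fun _ => ℕ) (@Bool.rec (fun _ => ℕ) (t3001_3151 i) (t3151_3301 i) (Nat.ble (nat_lit 3151) i)) (@Bool.rec (fun _ => ℕ) (t3301_3451 i) (t3451_3602 i) (Nat.ble (nat_lit 3451) i)) (Nat.ble (nat_lit 3301) i)) (Nat.ble (nat_lit 3001) i))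
noncomputable def t3602_3604 (i : ℕ) : ℕ := (@Bool.rec (fun _ => ℕ) l3602 l3603 (Nat.ble (nat_lit 3603) i))
noncomputable def t3604_3606 (i : ℕ) : ℕ := (@Bool.rec (fun _ => ℕ) l3604 l3605 (Nat.ble (nat_lit 3605) i))
noncomputable def t3606_3608 (i : ℕ) : ℕ := (@Bool.rec (fun _ => ℕ) l3606 l3607 (Nat.ble (nat_lit 3607) i))
noncomputable def t3608_3611 (i : ℕ) : ℕ := (@Bool.rec (fun _ => ℕ) l3608 (@Bool.rec (fun _ => ℕ) l3609 l3610 (Nat.ble (nat_lit 3610) i)) (Nat.ble (nat_lit 3609) i))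
noncomputable def t3611_3613 (i : ℕ) : ℕ := (@Bool.rec (fun _ => ℕ) l3611 l3612 (Nat.ble (nat_lit 3612) i))
noncomputable def t3613_3615 (i : ℕ) : ℕ := (@Bool.rec (fun _ => ℕ) l3613 l3614 (Nat.ble (nat_lit 3614) i))
noncomputable def t3615_3617 (i : ℕ) : ℕ := (@Bool.rec (fun _ => ℕ) l3615 l3616 (Nat.ble (nat_lit 3616) i))
noncomputable def t3617_3620 (i : ℕ) : ℕ := (@Bool.rec (fun _ => ℕ) l3617 (@Bool.rec (fun _ => ℕ) l3618 l3619 (Nat.ble (nat_lit 3619) i)) (Nat.ble (nat_lit 3618) i))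
noncomputable def t3602_3620 (i : ℕ) : ℕ := (@Bool.rec (fun _ => ℕ) (@Bool.rec (fun _ => ℕ) (@Bool.rec (fun _ => ℕ) (t3602_3604 i) (t3604_3606 i) (Nat.ble (nat_lit 3604) i)) (@Bool.rec (fun _ => ℕ) (t3606_3608 i) (t3608_3611 i) (Nat.ble (nat_lit 3608) i)) (Nat.ble (nat_lit 3606) i)) (@Bool.rec (fun _ => ℕ) (@Bool.rec (fun _ => ℕ) (t3611_3613 i) (t3613_3615 i) (Nat.ble (nat_lit 3613) i)) (@Bool.rec (fun _ => ℕ) (t3615_3617 i) (t3617_3620 i) (Nat.ble (nat_lit 3617) i)) (Nat.ble (nat_lit 3615) i)) (Nat.ble (nat_lit 3611) i))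
noncomputable def t3620_3622 (i : ℕ) : ℕ := (@Bool.rec (fun _ => ℕ) l3620 l3621 (Nat.ble (nat_lit 3621) i))
noncomputable def t3622_3624 (i : ℕ) : ℕ := (@Bool.rec (fun _ => ℕ) l3622 l3623 (Nat.ble (nat_lit 3623) i))
noncomputable def t3624_3626 (i : ℕ) : ℕ := (@Bool.rec (fun _ => ℕ) l3624 l3625 (Nat.ble (nat_lit 3625) i))
noncomputable def t3626_3629 (i : ℕ) : ℕ := (@Bool.rec (fun _ => ℕ) l3626 (@Bool.rec (fun _ => ℕ) l3627 l3628 (Nat.ble (nat_lit 3628) i)) (Nat.ble (nat_lit 3627) i))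
noncomputable def t3629_3631 (i : ℕ) : ℕ := (@Bool.rec (fun _ => ℕ) l3629 l3630 (Nat.ble (nat_lit 3630) i))
noncomputable def t3631_3634 (i : ℕ) : ℕ := (@Bool.rec (fun _ => ℕ) l3631 (@Bool.rec (fun _ => ℕ) l3632 l3633 (Nat.ble (nat_lit 3633) i)) (Nat.ble (nat_lit 3632) i))
noncomputable def t3634_3636 (i : ℕ) : ℕ := (@Bool.rec (fun _ => ℕ) l3634 l3635 (Nat.ble (nat_lit 3635) i))
noncomputable def t3636_3639 (i : ℕ) : ℕ := (@Bool.rec (fun _ => ℕ) l3636 (@Bool.rec (fun _ => ℕ) l3637 l3638 (Nat.ble (nat_lit 3638) i)) (Nat.ble (nat_lit 3637) i))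
noncomputable def t3620_3639 (i : ℕ) : ℕ := (@Bool.rec (fun _ => ℕ) (@Bool.rec (fun _ => ℕ) (@Bool.rec (fun _ => ℕ) (t3620_3622 i) (t3622_3624 i) (Nat.ble (nat_lit 3622) i)) (@Bool.rec (fun _ => ℕ) (t3624_3626 i) (t3626_3629 i) (Nat.ble (nat_lit 3626) i)) (Nat.ble (nat_lit 3624) i)) (@Bool.rec (fun _ => ℕ) (@Bool.rec (fun _ => ℕ) (t3629_3631 i) (t3631_3634 i) (Nat.ble (nat_lit 3631) i)) (@Bool.rec (fun _ => ℕ) (t3634_3636 i) (t3636_3639 i) (Nat.ble (nat_lit 3636) i)) (Nat.ble (nat_lit 3634) i)) (Nat.ble (nat_lit 3629) i))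
noncomputable def t3639_3641 (i : ℕ) : ℕ := (@Bool.rec (fun _ => ℕ) l3639 l3640 (Nat.ble (nat_lit 3640) i))
noncomputable def t3641_3643 (i : ℕ) : ℕ := (@Bool.rec (fun _ => ℕ) l3641 l3642 (Nat.ble (nat_lit 3642) i))
noncomputable def t3643_3645 (i : ℕ) : ℕ := (@Bool.rec (fun _ => ℕ) l3643 l3644 (Nat.ble (nat_lit 3644) i))
noncomputable def t3645_3648 (i : ℕ) : ℕ := (@Bool.rec (fun _ => ℕ) l3645 (@Bool.rec (fun _ => ℕ) l3646 l3647 (Nat.ble (nat_lit 3647) i)) (Nat.ble (nat_lit 3646) i))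
noncomputable def t3648_3650 (i : ℕ) : ℕ := (@Bool.rec (fun _ => ℕ) l3648 l3649 (Nat.ble (nat_lit 3649) i))
noncomputable def t3650_3653 (i : ℕ) : ℕ := (@Bool.rec (fun _ => ℕ) l3650 (@Bool.rec (fun _ => ℕ) l3651 l3652 (Nat.ble (nat_lit 3652) i)) (Nat.ble (nat_lit 3651) i))
noncomputable def t3653_3655 (i : ℕ) : ℕ := (@Bool.rec (fun _ => ℕ) l3653 l3654 (Nat.ble (nat_lit 3654) i))
noncomputable def t3655_3658 (i : ℕ) : ℕ := (@Bool.rec (fun _ => ℕ) l3655 (@Bool.rec (fun _ => ℕ) l3656 l3657 (Nat.ble (nat_lit 3657) i)) (Nat.ble (nat_lit 3656) i))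
noncomputable def t3639_3658 (i : ℕ) : ℕ := (@Bool.rec (fun _ => ℕ) (@Bool.rec (fun _ => ℕ) (@Bool.rec (fun _ => ℕ) (t3639_3641 i) (t3641_3643 i) (Nat.ble (nat_lit 3641) i)) (@Bool.rec (fun _ => ℕ) (t3643_3645 i) (t3645_3648 i) (Nat.ble (nat_lit 3645) i)) (Nat.ble (nat_lit 3643) i)) (@Bool.rec (fun _ => ℕ) (@Bool.rec (fun _ => ℕ) (t3648_3650 i) (t3650_3653 i) (Nat.ble (nat_lit 3650) i)) (@Bool.rec (fun _ => ℕ) (t3653_3655 i) (t3655_3658 i) (Nat.ble (nat_lit 3655) i)) (Nat.ble (nat_lit 3653) i)) (Nat.ble (nat_lit 3648) i))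
noncomputable def t3658_3660 (i : ℕ) : ℕ := (@Bool.rec (fun _ => ℕ) l3658 l3659 (Nat.ble (nat_lit 3659) i))
noncomputable def t3660_3662 (i : ℕ) : ℕ := (@Bool.rec (fun _ => ℕ) l3660 l3661 (Nat.ble (nat_lit 3661) i))
noncomputable def t3662_3664 (i : ℕ) : ℕ := (@Bool.rec (fun _ => ℕ) l3662 l3663 (Nat.ble (nat_lit 3663) i))
noncomputable def t3664_3667 (i : ℕ) : ℕ := (@Bool.rec (fun _ => ℕ) l3664 (@Bool.rec (fun _ => ℕ) l3665 l3666 (Nat.ble (nat_lit 3666) i)) (Nat.ble (nat_lit 3665) i))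
noncomputable def t3667_3669 (i : ℕ) : ℕ := (@Bool.rec (fun _ => ℕ) l3667 l3668 (Nat.ble (nat_lit 3668) i))
noncomputable def t3669_3672 (i : ℕ) : ℕ := (@Bool.rec (fun _ => ℕ) l3669 (@Bool.rec (fun _ => ℕ) l3670 l3671 (Nat.ble (nat_lit 3671) i)) (Nat.ble (nat_lit 3670) i))
noncomputable def t3672_3674 (i : ℕ) : ℕ := (@Bool.rec (fun _ => ℕ) l3672 l3673 (Nat.ble (nat_lit 3673) i))
noncomputable def t3674_3677 (i : ℕ) : ℕ := (@Bool.rec (fun _ => ℕ) l3674 (@Bool.rec (fun _ => ℕ) l3675 l3676 (Nat.ble (nat_lit 3676) i)) (Nat.ble (nat_lit 3675) i))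
noncomputable def t3658_3677 (i : ℕ) : ℕ := (@Bool.rec (fun _ => ℕ) (@Bool.rec (fun _ => ℕ) (@Bool.rec (fun _ => ℕ) (t3658_3660 i) (t3660_3662 i) (Nat.ble (nat_lit 3660) i)) (@Bool.rec (fun _ => ℕ) (t3662_3664 i) (t3664_3667 i) (Nat.ble (nat_lit 3664) i)) (Nat.ble (nat_lit 3662) i)) (@Bool.rec (fun _ => ℕ) (@Bool.rec (fun _ => ℕ) (t3667_3669 i) (t3669_3672 i) (Nat.ble (nat_lit 3669) i)) (@Bool.rec (fun _ => ℕ) (t3672_3674 i) (t3674_3677 i) (Nat.ble (nat_lit 3674) i)) (Nat.ble (nat_lit 3672) i)) (Nat.ble (nat_lit 3667) i))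
noncomputable def t3677_3679 (i : ℕ) : ℕ := (@Bool.rec (fun _ => ℕ) l3677 l3678 (Nat.ble (nat_lit 3678) i))
noncomputable def t3679_3681 (i : ℕ) : ℕ := (@Bool.rec (fun _ => ℕ) l3679 l3680 (Nat.ble (nat_lit 3680) i))
noncomputable def t3681_3683 (i : ℕ) : ℕ := (@Bool.rec (fun _ => ℕ) l3681 l3682 (Nat.ble (nat_lit 3682) i))
noncomputable def t3683_3686 (i : ℕ) : ℕ := (@Bool.rec (fun _ => ℕ) l3683 (@Bool.rec (fun _ => ℕ) l3684 l3685 (Nat.ble (nat_lit 3685) i)) (Nat.ble (nat_lit 3684) i))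
noncomputable def t3686_3688 (i : ℕ) : ℕ := (@Bool.rec (fun _ => ℕ) l3686 l3687 (Nat.ble (nat_lit 3687) i))
noncomputable def t3688_3690 (i : ℕ) : ℕ := (@Bool.rec (fun _ => ℕ) l3688 l3689 (Nat.ble (nat_lit 3689) i))
noncomputable def t3690_3692 (i : ℕ) : ℕ := (@Bool.rec (fun _ => ℕ) l3690 l3691 (Nat.ble (nat_lit 3691) i))
noncomputable def t3692_3695 (i : ℕ) : ℕ := (@Bool.rec (fun _ => ℕ) l3692 (@Bool.rec (fun _ => ℕ) l3693 l3694 (Nat.ble (nat_lit 3694) i)) (Nat.ble (nat_lit 3693) i))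
noncomputable def t3677_3695 (i : ℕ) : ℕ := (@Bool.rec (fun _ => ℕ) (@Bool.rec (fun _ => ℕ) (@Bool.rec (fun _ => ℕ) (t3677_3679 i) (t3679_3681 i) (Nat.ble (nat_lit 3679) i)) (@Bool.rec (fun _ => ℕ) (t3681_3683 i) (t3683_3686 i) (Nat.ble (nat_lit 3683) i)) (Nat.ble (nat_lit 3681) i)) (@Bool.rec (fun _ => ℕ) (@Bool.rec (fun _ => ℕ) (t3686_3688 i) (t3688_3690 i) (Nat.ble (nat_lit 3688) i)) (@Bool.rec (fun _ => ℕ) (t3690_3692 i) (t3692_3695 i) (Nat.ble (nat_lit 3692) i)) (Nat.ble (nat_lit 3690) i)) (Nat.ble (nat_lit 3686) i))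
noncomputable def t3695_3697 (i : ℕ) : ℕ := (@Bool.rec (fun _ => ℕ) l3695 l3696 (Nat.ble (nat_lit 3696) i))
noncomputable def t3697_3699 (i : ℕ) : ℕ := (@Bool.rec (fun _ => ℕ) l3697 l3698 (Nat.ble (nat_lit 3698) i))
noncomputable def t3699_3701 (i : ℕ) : ℕ := (@Bool.rec (fun _ => ℕ) l3699 l3700 (Nat.ble (nat_lit 3700) i))
noncomputable def t3701_3704 (i : ℕ) : ℕ := (@Bool.rec (fun _ => ℕ) l3701 (@Bool.rec (fun _ => ℕ) l3702 l3703 (Nat.ble (nat_lit 3703) i)) (Nat.ble (nat_lit 3702) i))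
noncomputable def t3704_3706 (i : ℕ) : ℕ := (@Bool.rec (fun _ => ℕ) l3704 l3705 (Nat.ble (nat_lit 3705) i))
noncomputable def t3706_3709 (i : ℕ) : ℕ := (@Bool.rec (fun _ => ℕ) l3706 (@Bool.rec (fun _ => ℕ) l3707 l3708 (Nat.ble (nat_lit 3708) i)) (Nat.ble (nat_lit 3707) i))
noncomputable def t3709_3711 (i : ℕ) : ℕ := (@Bool.rec (fun _ => ℕ) l3709 l3710 (Nat.ble (nat_lit 3710) i))
noncomputable def t3711_3714 (i : ℕ) : ℕ := (@Bool.rec (fun _ => ℕ) l3711 (@Bool.rec (fun _ => ℕ) l3712 l3713 (Nat.ble (nat_lit 3713) i)) (Nat.ble (nat_lit 3712) i))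
noncomputable def t3695_3714 (i : ℕ) : ℕ := (@Bool.rec (fun _ => ℕ) (@Bool.rec (fun _ => ℕ) (@Bool.rec (fun _ => ℕ) (t3695_3697 i) (t3697_3699 i) (Nat.ble (nat_lit 3697) i)) (@Bool.rec (fun _ => ℕ) (t3699_3701 i) (t3701_3704 i) (Nat.ble (nat_lit 3701) i)) (Nat.ble (nat_lit 3699) i)) (@Bool.rec (fun _ => ℕ) (@Bool.rec (fun _ => ℕ) (t3704_3706 i) (t3706_3709 i) (Nat.ble (nat_lit 3706) i)) (@Bool.rec (fun _ => ℕ) (t3709_3711 i) (t3711_3714 i) (Nat.ble (nat_lit 3711) i)) (Nat.ble (nat_lit 3709) i)) (Nat.ble (nat_lit 3704) i))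
noncomputable def t3714_3716 (i : ℕ) : ℕ := (@Bool.rec (fun _ => ℕ) l3714 l3715 (Nat.ble (nat_lit 3715) i))
noncomputable def t3716_3718 (i : ℕ) : ℕ := (@Bool.rec (fun _ => ℕ) l3716 l3717 (Nat.ble (nat_lit 3717) i))
noncomputable def t3718_3720 (i : ℕ) : ℕ := (@Bool.rec (fun _ => ℕ) l3718 l3719 (Nat.ble (nat_lit 3719) i))
noncomputable def t3720_3723 (i : ℕ) : ℕ := (@Bool.rec (fun _ => ℕ) l3720 (@Bool.rec (fun _ => ℕ) l3721 l3722 (Nat.ble (nat_lit 3722) i)) (Nat.ble (nat_lit 3721) i))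
noncomputable def t3723_3725 (i : ℕ) : ℕ := (@Bool.rec (fun _ => ℕ) l3723 l3724 (Nat.ble (nat_lit 3724) i))
noncomputable def t3725_3728 (i : ℕ) : ℕ := (@Bool.rec (fun _ => ℕ) l3725 (@Bool.rec (fun _ => ℕ) l3726 l3727 (Nat.ble (nat_lit 3727) i)) (Nat.ble (nat_lit 3726) i))
noncomputable def t3728_3730 (i : ℕ) : ℕ := (@Bool.rec (fun _ => ℕ) l3728 l3729 (Nat.ble (nat_lit 3729) i))
noncomputable def t3730_3733 (i : ℕ) : ℕ := (@Bool.rec (fun _ => ℕ) l3730 (@Bool.rec (fun _ => ℕ) l3731 l3732 (Nat.ble (nat_lit 3732) i)) (Nat.ble (nat_lit 3731) i))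
noncomputable def t3714_3733 (i : ℕ) : ℕ := (@Bool.rec (fun _ => ℕ) (@Bool.rec (fun _ => ℕ) (@Bool.rec (fun _ => ℕ) (t3714_3716 i) (t3716_3718 i) (Nat.ble (nat_lit 3716) i)) (@Bool.rec (fun _ => ℕ) (t3718_3720 i) (t3720_3723 i) (Nat.ble (nat_lit 3720) i)) (Nat.ble (nat_lit 3718) i)) (@Bool.rec (fun _ => ℕ) (@Bool.rec (fun _ => ℕ) (t3723_3725 i) (t3725_3728 i) (Nat.ble (nat_lit 3725) i)) (@Bool.rec (fun _ => ℕ) (t3728_3730 i) (t3730_3733 i) (Nat.ble (nat_lit 3730) i)) (Nat.ble (nat_lit 3728) i)) (Nat.ble (nat_lit 3723) i))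
noncomputable def t3733_3735 (i : ℕ) : ℕ := (@Bool.rec (fun _ => ℕ) l3733 l3734 (Nat.ble (nat_lit 3734) i))
noncomputable def t3735_3737 (i : ℕ) : ℕ := (@Bool.rec (fun _ => ℕ) l3735 l3736 (Nat.ble (nat_lit 3736) i))
noncomputable def t3737_3739 (i : ℕ) : ℕ := (@Bool.rec (fun _ => ℕ) l3737 l3738 (Nat.ble (nat_lit 3738) i))
noncomputable def t3739_3742 (i : ℕ) : ℕ := (@Bool.rec (fun _ => ℕ) l3739 (@Bool.rec (fun _ => ℕ) l3740 l3741 (Nat.ble (nat_lit 3741) i)) (Nat.ble (nat_lit 3740) i))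
noncomputable def t3742_3744 (i : ℕ) : ℕ := (@Bool.rec (fun _ => ℕ) l3742 l3743 (Nat.ble (nat_lit 3743) i))
noncomputable def t3744_3747 (i : ℕ) : ℕ := (@Bool.rec (fun _ => ℕ) l3744 (@Bool.rec (fun _ => ℕ) l3745 l3746 (Nat.ble (nat_lit 3746) i)) (Nat.ble (nat_lit 3745) i))
noncomputable def t3747_3749 (i : ℕ) : ℕ := (@Bool.rec (fun _ => ℕ) l3747 l3748 (Nat.ble (nat_lit 3748) i))
noncomputable def t3749_3752 (i : ℕ) : ℕ := (@Bool.rec (fun _ => ℕ) l3749 (@Bool.rec (fun _ => ℕ) l3750 l3751 (Nat.ble (nat_lit 3751) i)) (Nat.ble (nat_lit 3750) i))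
noncomputable def t3733_3752 (i : ℕ) : ℕ := (@Bool.rec (fun _ => ℕ) (@Bool.rec (fun _ => ℕ) (@Bool.rec (fun _ => ℕ) (t3733_3735 i) (t3735_3737 i) (Nat.ble (nat_lit 3735) i)) (@Bool.rec (fun _ => ℕ) (t3737_3739 i) (t3739_3742 i) (Nat.ble (nat_lit 3739) i)) (Nat.ble (nat_lit 3737) i)) (@Bool.rec (fun _ => ℕ) (@Bool.rec (fun _ => ℕ) (t3742_3744 i) (t3744_3747 i) (Nat.ble (nat_lit 3744) i)) (@Bool.rec (fun _ => ℕ) (t3747_3749 i) (t3749_3752 i) (Nat.ble (nat_lit 3749) i)) (Nat.ble (nat_lit 3747) i)) (Nat.ble (nat_lit 3742) i))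
noncomputable def t3602_3752 (i : ℕ) : ℕ := (@Bool.rec (fun _ => ℕ) (@Bool.rec (fun _ => ℕ) (@Bool.rec (fun _ => ℕ) (t3602_3620 i) (t3620_3639 i) (Nat.ble (nat_lit 3620) i)) (@Bool.rec (fun _ => ℕ) (t3639_3658 i) (t3658_3677 i) (Nat.ble (nat_lit 3658) i)) (Nat.ble (nat_lit 3639) i)) (@Bool.rec (fun _ => ℕ) (@Bool.rec (fun _ => ℕ) (t3677_3695 i) (t3695_3714 i) (Nat.ble (nat_lit 3695) i)) (@Bool.rec (fun _ => ℕ) (t3714_3733 i) (t3733_3752 i) (Nat.ble (nat_lit 3733) i)) (Nat.ble (nat_lit 3714) i)) (Nat.ble (nat_lit 3677) i))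
noncomputable def t3752_3754 (i : ℕ) : ℕ := (@Bool.rec (fun _ => ℕ) l3752 l3753 (Nat.ble (nat_lit 3753) i))
noncomputable def t3754_3756 (i : ℕ) : ℕ := (@Bool.rec (fun _ => ℕ) l3754 l3755 (Nat.ble (nat_lit 3755) i))
noncomputable def t3756_3758 (i : ℕ) : ℕ := (@Bool.rec (fun _ => ℕ) l3756 l3757 (Nat.ble (nat_lit 3757) i))
noncomputable def t3758_3761 (i : ℕ) : ℕ := (@Bool.rec (fun _ => ℕ) l3758 (@Bool.rec (fun _ => ℕ) l3759 l3760 (Nat.ble (nat_lit 3760) i)) (Nat.ble (nat_lit 3759) i))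
noncomputable def t3761_3763 (i : ℕ) : ℕ := (@Bool.rec (fun _ => ℕ) l3761 l3762 (Nat.ble (nat_lit 3762) i))
noncomputable def t3763_3765 (i : ℕ) : ℕ := (@Bool.rec (fun _ => ℕ) l3763 l3764 (Nat.ble (nat_lit 3764) i))
noncomputable def t3765_3767 (i : ℕ) : ℕ := (@Bool.rec (fun _ => ℕ) l3765 l3766 (Nat.ble (nat_lit 3766) i))
noncomputable def t3767_3770 (i : ℕ) : ℕ := (@Bool.rec (fun _ => ℕ) l3767 (@Bool.rec (fun _ => ℕ) l3768 l3769 (Nat.ble (nat_lit 3769) i)) (Nat.ble (nat_lit 3768) i))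
noncomputable def t3752_3770 (i : ℕ) : ℕ := (@Bool.rec (fun _ => ℕ) (@Bool.rec (fun _ => ℕ) (@Bool.rec (fun _ => ℕ) (t3752_3754 i) (t3754_3756 i) (Nat.ble (nat_lit 3754) i)) (@Bool.rec (fun _ => ℕ) (t3756_3758 i) (t3758_3761 i) (Nat.ble (nat_lit 3758) i)) (Nat.ble (nat_lit 3756) i)) (@Bool.rec (fun _ => ℕ) (@Bool.rec (fun _ => ℕ) (t3761_3763 i) (t3763_3765 i) (Nat.ble (nat_lit 3763) i)) (@Bool.rec (fun _ => ℕ) (t3765_3767 i) (t3767_3770 i) (Nat.ble (nat_lit 3767) i)) (Nat.ble (nat_lit 3765) i)) (Nat.ble (nat_lit 3761) i))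
noncomputable def t3770_3772 (i : ℕ) : ℕ := (@Bool.rec (fun _ => ℕ) l3770 l3771 (Nat.ble (nat_lit 3771) i))
noncomputable def t3772_3774 (i : ℕ) : ℕ := (@Bool.rec (fun _ => ℕ) l3772 l3773 (Nat.ble (nat_lit 3773) i))
noncomputable def t3774_3776 (i : ℕ) : ℕ := (@Bool.rec (fun _ => ℕ) l3774 l3775 (Nat.ble (nat_lit 3775) i))
noncomputable def t3776_3779 (i : ℕ) : ℕ := (@Bool.rec (fun _ => ℕ) l3776 (@Bool.rec (fun _ => ℕ) l3777 l3778 (Nat.ble (nat_lit 3778) i)) (Nat.ble (nat_lit 3777) i))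
noncomputable def t3779_3781 (i : ℕ) : ℕ := (@Bool.rec (fun _ => ℕ) l3779 l3780 (Nat.ble (nat_lit 3780) i))
noncomputable def t3781_3784 (i : ℕ) : ℕ := (@Bool.rec (fun _ => ℕ) l3781 (@Bool.rec (fun _ => ℕ) l3782 l3783 (Nat.ble (nat_lit 3783) i)) (Nat.ble (nat_lit 3782) i))
noncomputable def t3784_3786 (i : ℕ) : ℕ := (@Bool.rec (fun _ => ℕ) l3784 l3785 (Nat.ble (nat_lit 3785) i))
noncomputable def t3786_3789 (i : ℕ) : ℕ := (@Bool.rec (fun _ => ℕ) l3786 (@Bool.rec (fun _ => ℕ) l3787 l3788 (Nat.ble (nat_lit 3788) i)) (Nat.ble (nat_lit 3787) i))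
noncomputable def t3770_3789 (i : ℕ) : ℕ := (@Bool.rec (fun _ => ℕ) (@Bool.rec (fun _ => ℕ) (@Bool.rec (fun _ => ℕ) (t3770_3772 i) (t3772_3774 i) (Nat.ble (nat_lit 3772) i)) (@Bool.rec (fun _ => ℕ) (t3774_3776 i) (t3776_3779 i) (Nat.ble (nat_lit 3776) i)) (Nat.ble (nat_lit 3774) i)) (@Bool.rec (fun _ => ℕ) (@Bool.rec (fun _ => ℕ) (t3779_3781 i) (t3781_3784 i) (Nat.ble (nat_lit 3781) i)) (@Bool.rec (fun _ => ℕ) (t3784_3786 i) (t3786_3789 i) (Nat.ble (nat_lit 3786) i)) (Nat.ble (nat_lit 3784) i)) (Nat.ble (nat_lit 3779) i))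
noncomputable def t3789_3791 (i : ℕ) : ℕ := (@Bool.rec (fun _ => ℕ) l3789 l3790 (Nat.ble (nat_lit 3790) i))
noncomputable def t3791_3793 (i : ℕ) : ℕ := (@Bool.rec (fun _ => ℕ) l3791 l3792 (Nat.ble (nat_lit 3792) i))
noncomputable def t3793_3795 (i : ℕ) : ℕ := (@Bool.rec (fun _ => ℕ) l3793 l3794 (Nat.ble (nat_lit 3794) i))
noncomputable def t3795_3798 (i : ℕ) : ℕ := (@Bool.rec (fun _ => ℕ) l3795 (@Bool.rec (fun _ => ℕ) l3796 l3797 (Nat.ble (nat_lit 3797) i)) (Nat.ble (nat_lit 3796) i))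
noncomputable def t3798_3800 (i : ℕ) : ℕ := (@Bool.rec (fun _ => ℕ) l3798 l3799 (Nat.ble (nat_lit 3799) i))
noncomputable def t3800_3803 (i : ℕ) : ℕ := (@Bool.rec (fun _ => ℕ) l3800 (@Bool.rec (fun _ => ℕ) l3801 l3802 (Nat.ble (nat_lit 3802) i)) (Nat.ble (nat_lit 3801) i))
noncomputable def t3803_3805 (i : ℕ) : ℕ := (@Bool.rec (fun _ => ℕ) l3803 l3804 (Nat.ble (nat_lit 3804) i))
noncomputable def t3805_3808 (i : ℕ) : ℕ := (@Bool.rec (fun _ => ℕ) l3805 (@Bool.rec (fun _ => ℕ) l3806 l3807 (Nat.ble (nat_lit 3807) i)) (Nat.ble (nat_lit 3806) i))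
noncomputable def t3789_3808 (i : ℕ) : ℕ := (@Bool.rec (fun _ => ℕ) (@Bool.rec (fun _ => ℕ) (@Bool.rec (fun _ => ℕ) (t3789_3791 i) (t3791_3793 i) (Nat.ble (nat_lit 3791) i)) (@Bool.rec (fun _ => ℕ) (t3793_3795 i) (t3795_3798 i) (Nat.ble (nat_lit 3795) i)) (Nat.ble (nat_lit 3793) i)) (@Bool.rec (fun _ => ℕ) (@Bool.rec (fun _ => ℕ) (t3798_3800 i) (t3800_3803 i) (Nat.ble (nat_lit 3800) i)) (@Bool.rec (fun _ => ℕ) (t3803_3805 i) (t3805_3808 i) (Nat.ble (nat_lit 3805) i)) (Nat.ble (nat_lit 3803) i)) (Nat.ble (nat_lit 3798) i))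
noncomputable def t3808_3810 (i : ℕ) : ℕ := (@Bool.rec (fun _ => ℕ) l3808 l3809 (Nat.ble (nat_lit 3809) i))
noncomputable def t3810_3812 (i : ℕ) : ℕ := (@Bool.rec (fun _ => ℕ) l3810 l3811 (Nat.ble (nat_lit 3811) i))
noncomputable def t3812_3814 (i : ℕ) : ℕ := (@Bool.rec (fun _ => ℕ) l3812 l3813 (Nat.ble (nat_lit 3813) i))
noncomputable def t3814_3817 (i : ℕ) : ℕ := (@Bool.rec (fun _ => ℕ) l3814 (@Bool.rec (fun _ => ℕ) l3815 l3816 (Nat.ble (nat_lit 3816) i)) (Nat.ble (nat_lit 3815) i))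
noncomputable def t3817_3819 (i : ℕ) : ℕ := (@Bool.rec (fun _ => ℕ) l3817 l3818 (Nat.ble (nat_lit 3818) i))
noncomputable def t3819_3822 (i : ℕ) : ℕ := (@Bool.rec (fun _ => ℕ) l3819 (@Bool.rec (fun _ => ℕ) l3820 l3821 (Nat.ble (nat_lit 3821) i)) (Nat.ble (nat_lit 3820) i))
noncomputable def t3822_3824 (i : ℕ) : ℕ := (@Bool.rec (fun _ => ℕ) l3822 l3823 (Nat.ble (nat_lit 3823) i))
noncomputable def t3824_3827 (i : ℕ) : ℕ := (@Bool.rec (fun _ => ℕ) l3824 (@Bool.rec (fun _ => ℕ) l3825 l3826 (Nat.ble (nat_lit 3826) i)) (Nat.ble (nat_lit 3825) i))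
noncomputable def t3808_3827 (i : ℕ) : ℕ := (@Bool.rec (fun _ => ℕ) (@Bool.rec (fun _ => ℕ) (@Bool.rec (fun _ => ℕ) (t3808_3810 i) (t3810_3812 i) (Nat.ble (nat_lit 3810) i)) (@Bool.rec (fun _ => ℕ) (t3812_3814 i) (t3814_3817 i) (Nat.ble (nat_lit 3814) i)) (Nat.ble (nat_lit 3812) i)) (@Bool.rec (fun _ => ℕ) (@Bool.rec (fun _ => ℕ) (t3817_3819 i) (t3819_3822 i) (Nat.ble (nat_lit 3819) i)) (@Bool.rec (fun _ => ℕ) (t3822_3824 i) (t3824_3827 i) (Nat.ble (nat_lit 3824) i)) (Nat.ble (nat_lit 3822) i)) (Nat.ble (nat_lit 3817) i))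
noncomputable def t3827_3829 (i : ℕ) : ℕ := (@Bool.rec (fun _ => ℕ) l3827 l3828 (Nat.ble (nat_lit 3828) i))
noncomputable def t3829_3831 (i : ℕ) : ℕ := (@Bool.rec (fun _ => ℕ) l3829 l3830 (Nat.ble (nat_lit 3830) i))
noncomputable def t3831_3833 (i : ℕ) : ℕ := (@Bool.rec (fun _ => ℕ) l3831 l3832 (Nat.ble (nat_lit 3832) i))
noncomputable def t3833_3836 (i : ℕ) : ℕ := (@Bool.rec (fun _ => ℕ) l3833 (@Bool.rec (fun _ => ℕ) l3834 l3835 (Nat.ble (nat_lit 3835) i)) (Nat.ble (nat_lit 3834) i))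
noncomputable def t3836_3838 (i : ℕ) : ℕ := (@Bool.rec (fun _ => ℕ) l3836 l3837 (Nat.ble (nat_lit 3837) i))
noncomputable def t3838_3840 (i : ℕ) : ℕ := (@Bool.rec (fun _ => ℕ) l3838 l3839 (Nat.ble (nat_lit 3839) i))
noncomputable def t3840_3842 (i : ℕ) : ℕ := (@Bool.rec (fun _ => ℕ) l3840 l3841 (Nat.ble (nat_lit 3841) i))
noncomputable def t3842_3845 (i : ℕ) : ℕ := (@Bool.rec (fun _ => ℕ) l3842 (@Bool.rec (fun _ => ℕ) l3843 l3844 (Nat.ble (nat_lit 3844) i)) (Nat.ble (nat_lit 3843) i))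
noncomputable def t3827_3845 (i : ℕ) : ℕ := (@Bool.rec (fun _ => ℕ) (@Bool.rec (fun _ => ℕ) (@Bool.rec (fun _ => ℕ) (t3827_3829 i) (t3829_3831 i) (Nat.ble (nat_lit 3829) i)) (@Bool.rec (fun _ => ℕ) (t3831_3833 i) (t3833_3836 i) (Nat.ble (nat_lit 3833) i)) (Nat.ble (nat_lit 3831) i)) (@Bool.rec (fun _ => ℕ) (@Bool.rec (fun _ => ℕ) (t3836_3838 i) (t3838_3840 i) (Nat.ble (nat_lit 3838) i)) (@Bool.rec (fun _ => ℕ) (t3840_3842 i) (t3842_3845 i) (Nat.ble (nat_lit 3842) i)) (Nat.ble (nat_lit 3840) i)) (Nat.ble (nat_lit 3836) i))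
noncomputable def t3845_3847 (i : ℕ) : ℕ := (@Bool.rec (fun _ => ℕ) l3845 l3846 (Nat.ble (nat_lit 3846) i))
noncomputable def t3847_3849 (i : ℕ) : ℕ := (@Bool.rec (fun _ => ℕ) l3847 l3848 (Nat.ble (nat_lit 3848) i))
noncomputable def t3849_3851 (i : ℕ) : ℕ := (@Bool.rec (fun _ => ℕ) l3849 l3850 (Nat.ble (nat_lit 3850) i))
noncomputable def t3851_3854 (i : ℕ) : ℕ := (@Bool.rec (fun _ => ℕ) l3851 (@Bool.rec (fun _ => ℕ) l3852 l3853 (Nat.ble (nat_lit 3853) i)) (Nat.ble (nat_lit 3852) i))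
noncomputable def t3854_3856 (i : ℕ) : ℕ := (@Bool.rec (fun _ => ℕ) l3854 l3855 (Nat.ble (nat_lit 3855) i))
noncomputable def t3856_3859 (i : ℕ) : ℕ := (@Bool.rec (fun _ => ℕ) l3856 (@Bool.rec (fun _ => ℕ) l3857 l3858 (Nat.ble (nat_lit 3858) i)) (Nat.ble (nat_lit 3857) i))
noncomputable def t3859_3861 (i : ℕ) : ℕ := (@Bool.rec (fun _ => ℕ) l3859 l3860 (Nat.ble (nat_lit 3860) i))
noncomputable def t3861_3864 (i : ℕ) : ℕ := (@Bool.rec (fun _ => ℕ) l3861 (@Bool.rec (fun _ => ℕ) l3862 l3863 (Nat.ble (nat_lit 3863) i)) (Nat.ble (nat_lit 3862) i))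
noncomputable def t3845_3864 (i : ℕ) : ℕ := (@Bool.rec (fun _ => ℕ) (@Bool.rec (fun _ => ℕ) (@Bool.rec (fun _ => ℕ) (t3845_3847 i) (t3847_3849 i) (Nat.ble (nat_lit 3847) i)) (@Bool.rec (fun _ => ℕ) (t3849_3851 i) (t3851_3854 i) (Nat.ble (nat_lit 3851) i)) (Nat.ble (nat_lit 3849) i)) (@Bool.rec (fun _ => ℕ) (@Bool.rec (fun _ => ℕ) (t3854_3856 i) (t3856_3859 i) (Nat.ble (nat_lit 3856) i)) (@Bool.rec (fun _ => ℕ) (t3859_3861 i) (t3861_3864 i) (Nat.ble (nat_lit 3861) i)) (Nat.ble (nat_lit 3859) i)) (Nat.ble (nat_lit 3854) i))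
noncomputable def t3864_3866 (i : ℕ) : ℕ := (@Bool.rec (fun _ => ℕ) l3864 l3865 (Nat.ble (nat_lit 3865) i))
noncomputable def t3866_3868 (i : ℕ) : ℕ := (@Bool.rec (fun _ => ℕ) l3866 l3867 (Nat.ble (nat_lit 3867) i))
noncomputable def t3868_3870 (i : ℕ) : ℕ := (@Bool.rec (fun _ => ℕ) l3868 l3869 (Nat.ble (nat_lit 3869) i))
noncomputable def t3870_3873 (i : ℕ) : ℕ := (@Bool.rec (fun _ => ℕ) l3870 (@Bool.rec (fun _ => ℕ) l3871 l3872 (Nat.ble (nat_lit 3872) i)) (Nat.ble (nat_lit 3871) i))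
noncomputable def t3873_3875 (i : ℕ) : ℕ := (@Bool.rec (fun _ => ℕ) l3873 l3874 (Nat.ble (nat_lit 3874) i))
noncomputable def t3875_3878 (i : ℕ) : ℕ := (@Bool.rec (fun _ => ℕ) l3875 (@Bool.rec (fun _ => ℕ) l3876 l3877 (Nat.ble (nat_lit 3877) i)) (Nat.ble (nat_lit 3876) i))
noncomputable def t3878_3880 (i : ℕ) : ℕ := (@Bool.rec (fun _ => ℕ) l3878 l3879 (Nat.ble (nat_lit 3879) i))
noncomputable def t3880_3883 (i : ℕ) : ℕ := (@Bool.rec (fun _ => ℕ) l3880 (@Bool.rec (fun _ => ℕ) l3881 l3882 (Nat.ble (nat_lit 3882) i)) (Nat.ble (nat_lit 3881) i))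
noncomputable def t3864_3883 (i : ℕ) : ℕ := (@Bool.rec (fun _ => ℕ) (@Bool.rec (fun _ => ℕ) (@Bool.rec (fun _ => ℕ) (t3864_3866 i) (t3866_3868 i) (Nat.ble (nat_lit 3866) i)) (@Bool.rec (fun _ => ℕ) (t3868_3870 i) (t3870_3873 i) (Nat.ble (nat_lit 3870) i)) (Nat.ble (nat_lit 3868) i)) (@Bool.rec (fun _ => ℕ) (@Bool.rec (fun _ => ℕ) (t3873_3875 i) (t3875_3878 i) (Nat.ble (nat_lit 3875) i)) (@Bool.rec (fun _ => ℕ) (t3878_3880 i) (t3880_3883 i) (Nat.ble (nat_lit 3880) i)) (Nat.ble (nat_lit 3878) i)) (Nat.ble (nat_lit 3873) i))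
noncomputable def t3883_3885 (i : ℕ) : ℕ := (@Bool.rec (fun _ => ℕ) l3883 l3884 (Nat.ble (nat_lit 3884) i))
noncomputable def t3885_3887 (i : ℕ) : ℕ := (@Bool.rec (fun _ => ℕ) l3885 l3886 (Nat.ble (nat_lit 3886) i))
noncomputable def t3887_3889 (i : ℕ) : ℕ := (@Bool.rec (fun _ => ℕ) l3887 l3888 (Nat.ble (nat_lit 3888) i))
noncomputable def t3889_3892 (i : ℕ) : ℕ := (@Bool.rec (fun _ => ℕ) l3889 (@Bool.rec (fun _ => ℕ) l3890 l3891 (Nat.ble (nat_lit 3891) i)) (Nat.ble (nat_lit 3890) i))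
noncomputable def t3892_3894 (i : ℕ) : ℕ := (@Bool.rec (fun _ => ℕ) l3892 l3893 (Nat.ble (nat_lit 3893) i))
noncomputable def t3894_3897 (i : ℕ) : ℕ := (@Bool.rec (fun _ => ℕ) l3894 (@Bool.rec (fun _ => ℕ) l3895 l3896 (Nat.ble (nat_lit 3896) i)) (Nat.ble (nat_lit 3895) i))
noncomputable def t3897_3899 (i : ℕ) : ℕ := (@Bool.rec (fun _ => ℕ) l3897 l3898 (Nat.ble (nat_lit 3898) i))
noncomputable def t3899_3902 (i : ℕ) : ℕ := (@Bool.rec (fun _ => ℕ) l3899 (@Bool.rec (fun _ => ℕ) l3900 l3901 (Nat.ble (nat_lit 3901) i)) (Nat.ble (nat_lit 3900) i))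
noncomputable def t3883_3902 (i : ℕ) : ℕ := (@Bool.rec (fun _ => ℕ) (@Bool.rec (fun _ => ℕ) (@Bool.rec (fun _ => ℕ) (t3883_3885 i) (t3885_3887 i) (Nat.ble (nat_lit 3885) i)) (@Bool.rec (fun _ => ℕ) (t3887_3889 i) (t3889_3892 i) (Nat.ble (nat_lit 3889) i)) (Nat.ble (nat_lit 3887) i)) (@Bool.rec (fun _ => ℕ) (@Bool.rec (fun _ => ℕ) (t3892_3894 i) (t3894_3897 i) (Nat.ble (nat_lit 3894) i)) (@Bool.rec (fun _ => ℕ) (t3897_3899 i) (t3899_3902 i) (Nat.ble (nat_lit 3899) i)) (Nat.ble (nat_lit 3897) i)) (Nat.ble (nat_lit 3892) i))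
noncomputable def t3752_3902 (i : ℕ) : ℕ := (@Bool.rec (fun _ => ℕ) (@Bool.rec (fun _ => ℕ) (@Bool.rec (fun _ => ℕ) (t3752_3770 i) (t3770_3789 i) (Nat.ble (nat_lit 3770) i)) (@Bool.rec (fun _ => ℕ) (t3789_3808 i) (t3808_3827 i) (Nat.ble (nat_lit 3808) i)) (Nat.ble (nat_lit 3789) i)) (@Bool.rec (fun _ => ℕ) (@Bool.rec (fun _ => ℕ) (t3827_3845 i) (t3845_3864 i) (Nat.ble (nat_lit 3845) i)) (@Bool.rec (fun _ => ℕ) (t3864_3883 i) (t3883_3902 i) (Nat.ble (nat_lit 3883) i)) (Nat.ble (nat_lit 3864) i)) (Nat.ble (nat_lit 3827) i))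
noncomputable def t3902_3904 (i : ℕ) : ℕ := (@Bool.rec (fun _ => ℕ) l3902 l3903 (Nat.ble (nat_lit 3903) i))
noncomputable def t3904_3906 (i : ℕ) : ℕ := (@Bool.rec (fun _ => ℕ) l3904 l3905 (Nat.ble (nat_lit 3905) i))
noncomputable def t3906_3908 (i : ℕ) : ℕ := (@Bool.rec (fun _ => ℕ) l3906 l3907 (Nat.ble (nat_lit 3907) i))
noncomputable def t3908_3911 (i : ℕ) : ℕ := (@Bool.rec (fun _ => ℕ) l3908 (@Bool.rec (fun _ => ℕ) l3909 l3910 (Nat.ble (nat_lit 3910) i)) (Nat.ble (nat_lit 3909) i))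
noncomputable def t3911_3913 (i : ℕ) : ℕ := (@Bool.rec (fun _ => ℕ) l3911 l3912 (Nat.ble (nat_lit 3912) i))
noncomputable def t3913_3915 (i : ℕ) : ℕ := (@Bool.rec (fun _ => ℕ) l3913 l3914 (Nat.ble (nat_lit 3914) i))
noncomputable def t3915_3917 (i : ℕ) : ℕ := (@Bool.rec (fun _ => ℕ) l3915 l3916 (Nat.ble (nat_lit 3916) i))
noncomputable def t3917_3920 (i : ℕ) : ℕ := (@Bool.rec (fun _ => ℕ) l3917 (@Bool.rec (fun _ => ℕ) l3918 l3919 (Nat.ble (nat_lit 3919) i)) (Nat.ble (nat_lit 3918) i))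
noncomputable def t3902_3920 (i : ℕ) : ℕ := (@Bool.rec (fun _ => ℕ) (@Bool.rec (fun _ => ℕ) (@Bool.rec (fun _ => ℕ) (t3902_3904 i) (t3904_3906 i) (Nat.ble (nat_lit 3904) i)) (@Bool.rec (fun _ => ℕ) (t3906_3908 i) (t3908_3911 i) (Nat.ble (nat_lit 3908) i)) (Nat.ble (nat_lit 3906) i)) (@Bool.rec (fun _ => ℕ) (@Bool.rec (fun _ => ℕ) (t3911_3913 i) (t3913_3915 i) (Nat.ble (nat_lit 3913) i)) (@Bool.rec (fun _ => ℕ) (t3915_3917 i) (t3917_3920 i) (Nat.ble (nat_lit 3917) i)) (Nat.ble (nat_lit 3915) i)) (Nat.ble (nat_lit 3911) i))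
noncomputable def t3920_3922 (i : ℕ) : ℕ := (@Bool.rec (fun _ => ℕ) l3920 l3921 (Nat.ble (nat_lit 3921) i))
noncomputable def t3922_3924 (i : ℕ) : ℕ := (@Bool.rec (fun _ => ℕ) l3922 l3923 (Nat.ble (nat_lit 3923) i))
noncomputable def t3924_3926 (i : ℕ) : ℕ := (@Bool.rec (fun _ => ℕ) l3924 l3925 (Nat.ble (nat_lit 3925) i))
noncomputable def t3926_3929 (i : ℕ) : ℕ := (@Bool.rec (fun _ => ℕ) l3926 (@Bool.rec (fun _ => ℕ) l3927 l3928 (Nat.ble (nat_lit 3928) i)) (Nat.ble (nat_lit 3927) i))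
noncomputable def t3929_3931 (i : ℕ) : ℕ := (@Bool.rec (fun _ => ℕ) l3929 l3930 (Nat.ble (nat_lit 3930) i))
noncomputable def t3931_3934 (i : ℕ) : ℕ := (@Bool.rec (fun _ => ℕ) l3931 (@Bool.rec (fun _ => ℕ) l3932 l3933 (Nat.ble (nat_lit 3933) i)) (Nat.ble (nat_lit 3932) i))
noncomputable def t3934_3936 (i : ℕ) : ℕ := (@Bool.rec (fun _ => ℕ) l3934 l3935 (Nat.ble (nat_lit 3935) i))
noncomputable def t3936_3939 (i : ℕ) : ℕ := (@Bool.rec (fun _ => ℕ) l3936 (@Bool.rec (fun _ => ℕ) l3937 l3938 (Nat.ble (nat_lit 3938) i)) (Nat.ble (nat_lit 3937) i))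
noncomputable def t3920_3939 (i : ℕ) : ℕ := (@Bool.rec (fun _ => ℕ) (@Bool.rec (fun _ => ℕ) (@Bool.rec (fun _ => ℕ) (t3920_3922 i) (t3922_3924 i) (Nat.ble (nat_lit 3922) i)) (@Bool.rec (fun _ => ℕ) (t3924_3926 i) (t3926_3929 i) (Nat.ble (nat_lit 3926) i)) (Nat.ble (nat_lit 3924) i)) (@Bool.rec (fun _ => ℕ) (@Bool.rec (fun _ => ℕ) (t3929_3931 i) (t3931_3934 i) (Nat.ble (nat_lit 3931) i)) (@Bool.rec (fun _ => ℕ) (t3934_3936 i) (t3936_3939 i) (Nat.ble (nat_lit 3936) i)) (Nat.ble (nat_lit 3934) i)) (Nat.ble (nat_lit 3929) i))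
noncomputable def t3939_3941 (i : ℕ) : ℕ := (@Bool.rec (fun _ => ℕ) l3939 l3940 (Nat.ble (nat_lit 3940) i))
noncomputable def t3941_3943 (i : ℕ) : ℕ := (@Bool.rec (fun _ => ℕ) l3941 l3942 (Nat.ble (nat_lit 3942) i))
noncomputable def t3943_3945 (i : ℕ) : ℕ := (@Bool.rec (fun _ => ℕ) l3943 l3944 (Nat.ble (nat_lit 3944) i))
noncomputable def t3945_3948 (i : ℕ) : ℕ := (@Bool.rec (fun _ => ℕ) l3945 (@Bool.rec (fun _ => ℕ) l3946 l3947 (Nat.ble (nat_lit 3947) i)) (Nat.ble (nat_lit 3946) i))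
noncomputable def t3948_3950 (i : ℕ) : ℕ := (@Bool.rec (fun _ => ℕ) l3948 l3949 (Nat.ble (nat_lit 3949) i))
noncomputable def t3950_3953 (i : ℕ) : ℕ := (@Bool.rec (fun _ => ℕ) l3950 (@Bool.rec (fun _ => ℕ) l3951 l3952 (Nat.ble (nat_lit 3952) i)) (Nat.ble (nat_lit 3951) i))
noncomputable def t3953_3955 (i : ℕ) : ℕ := (@Bool.rec (fun _ => ℕ) l3953 l3954 (Nat.ble (nat_lit 3954) i))
noncomputable def t3955_3958 (i : ℕ) : ℕ := (@Bool.rec (fun _ => ℕ) l3955 (@Bool.rec (fun _ => ℕ) l3956 l3957 (Nat.ble (nat_lit 3957) i)) (Nat.ble (nat_lit 3956) i))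
noncomputable def t3939_3958 (i : ℕ) : ℕ := (@Bool.rec (fun _ => ℕ) (@Bool.rec (fun _ => ℕ) (@Bool.rec (fun _ => ℕ) (t3939_3941 i) (t3941_3943 i) (Nat.ble (nat_lit 3941) i)) (@Bool.rec (fun _ => ℕ) (t3943_3945 i) (t3945_3948 i) (Nat.ble (nat_lit 3945) i)) (Nat.ble (nat_lit 3943) i)) (@Bool.rec (fun _ => ℕ) (@Bool.rec (fun _ => ℕ) (t3948_3950 i) (t3950_3953 i) (Nat.ble (nat_lit 3950) i)) (@Bool.rec (fun _ => ℕ) (t3953_3955 i) (t3955_3958 i) (Nat.ble (nat_lit 3955) i)) (Nat.ble (nat_lit 3953) i)) (Nat.ble (nat_lit 3948) i))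
noncomputable def t3958_3960 (i : ℕ) : ℕ := (@Bool.rec (fun _ => ℕ) l3958 l3959 (Nat.ble (nat_lit 3959) i))
noncomputable def t3960_3962 (i : ℕ) : ℕ := (@Bool.rec (fun _ => ℕ) l3960 l3961 (Nat.ble (nat_lit 3961) i))
noncomputable def t3962_3964 (i : ℕ) : ℕ := (@Bool.rec (fun _ => ℕ) l3962 l3963 (Nat.ble (nat_lit 3963) i))
noncomputable def t3964_3967 (i : ℕ) : ℕ := (@Bool.rec (fun _ => ℕ) l3964 (@Bool.rec (fun _ => ℕ) l3965 l3966 (Nat.ble (nat_lit 3966) i)) (Nat.ble (nat_lit 3965) i))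
noncomputable def t3967_3969 (i : ℕ) : ℕ := (@Bool.rec (fun _ => ℕ) l3967 l3968 (Nat.ble (nat_lit 3968) i))
noncomputable def t3969_3972 (i : ℕ) : ℕ := (@Bool.rec (fun _ => ℕ) l3969 (@Bool.rec (fun _ => ℕ) l3970 l3971 (Nat.ble (nat_lit 3971) i)) (Nat.ble (nat_lit 3970) i))
noncomputable def t3972_3974 (i : ℕ) : ℕ := (@Bool.rec (fun _ => ℕ) l3972 l3973 (Nat.ble (nat_lit 3973) i))
noncomputable def t3974_3977 (i : ℕ) : ℕ := (@Bool.rec (fun _ => ℕ) l3974 (@Bool.rec (fun _ => ℕ) l3975 l3976 (Nat.ble (nat_lit 3976) i)) (Nat.ble (nat_lit 3975) i))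
noncomputable def t3958_3977 (i : ℕ) : ℕ := (@Bool.rec (fun _ => ℕ) (@Bool.rec (fun _ => ℕ) (@Bool.rec (fun _ => ℕ) (t3958_3960 i) (t3960_3962 i) (Nat.ble (nat_lit 3960) i)) (@Bool.rec (fun _ => ℕ) (t3962_3964 i) (t3964_3967 i) (Nat.ble (nat_lit 3964) i)) (Nat.ble (nat_lit 3962) i)) (@Bool.rec (fun _ => ℕ) (@Bool.rec (fun _ => ℕ) (t3967_3969 i) (t3969_3972 i) (Nat.ble (nat_lit 3969) i)) (@Bool.rec (fun _ => ℕ) (t3972_3974 i) (t3974_3977 i) (Nat.ble (nat_lit 3974) i)) (Nat.ble (nat_lit 3972) i)) (Nat.ble (nat_lit 3967) i))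
noncomputable def t3977_3979 (i : ℕ) : ℕ := (@Bool.rec (fun _ => ℕ) l3977 l3978 (Nat.ble (nat_lit 3978) i))
noncomputable def t3979_3981 (i : ℕ) : ℕ := (@Bool.rec (fun _ => ℕ) l3979 l3980 (Nat.ble (nat_lit 3980) i))
noncomputable def t3981_3983 (i : ℕ) : ℕ := (@Bool.rec (fun _ => ℕ) l3981 l3982 (Nat.ble (nat_lit 3982) i))
noncomputable def t3983_3986 (i : ℕ) : ℕ := (@Bool.rec (fun _ => ℕ) l3983 (@Bool.rec (fun _ => ℕ) l3984 l3985 (Nat.ble (nat_lit 3985) i)) (Nat.ble (nat_lit 3984) i))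
noncomputable def t3986_3988 (i : ℕ) : ℕ := (@Bool.rec (fun _ => ℕ) l3986 l3987 (Nat.ble (nat_lit 3987) i))
noncomputable def t3988_3990 (i : ℕ) : ℕ := (@Bool.rec (fun _ => ℕ) l3988 l3989 (Nat.ble (nat_lit 3989) i))
noncomputable def t3990_3992 (i : ℕ) : ℕ := (@Bool.rec (fun _ => ℕ) l3990 l3991 (Nat.ble (nat_lit 3991) i))
noncomputable def t3992_3995 (i : ℕ) : ℕ := (@Bool.rec (fun _ => ℕ) l3992 (@Bool.rec (fun _ => ℕ) l3993 l3994 (Nat.ble (nat_lit 3994) i)) (Nat.ble (nat_lit 3993) i))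
noncomputable def t3977_3995 (i : ℕ) : ℕ := (@Bool.rec (fun _ => ℕ) (@Bool.rec (fun _ => ℕ) (@Bool.rec (fun _ => ℕ) (t3977_3979 i) (t3979_3981 i) (Nat.ble (nat_lit 3979) i)) (@Bool.rec (fun _ => ℕ) (t3981_3983 i) (t3983_3986 i) (Nat.ble (nat_lit 3983) i)) (Nat.ble (nat_lit 3981) i)) (@Bool.rec (fun _ => ℕ) (@Bool.rec (fun _ => ℕ) (t3986_3988 i) (t3988_3990 i) (Nat.ble (nat_lit 3988) i)) (@Bool.rec (fun _ => ℕ) (t3990_3992 i) (t3992_3995 i) (Nat.ble (nat_lit 3992) i)) (Nat.ble (nat_lit 3990) i)) (Nat.ble (nat_lit 3986) i))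
noncomputable def t3995_3997 (i : ℕ) : ℕ := (@Bool.rec (fun _ => ℕ) l3995 l3996 (Nat.ble (nat_lit 3996) i))
noncomputable def t3997_3999 (i : ℕ) : ℕ := (@Bool.rec (fun _ => ℕ) l3997 l3998 (Nat.ble (nat_lit 3998) i))
noncomputable def t3999_4001 (i : ℕ) : ℕ := (@Bool.rec (fun _ => ℕ) l3999 l4000 (Nat.ble (nat_lit 4000) i))
noncomputable def t4001_4004 (i : ℕ) : ℕ := (@Bool.rec (fun _ => ℕ) l4001 (@Bool.rec (fun _ => ℕ) l4002 l4003 (Nat.ble (nat_lit 4003) i)) (Nat.ble (nat_lit 4002) i))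
noncomputable def t4004_4006 (i : ℕ) : ℕ := (@Bool.rec (fun _ => ℕ) l4004 l4005 (Nat.ble (nat_lit 4005) i))
noncomputable def t4006_4009 (i : ℕ) : ℕ := (@Bool.rec (fun _ => ℕ) l4006 (@Bool.rec (fun _ => ℕ) l4007 l4008 (Nat.ble (nat_lit 4008) i)) (Nat.ble (nat_lit 4007) i))
noncomputable def t4009_4011 (i : ℕ) : ℕ := (@Bool.rec (fun _ => ℕ) l4009 l4010 (Nat.ble (nat_lit 4010) i))
noncomputable def t4011_4014 (i : ℕ) : ℕ := (@Bool.rec (fun _ => ℕ) l4011 (@Bool.rec (fun _ => ℕ) l4012 l4013 (Nat.ble (nat_lit 4013) i)) (Nat.ble (nat_lit 4012) i))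
noncomputable def t3995_4014 (i : ℕ) : ℕ := (@Bool.rec (fun _ => ℕ) (@Bool.rec (fun _ => ℕ) (@Bool.rec (fun _ => ℕ) (t3995_3997 i) (t3997_3999 i) (Nat.ble (nat_lit 3997) i)) (@Bool.rec (fun _ => ℕ) (t3999_4001 i) (t4001_4004 i) (Nat.ble (nat_lit 4001) i)) (Nat.ble (nat_lit 3999) i)) (@Bool.rec (fun _ => ℕ) (@Bool.rec (fun _ => ℕ) (t4004_4006 i) (t4006_4009 i) (Nat.ble (nat_lit 4006) i)) (@Bool.rec (fun _ => ℕ) (t4009_4011 i) (t4011_4014 i) (Nat.ble (nat_lit 4011) i)) (Nat.ble (nat_lit 4009) i)) (Nat.ble (nat_lit 4004) i))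
noncomputable def t4014_4016 (i : ℕ) : ℕ := (@Bool.rec (fun _ => ℕ) l4014 l4015 (Nat.ble (nat_lit 4015) i))
noncomputable def t4016_4018 (i : ℕ) : ℕ := (@Bool.rec (fun _ => ℕ) l4016 l4017 (Nat.ble (nat_lit 4017) i))
noncomputable def t4018_4020 (i : ℕ) : ℕ := (@Bool.rec (fun _ => ℕ) l4018 l4019 (Nat.ble (nat_lit 4019) i))
noncomputable def t4020_4023 (i : ℕ) : ℕ := (@Bool.rec (fun _ => ℕ) l4020 (@Bool.rec (fun _ => ℕ) l4021 l4022 (Nat.ble (nat_lit 4022) i)) (Nat.ble (nat_lit 4021) i))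
noncomputable def t4023_4025 (i : ℕ) : ℕ := (@Bool.rec (fun _ => ℕ) l4023 l4024 (Nat.ble (nat_lit 4024) i))
noncomputable def t4025_4028 (i : ℕ) : ℕ := (@Bool.rec (fun _ => ℕ) l4025 (@Bool.rec (fun _ => ℕ) l4026 l4027 (Nat.ble (nat_lit 4027) i)) (Nat.ble (nat_lit 4026) i))
noncomputable def t4028_4030 (i : ℕ) : ℕ := (@Bool.rec (fun _ => ℕ) l4028 l4029 (Nat.ble (nat_lit 4029) i))
noncomputable def t4030_4033 (i : ℕ) : ℕ := (@Bool.rec (fun _ => ℕ) l4030 (@Bool.rec (fun _ => ℕ) l4031 l4032 (Nat.ble (nat_lit 4032) i)) (Nat.ble (nat_lit 4031) i))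
noncomputable def t4014_4033 (i : ℕ) : ℕ := (@Bool.rec (fun _ => ℕ) (@Bool.rec (fun _ => ℕ) (@Bool.rec (fun _ => ℕ) (t4014_4016 i) (t4016_4018 i) (Nat.ble (nat_lit 4016) i)) (@Bool.rec (fun _ => ℕ) (t4018_4020 i) (t4020_4023 i) (Nat.ble (nat_lit 4020) i)) (Nat.ble (nat_lit 4018) i)) (@Bool.rec (fun _ => ℕ) (@Bool.rec (fun _ => ℕ) (t4023_4025 i) (t4025_4028 i) (Nat.ble (nat_lit 4025) i)) (@Bool.rec (fun _ => ℕ) (t4028_4030 i) (t4030_4033 i) (Nat.ble (nat_lit 4030) i)) (Nat.ble (nat_lit 4028) i)) (Nat.ble (nat_lit 4023) i))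
noncomputable def t4033_4035 (i : ℕ) : ℕ := (@Bool.rec (fun _ => ℕ) l4033 l4034 (Nat.ble (nat_lit 4034) i))
noncomputable def t4035_4037 (i : ℕ) : ℕ := (@Bool.rec (fun _ => ℕ) l4035 l4036 (Nat.ble (nat_lit 4036) i))
noncomputable def t4037_4039 (i : ℕ) : ℕ := (@Bool.rec (fun _ => ℕ) l4037 l4038 (Nat.ble (nat_lit 4038) i))
noncomputable def t4039_4042 (i : ℕ) : ℕ := (@Bool.rec (fun _ => ℕ) l4039 (@Bool.rec (fun _ => ℕ) l4040 l4041 (Nat.ble (nat_lit 4041) i)) (Nat.ble (nat_lit 4040) i))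
noncomputable def t4042_4044 (i : ℕ) : ℕ := (@Bool.rec (fun _ => ℕ) l4042 l4043 (Nat.ble (nat_lit 4043) i))
noncomputable def t4044_4047 (i : ℕ) : ℕ := (@Bool.rec (fun _ => ℕ) l4044 (@Bool.rec (fun _ => ℕ) l4045 l4046 (Nat.ble (nat_lit 4046) i)) (Nat.ble (nat_lit 4045) i))
noncomputable def t4047_4049 (i : ℕ) : ℕ := (@Bool.rec (fun _ => ℕ) l4047 l4048 (Nat.ble (nat_lit 4048) i))
noncomputable def t4049_4052 (i : ℕ) : ℕ := (@Bool.rec (fun _ => ℕ) l4049 (@Bool.rec (fun _ => ℕ) l4050 l4051 (Nat.ble (nat_lit 4051) i)) (Nat.ble (nat_lit 4050) i))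
noncomputable def t4033_4052 (i : ℕ) : ℕ := (@Bool.rec (fun _ => ℕ) (@Bool.rec (fun _ => ℕ) (@Bool.rec (fun _ => ℕ) (t4033_4035 i) (t4035_4037 i) (Nat.ble (nat_lit 4035) i)) (@Bool.rec (fun _ => ℕ) (t4037_4039 i) (t4039_4042 i) (Nat.ble (nat_lit 4039) i)) (Nat.ble (nat_lit 4037) i)) (@Bool.rec (fun _ => ℕ) (@Bool.rec (fun _ => ℕ) (t4042_4044 i) (t4044_4047 i) (Nat.ble (nat_lit 4044) i)) (@Bool.rec (fun _ => ℕ) (t4047_4049 i) (t4049_4052 i) (Nat.ble (nat_lit 4049) i)) (Nat.ble (nat_lit 4047) i)) (Nat.ble (nat_lit 4042) i))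
noncomputable def t3902_4052 (i : ℕ) : ℕ := (@Bool.rec (fun _ => ℕ) (@Bool.rec (fun _ => ℕ) (@Bool.rec (fun _ => ℕ) (t3902_3920 i) (t3920_3939 i) (Nat.ble (nat_lit 3920) i)) (@Bool.rec (fun _ => ℕ) (t3939_3958 i) (t3958_3977 i) (Nat.ble (nat_lit 3958) i)) (Nat.ble (nat_lit 3939) i)) (@Bool.rec (fun _ => ℕ) (@Bool.rec (fun _ => ℕ) (t3977_3995 i) (t3995_4014 i) (Nat.ble (nat_lit 3995) i)) (@Bool.rec (fun _ => ℕ) (t4014_4033 i) (t4033_4052 i) (Nat.ble (nat_lit 4033) i)) (Nat.ble (nat_lit 4014) i)) (Nat.ble (nat_lit 3977) i))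
noncomputable def t4052_4054 (i : ℕ) : ℕ := (@Bool.rec (fun _ => ℕ) l4052 l4053 (Nat.ble (nat_lit 4053) i))
noncomputable def t4054_4056 (i : ℕ) : ℕ := (@Bool.rec (fun _ => ℕ) l4054 l4055 (Nat.ble (nat_lit 4055) i))
noncomputable def t4056_4058 (i : ℕ) : ℕ := (@Bool.rec (fun _ => ℕ) l4056 l4057 (Nat.ble (nat_lit 4057) i))
noncomputable def t4058_4061 (i : ℕ) : ℕ := (@Bool.rec (fun _ => ℕ) l4058 (@Bool.rec (fun _ => ℕ) l4059 l4060 (Nat.ble (nat_lit 4060) i)) (Nat.ble (nat_lit 4059) i))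
noncomputable def t4061_4063 (i : ℕ) : ℕ := (@Bool.rec (fun _ => ℕ) l4061 l4062 (Nat.ble (nat_lit 4062) i))
noncomputable def t4063_4065 (i : ℕ) : ℕ := (@Bool.rec (fun _ => ℕ) l4063 l4064 (Nat.ble (nat_lit 4064) i))
noncomputable def t4065_4067 (i : ℕ) : ℕ := (@Bool.rec (fun _ => ℕ) l4065 l4066 (Nat.ble (nat_lit 4066) i))
noncomputable def t4067_4070 (i : ℕ) : ℕ := (@Bool.rec (fun _ => ℕ) l4067 (@Bool.rec (fun _ => ℕ) l4068 l4069 (Nat.ble (nat_lit 4069) i)) (Nat.ble (nat_lit 4068) i))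
noncomputable def t4052_4070 (i : ℕ) : ℕ := (@Bool.rec (fun _ => ℕ) (@Bool.rec (fun _ => ℕ) (@Bool.rec (fun _ => ℕ) (t4052_4054 i) (t4054_4056 i) (Nat.ble (nat_lit 4054) i)) (@Bool.rec (fun _ => ℕ) (t4056_4058 i) (t4058_4061 i) (Nat.ble (nat_lit 4058) i)) (Nat.ble (nat_lit 4056) i)) (@Bool.rec (fun _ => ℕ) (@Bool.rec (fun _ => ℕ) (t4061_4063 i) (t4063_4065 i) (Nat.ble (nat_lit 4063) i)) (@Bool.rec (fun _ => ℕ) (t4065_4067 i) (t4067_4070 i) (Nat.ble (nat_lit 4067) i)) (Nat.ble (nat_lit 4065) i)) (Nat.ble (nat_lit 4061) i))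
noncomputable def t4070_4072 (i : ℕ) : ℕ := (@Bool.rec (fun _ => ℕ) l4070 l4071 (Nat.ble (nat_lit 4071) i))
noncomputable def t4072_4074 (i : ℕ) : ℕ := (@Bool.rec (fun _ => ℕ) l4072 l4073 (Nat.ble (nat_lit 4073) i))
noncomputable def t4074_4076 (i : ℕ) : ℕ := (@Bool.rec (fun _ => ℕ) l4074 l4075 (Nat.ble (nat_lit 4075) i))
noncomputable def t4076_4079 (i : ℕ) : ℕ := (@Bool.rec (fun _ => ℕ) l4076 (@Bool.rec (fun _ => ℕ) l4077 l4078 (Nat.ble (nat_lit 4078) i)) (Nat.ble (nat_lit 4077) i))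
noncomputable def t4079_4081 (i : ℕ) : ℕ := (@Bool.rec (fun _ => ℕ) l4079 l4080 (Nat.ble (nat_lit 4080) i))
noncomputable def t4081_4084 (i : ℕ) : ℕ := (@Bool.rec (fun _ => ℕ) l4081 (@Bool.rec (fun _ => ℕ) l4082 l4083 (Nat.ble (nat_lit 4083) i)) (Nat.ble (nat_lit 4082) i))
noncomputable def t4084_4086 (i : ℕ) : ℕ := (@Bool.rec (fun _ => ℕ) l4084 l4085 (Nat.ble (nat_lit 4085) i))
noncomputable def t4086_4089 (i : ℕ) : ℕ := (@Bool.rec (fun _ => ℕ) l4086 (@Bool.rec (fun _ => ℕ) l4087 l4088 (Nat.ble (nat_lit 4088) i)) (Nat.ble (nat_lit 4087) i))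
noncomputable def t4070_4089 (i : ℕ) : ℕ := (@Bool.rec (fun _ => ℕ) (@Bool.rec (fun _ => ℕ) (@Bool.rec (fun _ => ℕ) (t4070_4072 i) (t4072_4074 i) (Nat.ble (nat_lit 4072) i)) (@Bool.rec (fun _ => ℕ) (t4074_4076 i) (t4076_4079 i) (Nat.ble (nat_lit 4076) i)) (Nat.ble (nat_lit 4074) i)) (@Bool.rec (fun _ => ℕ) (@Bool.rec (fun _ => ℕ) (t4079_4081 i) (t4081_4084 i) (Nat.ble (nat_lit 4081) i)) (@Bool.rec (fun _ => ℕ) (t4084_4086 i) (t4086_4089 i) (Nat.ble (nat_lit 4086) i)) (Nat.ble (nat_lit 4084) i)) (Nat.ble (nat_lit 4079) i))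
noncomputable def t4089_4091 (i : ℕ) : ℕ := (@Bool.rec (fun _ => ℕ) l4089 l4090 (Nat.ble (nat_lit 4090) i))
noncomputable def t4091_4093 (i : ℕ) : ℕ := (@Bool.rec (fun _ => ℕ) l4091 l4092 (Nat.ble (nat_lit 4092) i))
noncomputable def t4093_4095 (i : ℕ) : ℕ := (@Bool.rec (fun _ => ℕ) l4093 l4094 (Nat.ble (nat_lit 4094) i))
noncomputable def t4095_4098 (i : ℕ) : ℕ := (@Bool.rec (fun _ => ℕ) l4095 (@Bool.rec (fun _ => ℕ) l4096 l4097 (Nat.ble (nat_lit 4097) i)) (Nat.ble (nat_lit 4096) i))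
noncomputable def t4098_4100 (i : ℕ) : ℕ := (@Bool.rec (fun _ => ℕ) l4098 l4099 (Nat.ble (nat_lit 4099) i))
noncomputable def t4100_4103 (i : ℕ) : ℕ := (@Bool.rec (fun _ => ℕ) l4100 (@Bool.rec (fun _ => ℕ) l4101 l4102 (Nat.ble (nat_lit 4102) i)) (Nat.ble (nat_lit 4101) i))
noncomputable def t4103_4105 (i : ℕ) : ℕ := (@Bool.rec (fun _ => ℕ) l4103 l4104 (Nat.ble (nat_lit 4104) i))
noncomputable def t4105_4108 (i : ℕ) : ℕ := (@Bool.rec (fun _ => ℕ) l4105 (@Bool.rec (fun _ => ℕ) l4106 l4107 (Nat.ble (nat_lit 4107) i)) (Nat.ble (nat_lit 4106) i))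
noncomputable def t4089_4108 (i : ℕ) : ℕ := (@Bool.rec (fun _ => ℕ) (@Bool.rec (fun _ => ℕ) (@Bool.rec (fun _ => ℕ) (t4089_4091 i) (t4091_4093 i) (Nat.ble (nat_lit 4091) i)) (@Bool.rec (fun _ => ℕ) (t4093_4095 i) (t4095_4098 i) (Nat.ble (nat_lit 4095) i)) (Nat.ble (nat_lit 4093) i)) (@Bool.rec (fun _ => ℕ) (@Bool.rec (fun _ => ℕ) (t4098_4100 i) (t4100_4103 i) (Nat.ble (nat_lit 4100) i)) (@Bool.rec (fun _ => ℕ) (t4103_4105 i) (t4105_4108 i) (Nat.ble (nat_lit 4105) i)) (Nat.ble (nat_lit 4103) i)) (Nat.ble (nat_lit 4098) i))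
noncomputable def t4108_4110 (i : ℕ) : ℕ := (@Bool.rec (fun _ => ℕ) l4108 l4109 (Nat.ble (nat_lit 4109) i))
noncomputable def t4110_4112 (i : ℕ) : ℕ := (@Bool.rec (fun _ => ℕ) l4110 l4111 (Nat.ble (nat_lit 4111) i))
noncomputable def t4112_4114 (i : ℕ) : ℕ := (@Bool.rec (fun _ => ℕ) l4112 l4113 (Nat.ble (nat_lit 4113) i))
noncomputable def t4114_4117 (i : ℕ) : ℕ := (@Bool.rec (fun _ => ℕ) l4114 (@Bool.rec (fun _ => ℕ) l4115 l4116 (Nat.ble (nat_lit 4116) i)) (Nat.ble (nat_lit 4115) i))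
noncomputable def t4117_4119 (i : ℕ) : ℕ := (@Bool.rec (fun _ => ℕ) l4117 l4118 (Nat.ble (nat_lit 4118) i))
noncomputable def t4119_4122 (i : ℕ) : ℕ := (@Bool.rec (fun _ => ℕ) l4119 (@Bool.rec (fun _ => ℕ) l4120 l4121 (Nat.ble (nat_lit 4121) i)) (Nat.ble (nat_lit 4120) i))
noncomputable def t4122_4124 (i : ℕ) : ℕ := (@Bool.rec (fun _ => ℕ) l4122 l4123 (Nat.ble (nat_lit 4123) i))
noncomputable def t4124_4127 (i : ℕ) : ℕ := (@Bool.rec (fun _ => ℕ) l4124 (@Bool.rec (fun _ => ℕ) l4125 l4126 (Nat.ble (nat_lit 4126) i)) (Nat.ble (nat_lit 4125) i))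
noncomputable def t4108_4127 (i : ℕ) : ℕ := (@Bool.rec (fun _ => ℕ) (@Bool.rec (fun _ => ℕ) (@Bool.rec (fun _ => ℕ) (t4108_4110 i) (t4110_4112 i) (Nat.ble (nat_lit 4110) i)) (@Bool.rec (fun _ => ℕ) (t4112_4114 i) (t4114_4117 i) (Nat.ble (nat_lit 4114) i)) (Nat.ble (nat_lit 4112) i)) (@Bool.rec (fun _ => ℕ) (@Bool.rec (fun _ => ℕ) (t4117_4119 i) (t4119_4122 i) (Nat.ble (nat_lit 4119) i)) (@Bool.rec (fun _ => ℕ) (t4122_4124 i) (t4124_4127 i) (Nat.ble (nat_lit 4124) i)) (Nat.ble (nat_lit 4122) i)) (Nat.ble (nat_lit 4117) i))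
noncomputable def t4127_4129 (i : ℕ) : ℕ := (@Bool.rec (fun _ => ℕ) l4127 l4128 (Nat.ble (nat_lit 4128) i))
noncomputable def t4129_4131 (i : ℕ) : ℕ := (@Bool.rec (fun _ => ℕ) l4129 l4130 (Nat.ble (nat_lit 4130) i))
noncomputable def t4131_4133 (i : ℕ) : ℕ := (@Bool.rec (fun _ => ℕ) l4131 l4132 (Nat.ble (nat_lit 4132) i))
noncomputable def t4133_4136 (i : ℕ) : ℕ := (@Bool.rec (fun _ => ℕ) l4133 (@Bool.rec (fun _ => ℕ) l4134 l4135 (Nat.ble (nat_lit 4135) i)) (Nat.ble (nat_lit 4134) i))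
noncomputable def t4136_4138 (i : ℕ) : ℕ := (@Bool.rec (fun _ => ℕ) l4136 l4137 (Nat.ble (nat_lit 4137) i))
noncomputable def t4138_4140 (i : ℕ) : ℕ := (@Bool.rec (fun _ => ℕ) l4138 l4139 (Nat.ble (nat_lit 4139) i))
noncomputable def t4140_4142 (i : ℕ) : ℕ := (@Bool.rec (fun _ => ℕ) l4140 l4141 (Nat.ble (nat_lit 4141) i))
noncomputable def t4142_4145 (i : ℕ) : ℕ := (@Bool.rec (fun _ => ℕ) l4142 (@Bool.rec (fun _ => ℕ) l4143 l4144 (Nat.ble (nat_lit 4144) i)) (Nat.ble (nat_lit 4143) i))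
noncomputable def t4127_4145 (i : ℕ) : ℕ := (@Bool.rec (fun _ => ℕ) (@Bool.rec (fun _ => ℕ) (@Bool.rec (fun _ => ℕ) (t4127_4129 i) (t4129_4131 i) (Nat.ble (nat_lit 4129) i)) (@Bool.rec (fun _ => ℕ) (t4131_4133 i) (t4133_4136 i) (Nat.ble (nat_lit 4133) i)) (Nat.ble (nat_lit 4131) i)) (@Bool.rec (fun _ => ℕ) (@Bool.rec (fun _ => ℕ) (t4136_4138 i) (t4138_4140 i) (Nat.ble (nat_lit 4138) i)) (@Bool.rec (fun _ => ℕ) (t4140_4142 i) (t4142_4145 i) (Nat.ble (nat_lit 4142) i)) (Nat.ble (nat_lit 4140) i)) (Nat.ble (nat_lit 4136) i))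
noncomputable def t4145_4147 (i : ℕ) : ℕ := (@Bool.rec (fun _ => ℕ) l4145 l4146 (Nat.ble (nat_lit 4146) i))
noncomputable def t4147_4149 (i : ℕ) : ℕ := (@Bool.rec (fun _ => ℕ) l4147 l4148 (Nat.ble (nat_lit 4148) i))
noncomputable def t4149_4151 (i : ℕ) : ℕ := (@Bool.rec (fun _ => ℕ) l4149 l4150 (Nat.ble (nat_lit 4150) i))
noncomputable def t4151_4154 (i : ℕ) : ℕ := (@Bool.rec (fun _ => ℕ) l4151 (@Bool.rec (fun _ => ℕ) l4152 l4153 (Nat.ble (nat_lit 4153) i)) (Nat.ble (nat_lit 4152) i))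
noncomputable def t4154_4156 (i : ℕ) : ℕ := (@Bool.rec (fun _ => ℕ) l4154 l4155 (Nat.ble (nat_lit 4155) i))
noncomputable def t4156_4159 (i : ℕ) : ℕ := (@Bool.rec (fun _ => ℕ) l4156 (@Bool.rec (fun _ => ℕ) l4157 l4158 (Nat.ble (nat_lit 4158) i)) (Nat.ble (nat_lit 4157) i))
noncomputable def t4159_4161 (i : ℕ) : ℕ := (@Bool.rec (fun _ => ℕ) l4159 l4160 (Nat.ble (nat_lit 4160) i))
noncomputable def t4161_4164 (i : ℕ) : ℕ := (@Bool.rec (fun _ => ℕ) l4161 (@Bool.rec (fun _ => ℕ) l4162 l4163 (Nat.ble (nat_lit 4163) i)) (Nat.ble (nat_lit 4162) i))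
noncomputable def t4145_4164 (i : ℕ) : ℕ := (@Bool.rec (fun _ => ℕ) (@Bool.rec (fun _ => ℕ) (@Bool.rec (fun _ => ℕ) (t4145_4147 i) (t4147_4149 i) (Nat.ble (nat_lit 4147) i)) (@Bool.rec (fun _ => ℕ) (t4149_4151 i) (t4151_4154 i) (Nat.ble (nat_lit 4151) i)) (Nat.ble (nat_lit 4149) i)) (@Bool.rec (fun _ => ℕ) (@Bool.rec (fun _ => ℕ) (t4154_4156 i) (t4156_4159 i) (Nat.ble (nat_lit 4156) i)) (@Bool.rec (fun _ => ℕ) (t4159_4161 i) (t4161_4164 i) (Nat.ble (nat_lit 4161) i)) (Nat.ble (nat_lit 4159) i)) (Nat.ble (nat_lit 4154) i))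
noncomputable def t4164_4166 (i : ℕ) : ℕ := (@Bool.rec (fun _ => ℕ) l4164 l4165 (Nat.ble (nat_lit 4165) i))
noncomputable def t4166_4168 (i : ℕ) : ℕ := (@Bool.rec (fun _ => ℕ) l4166 l4167 (Nat.ble (nat_lit 4167) i))
noncomputable def t4168_4170 (i : ℕ) : ℕ := (@Bool.rec (fun _ => ℕ) l4168 l4169 (Nat.ble (nat_lit 4169) i))
noncomputable def t4170_4173 (i : ℕ) : ℕ := (@Bool.rec (fun _ => ℕ) l4170 (@Bool.rec (fun _ => ℕ) l4171 l4172 (Nat.ble (nat_lit 4172) i)) (Nat.ble (nat_lit 4171) i))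
noncomputable def t4173_4175 (i : ℕ) : ℕ := (@Bool.rec (fun _ => ℕ) l4173 l4174 (Nat.ble (nat_lit 4174) i))
noncomputable def t4175_4178 (i : ℕ) : ℕ := (@Bool.rec (fun _ => ℕ) l4175 (@Bool.rec (fun _ => ℕ) l4176 l4177 (Nat.ble (nat_lit 4177) i)) (Nat.ble (nat_lit 4176) i))
noncomputable def t4178_4180 (i : ℕ) : ℕ := (@Bool.rec (fun _ => ℕ) l4178 l4179 (Nat.ble (nat_lit 4179) i))
noncomputable def t4180_4183 (i : ℕ) : ℕ := (@Bool.rec (fun _ => ℕ) l4180 (@Bool.rec (fun _ => ℕ) l4181 l4182 (Nat.ble (nat_lit 4182) i)) (Nat.ble (nat_lit 4181) i))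
noncomputable def t4164_4183 (i : ℕ) : ℕ := (@Bool.rec (fun _ => ℕ) (@Bool.rec (fun _ => ℕ) (@Bool.rec (fun _ => ℕ) (t4164_4166 i) (t4166_4168 i) (Nat.ble (nat_lit 4166) i)) (@Bool.rec (fun _ => ℕ) (t4168_4170 i) (t4170_4173 i) (Nat.ble (nat_lit 4170) i)) (Nat.ble (nat_lit 4168) i)) (@Bool.rec (fun _ => ℕ) (@Bool.rec (fun _ => ℕ) (t4173_4175 i) (t4175_4178 i) (Nat.ble (nat_lit 4175) i)) (@Bool.rec (fun _ => ℕ) (t4178_4180 i) (t4180_4183 i) (Nat.ble (nat_lit 4180) i)) (Nat.ble (nat_lit 4178) i)) (Nat.ble (nat_lit 4173) i))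
noncomputable def t4183_4185 (i : ℕ) : ℕ := (@Bool.rec (fun _ => ℕ) l4183 l4184 (Nat.ble (nat_lit 4184) i))
noncomputable def t4185_4187 (i : ℕ) : ℕ := (@Bool.rec (fun _ => ℕ) l4185 l4186 (Nat.ble (nat_lit 4186) i))
noncomputable def t4187_4189 (i : ℕ) : ℕ := (@Bool.rec (fun _ => ℕ) l4187 l4188 (Nat.ble (nat_lit 4188) i))
noncomputable def t4189_4192 (i : ℕ) : ℕ := (@Bool.rec (fun _ => ℕ) l4189 (@Bool.rec (fun _ => ℕ) l4190 l4191 (Nat.ble (nat_lit 4191) i)) (Nat.ble (nat_lit 4190) i))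
noncomputable def t4192_4194 (i : ℕ) : ℕ := (@Bool.rec (fun _ => ℕ) l4192 l4193 (Nat.ble (nat_lit 4193) i))
noncomputable def t4194_4197 (i : ℕ) : ℕ := (@Bool.rec (fun _ => ℕ) l4194 (@Bool.rec (fun _ => ℕ) l4195 l4196 (Nat.ble (nat_lit 4196) i)) (Nat.ble (nat_lit 4195) i))
noncomputable def t4197_4199 (i : ℕ) : ℕ := (@Bool.rec (fun _ => ℕ) l4197 l4198 (Nat.ble (nat_lit 4198) i))
noncomputable def t4199_4202 (i : ℕ) : ℕ := (@Bool.rec (fun _ => ℕ) l4199 (@Bool.rec (fun _ => ℕ) l4200 l4201 (Nat.ble (nat_lit 4201) i)) (Nat.ble (nat_lit 4200) i))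
noncomputable def t4183_4202 (i : ℕ) : ℕ := (@Bool.rec (fun _ => ℕ) (@Bool.rec (fun _ => ℕ) (@Bool.rec (fun _ => ℕ) (t4183_4185 i) (t4185_4187 i) (Nat.ble (nat_lit 4185) i)) (@Bool.rec (fun _ => ℕ) (t4187_4189 i) (t4189_4192 i) (Nat.ble (nat_lit 4189) i)) (Nat.ble (nat_lit 4187) i)) (@Bool.rec (fun _ => ℕ) (@Bool.rec (fun _ => ℕ) (t4192_4194 i) (t4194_4197 i) (Nat.ble (nat_lit 4194) i)) (@Bool.rec (fun _ => ℕ) (t4197_4199 i) (t4199_4202 i) (Nat.ble (nat_lit 4199) i)) (Nat.ble (nat_lit 4197) i)) (Nat.ble (nat_lit 4192) i))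
noncomputable def t4052_4202 (i : ℕ) : ℕ := (@Bool.rec (fun _ => ℕ) (@Bool.rec (fun _ => ℕ) (@Bool.rec (fun _ => ℕ) (t4052_4070 i) (t4070_4089 i) (Nat.ble (nat_lit 4070) i)) (@Bool.rec (fun _ => ℕ) (t4089_4108 i) (t4108_4127 i) (Nat.ble (nat_lit 4108) i)) (Nat.ble (nat_lit 4089) i)) (@Bool.rec (fun _ => ℕ) (@Bool.rec (fun _ => ℕ) (t4127_4145 i) (t4145_4164 i) (Nat.ble (nat_lit 4145) i)) (@Bool.rec (fun _ => ℕ) (t4164_4183 i) (t4183_4202 i) (Nat.ble (nat_lit 4183) i)) (Nat.ble (nat_lit 4164) i)) (Nat.ble (nat_lit 4127) i))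
noncomputable def t4202_4204 (i : ℕ) : ℕ := (@Bool.rec (fun _ => ℕ) l4202 l4203 (Nat.ble (nat_lit 4203) i))
noncomputable def t4204_4206 (i : ℕ) : ℕ := (@Bool.rec (fun _ => ℕ) l4204 l4205 (Nat.ble (nat_lit 4205) i))
noncomputable def t4206_4208 (i : ℕ) : ℕ := (@Bool.rec (fun _ => ℕ) l4206 l4207 (Nat.ble (nat_lit 4207) i))
noncomputable def t4208_4211 (i : ℕ) : ℕ := (@Bool.rec (fun _ => ℕ) l4208 (@Bool.rec (fun _ => ℕ) l4209 l4210 (Nat.ble (nat_lit 4210) i)) (Nat.ble (nat_lit 4209) i))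
noncomputable def t4211_4213 (i : ℕ) : ℕ := (@Bool.rec (fun _ => ℕ) l4211 l4212 (Nat.ble (nat_lit 4212) i))
noncomputable def t4213_4215 (i : ℕ) : ℕ := (@Bool.rec (fun _ => ℕ) l4213 l4214 (Nat.ble (nat_lit 4214) i))
noncomputable def t4215_4217 (i : ℕ) : ℕ := (@Bool.rec (fun _ => ℕ) l4215 l4216 (Nat.ble (nat_lit 4216) i))
noncomputable def t4217_4220 (i : ℕ) : ℕ := (@Bool.rec (fun _ => ℕ) l4217 (@Bool.rec (fun _ => ℕ) l4218 l4219 (Nat.ble (nat_lit 4219) i)) (Nat.ble (nat_lit 4218) i))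
noncomputable def t4202_4220 (i : ℕ) : ℕ := (@Bool.rec (fun _ => ℕ) (@Bool.rec (fun _ => ℕ) (@Bool.rec (fun _ => ℕ) (t4202_4204 i) (t4204_4206 i) (Nat.ble (nat_lit 4204) i)) (@Bool.rec (fun _ => ℕ) (t4206_4208 i) (t4208_4211 i) (Nat.ble (nat_lit 4208) i)) (Nat.ble (nat_lit 4206) i)) (@Bool.rec (fun _ => ℕ) (@Bool.rec (fun _ => ℕ) (t4211_4213 i) (t4213_4215 i) (Nat.ble (nat_lit 4213) i)) (@Bool.rec (fun _ => ℕ) (t4215_4217 i) (t4217_4220 i) (Nat.ble (nat_lit 4217) i)) (Nat.ble (nat_lit 4215) i)) (Nat.ble (nat_lit 4211) i))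
noncomputable def t4220_4222 (i : ℕ) : ℕ := (@Bool.rec (fun _ => ℕ) l4220 l4221 (Nat.ble (nat_lit 4221) i))
noncomputable def t4222_4224 (i : ℕ) : ℕ := (@Bool.rec (fun _ => ℕ) l4222 l4223 (Nat.ble (nat_lit 4223) i))
noncomputable def t4224_4226 (i : ℕ) : ℕ := (@Bool.rec (fun _ => ℕ) l4224 l4225 (Nat.ble (nat_lit 4225) i))
noncomputable def t4226_4229 (i : ℕ) : ℕ := (@Bool.rec (fun _ => ℕ) l4226 (@Bool.rec (fun _ => ℕ) l4227 l4228 (Nat.ble (nat_lit 4228) i)) (Nat.ble (nat_lit 4227) i))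
noncomputable def t4229_4231 (i : ℕ) : ℕ := (@Bool.rec (fun _ => ℕ) l4229 l4230 (Nat.ble (nat_lit 4230) i))
noncomputable def t4231_4234 (i : ℕ) : ℕ := (@Bool.rec (fun _ => ℕ) l4231 (@Bool.rec (fun _ => ℕ) l4232 l4233 (Nat.ble (nat_lit 4233) i)) (Nat.ble (nat_lit 4232) i))
noncomputable def t4234_4236 (i : ℕ) : ℕ := (@Bool.rec (fun _ => ℕ) l4234 l4235 (Nat.ble (nat_lit 4235) i))
noncomputable def t4236_4239 (i : ℕ) : ℕ := (@Bool.rec (fun _ => ℕ) l4236 (@Bool.rec (fun _ => ℕ) l4237 l4238 (Nat.ble (nat_lit 4238) i)) (Nat.ble (nat_lit 4237) i))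
noncomputable def t4220_4239 (i : ℕ) : ℕ := (@Bool.rec (fun _ => ℕ) (@Bool.rec (fun _ => ℕ) (@Bool.rec (fun _ => ℕ) (t4220_4222 i) (t4222_4224 i) (Nat.ble (nat_lit 4222) i)) (@Bool.rec (fun _ => ℕ) (t4224_4226 i) (t4226_4229 i) (Nat.ble (nat_lit 4226) i)) (Nat.ble (nat_lit 4224) i)) (@Bool.rec (fun _ => ℕ) (@Bool.rec (fun _ => ℕ) (t4229_4231 i) (t4231_4234 i) (Nat.ble (nat_lit 4231) i)) (@Bool.rec (fun _ => ℕ) (t4234_4236 i) (t4236_4239 i) (Nat.ble (nat_lit 4236) i)) (Nat.ble (nat_lit 4234) i)) (Nat.ble (nat_lit 4229) i))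
noncomputable def t4239_4241 (i : ℕ) : ℕ := (@Bool.rec (fun _ => ℕ) l4239 l4240 (Nat.ble (nat_lit 4240) i))
noncomputable def t4241_4243 (i : ℕ) : ℕ := (@Bool.rec (fun _ => ℕ) l4241 l4242 (Nat.ble (nat_lit 4242) i))
noncomputable def t4243_4245 (i : ℕ) : ℕ := (@Bool.rec (fun _ => ℕ) l4243 l4244 (Nat.ble (nat_lit 4244) i))
noncomputable def t4245_4248 (i : ℕ) : ℕ := (@Bool.rec (fun _ => ℕ) l4245 (@Bool.rec (fun _ => ℕ) l4246 l4247 (Nat.ble (nat_lit 4247) i)) (Nat.ble (nat_lit 4246) i))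
noncomputable def t4248_4250 (i : ℕ) : ℕ := (@Bool.rec (fun _ => ℕ) l4248 l4249 (Nat.ble (nat_lit 4249) i))
noncomputable def t4250_4253 (i : ℕ) : ℕ := (@Bool.rec (fun _ => ℕ) l4250 (@Bool.rec (fun _ => ℕ) l4251 l4252 (Nat.ble (nat_lit 4252) i)) (Nat.ble (nat_lit 4251) i))
noncomputable def t4253_4255 (i : ℕ) : ℕ := (@Bool.rec (fun _ => ℕ) l4253 l4254 (Nat.ble (nat_lit 4254) i))
noncomputable def t4255_4258 (i : ℕ) : ℕ := (@Bool.rec (fun _ => ℕ) l4255 (@Bool.rec (fun _ => ℕ) l4256 l4257 (Nat.ble (nat_lit 4257) i)) (Nat.ble (nat_lit 4256) i))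
noncomputable def t4239_4258 (i : ℕ) : ℕ := (@Bool.rec (fun _ => ℕ) (@Bool.rec (fun _ => ℕ) (@Bool.rec (fun _ => ℕ) (t4239_4241 i) (t4241_4243 i) (Nat.ble (nat_lit 4241) i)) (@Bool.rec (fun _ => ℕ) (t4243_4245 i) (t4245_4248 i) (Nat.ble (nat_lit 4245) i)) (Nat.ble (nat_lit 4243) i)) (@Bool.rec (fun _ => ℕ) (@Bool.rec (fun _ => ℕ) (t4248_4250 i) (t4250_4253 i) (Nat.ble (nat_lit 4250) i)) (@Bool.rec (fun _ => ℕ) (t4253_4255 i) (t4255_4258 i) (Nat.ble (nat_lit 4255) i)) (Nat.ble (nat_lit 4253) i)) (Nat.ble (nat_lit 4248) i))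
noncomputable def t4258_4260 (i : ℕ) : ℕ := (@Bool.rec (fun _ => ℕ) l4258 l4259 (Nat.ble (nat_lit 4259) i))
noncomputable def t4260_4262 (i : ℕ) : ℕ := (@Bool.rec (fun _ => ℕ) l4260 l4261 (Nat.ble (nat_lit 4261) i))
noncomputable def t4262_4264 (i : ℕ) : ℕ := (@Bool.rec (fun _ => ℕ) l4262 l4263 (Nat.ble (nat_lit 4263) i))
noncomputable def t4264_4267 (i : ℕ) : ℕ := (@Bool.rec (fun _ => ℕ) l4264 (@Bool.rec (fun _ => ℕ) l4265 l4266 (Nat.ble (nat_lit 4266) i)) (Nat.ble (nat_lit 4265) i))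
noncomputable def t4267_4269 (i : ℕ) : ℕ := (@Bool.rec (fun _ => ℕ) l4267 l4268 (Nat.ble (nat_lit 4268) i))
noncomputable def t4269_4272 (i : ℕ) : ℕ := (@Bool.rec (fun _ => ℕ) l4269 (@Bool.rec (fun _ => ℕ) l4270 l4271 (Nat.ble (nat_lit 4271) i)) (Nat.ble (nat_lit 4270) i))
noncomputable def t4272_4274 (i : ℕ) : ℕ := (@Bool.rec (fun _ => ℕ) l4272 l4273 (Nat.ble (nat_lit 4273) i))
noncomputable def t4274_4277 (i : ℕ) : ℕ := (@Bool.rec (fun _ => ℕ) l4274 (@Bool.rec (fun _ => ℕ) l4275 l4276 (Nat.ble (nat_lit 4276) i)) (Nat.ble (nat_lit 4275) i))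
noncomputable def t4258_4277 (i : ℕ) : ℕ := (@Bool.rec (fun _ => ℕ) (@Bool.rec (fun _ => ℕ) (@Bool.rec (fun _ => ℕ) (t4258_4260 i) (t4260_4262 i) (Nat.ble (nat_lit 4260) i)) (@Bool.rec (fun _ => ℕ) (t4262_4264 i) (t4264_4267 i) (Nat.ble (nat_lit 4264) i)) (Nat.ble (nat_lit 4262) i)) (@Bool.rec (fun _ => ℕ) (@Bool.rec (fun _ => ℕ) (t4267_4269 i) (t4269_4272 i) (Nat.ble (nat_lit 4269) i)) (@Bool.rec (fun _ => ℕ) (t4272_4274 i) (t4274_4277 i) (Nat.ble (nat_lit 4274) i)) (Nat.ble (nat_lit 4272) i)) (Nat.ble (nat_lit 4267) i))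
noncomputable def t4277_4279 (i : ℕ) : ℕ := (@Bool.rec (fun _ => ℕ) l4277 l4278 (Nat.ble (nat_lit 4278) i))
noncomputable def t4279_4281 (i : ℕ) : ℕ := (@Bool.rec (fun _ => ℕ) l4279 l4280 (Nat.ble (nat_lit 4280) i))
noncomputable def t4281_4283 (i : ℕ) : ℕ := (@Bool.rec (fun _ => ℕ) l4281 l4282 (Nat.ble (nat_lit 4282) i))
noncomputable def t4283_4286 (i : ℕ) : ℕ := (@Bool.rec (fun _ => ℕ) l4283 (@Bool.rec (fun _ => ℕ) l4284 l4285 (Nat.ble (nat_lit 4285) i)) (Nat.ble (nat_lit 4284) i))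
noncomputable def t4286_4288 (i : ℕ) : ℕ := (@Bool.rec (fun _ => ℕ) l4286 l4287 (Nat.ble (nat_lit 4287) i))
noncomputable def t4288_4290 (i : ℕ) : ℕ := (@Bool.rec (fun _ => ℕ) l4288 l4289 (Nat.ble (nat_lit 4289) i))
noncomputable def t4290_4292 (i : ℕ) : ℕ := (@Bool.rec (fun _ => ℕ) l4290 l4291 (Nat.ble (nat_lit 4291) i))
noncomputable def t4292_4295 (i : ℕ) : ℕ := (@Bool.rec (fun _ => ℕ) l4292 (@Bool.rec (fun _ => ℕ) l4293 l4294 (Nat.ble (nat_lit 4294) i)) (Nat.ble (nat_lit 4293) i))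
noncomputable def t4277_4295 (i : ℕ) : ℕ := (@Bool.rec (fun _ => ℕ) (@Bool.rec (fun _ => ℕ) (@Bool.rec (fun _ => ℕ) (t4277_4279 i) (t4279_4281 i) (Nat.ble (nat_lit 4279) i)) (@Bool.rec (fun _ => ℕ) (t4281_4283 i) (t4283_4286 i) (Nat.ble (nat_lit 4283) i)) (Nat.ble (nat_lit 4281) i)) (@Bool.rec (fun _ => ℕ) (@Bool.rec (fun _ => ℕ) (t4286_4288 i) (t4288_4290 i) (Nat.ble (nat_lit 4288) i)) (@Bool.rec (fun _ => ℕ) (t4290_4292 i) (t4292_4295 i) (Nat.ble (nat_lit 4292) i)) (Nat.ble (nat_lit 4290) i)) (Nat.ble (nat_lit 4286) i))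
noncomputable def t4295_4297 (i : ℕ) : ℕ := (@Bool.rec (fun _ => ℕ) l4295 l4296 (Nat.ble (nat_lit 4296) i))
noncomputable def t4297_4299 (i : ℕ) : ℕ := (@Bool.rec (fun _ => ℕ) l4297 l4298 (Nat.ble (nat_lit 4298) i))
noncomputable def t4299_4301 (i : ℕ) : ℕ := (@Bool.rec (fun _ => ℕ) l4299 l4300 (Nat.ble (nat_lit 4300) i))
noncomputable def t4301_4304 (i : ℕ) : ℕ := (@Bool.rec (fun _ => ℕ) l4301 (@Bool.rec (fun _ => ℕ) l4302 l4303 (Nat.ble (nat_lit 4303) i)) (Nat.ble (nat_lit 4302) i))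
noncomputable def t4304_4306 (i : ℕ) : ℕ := (@Bool.rec (fun _ => ℕ) l4304 l4305 (Nat.ble (nat_lit 4305) i))
noncomputable def t4306_4309 (i : ℕ) : ℕ := (@Bool.rec (fun _ => ℕ) l4306 (@Bool.rec (fun _ => ℕ) l4307 l4308 (Nat.ble (nat_lit 4308) i)) (Nat.ble (nat_lit 4307) i))
noncomputable def t4309_4311 (i : ℕ) : ℕ := (@Bool.rec (fun _ => ℕ) l4309 l4310 (Nat.ble (nat_lit 4310) i))
noncomputable def t4311_4314 (i : ℕ) : ℕ := (@Bool.rec (fun _ => ℕ) l4311 (@Bool.rec (fun _ => ℕ) l4312 l4313 (Nat.ble (nat_lit 4313) i)) (Nat.ble (nat_lit 4312) i))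
noncomputable def t4295_4314 (i : ℕ) : ℕ := (@Bool.rec (fun _ => ℕ) (@Bool.rec (fun _ => ℕ) (@Bool.rec (fun _ => ℕ) (t4295_4297 i) (t4297_4299 i) (Nat.ble (nat_lit 4297) i)) (@Bool.rec (fun _ => ℕ) (t4299_4301 i) (t4301_4304 i) (Nat.ble (nat_lit 4301) i)) (Nat.ble (nat_lit 4299) i)) (@Bool.rec (fun _ => ℕ) (@Bool.rec (fun _ => ℕ) (t4304_4306 i) (t4306_4309 i) (Nat.ble (nat_lit 4306) i)) (@Bool.rec (fun _ => ℕ) (t4309_4311 i) (t4311_4314 i) (Nat.ble (nat_lit 4311) i)) (Nat.ble (nat_lit 4309) i)) (Nat.ble (nat_lit 4304) i))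
noncomputable def t4314_4316 (i : ℕ) : ℕ := (@Bool.rec (fun _ => ℕ) l4314 l4315 (Nat.ble (nat_lit 4315) i))
noncomputable def t4316_4318 (i : ℕ) : ℕ := (@Bool.rec (fun _ => ℕ) l4316 l4317 (Nat.ble (nat_lit 4317) i))
noncomputable def t4318_4320 (i : ℕ) : ℕ := (@Bool.rec (fun _ => ℕ) l4318 l4319 (Nat.ble (nat_lit 4319) i))
noncomputable def t4320_4323 (i : ℕ) : ℕ := (@Bool.rec (fun _ => ℕ) l4320 (@Bool.rec (fun _ => ℕ) l4321 l4322 (Nat.ble (nat_lit 4322) i)) (Nat.ble (nat_lit 4321) i))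
noncomputable def t4323_4325 (i : ℕ) : ℕ := (@Bool.rec (fun _ => ℕ) l4323 l4324 (Nat.ble (nat_lit 4324) i))
noncomputable def t4325_4328 (i : ℕ) : ℕ := (@Bool.rec (fun _ => ℕ) l4325 (@Bool.rec (fun _ => ℕ) l4326 l4327 (Nat.ble (nat_lit 4327) i)) (Nat.ble (nat_lit 4326) i))
noncomputable def t4328_4330 (i : ℕ) : ℕ := (@Bool.rec (fun _ => ℕ) l4328 l4329 (Nat.ble (nat_lit 4329) i))
noncomputable def t4330_4333 (i : ℕ) : ℕ := (@Bool.rec (fun _ => ℕ) l4330 (@Bool.rec (fun _ => ℕ) l4331 l4332 (Nat.ble (nat_lit 4332) i)) (Nat.ble (nat_lit 4331) i))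
noncomputable def t4314_4333 (i : ℕ) : ℕ := (@Bool.rec (fun _ => ℕ) (@Bool.rec (fun _ => ℕ) (@Bool.rec (fun _ => ℕ) (t4314_4316 i) (t4316_4318 i) (Nat.ble (nat_lit 4316) i)) (@Bool.rec (fun _ => ℕ) (t4318_4320 i) (t4320_4323 i) (Nat.ble (nat_lit 4320) i)) (Nat.ble (nat_lit 4318) i)) (@Bool.rec (fun _ => ℕ) (@Bool.rec (fun _ => ℕ) (t4323_4325 i) (t4325_4328 i) (Nat.ble (nat_lit 4325) i)) (@Bool.rec (fun _ => ℕ) (t4328_4330 i) (t4330_4333 i) (Nat.ble (nat_lit 4330) i)) (Nat.ble (nat_lit 4328) i)) (Nat.ble (nat_lit 4323) i))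
noncomputable def t4333_4335 (i : ℕ) : ℕ := (@Bool.rec (fun _ => ℕ) l4333 l4334 (Nat.ble (nat_lit 4334) i))
noncomputable def t4335_4337 (i : ℕ) : ℕ := (@Bool.rec (fun _ => ℕ) l4335 l4336 (Nat.ble (nat_lit 4336) i))
noncomputable def t4337_4339 (i : ℕ) : ℕ := (@Bool.rec (fun _ => ℕ) l4337 l4338 (Nat.ble (nat_lit 4338) i))
noncomputable def t4339_4342 (i : ℕ) : ℕ := (@Bool.rec (fun _ => ℕ) l4339 (@Bool.rec (fun _ => ℕ) l4340 l4341 (Nat.ble (nat_lit 4341) i)) (Nat.ble (nat_lit 4340) i))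
noncomputable def t4342_4344 (i : ℕ) : ℕ := (@Bool.rec (fun _ => ℕ) l4342 l4343 (Nat.ble (nat_lit 4343) i))
noncomputable def t4344_4347 (i : ℕ) : ℕ := (@Bool.rec (fun _ => ℕ) l4344 (@Bool.rec (fun _ => ℕ) l4345 l4346 (Nat.ble (nat_lit 4346) i)) (Nat.ble (nat_lit 4345) i))
noncomputable def t4347_4349 (i : ℕ) : ℕ := (@Bool.rec (fun _ => ℕ) l4347 l4348 (Nat.ble (nat_lit 4348) i))
noncomputable def t4349_4352 (i : ℕ) : ℕ := (@Bool.rec (fun _ => ℕ) l4349 (@Bool.rec (fun _ => ℕ) l4350 l4351 (Nat.ble (nat_lit 4351) i)) (Nat.ble (nat_lit 4350) i))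
noncomputable def t4333_4352 (i : ℕ) : ℕ := (@Bool.rec (fun _ => ℕ) (@Bool.rec (fun _ => ℕ) (@Bool.rec (fun _ => ℕ) (t4333_4335 i) (t4335_4337 i) (Nat.ble (nat_lit 4335) i)) (@Bool.rec (fun _ => ℕ) (t4337_4339 i) (t4339_4342 i) (Nat.ble (nat_lit 4339) i)) (Nat.ble (nat_lit 4337) i)) (@Bool.rec (fun _ => ℕ) (@Bool.rec (fun _ => ℕ) (t4342_4344 i) (t4344_4347 i) (Nat.ble (nat_lit 4344) i)) (@Bool.rec (fun _ => ℕ) (t4347_4349 i) (t4349_4352 i) (Nat.ble (nat_lit 4349) i)) (Nat.ble (nat_lit 4347) i)) (Nat.ble (nat_lit 4342) i))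
noncomputable def t4202_4352 (i : ℕ) : ℕ := (@Bool.rec (fun _ => ℕ) (@Bool.rec (fun _ => ℕ) (@Bool.rec (fun _ => ℕ) (t4202_4220 i) (t4220_4239 i) (Nat.ble (nat_lit 4220) i)) (@Bool.rec (fun _ => ℕ) (t4239_4258 i) (t4258_4277 i) (Nat.ble (nat_lit 4258) i)) (Nat.ble (nat_lit 4239) i)) (@Bool.rec (fun _ => ℕ) (@Bool.rec (fun _ => ℕ) (t4277_4295 i) (t4295_4314 i) (Nat.ble (nat_lit 4295) i)) (@Bool.rec (fun _ => ℕ) (t4314_4333 i) (t4333_4352 i) (Nat.ble (nat_lit 4333) i)) (Nat.ble (nat_lit 4314) i)) (Nat.ble (nat_lit 4277) i))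
noncomputable def t4352_4354 (i : ℕ) : ℕ := (@Bool.rec (fun _ => ℕ) l4352 l4353 (Nat.ble (nat_lit 4353) i))
noncomputable def t4354_4356 (i : ℕ) : ℕ := (@Bool.rec (fun _ => ℕ) l4354 l4355 (Nat.ble (nat_lit 4355) i))
noncomputable def t4356_4358 (i : ℕ) : ℕ := (@Bool.rec (fun _ => ℕ) l4356 l4357 (Nat.ble (nat_lit 4357) i))
noncomputable def t4358_4361 (i : ℕ) : ℕ := (@Bool.rec (fun _ => ℕ) l4358 (@Bool.rec (fun _ => ℕ) l4359 l4360 (Nat.ble (nat_lit 4360) i)) (Nat.ble (nat_lit 4359) i))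
noncomputable def t4361_4363 (i : ℕ) : ℕ := (@Bool.rec (fun _ => ℕ) l4361 l4362 (Nat.ble (nat_lit 4362) i))
noncomputable def t4363_4365 (i : ℕ) : ℕ := (@Bool.rec (fun _ => ℕ) l4363 l4364 (Nat.ble (nat_lit 4364) i))
noncomputable def t4365_4367 (i : ℕ) : ℕ := (@Bool.rec (fun _ => ℕ) l4365 l4366 (Nat.ble (nat_lit 4366) i))
noncomputable def t4367_4370 (i : ℕ) : ℕ := (@Bool.rec (fun _ => ℕ) l4367 (@Bool.rec (fun _ => ℕ) l4368 l4369 (Nat.ble (nat_lit 4369) i)) (Nat.ble (nat_lit 4368) i))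
noncomputable def t4352_4370 (i : ℕ) : ℕ := (@Bool.rec (fun _ => ℕ) (@Bool.rec (fun _ => ℕ) (@Bool.rec (fun _ => ℕ) (t4352_4354 i) (t4354_4356 i) (Nat.ble (nat_lit 4354) i)) (@Bool.rec (fun _ => ℕ) (t4356_4358 i) (t4358_4361 i) (Nat.ble (nat_lit 4358) i)) (Nat.ble (nat_lit 4356) i)) (@Bool.rec (fun _ => ℕ) (@Bool.rec (fun _ => ℕ) (t4361_4363 i) (t4363_4365 i) (Nat.ble (nat_lit 4363) i)) (@Bool.rec (fun _ => ℕ) (t4365_4367 i) (t4367_4370 i) (Nat.ble (nat_lit 4367) i)) (Nat.ble (nat_lit 4365) i)) (Nat.ble (nat_lit 4361) i))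
noncomputable def t4370_4372 (i : ℕ) : ℕ := (@Bool.rec (fun _ => ℕ) l4370 l4371 (Nat.ble (nat_lit 4371) i))
noncomputable def t4372_4374 (i : ℕ) : ℕ := (@Bool.rec (fun _ => ℕ) l4372 l4373 (Nat.ble (nat_lit 4373) i))
noncomputable def t4374_4376 (i : ℕ) : ℕ := (@Bool.rec (fun _ => ℕ) l4374 l4375 (Nat.ble (nat_lit 4375) i))
noncomputable def t4376_4379 (i : ℕ) : ℕ := (@Bool.rec (fun _ => ℕ) l4376 (@Bool.rec (fun _ => ℕ) l4377 l4378 (Nat.ble (nat_lit 4378) i)) (Nat.ble (nat_lit 4377) i))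
noncomputable def t4379_4381 (i : ℕ) : ℕ := (@Bool.rec (fun _ => ℕ) l4379 l4380 (Nat.ble (nat_lit 4380) i))
noncomputable def t4381_4384 (i : ℕ) : ℕ := (@Bool.rec (fun _ => ℕ) l4381 (@Bool.rec (fun _ => ℕ) l4382 l4383 (Nat.ble (nat_lit 4383) i)) (Nat.ble (nat_lit 4382) i))
noncomputable def t4384_4386 (i : ℕ) : ℕ := (@Bool.rec (fun _ => ℕ) l4384 l4385 (Nat.ble (nat_lit 4385) i))
noncomputable def t4386_4389 (i : ℕ) : ℕ := (@Bool.rec (fun _ => ℕ) l4386 (@Bool.rec (fun _ => ℕ) l4387 l4388 (Nat.ble (nat_lit 4388) i)) (Nat.ble (nat_lit 4387) i))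
noncomputable def t4370_4389 (i : ℕ) : ℕ := (@Bool.rec (fun _ => ℕ) (@Bool.rec (fun _ => ℕ) (@Bool.rec (fun _ => ℕ) (t4370_4372 i) (t4372_4374 i) (Nat.ble (nat_lit 4372) i)) (@Bool.rec (fun _ => ℕ) (t4374_4376 i) (t4376_4379 i) (Nat.ble (nat_lit 4376) i)) (Nat.ble (nat_lit 4374) i)) (@Bool.rec (fun _ => ℕ) (@Bool.rec (fun _ => ℕ) (t4379_4381 i) (t4381_4384 i) (Nat.ble (nat_lit 4381) i)) (@Bool.rec (fun _ => ℕ) (t4384_4386 i) (t4386_4389 i) (Nat.ble (nat_lit 4386) i)) (Nat.ble (nat_lit 4384) i)) (Nat.ble (nat_lit 4379) i))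
noncomputable def t4389_4391 (i : ℕ) : ℕ := (@Bool.rec (fun _ => ℕ) l4389 l4390 (Nat.ble (nat_lit 4390) i))
noncomputable def t4391_4393 (i : ℕ) : ℕ := (@Bool.rec (fun _ => ℕ) l4391 l4392 (Nat.ble (nat_lit 4392) i))
noncomputable def t4393_4395 (i : ℕ) : ℕ := (@Bool.rec (fun _ => ℕ) l4393 l4394 (Nat.ble (nat_lit 4394) i))
noncomputable def t4395_4398 (i : ℕ) : ℕ := (@Bool.rec (fun _ => ℕ) l4395 (@Bool.rec (fun _ => ℕ) l4396 l4397 (Nat.ble (nat_lit 4397) i)) (Nat.ble (nat_lit 4396) i))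
noncomputable def t4398_4400 (i : ℕ) : ℕ := (@Bool.rec (fun _ => ℕ) l4398 l4399 (Nat.ble (nat_lit 4399) i))
noncomputable def t4400_4403 (i : ℕ) : ℕ := (@Bool.rec (fun _ => ℕ) l4400 (@Bool.rec (fun _ => ℕ) l4401 l4402 (Nat.ble (nat_lit 4402) i)) (Nat.ble (nat_lit 4401) i))
noncomputable def t4403_4405 (i : ℕ) : ℕ := (@Bool.rec (fun _ => ℕ) l4403 l4404 (Nat.ble (nat_lit 4404) i))
noncomputable def t4405_4408 (i : ℕ) : ℕ := (@Bool.rec (fun _ => ℕ) l4405 (@Bool.rec (fun _ => ℕ) l4406 l4407 (Nat.ble (nat_lit 4407) i)) (Nat.ble (nat_lit 4406) i))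
noncomputable def t4389_4408 (i : ℕ) : ℕ := (@Bool.rec (fun _ => ℕ) (@Bool.rec (fun _ => ℕ) (@Bool.rec (fun _ => ℕ) (t4389_4391 i) (t4391_4393 i) (Nat.ble (nat_lit 4391) i)) (@Bool.rec (fun _ => ℕ) (t4393_4395 i) (t4395_4398 i) (Nat.ble (nat_lit 4395) i)) (Nat.ble (nat_lit 4393) i)) (@Bool.rec (fun _ => ℕ) (@Bool.rec (fun _ => ℕ) (t4398_4400 i) (t4400_4403 i) (Nat.ble (nat_lit 4400) i)) (@Bool.rec (fun _ => ℕ) (t4403_4405 i) (t4405_4408 i) (Nat.ble (nat_lit 4405) i)) (Nat.ble (nat_lit 4403) i)) (Nat.ble (nat_lit 4398) i))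
noncomputable def t4408_4410 (i : ℕ) : ℕ := (@Bool.rec (fun _ => ℕ) l4408 l4409 (Nat.ble (nat_lit 4409) i))
noncomputable def t4410_4412 (i : ℕ) : ℕ := (@Bool.rec (fun _ => ℕ) l4410 l4411 (Nat.ble (nat_lit 4411) i))
noncomputable def t4412_4414 (i : ℕ) : ℕ := (@Bool.rec (fun _ => ℕ) l4412 l4413 (Nat.ble (nat_lit 4413) i))
noncomputable def t4414_4417 (i : ℕ) : ℕ := (@Bool.rec (fun _ => ℕ) l4414 (@Bool.rec (fun _ => ℕ) l4415 l4416 (Nat.ble (nat_lit 4416) i)) (Nat.ble (nat_lit 4415) i))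
noncomputable def t4417_4419 (i : ℕ) : ℕ := (@Bool.rec (fun _ => ℕ) l4417 l4418 (Nat.ble (nat_lit 4418) i))
noncomputable def t4419_4422 (i : ℕ) : ℕ := (@Bool.rec (fun _ => ℕ) l4419 (@Bool.rec (fun _ => ℕ) l4420 l4421 (Nat.ble (nat_lit 4421) i)) (Nat.ble (nat_lit 4420) i))
noncomputable def t4422_4424 (i : ℕ) : ℕ := (@Bool.rec (fun _ => ℕ) l4422 l4423 (Nat.ble (nat_lit 4423) i))
noncomputable def t4424_4427 (i : ℕ) : ℕ := (@Bool.rec (fun _ => ℕ) l4424 (@Bool.rec (fun _ => ℕ) l4425 l4426 (Nat.ble (nat_lit 4426) i)) (Nat.ble (nat_lit 4425) i))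
noncomputable def t4408_4427 (i : ℕ) : ℕ := (@Bool.rec (fun _ => ℕ) (@Bool.rec (fun _ => ℕ) (@Bool.rec (fun _ => ℕ) (t4408_4410 i) (t4410_4412 i) (Nat.ble (nat_lit 4410) i)) (@Bool.rec (fun _ => ℕ) (t4412_4414 i) (t4414_4417 i) (Nat.ble (nat_lit 4414) i)) (Nat.ble (nat_lit 4412) i)) (@Bool.rec (fun _ => ℕ) (@Bool.rec (fun _ => ℕ) (t4417_4419 i) (t4419_4422 i) (Nat.ble (nat_lit 4419) i)) (@Bool.rec (fun _ => ℕ) (t4422_4424 i) (t4424_4427 i) (Nat.ble (nat_lit 4424) i)) (Nat.ble (nat_lit 4422) i)) (Nat.ble (nat_lit 4417) i))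
noncomputable def t4427_4429 (i : ℕ) : ℕ := (@Bool.rec (fun _ => ℕ) l4427 l4428 (Nat.ble (nat_lit 4428) i))
noncomputable def t4429_4431 (i : ℕ) : ℕ := (@Bool.rec (fun _ => ℕ) l4429 l4430 (Nat.ble (nat_lit 4430) i))
noncomputable def t4431_4433 (i : ℕ) : ℕ := (@Bool.rec (fun _ => ℕ) l4431 l4432 (Nat.ble (nat_lit 4432) i))
noncomputable def t4433_4436 (i : ℕ) : ℕ := (@Bool.rec (fun _ => ℕ) l4433 (@Bool.rec (fun _ => ℕ) l4434 l4435 (Nat.ble (nat_lit 4435) i)) (Nat.ble (nat_lit 4434) i))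
noncomputable def t4436_4438 (i : ℕ) : ℕ := (@Bool.rec (fun _ => ℕ) l4436 l4437 (Nat.ble (nat_lit 4437) i))
noncomputable def t4438_4440 (i : ℕ) : ℕ := (@Bool.rec (fun _ => ℕ) l4438 l4439 (Nat.ble (nat_lit 4439) i))
noncomputable def t4440_4442 (i : ℕ) : ℕ := (@Bool.rec (fun _ => ℕ) l4440 l4441 (Nat.ble (nat_lit 4441) i))
noncomputable def t4442_4445 (i : ℕ) : ℕ := (@Bool.rec (fun _ => ℕ) l4442 (@Bool.rec (fun _ => ℕ) l4443 l4444 (Nat.ble (nat_lit 4444) i)) (Nat.ble (nat_lit 4443) i))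
noncomputable def t4427_4445 (i : ℕ) : ℕ := (@Bool.rec (fun _ => ℕ) (@Bool.rec (fun _ => ℕ) (@Bool.rec (fun _ => ℕ) (t4427_4429 i) (t4429_4431 i) (Nat.ble (nat_lit 4429) i)) (@Bool.rec (fun _ => ℕ) (t4431_4433 i) (t4433_4436 i) (Nat.ble (nat_lit 4433) i)) (Nat.ble (nat_lit 4431) i)) (@Bool.rec (fun _ => ℕ) (@Bool.rec (fun _ => ℕ) (t4436_4438 i) (t4438_4440 i) (Nat.ble (nat_lit 4438) i)) (@Bool.rec (fun _ => ℕ) (t4440_4442 i) (t4442_4445 i) (Nat.ble (nat_lit 4442) i)) (Nat.ble (nat_lit 4440) i)) (Nat.ble (nat_lit 4436) i))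
noncomputable def t4445_4447 (i : ℕ) : ℕ := (@Bool.rec (fun _ => ℕ) l4445 l4446 (Nat.ble (nat_lit 4446) i))
noncomputable def t4447_4449 (i : ℕ) : ℕ := (@Bool.rec (fun _ => ℕ) l4447 l4448 (Nat.ble (nat_lit 4448) i))
noncomputable def t4449_4451 (i : ℕ) : ℕ := (@Bool.rec (fun _ => ℕ) l4449 l4450 (Nat.ble (nat_lit 4450) i))
noncomputable def t4451_4454 (i : ℕ) : ℕ := (@Bool.rec (fun _ => ℕ) l4451 (@Bool.rec (fun _ => ℕ) l4452 l4453 (Nat.ble (nat_lit 4453) i)) (Nat.ble (nat_lit 4452) i))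
noncomputable def t4454_4456 (i : ℕ) : ℕ := (@Bool.rec (fun _ => ℕ) l4454 l4455 (Nat.ble (nat_lit 4455) i))
noncomputable def t4456_4459 (i : ℕ) : ℕ := (@Bool.rec (fun _ => ℕ) l4456 (@Bool.rec (fun _ => ℕ) l4457 l4458 (Nat.ble (nat_lit 4458) i)) (Nat.ble (nat_lit 4457) i))
noncomputable def t4459_4461 (i : ℕ) : ℕ := (@Bool.rec (fun _ => ℕ) l4459 l4460 (Nat.ble (nat_lit 4460) i))
noncomputable def t4461_4464 (i : ℕ) : ℕ := (@Bool.rec (fun _ => ℕ) l4461 (@Bool.rec (fun _ => ℕ) l4462 l4463 (Nat.ble (nat_lit 4463) i)) (Nat.ble (nat_lit 4462) i))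
noncomputable def t4445_4464 (i : ℕ) : ℕ := (@Bool.rec (fun _ => ℕ) (@Bool.rec (fun _ => ℕ) (@Bool.rec (fun _ => ℕ) (t4445_4447 i) (t4447_4449 i) (Nat.ble (nat_lit 4447) i)) (@Bool.rec (fun _ => ℕ) (t4449_4451 i) (t4451_4454 i) (Nat.ble (nat_lit 4451) i)) (Nat.ble (nat_lit 4449) i)) (@Bool.rec (fun _ => ℕ) (@Bool.rec (fun _ => ℕ) (t4454_4456 i) (t4456_4459 i) (Nat.ble (nat_lit 4456) i)) (@Bool.rec (fun _ => ℕ) (t4459_4461 i) (t4461_4464 i) (Nat.ble (nat_lit 4461) i)) (Nat.ble (nat_lit 4459) i)) (Nat.ble (nat_lit 4454) i))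
noncomputable def t4464_4466 (i : ℕ) : ℕ := (@Bool.rec (fun _ => ℕ) l4464 l4465 (Nat.ble (nat_lit 4465) i))
noncomputable def t4466_4468 (i : ℕ) : ℕ := (@Bool.rec (fun _ => ℕ) l4466 l4467 (Nat.ble (nat_lit 4467) i))
noncomputable def t4468_4470 (i : ℕ) : ℕ := (@Bool.rec (fun _ => ℕ) l4468 l4469 (Nat.ble (nat_lit 4469) i))
noncomputable def t4470_4473 (i : ℕ) : ℕ := (@Bool.rec (fun _ => ℕ) l4470 (@Bool.rec (fun _ => ℕ) l4471 l4472 (Nat.ble (nat_lit 4472) i)) (Nat.ble (nat_lit 4471) i))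
noncomputable def t4473_4475 (i : ℕ) : ℕ := (@Bool.rec (fun _ => ℕ) l4473 l4474 (Nat.ble (nat_lit 4474) i))
noncomputable def t4475_4478 (i : ℕ) : ℕ := (@Bool.rec (fun _ => ℕ) l4475 (@Bool.rec (fun _ => ℕ) l4476 l4477 (Nat.ble (nat_lit 4477) i)) (Nat.ble (nat_lit 4476) i))
noncomputable def t4478_4480 (i : ℕ) : ℕ := (@Bool.rec (fun _ => ℕ) l4478 l4479 (Nat.ble (nat_lit 4479) i))
noncomputable def t4480_4483 (i : ℕ) : ℕ := (@Bool.rec (fun _ => ℕ) l4480 (@Bool.rec (fun _ => ℕ) l4481 l4482 (Nat.ble (nat_lit 4482) i)) (Nat.ble (nat_lit 4481) i))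
noncomputable def t4464_4483 (i : ℕ) : ℕ := (@Bool.rec (fun _ => ℕ) (@Bool.rec (fun _ => ℕ) (@Bool.rec (fun _ => ℕ) (t4464_4466 i) (t4466_4468 i) (Nat.ble (nat_lit 4466) i)) (@Bool.rec (fun _ => ℕ) (t4468_4470 i) (t4470_4473 i) (Nat.ble (nat_lit 4470) i)) (Nat.ble (nat_lit 4468) i)) (@Bool.rec (fun _ => ℕ) (@Bool.rec (fun _ => ℕ) (t4473_4475 i) (t4475_4478 i) (Nat.ble (nat_lit 4475) i)) (@Bool.rec (fun _ => ℕ) (t4478_4480 i) (t4480_4483 i) (Nat.ble (nat_lit 4480) i)) (Nat.ble (nat_lit 4478) i)) (Nat.ble (nat_lit 4473) i))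
noncomputable def t4483_4485 (i : ℕ) : ℕ := (@Bool.rec (fun _ => ℕ) l4483 l4484 (Nat.ble (nat_lit 4484) i))
noncomputable def t4485_4487 (i : ℕ) : ℕ := (@Bool.rec (fun _ => ℕ) l4485 l4486 (Nat.ble (nat_lit 4486) i))
noncomputable def t4487_4489 (i : ℕ) : ℕ := (@Bool.rec (fun _ => ℕ) l4487 l4488 (Nat.ble (nat_lit 4488) i))
noncomputable def t4489_4492 (i : ℕ) : ℕ := (@Bool.rec (fun _ => ℕ) l4489 (@Bool.rec (fun _ => ℕ) l4490 l4491 (Nat.ble (nat_lit 4491) i)) (Nat.ble (nat_lit 4490) i))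
noncomputable def t4492_4494 (i : ℕ) : ℕ := (@Bool.rec (fun _ => ℕ) l4492 l4493 (Nat.ble (nat_lit 4493) i))
noncomputable def t4494_4497 (i : ℕ) : ℕ := (@Bool.rec (fun _ => ℕ) l4494 (@Bool.rec (fun _ => ℕ) l4495 l4496 (Nat.ble (nat_lit 4496) i)) (Nat.ble (nat_lit 4495) i))
noncomputable def t4497_4499 (i : ℕ) : ℕ := (@Bool.rec (fun _ => ℕ) l4497 l4498 (Nat.ble (nat_lit 4498) i))
noncomputable def t4499_4502 (i : ℕ) : ℕ := (@Bool.rec (fun _ => ℕ) l4499 (@Bool.rec (fun _ => ℕ) l4500 l4501 (Nat.ble (nat_lit 4501) i)) (Nat.ble (nat_lit 4500) i))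
noncomputable def t4483_4502 (i : ℕ) : ℕ := (@Bool.rec (fun _ => ℕ) (@Bool.rec (fun _ => ℕ) (@Bool.rec (fun _ => ℕ) (t4483_4485 i) (t4485_4487 i) (Nat.ble (nat_lit 4485) i)) (@Bool.rec (fun _ => ℕ) (t4487_4489 i) (t4489_4492 i) (Nat.ble (nat_lit 4489) i)) (Nat.ble (nat_lit 4487) i)) (@Bool.rec (fun _ => ℕ) (@Bool.rec (fun _ => ℕ) (t4492_4494 i) (t4494_4497 i) (Nat.ble (nat_lit 4494) i)) (@Bool.rec (fun _ => ℕ) (t4497_4499 i) (t4499_4502 i) (Nat.ble (nat_lit 4499) i)) (Nat.ble (nat_lit 4497) i)) (Nat.ble (nat_lit 4492) i))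
noncomputable def t4352_4502 (i : ℕ) : ℕ := (@Bool.rec (fun _ => ℕ) (@Bool.rec (fun _ => ℕ) (@Bool.rec (fun _ => ℕ) (t4352_4370 i) (t4370_4389 i) (Nat.ble (nat_lit 4370) i)) (@Bool.rec (fun _ => ℕ) (t4389_4408 i) (t4408_4427 i) (Nat.ble (nat_lit 4408) i)) (Nat.ble (nat_lit 4389) i)) (@Bool.rec (fun _ => ℕ) (@Bool.rec (fun _ => ℕ) (t4427_4445 i) (t4445_4464 i) (Nat.ble (nat_lit 4445) i)) (@Bool.rec (fun _ => ℕ) (t4464_4483 i) (t4483_4502 i) (Nat.ble (nat_lit 4483) i)) (Nat.ble (nat_lit 4464) i)) (Nat.ble (nat_lit 4427) i))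
noncomputable def t4502_4504 (i : ℕ) : ℕ := (@Bool.rec (fun _ => ℕ) l4502 l4503 (Nat.ble (nat_lit 4503) i))
noncomputable def t4504_4506 (i : ℕ) : ℕ := (@Bool.rec (fun _ => ℕ) l4504 l4505 (Nat.ble (nat_lit 4505) i))
noncomputable def t4506_4508 (i : ℕ) : ℕ := (@Bool.rec (fun _ => ℕ) l4506 l4507 (Nat.ble (nat_lit 4507) i))
noncomputable def t4508_4511 (i : ℕ) : ℕ := (@Bool.rec (fun _ => ℕ) l4508 (@Bool.rec (fun _ => ℕ) l4509 l4510 (Nat.ble (nat_lit 4510) i)) (Nat.ble (nat_lit 4509) i))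
noncomputable def t4511_4513 (i : ℕ) : ℕ := (@Bool.rec (fun _ => ℕ) l4511 l4512 (Nat.ble (nat_lit 4512) i))
noncomputable def t4513_4515 (i : ℕ) : ℕ := (@Bool.rec (fun _ => ℕ) l4513 l4514 (Nat.ble (nat_lit 4514) i))
noncomputable def t4515_4517 (i : ℕ) : ℕ := (@Bool.rec (fun _ => ℕ) l4515 l4516 (Nat.ble (nat_lit 4516) i))
noncomputable def t4517_4520 (i : ℕ) : ℕ := (@Bool.rec (fun _ => ℕ) l4517 (@Bool.rec (fun _ => ℕ) l4518 l4519 (Nat.ble (nat_lit 4519) i)) (Nat.ble (nat_lit 4518) i))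
noncomputable def t4502_4520 (i : ℕ) : ℕ := (@Bool.rec (fun _ => ℕ) (@Bool.rec (fun _ => ℕ) (@Bool.rec (fun _ => ℕ) (t4502_4504 i) (t4504_4506 i) (Nat.ble (nat_lit 4504) i)) (@Bool.rec (fun _ => ℕ) (t4506_4508 i) (t4508_4511 i) (Nat.ble (nat_lit 4508) i)) (Nat.ble (nat_lit 4506) i)) (@Bool.rec (fun _ => ℕ) (@Bool.rec (fun _ => ℕ) (t4511_4513 i) (t4513_4515 i) (Nat.ble (nat_lit 4513) i)) (@Bool.rec (fun _ => ℕ) (t4515_4517 i) (t4517_4520 i) (Nat.ble (nat_lit 4517) i)) (Nat.ble (nat_lit 4515) i)) (Nat.ble (nat_lit 4511) i))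
noncomputable def t4520_4522 (i : ℕ) : ℕ := (@Bool.rec (fun _ => ℕ) l4520 l4521 (Nat.ble (nat_lit 4521) i))
noncomputable def t4522_4524 (i : ℕ) : ℕ := (@Bool.rec (fun _ => ℕ) l4522 l4523 (Nat.ble (nat_lit 4523) i))
noncomputable def t4524_4526 (i : ℕ) : ℕ := (@Bool.rec (fun _ => ℕ) l4524 l4525 (Nat.ble (nat_lit 4525) i))
noncomputable def t4526_4529 (i : ℕ) : ℕ := (@Bool.rec (fun _ => ℕ) l4526 (@Bool.rec (fun _ => ℕ) l4527 l4528 (Nat.ble (nat_lit 4528) i)) (Nat.ble (nat_lit 4527) i))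
noncomputable def t4529_4531 (i : ℕ) : ℕ := (@Bool.rec (fun _ => ℕ) l4529 l4530 (Nat.ble (nat_lit 4530) i))
noncomputable def t4531_4534 (i : ℕ) : ℕ := (@Bool.rec (fun _ => ℕ) l4531 (@Bool.rec (fun _ => ℕ) l4532 l4533 (Nat.ble (nat_lit 4533) i)) (Nat.ble (nat_lit 4532) i))
noncomputable def t4534_4536 (i : ℕ) : ℕ := (@Bool.rec (fun _ => ℕ) l4534 l4535 (Nat.ble (nat_lit 4535) i))
noncomputable def t4536_4539 (i : ℕ) : ℕ := (@Bool.rec (fun _ => ℕ) l4536 (@Bool.rec (fun _ => ℕ) l4537 l4538 (Nat.ble (nat_lit 4538) i)) (Nat.ble (nat_lit 4537) i))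
noncomputable def t4520_4539 (i : ℕ) : ℕ := (@Bool.rec (fun _ => ℕ) (@Bool.rec (fun _ => ℕ) (@Bool.rec (fun _ => ℕ) (t4520_4522 i) (t4522_4524 i) (Nat.ble (nat_lit 4522) i)) (@Bool.rec (fun _ => ℕ) (t4524_4526 i) (t4526_4529 i) (Nat.ble (nat_lit 4526) i)) (Nat.ble (nat_lit 4524) i)) (@Bool.rec (fun _ => ℕ) (@Bool.rec (fun _ => ℕ) (t4529_4531 i) (t4531_4534 i) (Nat.ble (nat_lit 4531) i)) (@Bool.rec (fun _ => ℕ) (t4534_4536 i) (t4536_4539 i) (Nat.ble (nat_lit 4536) i)) (Nat.ble (nat_lit 4534) i)) (Nat.ble (nat_lit 4529) i))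
noncomputable def t4539_4541 (i : ℕ) : ℕ := (@Bool.rec (fun _ => ℕ) l4539 l4540 (Nat.ble (nat_lit 4540) i))
noncomputable def t4541_4543 (i : ℕ) : ℕ := (@Bool.rec (fun _ => ℕ) l4541 l4542 (Nat.ble (nat_lit 4542) i))
noncomputable def t4543_4545 (i : ℕ) : ℕ := (@Bool.rec (fun _ => ℕ) l4543 l4544 (Nat.ble (nat_lit 4544) i))
noncomputable def t4545_4548 (i : ℕ) : ℕ := (@Bool.rec (fun _ => ℕ) l4545 (@Bool.rec (fun _ => ℕ) l4546 l4547 (Nat.ble (nat_lit 4547) i)) (Nat.ble (nat_lit 4546) i))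
noncomputable def t4548_4550 (i : ℕ) : ℕ := (@Bool.rec (fun _ => ℕ) l4548 l4549 (Nat.ble (nat_lit 4549) i))
noncomputable def t4550_4553 (i : ℕ) : ℕ := (@Bool.rec (fun _ => ℕ) l4550 (@Bool.rec (fun _ => ℕ) l4551 l4552 (Nat.ble (nat_lit 4552) i)) (Nat.ble (nat_lit 4551) i))
noncomputable def t4553_4555 (i : ℕ) : ℕ := (@Bool.rec (fun _ => ℕ) l4553 l4554 (Nat.ble (nat_lit 4554) i))
noncomputable def t4555_4558 (i : ℕ) : ℕ := (@Bool.rec (fun _ => ℕ) l4555 (@Bool.rec (fun _ => ℕ) l4556 l4557 (Nat.ble (nat_lit 4557) i)) (Nat.ble (nat_lit 4556) i))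
noncomputable def t4539_4558 (i : ℕ) : ℕ := (@Bool.rec (fun _ => ℕ) (@Bool.rec (fun _ => ℕ) (@Bool.rec (fun _ => ℕ) (t4539_4541 i) (t4541_4543 i) (Nat.ble (nat_lit 4541) i)) (@Bool.rec (fun _ => ℕ) (t4543_4545 i) (t4545_4548 i) (Nat.ble (nat_lit 4545) i)) (Nat.ble (nat_lit 4543) i)) (@Bool.rec (fun _ => ℕ) (@Bool.rec (fun _ => ℕ) (t4548_4550 i) (t4550_4553 i) (Nat.ble (nat_lit 4550) i)) (@Bool.rec (fun _ => ℕ) (t4553_4555 i) (t4555_4558 i) (Nat.ble (nat_lit 4555) i)) (Nat.ble (nat_lit 4553) i)) (Nat.ble (nat_lit 4548) i))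
noncomputable def t4558_4560 (i : ℕ) : ℕ := (@Bool.rec (fun _ => ℕ) l4558 l4559 (Nat.ble (nat_lit 4559) i))
noncomputable def t4560_4562 (i : ℕ) : ℕ := (@Bool.rec (fun _ => ℕ) l4560 l4561 (Nat.ble (nat_lit 4561) i))
noncomputable def t4562_4564 (i : ℕ) : ℕ := (@Bool.rec (fun _ => ℕ) l4562 l4563 (Nat.ble (nat_lit 4563) i))
noncomputable def t4564_4567 (i : ℕ) : ℕ := (@Bool.rec (fun _ => ℕ) l4564 (@Bool.rec (fun _ => ℕ) l4565 l4566 (Nat.ble (nat_lit 4566) i)) (Nat.ble (nat_lit 4565) i))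
noncomputable def t4567_4569 (i : ℕ) : ℕ := (@Bool.rec (fun _ => ℕ) l4567 l4568 (Nat.ble (nat_lit 4568) i))
noncomputable def t4569_4572 (i : ℕ) : ℕ := (@Bool.rec (fun _ => ℕ) l4569 (@Bool.rec (fun _ => ℕ) l4570 l4571 (Nat.ble (nat_lit 4571) i)) (Nat.ble (nat_lit 4570) i))
noncomputable def t4572_4574 (i : ℕ) : ℕ := (@Bool.rec (fun _ => ℕ) l4572 l4573 (Nat.ble (nat_lit 4573) i))
noncomputable def t4574_4577 (i : ℕ) : ℕ := (@Bool.rec (fun _ => ℕ) l4574 (@Bool.rec (fun _ => ℕ) l4575 l4576 (Nat.ble (nat_lit 4576) i)) (Nat.ble (nat_lit 4575) i))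
noncomputable def t4558_4577 (i : ℕ) : ℕ := (@Bool.rec (fun _ => ℕ) (@Bool.rec (fun _ => ℕ) (@Bool.rec (fun _ => ℕ) (t4558_4560 i) (t4560_4562 i) (Nat.ble (nat_lit 4560) i)) (@Bool.rec (fun _ => ℕ) (t4562_4564 i) (t4564_4567 i) (Nat.ble (nat_lit 4564) i)) (Nat.ble (nat_lit 4562) i)) (@Bool.rec (fun _ => ℕ) (@Bool.rec (fun _ => ℕ) (t4567_4569 i) (t4569_4572 i) (Nat.ble (nat_lit 4569) i)) (@Bool.rec (fun _ => ℕ) (t4572_4574 i) (t4574_4577 i) (Nat.ble (nat_lit 4574) i)) (Nat.ble (nat_lit 4572) i)) (Nat.ble (nat_lit 4567) i))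
noncomputable def t4577_4579 (i : ℕ) : ℕ := (@Bool.rec (fun _ => ℕ) l4577 l4578 (Nat.ble (nat_lit 4578) i))
noncomputable def t4579_4581 (i : ℕ) : ℕ := (@Bool.rec (fun _ => ℕ) l4579 l4580 (Nat.ble (nat_lit 4580) i))
noncomputable def t4581_4583 (i : ℕ) : ℕ := (@Bool.rec (fun _ => ℕ) l4581 l4582 (Nat.ble (nat_lit 4582) i))
noncomputable def t4583_4586 (i : ℕ) : ℕ := (@Bool.rec (fun _ => ℕ) l4583 (@Bool.rec (fun _ => ℕ) l4584 l4585 (Nat.ble (nat_lit 4585) i)) (Nat.ble (nat_lit 4584) i))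
noncomputable def t4586_4588 (i : ℕ) : ℕ := (@Bool.rec (fun _ => ℕ) l4586 l4587 (Nat.ble (nat_lit 4587) i))
noncomputable def t4588_4590 (i : ℕ) : ℕ := (@Bool.rec (fun _ => ℕ) l4588 l4589 (Nat.ble (nat_lit 4589) i))
noncomputable def t4590_4592 (i : ℕ) : ℕ := (@Bool.rec (fun _ => ℕ) l4590 l4591 (Nat.ble (nat_lit 4591) i))
noncomputable def t4592_4595 (i : ℕ) : ℕ := (@Bool.rec (fun _ => ℕ) l4592 (@Bool.rec (fun _ => ℕ) l4593 l4594 (Nat.ble (nat_lit 4594) i)) (Nat.ble (nat_lit 4593) i))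
noncomputable def t4577_4595 (i : ℕ) : ℕ := (@Bool.rec (fun _ => ℕ) (@Bool.rec (fun _ => ℕ) (@Bool.rec (fun _ => ℕ) (t4577_4579 i) (t4579_4581 i) (Nat.ble (nat_lit 4579) i)) (@Bool.rec (fun _ => ℕ) (t4581_4583 i) (t4583_4586 i) (Nat.ble (nat_lit 4583) i)) (Nat.ble (nat_lit 4581) i)) (@Bool.rec (fun _ => ℕ) (@Bool.rec (fun _ => ℕ) (t4586_4588 i) (t4588_4590 i) (Nat.ble (nat_lit 4588) i)) (@Bool.rec (fun _ => ℕ) (t4590_4592 i) (t4592_4595 i) (Nat.ble (nat_lit 4592) i)) (Nat.ble (nat_lit 4590) i)) (Nat.ble (nat_lit 4586) i))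
noncomputable def t4595_4597 (i : ℕ) : ℕ := (@Bool.rec (fun _ => ℕ) l4595 l4596 (Nat.ble (nat_lit 4596) i))
noncomputable def t4597_4599 (i : ℕ) : ℕ := (@Bool.rec (fun _ => ℕ) l4597 l4598 (Nat.ble (nat_lit 4598) i))
noncomputable def t4599_4601 (i : ℕ) : ℕ := (@Bool.rec (fun _ => ℕ) l4599 l4600 (Nat.ble (nat_lit 4600) i))
noncomputable def t4601_4604 (i : ℕ) : ℕ := (@Bool.rec (fun _ => ℕ) l4601 (@Bool.rec (fun _ => ℕ) l4602 l4603 (Nat.ble (nat_lit 4603) i)) (Nat.ble (nat_lit 4602) i))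
noncomputable def t4604_4606 (i : ℕ) : ℕ := (@Bool.rec (fun _ => ℕ) l4604 l4605 (Nat.ble (nat_lit 4605) i))
noncomputable def t4606_4609 (i : ℕ) : ℕ := (@Bool.rec (fun _ => ℕ) l4606 (@Bool.rec (fun _ => ℕ) l4607 l4608 (Nat.ble (nat_lit 4608) i)) (Nat.ble (nat_lit 4607) i))
noncomputable def t4609_4611 (i : ℕ) : ℕ := (@Bool.rec (fun _ => ℕ) l4609 l4610 (Nat.ble (nat_lit 4610) i))
noncomputable def t4611_4614 (i : ℕ) : ℕ := (@Bool.rec (fun _ => ℕ) l4611 (@Bool.rec (fun _ => ℕ) l4612 l4613 (Nat.ble (nat_lit 4613) i)) (Nat.ble (nat_lit 4612) i))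
noncomputable def t4595_4614 (i : ℕ) : ℕ := (@Bool.rec (fun _ => ℕ) (@Bool.rec (fun _ => ℕ) (@Bool.rec (fun _ => ℕ) (t4595_4597 i) (t4597_4599 i) (Nat.ble (nat_lit 4597) i)) (@Bool.rec (fun _ => ℕ) (t4599_4601 i) (t4601_4604 i) (Nat.ble (nat_lit 4601) i)) (Nat.ble (nat_lit 4599) i)) (@Bool.rec (fun _ => ℕ) (@Bool.rec (fun _ => ℕ) (t4604_4606 i) (t4606_4609 i) (Nat.ble (nat_lit 4606) i)) (@Bool.rec (fun _ => ℕ) (t4609_4611 i) (t4611_4614 i) (Nat.ble (nat_lit 4611) i)) (Nat.ble (nat_lit 4609) i)) (Nat.ble (nat_lit 4604) i))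
noncomputable def t4614_4616 (i : ℕ) : ℕ := (@Bool.rec (fun _ => ℕ) l4614 l4615 (Nat.ble (nat_lit 4615) i))
noncomputable def t4616_4618 (i : ℕ) : ℕ := (@Bool.rec (fun _ => ℕ) l4616 l4617 (Nat.ble (nat_lit 4617) i))
noncomputable def t4618_4620 (i : ℕ) : ℕ := (@Bool.rec (fun _ => ℕ) l4618 l4619 (Nat.ble (nat_lit 4619) i))
noncomputable def t4620_4623 (i : ℕ) : ℕ := (@Bool.rec (fun _ => ℕ) l4620 (@Bool.rec (fun _ => ℕ) l4621 l4622 (Nat.ble (nat_lit 4622) i)) (Nat.ble (nat_lit 4621) i))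
noncomputable def t4623_4625 (i : ℕ) : ℕ := (@Bool.rec (fun _ => ℕ) l4623 l4624 (Nat.ble (nat_lit 4624) i))
noncomputable def t4625_4628 (i : ℕ) : ℕ := (@Bool.rec (fun _ => ℕ) l4625 (@Bool.rec (fun _ => ℕ) l4626 l4627 (Nat.ble (nat_lit 4627) i)) (Nat.ble (nat_lit 4626) i))
noncomputable def t4628_4630 (i : ℕ) : ℕ := (@Bool.rec (fun _ => ℕ) l4628 l4629 (Nat.ble (nat_lit 4629) i))
noncomputable def t4630_4633 (i : ℕ) : ℕ := (@Bool.rec (fun _ => ℕ) l4630 (@Bool.rec (fun _ => ℕ) l4631 l4632 (Nat.ble (nat_lit 4632) i)) (Nat.ble (nat_lit 4631) i))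
noncomputable def t4614_4633 (i : ℕ) : ℕ := (@Bool.rec (fun _ => ℕ) (@Bool.rec (fun _ => ℕ) (@Bool.rec (fun _ => ℕ) (t4614_4616 i) (t4616_4618 i) (Nat.ble (nat_lit 4616) i)) (@Bool.rec (fun _ => ℕ) (t4618_4620 i) (t4620_4623 i) (Nat.ble (nat_lit 4620) i)) (Nat.ble (nat_lit 4618) i)) (@Bool.rec (fun _ => ℕ) (@Bool.rec (fun _ => ℕ) (t4623_4625 i) (t4625_4628 i) (Nat.ble (nat_lit 4625) i)) (@Bool.rec (fun _ => ℕ) (t4628_4630 i) (t4630_4633 i) (Nat.ble (nat_lit 4630) i)) (Nat.ble (nat_lit 4628) i)) (Nat.ble (nat_lit 4623) i))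
noncomputable def t4633_4635 (i : ℕ) : ℕ := (@Bool.rec (fun _ => ℕ) l4633 l4634 (Nat.ble (nat_lit 4634) i))
noncomputable def t4635_4637 (i : ℕ) : ℕ := (@Bool.rec (fun _ => ℕ) l4635 l4636 (Nat.ble (nat_lit 4636) i))
noncomputable def t4637_4639 (i : ℕ) : ℕ := (@Bool.rec (fun _ => ℕ) l4637 l4638 (Nat.ble (nat_lit 4638) i))
noncomputable def t4639_4642 (i : ℕ) : ℕ := (@Bool.rec (fun _ => ℕ) l4639 (@Bool.rec (fun _ => ℕ) l4640 l4641 (Nat.ble (nat_lit 4641) i)) (Nat.ble (nat_lit 4640) i))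
noncomputable def t4642_4644 (i : ℕ) : ℕ := (@Bool.rec (fun _ => ℕ) l4642 l4643 (Nat.ble (nat_lit 4643) i))
noncomputable def t4644_4647 (i : ℕ) : ℕ := (@Bool.rec (fun _ => ℕ) l4644 (@Bool.rec (fun _ => ℕ) l4645 l4646 (Nat.ble (nat_lit 4646) i)) (Nat.ble (nat_lit 4645) i))
noncomputable def t4647_4649 (i : ℕ) : ℕ := (@Bool.rec (fun _ => ℕ) l4647 l4648 (Nat.ble (nat_lit 4648) i))
noncomputable def t4649_4652 (i : ℕ) : ℕ := (@Bool.rec (fun _ => ℕ) l4649 (@Bool.rec (fun _ => ℕ) l4650 l4651 (Nat.ble (nat_lit 4651) i)) (Nat.ble (nat_lit 4650) i))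
noncomputable def t4633_4652 (i : ℕ) : ℕ := (@Bool.rec (fun _ => ℕ) (@Bool.rec (fun _ => ℕ) (@Bool.rec (fun _ => ℕ) (t4633_4635 i) (t4635_4637 i) (Nat.ble (nat_lit 4635) i)) (@Bool.rec (fun _ => ℕ) (t4637_4639 i) (t4639_4642 i) (Nat.ble (nat_lit 4639) i)) (Nat.ble (nat_lit 4637) i)) (@Bool.rec (fun _ => ℕ) (@Bool.rec (fun _ => ℕ) (t4642_4644 i) (t4644_4647 i) (Nat.ble (nat_lit 4644) i)) (@Bool.rec (fun _ => ℕ) (t4647_4649 i) (t4649_4652 i) (Nat.ble (nat_lit 4649) i)) (Nat.ble (nat_lit 4647) i)) (Nat.ble (nat_lit 4642) i))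
noncomputable def t4502_4652 (i : ℕ) : ℕ := (@Bool.rec (fun _ => ℕ) (@Bool.rec (fun _ => ℕ) (@Bool.rec (fun _ => ℕ) (t4502_4520 i) (t4520_4539 i) (Nat.ble (nat_lit 4520) i)) (@Bool.rec (fun _ => ℕ) (t4539_4558 i) (t4558_4577 i) (Nat.ble (nat_lit 4558) i)) (Nat.ble (nat_lit 4539) i)) (@Bool.rec (fun _ => ℕ) (@Bool.rec (fun _ => ℕ) (t4577_4595 i) (t4595_4614 i) (Nat.ble (nat_lit 4595) i)) (@Bool.rec (fun _ => ℕ) (t4614_4633 i) (t4633_4652 i) (Nat.ble (nat_lit 4633) i)) (Nat.ble (nat_lit 4614) i)) (Nat.ble (nat_lit 4577) i))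
noncomputable def t4652_4654 (i : ℕ) : ℕ := (@Bool.rec (fun _ => ℕ) l4652 l4653 (Nat.ble (nat_lit 4653) i))
noncomputable def t4654_4656 (i : ℕ) : ℕ := (@Bool.rec (fun _ => ℕ) l4654 l4655 (Nat.ble (nat_lit 4655) i))
noncomputable def t4656_4658 (i : ℕ) : ℕ := (@Bool.rec (fun _ => ℕ) l4656 l4657 (Nat.ble (nat_lit 4657) i))
noncomputable def t4658_4661 (i : ℕ) : ℕ := (@Bool.rec (fun _ => ℕ) l4658 (@Bool.rec (fun _ => ℕ) l4659 l4660 (Nat.ble (nat_lit 4660) i)) (Nat.ble (nat_lit 4659) i))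
noncomputable def t4661_4663 (i : ℕ) : ℕ := (@Bool.rec (fun _ => ℕ) l4661 l4662 (Nat.ble (nat_lit 4662) i))
noncomputable def t4663_4665 (i : ℕ) : ℕ := (@Bool.rec (fun _ => ℕ) l4663 l4664 (Nat.ble (nat_lit 4664) i))
noncomputable def t4665_4667 (i : ℕ) : ℕ := (@Bool.rec (fun _ => ℕ) l4665 l4666 (Nat.ble (nat_lit 4666) i))
noncomputable def t4667_4670 (i : ℕ) : ℕ := (@Bool.rec (fun _ => ℕ) l4667 (@Bool.rec (fun _ => ℕ) l4668 l4669 (Nat.ble (nat_lit 4669) i)) (Nat.ble (nat_lit 4668) i))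
noncomputable def t4652_4670 (i : ℕ) : ℕ := (@Bool.rec (fun _ => ℕ) (@Bool.rec (fun _ => ℕ) (@Bool.rec (fun _ => ℕ) (t4652_4654 i) (t4654_4656 i) (Nat.ble (nat_lit 4654) i)) (@Bool.rec (fun _ => ℕ) (t4656_4658 i) (t4658_4661 i) (Nat.ble (nat_lit 4658) i)) (Nat.ble (nat_lit 4656) i)) (@Bool.rec (fun _ => ℕ) (@Bool.rec (fun _ => ℕ) (t4661_4663 i) (t4663_4665 i) (Nat.ble (nat_lit 4663) i)) (@Bool.rec (fun _ => ℕ) (t4665_4667 i) (t4667_4670 i) (Nat.ble (nat_lit 4667) i)) (Nat.ble (nat_lit 4665) i)) (Nat.ble (nat_lit 4661) i))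
noncomputable def t4670_4672 (i : ℕ) : ℕ := (@Bool.rec (fun _ => ℕ) l4670 l4671 (Nat.ble (nat_lit 4671) i))
noncomputable def t4672_4674 (i : ℕ) : ℕ := (@Bool.rec (fun _ => ℕ) l4672 l4673 (Nat.ble (nat_lit 4673) i))
noncomputable def t4674_4676 (i : ℕ) : ℕ := (@Bool.rec (fun _ => ℕ) l4674 l4675 (Nat.ble (nat_lit 4675) i))
noncomputable def t4676_4679 (i : ℕ) : ℕ := (@Bool.rec (fun _ => ℕ) l4676 (@Bool.rec (fun _ => ℕ) l4677 l4678 (Nat.ble (nat_lit 4678) i)) (Nat.ble (nat_lit 4677) i))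
noncomputable def t4679_4681 (i : ℕ) : ℕ := (@Bool.rec (fun _ => ℕ) l4679 l4680 (Nat.ble (nat_lit 4680) i))
noncomputable def t4681_4684 (i : ℕ) : ℕ := (@Bool.rec (fun _ => ℕ) l4681 (@Bool.rec (fun _ => ℕ) l4682 l4683 (Nat.ble (nat_lit 4683) i)) (Nat.ble (nat_lit 4682) i))
noncomputable def t4684_4686 (i : ℕ) : ℕ := (@Bool.rec (fun _ => ℕ) l4684 l4685 (Nat.ble (nat_lit 4685) i))
noncomputable def t4686_4689 (i : ℕ) : ℕ := (@Bool.rec (fun _ => ℕ) l4686 (@Bool.rec (fun _ => ℕ) l4687 l4688 (Nat.ble (nat_lit 4688) i)) (Nat.ble (nat_lit 4687) i))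
noncomputable def t4670_4689 (i : ℕ) : ℕ := (@Bool.rec (fun _ => ℕ) (@Bool.rec (fun _ => ℕ) (@Bool.rec (fun _ => ℕ) (t4670_4672 i) (t4672_4674 i) (Nat.ble (nat_lit 4672) i)) (@Bool.rec (fun _ => ℕ) (t4674_4676 i) (t4676_4679 i) (Nat.ble (nat_lit 4676) i)) (Nat.ble (nat_lit 4674) i)) (@Bool.rec (fun _ => ℕ) (@Bool.rec (fun _ => ℕ) (t4679_4681 i) (t4681_4684 i) (Nat.ble (nat_lit 4681) i)) (@Bool.rec (fun _ => ℕ) (t4684_4686 i) (t4686_4689 i) (Nat.ble (nat_lit 4686) i)) (Nat.ble (nat_lit 4684) i)) (Nat.ble (nat_lit 4679) i))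
noncomputable def t4689_4691 (i : ℕ) : ℕ := (@Bool.rec (fun _ => ℕ) l4689 l4690 (Nat.ble (nat_lit 4690) i))
noncomputable def t4691_4693 (i : ℕ) : ℕ := (@Bool.rec (fun _ => ℕ) l4691 l4692 (Nat.ble (nat_lit 4692) i))
noncomputable def t4693_4695 (i : ℕ) : ℕ := (@Bool.rec (fun _ => ℕ) l4693 l4694 (Nat.ble (nat_lit 4694) i))
noncomputable def t4695_4698 (i : ℕ) : ℕ := (@Bool.rec (fun _ => ℕ) l4695 (@Bool.rec (fun _ => ℕ) l4696 l4697 (Nat.ble (nat_lit 4697) i)) (Nat.ble (nat_lit 4696) i))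
noncomputable def t4698_4700 (i : ℕ) : ℕ := (@Bool.rec (fun _ => ℕ) l4698 l4699 (Nat.ble (nat_lit 4699) i))
noncomputable def t4700_4703 (i : ℕ) : ℕ := (@Bool.rec (fun _ => ℕ) l4700 (@Bool.rec (fun _ => ℕ) l4701 l4702 (Nat.ble (nat_lit 4702) i)) (Nat.ble (nat_lit 4701) i))
noncomputable def t4703_4705 (i : ℕ) : ℕ := (@Bool.rec (fun _ => ℕ) l4703 l4704 (Nat.ble (nat_lit 4704) i))
noncomputable def t4705_4708 (i : ℕ) : ℕ := (@Bool.rec (fun _ => ℕ) l4705 (@Bool.rec (fun _ => ℕ) l4706 l4707 (Nat.ble (nat_lit 4707) i)) (Nat.ble (nat_lit 4706) i))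
noncomputable def t4689_4708 (i : ℕ) : ℕ := (@Bool.rec (fun _ => ℕ) (@Bool.rec (fun _ => ℕ) (@Bool.rec (fun _ => ℕ) (t4689_4691 i) (t4691_4693 i) (Nat.ble (nat_lit 4691) i)) (@Bool.rec (fun _ => ℕ) (t4693_4695 i) (t4695_4698 i) (Nat.ble (nat_lit 4695) i)) (Nat.ble (nat_lit 4693) i)) (@Bool.rec (fun _ => ℕ) (@Bool.rec (fun _ => ℕ) (t4698_4700 i) (t4700_4703 i) (Nat.ble (nat_lit 4700) i)) (@Bool.rec (fun _ => ℕ) (t4703_4705 i) (t4705_4708 i) (Nat.ble (nat_lit 4705) i)) (Nat.ble (nat_lit 4703) i)) (Nat.ble (nat_lit 4698) i))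
noncomputable def t4708_4710 (i : ℕ) : ℕ := (@Bool.rec (fun _ => ℕ) l4708 l4709 (Nat.ble (nat_lit 4709) i))
noncomputable def t4710_4712 (i : ℕ) : ℕ := (@Bool.rec (fun _ => ℕ) l4710 l4711 (Nat.ble (nat_lit 4711) i))
noncomputable def t4712_4714 (i : ℕ) : ℕ := (@Bool.rec (fun _ => ℕ) l4712 l4713 (Nat.ble (nat_lit 4713) i))
noncomputable def t4714_4717 (i : ℕ) : ℕ := (@Bool.rec (fun _ => ℕ) l4714 (@Bool.rec (fun _ => ℕ) l4715 l4716 (Nat.ble (nat_lit 4716) i)) (Nat.ble (nat_lit 4715) i))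
noncomputable def t4717_4719 (i : ℕ) : ℕ := (@Bool.rec (fun _ => ℕ) l4717 l4718 (Nat.ble (nat_lit 4718) i))
noncomputable def t4719_4722 (i : ℕ) : ℕ := (@Bool.rec (fun _ => ℕ) l4719 (@Bool.rec (fun _ => ℕ) l4720 l4721 (Nat.ble (nat_lit 4721) i)) (Nat.ble (nat_lit 4720) i))
noncomputable def t4722_4724 (i : ℕ) : ℕ := (@Bool.rec (fun _ => ℕ) l4722 l4723 (Nat.ble (nat_lit 4723) i))
noncomputable def t4724_4727 (i : ℕ) : ℕ := (@Bool.rec (fun _ => ℕ) l4724 (@Bool.rec (fun _ => ℕ) l4725 l4726 (Nat.ble (nat_lit 4726) i)) (Nat.ble (nat_lit 4725) i))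
noncomputable def t4708_4727 (i : ℕ) : ℕ := (@Bool.rec (fun _ => ℕ) (@Bool.rec (fun _ => ℕ) (@Bool.rec (fun _ => ℕ) (t4708_4710 i) (t4710_4712 i) (Nat.ble (nat_lit 4710) i)) (@Bool.rec (fun _ => ℕ) (t4712_4714 i) (t4714_4717 i) (Nat.ble (nat_lit 4714) i)) (Nat.ble (nat_lit 4712) i)) (@Bool.rec (fun _ => ℕ) (@Bool.rec (fun _ => ℕ) (t4717_4719 i) (t4719_4722 i) (Nat.ble (nat_lit 4719) i)) (@Bool.rec (fun _ => ℕ) (t4722_4724 i) (t4724_4727 i) (Nat.ble (nat_lit 4724) i)) (Nat.ble (nat_lit 4722) i)) (Nat.ble (nat_lit 4717) i))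
noncomputable def t4727_4729 (i : ℕ) : ℕ := (@Bool.rec (fun _ => ℕ) l4727 l4728 (Nat.ble (nat_lit 4728) i))
noncomputable def t4729_4731 (i : ℕ) : ℕ := (@Bool.rec (fun _ => ℕ) l4729 l4730 (Nat.ble (nat_lit 4730) i))
noncomputable def t4731_4733 (i : ℕ) : ℕ := (@Bool.rec (fun _ => ℕ) l4731 l4732 (Nat.ble (nat_lit 4732) i))
noncomputable def t4733_4736 (i : ℕ) : ℕ := (@Bool.rec (fun _ => ℕ) l4733 (@Bool.rec (fun _ => ℕ) l4734 l4735 (Nat.ble (nat_lit 4735) i)) (Nat.ble (nat_lit 4734) i))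
noncomputable def t4736_4738 (i : ℕ) : ℕ := (@Bool.rec (fun _ => ℕ) l4736 l4737 (Nat.ble (nat_lit 4737) i))
noncomputable def t4738_4741 (i : ℕ) : ℕ := (@Bool.rec (fun _ => ℕ) l4738 (@Bool.rec (fun _ => ℕ) l4739 l4740 (Nat.ble (nat_lit 4740) i)) (Nat.ble (nat_lit 4739) i))
noncomputable def t4741_4743 (i : ℕ) : ℕ := (@Bool.rec (fun _ => ℕ) l4741 l4742 (Nat.ble (nat_lit 4742) i))
noncomputable def t4743_4746 (i : ℕ) : ℕ := (@Bool.rec (fun _ => ℕ) l4743 (@Bool.rec (fun _ => ℕ) l4744 l4745 (Nat.ble (nat_lit 4745) i)) (Nat.ble (nat_lit 4744) i))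
noncomputable def t4727_4746 (i : ℕ) : ℕ := (@Bool.rec (fun _ => ℕ) (@Bool.rec (fun _ => ℕ) (@Bool.rec (fun _ => ℕ) (t4727_4729 i) (t4729_4731 i) (Nat.ble (nat_lit 4729) i)) (@Bool.rec (fun _ => ℕ) (t4731_4733 i) (t4733_4736 i) (Nat.ble (nat_lit 4733) i)) (Nat.ble (nat_lit 4731) i)) (@Bool.rec (fun _ => ℕ) (@Bool.rec (fun _ => ℕ) (t4736_4738 i) (t4738_4741 i) (Nat.ble (nat_lit 4738) i)) (@Bool.rec (fun _ => ℕ) (t4741_4743 i) (t4743_4746 i) (Nat.ble (nat_lit 4743) i)) (Nat.ble (nat_lit 4741) i)) (Nat.ble (nat_lit 4736) i))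
noncomputable def t4746_4748 (i : ℕ) : ℕ := (@Bool.rec (fun _ => ℕ) l4746 l4747 (Nat.ble (nat_lit 4747) i))
noncomputable def t4748_4750 (i : ℕ) : ℕ := (@Bool.rec (fun _ => ℕ) l4748 l4749 (Nat.ble (nat_lit 4749) i))
noncomputable def t4750_4752 (i : ℕ) : ℕ := (@Bool.rec (fun _ => ℕ) l4750 l4751 (Nat.ble (nat_lit 4751) i))
noncomputable def t4752_4755 (i : ℕ) : ℕ := (@Bool.rec (fun _ => ℕ) l4752 (@Bool.rec (fun _ => ℕ) l4753 l4754 (Nat.ble (nat_lit 4754) i)) (Nat.ble (nat_lit 4753) i))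
noncomputable def t4755_4757 (i : ℕ) : ℕ := (@Bool.rec (fun _ => ℕ) l4755 l4756 (Nat.ble (nat_lit 4756) i))
noncomputable def t4757_4760 (i : ℕ) : ℕ := (@Bool.rec (fun _ => ℕ) l4757 (@Bool.rec (fun _ => ℕ) l4758 l4759 (Nat.ble (nat_lit 4759) i)) (Nat.ble (nat_lit 4758) i))
noncomputable def t4760_4762 (i : ℕ) : ℕ := (@Bool.rec (fun _ => ℕ) l4760 l4761 (Nat.ble (nat_lit 4761) i))
noncomputable def t4762_4765 (i : ℕ) : ℕ := (@Bool.rec (fun _ => ℕ) l4762 (@Bool.rec (fun _ => ℕ) l4763 l4764 (Nat.ble (nat_lit 4764) i)) (Nat.ble (nat_lit 4763) i))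
noncomputable def t4746_4765 (i : ℕ) : ℕ := (@Bool.rec (fun _ => ℕ) (@Bool.rec (fun _ => ℕ) (@Bool.rec (fun _ => ℕ) (t4746_4748 i) (t4748_4750 i) (Nat.ble (nat_lit 4748) i)) (@Bool.rec (fun _ => ℕ) (t4750_4752 i) (t4752_4755 i) (Nat.ble (nat_lit 4752) i)) (Nat.ble (nat_lit 4750) i)) (@Bool.rec (fun _ => ℕ) (@Bool.rec (fun _ => ℕ) (t4755_4757 i) (t4757_4760 i) (Nat.ble (nat_lit 4757) i)) (@Bool.rec (fun _ => ℕ) (t4760_4762 i) (t4762_4765 i) (Nat.ble (nat_lit 4762) i)) (Nat.ble (nat_lit 4760) i)) (Nat.ble (nat_lit 4755) i))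
noncomputable def t4765_4767 (i : ℕ) : ℕ := (@Bool.rec (fun _ => ℕ) l4765 l4766 (Nat.ble (nat_lit 4766) i))
noncomputable def t4767_4769 (i : ℕ) : ℕ := (@Bool.rec (fun _ => ℕ) l4767 l4768 (Nat.ble (nat_lit 4768) i))
noncomputable def t4769_4771 (i : ℕ) : ℕ := (@Bool.rec (fun _ => ℕ) l4769 l4770 (Nat.ble (nat_lit 4770) i))
noncomputable def t4771_4774 (i : ℕ) : ℕ := (@Bool.rec (fun _ => ℕ) l4771 (@Bool.rec (fun _ => ℕ) l4772 l4773 (Nat.ble (nat_lit 4773) i)) (Nat.ble (nat_lit 4772) i))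
noncomputable def t4774_4776 (i : ℕ) : ℕ := (@Bool.rec (fun _ => ℕ) l4774 l4775 (Nat.ble (nat_lit 4775) i))
noncomputable def t4776_4779 (i : ℕ) : ℕ := (@Bool.rec (fun _ => ℕ) l4776 (@Bool.rec (fun _ => ℕ) l4777 l4778 (Nat.ble (nat_lit 4778) i)) (Nat.ble (nat_lit 4777) i))
noncomputable def t4779_4781 (i : ℕ) : ℕ := (@Bool.rec (fun _ => ℕ) l4779 l4780 (Nat.ble (nat_lit 4780) i))
noncomputable def t4781_4784 (i : ℕ) : ℕ := (@Bool.rec (fun _ => ℕ) l4781 (@Bool.rec (fun _ => ℕ) l4782 l4783 (Nat.ble (nat_lit 4783) i)) (Nat.ble (nat_lit 4782) i))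
noncomputable def t4765_4784 (i : ℕ) : ℕ := (@Bool.rec (fun _ => ℕ) (@Bool.rec (fun _ => ℕ) (@Bool.rec (fun _ => ℕ) (t4765_4767 i) (t4767_4769 i) (Nat.ble (nat_lit 4767) i)) (@Bool.rec (fun _ => ℕ) (t4769_4771 i) (t4771_4774 i) (Nat.ble (nat_lit 4771) i)) (Nat.ble (nat_lit 4769) i)) (@Bool.rec (fun _ => ℕ) (@Bool.rec (fun _ => ℕ) (t4774_4776 i) (t4776_4779 i) (Nat.ble (nat_lit 4776) i)) (@Bool.rec (fun _ => ℕ) (t4779_4781 i) (t4781_4784 i) (Nat.ble (nat_lit 4781) i)) (Nat.ble (nat_lit 4779) i)) (Nat.ble (nat_lit 4774) i))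
noncomputable def t4784_4786 (i : ℕ) : ℕ := (@Bool.rec (fun _ => ℕ) l4784 l4785 (Nat.ble (nat_lit 4785) i))
noncomputable def t4786_4788 (i : ℕ) : ℕ := (@Bool.rec (fun _ => ℕ) l4786 l4787 (Nat.ble (nat_lit 4787) i))
noncomputable def t4788_4790 (i : ℕ) : ℕ := (@Bool.rec (fun _ => ℕ) l4788 l4789 (Nat.ble (nat_lit 4789) i))
noncomputable def t4790_4793 (i : ℕ) : ℕ := (@Bool.rec (fun _ => ℕ) l4790 (@Bool.rec (fun _ => ℕ) l4791 l4792 (Nat.ble (nat_lit 4792) i)) (Nat.ble (nat_lit 4791) i))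
noncomputable def t4793_4795 (i : ℕ) : ℕ := (@Bool.rec (fun _ => ℕ) l4793 l4794 (Nat.ble (nat_lit 4794) i))
noncomputable def t4795_4798 (i : ℕ) : ℕ := (@Bool.rec (fun _ => ℕ) l4795 (@Bool.rec (fun _ => ℕ) l4796 l4797 (Nat.ble (nat_lit 4797) i)) (Nat.ble (nat_lit 4796) i))
noncomputable def t4798_4800 (i : ℕ) : ℕ := (@Bool.rec (fun _ => ℕ) l4798 l4799 (Nat.ble (nat_lit 4799) i))
noncomputable def t4800_4803 (i : ℕ) : ℕ := (@Bool.rec (fun _ => ℕ) l4800 (@Bool.rec (fun _ => ℕ) l4801 l4802 (Nat.ble (nat_lit 4802) i)) (Nat.ble (nat_lit 4801) i))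
noncomputable def t4784_4803 (i : ℕ) : ℕ := (@Bool.rec (fun _ => ℕ) (@Bool.rec (fun _ => ℕ) (@Bool.rec (fun _ => ℕ) (t4784_4786 i) (t4786_4788 i) (Nat.ble (nat_lit 4786) i)) (@Bool.rec (fun _ => ℕ) (t4788_4790 i) (t4790_4793 i) (Nat.ble (nat_lit 4790) i)) (Nat.ble (nat_lit 4788) i)) (@Bool.rec (fun _ => ℕ) (@Bool.rec (fun _ => ℕ) (t4793_4795 i) (t4795_4798 i) (Nat.ble (nat_lit 4795) i)) (@Bool.rec (fun _ => ℕ) (t4798_4800 i) (t4800_4803 i) (Nat.ble (nat_lit 4800) i)) (Nat.ble (nat_lit 4798) i)) (Nat.ble (nat_lit 4793) i))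
noncomputable def t4652_4803 (i : ℕ) : ℕ := (@Bool.rec (fun _ => ℕ) (@Bool.rec (fun _ => ℕ) (@Bool.rec (fun _ => ℕ) (t4652_4670 i) (t4670_4689 i) (Nat.ble (nat_lit 4670) i)) (@Bool.rec (fun _ => ℕ) (t4689_4708 i) (t4708_4727 i) (Nat.ble (nat_lit 4708) i)) (Nat.ble (nat_lit 4689) i)) (@Bool.rec (fun _ => ℕ) (@Bool.rec (fun _ => ℕ) (t4727_4746 i) (t4746_4765 i) (Nat.ble (nat_lit 4746) i)) (@Bool.rec (fun _ => ℕ) (t4765_4784 i) (t4784_4803 i) (Nat.ble (nat_lit 4784) i)) (Nat.ble (nat_lit 4765) i)) (Nat.ble (nat_lit 4727) i))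
noncomputable def t3602_4803 (i : ℕ) : ℕ := (@Bool.rec (fun _ => ℕ) (@Bool.rec (fun _ => ℕ) (@Bool.rec (fun _ => ℕ) (t3602_3752 i) (t3752_3902 i) (Nat.ble (nat_lit 3752) i)) (@Bool.rec (fun _ => ℕ) (t3902_4052 i) (t4052_4202 i) (Nat.ble (nat_lit 4052) i)) (Nat.ble (nat_lit 3902) i)) (@Bool.rec (fun _ => ℕ) (@Bool.rec (fun _ => ℕ) (t4202_4352 i) (t4352_4502 i) (Nat.ble (nat_lit 4352) i)) (@Bool.rec (fun _ => ℕ) (t4502_4652 i) (t4652_4803 i) (Nat.ble (nat_lit 4652) i)) (Nat.ble (nat_lit 4502) i)) (Nat.ble (nat_lit 4202) i))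
noncomputable def t4803_4805 (i : ℕ) : ℕ := (@Bool.rec (fun _ => ℕ) l4803 l4804 (Nat.ble (nat_lit 4804) i))
noncomputable def t4805_4807 (i : ℕ) : ℕ := (@Bool.rec (fun _ => ℕ) l4805 l4806 (Nat.ble (nat_lit 4806) i))
noncomputable def t4807_4809 (i : ℕ) : ℕ := (@Bool.rec (fun _ => ℕ) l4807 l4808 (Nat.ble (nat_lit 4808) i))
noncomputable def t4809_4812 (i : ℕ) : ℕ := (@Bool.rec (fun _ => ℕ) l4809 (@Bool.rec (fun _ => ℕ) l4810 l4811 (Nat.ble (nat_lit 4811) i)) (Nat.ble (nat_lit 4810) i))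
noncomputable def t4812_4814 (i : ℕ) : ℕ := (@Bool.rec (fun _ => ℕ) l4812 l4813 (Nat.ble (nat_lit 4813) i))
noncomputable def t4814_4816 (i : ℕ) : ℕ := (@Bool.rec (fun _ => ℕ) l4814 l4815 (Nat.ble (nat_lit 4815) i))
noncomputable def t4816_4818 (i : ℕ) : ℕ := (@Bool.rec (fun _ => ℕ) l4816 l4817 (Nat.ble (nat_lit 4817) i))
noncomputable def t4818_4821 (i : ℕ) : ℕ := (@Bool.rec (fun _ => ℕ) l4818 (@Bool.rec (fun _ => ℕ) l4819 l4820 (Nat.ble (nat_lit 4820) i)) (Nat.ble (nat_lit 4819) i))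
noncomputable def t4803_4821 (i : ℕ) : ℕ := (@Bool.rec (fun _ => ℕ) (@Bool.rec (fun _ => ℕ) (@Bool.rec (fun _ => ℕ) (t4803_4805 i) (t4805_4807 i) (Nat.ble (nat_lit 4805) i)) (@Bool.rec (fun _ => ℕ) (t4807_4809 i) (t4809_4812 i) (Nat.ble (nat_lit 4809) i)) (Nat.ble (nat_lit 4807) i)) (@Bool.rec (fun _ => ℕ) (@Bool.rec (fun _ => ℕ) (t4812_4814 i) (t4814_4816 i) (Nat.ble (nat_lit 4814) i)) (@Bool.rec (fun _ => ℕ) (t4816_4818 i) (t4818_4821 i) (Nat.ble (nat_lit 4818) i)) (Nat.ble (nat_lit 4816) i)) (Nat.ble (nat_lit 4812) i))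
noncomputable def t4821_4823 (i : ℕ) : ℕ := (@Bool.rec (fun _ => ℕ) l4821 l4822 (Nat.ble (nat_lit 4822) i))
noncomputable def t4823_4825 (i : ℕ) : ℕ := (@Bool.rec (fun _ => ℕ) l4823 l4824 (Nat.ble (nat_lit 4824) i))
noncomputable def t4825_4827 (i : ℕ) : ℕ := (@Bool.rec (fun _ => ℕ) l4825 l4826 (Nat.ble (nat_lit 4826) i))
noncomputable def t4827_4830 (i : ℕ) : ℕ := (@Bool.rec (fun _ => ℕ) l4827 (@Bool.rec (fun _ => ℕ) l4828 l4829 (Nat.ble (nat_lit 4829) i)) (Nat.ble (nat_lit 4828) i))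
noncomputable def t4830_4832 (i : ℕ) : ℕ := (@Bool.rec (fun _ => ℕ) l4830 l4831 (Nat.ble (nat_lit 4831) i))
noncomputable def t4832_4835 (i : ℕ) : ℕ := (@Bool.rec (fun _ => ℕ) l4832 (@Bool.rec (fun _ => ℕ) l4833 l4834 (Nat.ble (nat_lit 4834) i)) (Nat.ble (nat_lit 4833) i))
noncomputable def t4835_4837 (i : ℕ) : ℕ := (@Bool.rec (fun _ => ℕ) l4835 l4836 (Nat.ble (nat_lit 4836) i))
noncomputable def t4837_4840 (i : ℕ) : ℕ := (@Bool.rec (fun _ => ℕ) l4837 (@Bool.rec (fun _ => ℕ) l4838 l4839 (Nat.ble (nat_lit 4839) i)) (Nat.ble (nat_lit 4838) i))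
noncomputable def t4821_4840 (i : ℕ) : ℕ := (@Bool.rec (fun _ => ℕ) (@Bool.rec (fun _ => ℕ) (@Bool.rec (fun _ => ℕ) (t4821_4823 i) (t4823_4825 i) (Nat.ble (nat_lit 4823) i)) (@Bool.rec (fun _ => ℕ) (t4825_4827 i) (t4827_4830 i) (Nat.ble (nat_lit 4827) i)) (Nat.ble (nat_lit 4825) i)) (@Bool.rec (fun _ => ℕ) (@Bool.rec (fun _ => ℕ) (t4830_4832 i) (t4832_4835 i) (Nat.ble (nat_lit 4832) i)) (@Bool.rec (fun _ => ℕ) (t4835_4837 i) (t4837_4840 i) (Nat.ble (nat_lit 4837) i)) (Nat.ble (nat_lit 4835) i)) (Nat.ble (nat_lit 4830) i))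
noncomputable def t4840_4842 (i : ℕ) : ℕ := (@Bool.rec (fun _ => ℕ) l4840 l4841 (Nat.ble (nat_lit 4841) i))
noncomputable def t4842_4844 (i : ℕ) : ℕ := (@Bool.rec (fun _ => ℕ) l4842 l4843 (Nat.ble (nat_lit 4843) i))
noncomputable def t4844_4846 (i : ℕ) : ℕ := (@Bool.rec (fun _ => ℕ) l4844 l4845 (Nat.ble (nat_lit 4845) i))
noncomputable def t4846_4849 (i : ℕ) : ℕ := (@Bool.rec (fun _ => ℕ) l4846 (@Bool.rec (fun _ => ℕ) l4847 l4848 (Nat.ble (nat_lit 4848) i)) (Nat.ble (nat_lit 4847) i))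
noncomputable def t4849_4851 (i : ℕ) : ℕ := (@Bool.rec (fun _ => ℕ) l4849 l4850 (Nat.ble (nat_lit 4850) i))
noncomputable def t4851_4854 (i : ℕ) : ℕ := (@Bool.rec (fun _ => ℕ) l4851 (@Bool.rec (fun _ => ℕ) l4852 l4853 (Nat.ble (nat_lit 4853) i)) (Nat.ble (nat_lit 4852) i))
noncomputable def t4854_4856 (i : ℕ) : ℕ := (@Bool.rec (fun _ => ℕ) l4854 l4855 (Nat.ble (nat_lit 4855) i))
noncomputable def t4856_4859 (i : ℕ) : ℕ := (@Bool.rec (fun _ => ℕ) l4856 (@Bool.rec (fun _ => ℕ) l4857 l4858 (Nat.ble (nat_lit 4858) i)) (Nat.ble (nat_lit 4857) i))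
noncomputable def t4840_4859 (i : ℕ) : ℕ := (@Bool.rec (fun _ => ℕ) (@Bool.rec (fun _ => ℕ) (@Bool.rec (fun _ => ℕ) (t4840_4842 i) (t4842_4844 i) (Nat.ble (nat_lit 4842) i)) (@Bool.rec (fun _ => ℕ) (t4844_4846 i) (t4846_4849 i) (Nat.ble (nat_lit 4846) i)) (Nat.ble (nat_lit 4844) i)) (@Bool.rec (fun _ => ℕ) (@Bool.rec (fun _ => ℕ) (t4849_4851 i) (t4851_4854 i) (Nat.ble (nat_lit 4851) i)) (@Bool.rec (fun _ => ℕ) (t4854_4856 i) (t4856_4859 i) (Nat.ble (nat_lit 4856) i)) (Nat.ble (nat_lit 4854) i)) (Nat.ble (nat_lit 4849) i))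
noncomputable def t4859_4861 (i : ℕ) : ℕ := (@Bool.rec (fun _ => ℕ) l4859 l4860 (Nat.ble (nat_lit 4860) i))
noncomputable def t4861_4863 (i : ℕ) : ℕ := (@Bool.rec (fun _ => ℕ) l4861 l4862 (Nat.ble (nat_lit 4862) i))
noncomputable def t4863_4865 (i : ℕ) : ℕ := (@Bool.rec (fun _ => ℕ) l4863 l4864 (Nat.ble (nat_lit 4864) i))
noncomputable def t4865_4868 (i : ℕ) : ℕ := (@Bool.rec (fun _ => ℕ) l4865 (@Bool.rec (fun _ => ℕ) l4866 l4867 (Nat.ble (nat_lit 4867) i)) (Nat.ble (nat_lit 4866) i))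
noncomputable def t4868_4870 (i : ℕ) : ℕ := (@Bool.rec (fun _ => ℕ) l4868 l4869 (Nat.ble (nat_lit 4869) i))
noncomputable def t4870_4873 (i : ℕ) : ℕ := (@Bool.rec (fun _ => ℕ) l4870 (@Bool.rec (fun _ => ℕ) l4871 l4872 (Nat.ble (nat_lit 4872) i)) (Nat.ble (nat_lit 4871) i))
noncomputable def t4873_4875 (i : ℕ) : ℕ := (@Bool.rec (fun _ => ℕ) l4873 l4874 (Nat.ble (nat_lit 4874) i))
noncomputable def t4875_4878 (i : ℕ) : ℕ := (@Bool.rec (fun _ => ℕ) l4875 (@Bool.rec (fun _ => ℕ) l4876 l4877 (Nat.ble (nat_lit 4877) i)) (Nat.ble (nat_lit 4876) i))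
noncomputable def t4859_4878 (i : ℕ) : ℕ := (@Bool.rec (fun _ => ℕ) (@Bool.rec (fun _ => ℕ) (@Bool.rec (fun _ => ℕ) (t4859_4861 i) (t4861_4863 i) (Nat.ble (nat_lit 4861) i)) (@Bool.rec (fun _ => ℕ) (t4863_4865 i) (t4865_4868 i) (Nat.ble (nat_lit 4865) i)) (Nat.ble (nat_lit 4863) i)) (@Bool.rec (fun _ => ℕ) (@Bool.rec (fun _ => ℕ) (t4868_4870 i) (t4870_4873 i) (Nat.ble (nat_lit 4870) i)) (@Bool.rec (fun _ => ℕ) (t4873_4875 i) (t4875_4878 i) (Nat.ble (nat_lit 4875) i)) (Nat.ble (nat_lit 4873) i)) (Nat.ble (nat_lit 4868) i))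
noncomputable def t4878_4880 (i : ℕ) : ℕ := (@Bool.rec (fun _ => ℕ) l4878 l4879 (Nat.ble (nat_lit 4879) i))
noncomputable def t4880_4882 (i : ℕ) : ℕ := (@Bool.rec (fun _ => ℕ) l4880 l4881 (Nat.ble (nat_lit 4881) i))
noncomputable def t4882_4884 (i : ℕ) : ℕ := (@Bool.rec (fun _ => ℕ) l4882 l4883 (Nat.ble (nat_lit 4883) i))
noncomputable def t4884_4887 (i : ℕ) : ℕ := (@Bool.rec (fun _ => ℕ) l4884 (@Bool.rec (fun _ => ℕ) l4885 l4886 (Nat.ble (nat_lit 4886) i)) (Nat.ble (nat_lit 4885) i))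
noncomputable def t4887_4889 (i : ℕ) : ℕ := (@Bool.rec (fun _ => ℕ) l4887 l4888 (Nat.ble (nat_lit 4888) i))
noncomputable def t4889_4891 (i : ℕ) : ℕ := (@Bool.rec (fun _ => ℕ) l4889 l4890 (Nat.ble (nat_lit 4890) i))
noncomputable def t4891_4893 (i : ℕ) : ℕ := (@Bool.rec (fun _ => ℕ) l4891 l4892 (Nat.ble (nat_lit 4892) i))
noncomputable def t4893_4896 (i : ℕ) : ℕ := (@Bool.rec (fun _ => ℕ) l4893 (@Bool.rec (fun _ => ℕ) l4894 l4895 (Nat.ble (nat_lit 4895) i)) (Nat.ble (nat_lit 4894) i))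
noncomputable def t4878_4896 (i : ℕ) : ℕ := (@Bool.rec (fun _ => ℕ) (@Bool.rec (fun _ => ℕ) (@Bool.rec (fun _ => ℕ) (t4878_4880 i) (t4880_4882 i) (Nat.ble (nat_lit 4880) i)) (@Bool.rec (fun _ => ℕ) (t4882_4884 i) (t4884_4887 i) (Nat.ble (nat_lit 4884) i)) (Nat.ble (nat_lit 4882) i)) (@Bool.rec (fun _ => ℕ) (@Bool.rec (fun _ => ℕ) (t4887_4889 i) (t4889_4891 i) (Nat.ble (nat_lit 4889) i)) (@Bool.rec (fun _ => ℕ) (t4891_4893 i) (t4893_4896 i) (Nat.ble (nat_lit 4893) i)) (Nat.ble (nat_lit 4891) i)) (Nat.ble (nat_lit 4887) i))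
noncomputable def t4896_4898 (i : ℕ) : ℕ := (@Bool.rec (fun _ => ℕ) l4896 l4897 (Nat.ble (nat_lit 4897) i))
noncomputable def t4898_4900 (i : ℕ) : ℕ := (@Bool.rec (fun _ => ℕ) l4898 l4899 (Nat.ble (nat_lit 4899) i))
noncomputable def t4900_4902 (i : ℕ) : ℕ := (@Bool.rec (fun _ => ℕ) l4900 l4901 (Nat.ble (nat_lit 4901) i))
noncomputable def t4902_4905 (i : ℕ) : ℕ := (@Bool.rec (fun _ => ℕ) l4902 (@Bool.rec (fun _ => ℕ) l4903 l4904 (Nat.ble (nat_lit 4904) i)) (Nat.ble (nat_lit 4903) i))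
noncomputable def t4905_4907 (i : ℕ) : ℕ := (@Bool.rec (fun _ => ℕ) l4905 l4906 (Nat.ble (nat_lit 4906) i))
noncomputable def t4907_4910 (i : ℕ) : ℕ := (@Bool.rec (fun _ => ℕ) l4907 (@Bool.rec (fun _ => ℕ) l4908 l4909 (Nat.ble (nat_lit 4909) i)) (Nat.ble (nat_lit 4908) i))
noncomputable def t4910_4912 (i : ℕ) : ℕ := (@Bool.rec (fun _ => ℕ) l4910 l4911 (Nat.ble (nat_lit 4911) i))
noncomputable def t4912_4915 (i : ℕ) : ℕ := (@Bool.rec (fun _ => ℕ) l4912 (@Bool.rec (fun _ => ℕ) l4913 l4914 (Nat.ble (nat_lit 4914) i)) (Nat.ble (nat_lit 4913) i))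
noncomputable def t4896_4915 (i : ℕ) : ℕ := (@Bool.rec (fun _ => ℕ) (@Bool.rec (fun _ => ℕ) (@Bool.rec (fun _ => ℕ) (t4896_4898 i) (t4898_4900 i) (Nat.ble (nat_lit 4898) i)) (@Bool.rec (fun _ => ℕ) (t4900_4902 i) (t4902_4905 i) (Nat.ble (nat_lit 4902) i)) (Nat.ble (nat_lit 4900) i)) (@Bool.rec (fun _ => ℕ) (@Bool.rec (fun _ => ℕ) (t4905_4907 i) (t4907_4910 i) (Nat.ble (nat_lit 4907) i)) (@Bool.rec (fun _ => ℕ) (t4910_4912 i) (t4912_4915 i) (Nat.ble (nat_lit 4912) i)) (Nat.ble (nat_lit 4910) i)) (Nat.ble (nat_lit 4905) i))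
noncomputable def t4915_4917 (i : ℕ) : ℕ := (@Bool.rec (fun _ => ℕ) l4915 l4916 (Nat.ble (nat_lit 4916) i))
noncomputable def t4917_4919 (i : ℕ) : ℕ := (@Bool.rec (fun _ => ℕ) l4917 l4918 (Nat.ble (nat_lit 4918) i))
noncomputable def t4919_4921 (i : ℕ) : ℕ := (@Bool.rec (fun _ => ℕ) l4919 l4920 (Nat.ble (nat_lit 4920) i))
noncomputable def t4921_4924 (i : ℕ) : ℕ := (@Bool.rec (fun _ => ℕ) l4921 (@Bool.rec (fun _ => ℕ) l4922 l4923 (Nat.ble (nat_lit 4923) i)) (Nat.ble (nat_lit 4922) i))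
noncomputable def t4924_4926 (i : ℕ) : ℕ := (@Bool.rec (fun _ => ℕ) l4924 l4925 (Nat.ble (nat_lit 4925) i))
noncomputable def t4926_4929 (i : ℕ) : ℕ := (@Bool.rec (fun _ => ℕ) l4926 (@Bool.rec (fun _ => ℕ) l4927 l4928 (Nat.ble (nat_lit 4928) i)) (Nat.ble (nat_lit 4927) i))
noncomputable def t4929_4931 (i : ℕ) : ℕ := (@Bool.rec (fun _ => ℕ) l4929 l4930 (Nat.ble (nat_lit 4930) i))
noncomputable def t4931_4934 (i : ℕ) : ℕ := (@Bool.rec (fun _ => ℕ) l4931 (@Bool.rec (fun _ => ℕ) l4932 l4933 (Nat.ble (nat_lit 4933) i)) (Nat.ble (nat_lit 4932) i))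
noncomputable def t4915_4934 (i : ℕ) : ℕ := (@Bool.rec (fun _ => ℕ) (@Bool.rec (fun _ => ℕ) (@Bool.rec (fun _ => ℕ) (t4915_4917 i) (t4917_4919 i) (Nat.ble (nat_lit 4917) i)) (@Bool.rec (fun _ => ℕ) (t4919_4921 i) (t4921_4924 i) (Nat.ble (nat_lit 4921) i)) (Nat.ble (nat_lit 4919) i)) (@Bool.rec (fun _ => ℕ) (@Bool.rec (fun _ => ℕ) (t4924_4926 i) (t4926_4929 i) (Nat.ble (nat_lit 4926) i)) (@Bool.rec (fun _ => ℕ) (t4929_4931 i) (t4931_4934 i) (Nat.ble (nat_lit 4931) i)) (Nat.ble (nat_lit 4929) i)) (Nat.ble (nat_lit 4924) i))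
noncomputable def t4934_4936 (i : ℕ) : ℕ := (@Bool.rec (fun _ => ℕ) l4934 l4935 (Nat.ble (nat_lit 4935) i))
noncomputable def t4936_4938 (i : ℕ) : ℕ := (@Bool.rec (fun _ => ℕ) l4936 l4937 (Nat.ble (nat_lit 4937) i))
noncomputable def t4938_4940 (i : ℕ) : ℕ := (@Bool.rec (fun _ => ℕ) l4938 l4939 (Nat.ble (nat_lit 4939) i))
noncomputable def t4940_4943 (i : ℕ) : ℕ := (@Bool.rec (fun _ => ℕ) l4940 (@Bool.rec (fun _ => ℕ) l4941 l4942 (Nat.ble (nat_lit 4942) i)) (Nat.ble (nat_lit 4941) i))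
noncomputable def t4943_4945 (i : ℕ) : ℕ := (@Bool.rec (fun _ => ℕ) l4943 l4944 (Nat.ble (nat_lit 4944) i))
noncomputable def t4945_4948 (i : ℕ) : ℕ := (@Bool.rec (fun _ => ℕ) l4945 (@Bool.rec (fun _ => ℕ) l4946 l4947 (Nat.ble (nat_lit 4947) i)) (Nat.ble (nat_lit 4946) i))
noncomputable def t4948_4950 (i : ℕ) : ℕ := (@Bool.rec (fun _ => ℕ) l4948 l4949 (Nat.ble (nat_lit 4949) i))
noncomputable def t4950_4953 (i : ℕ) : ℕ := (@Bool.rec (fun _ => ℕ) l4950 (@Bool.rec (fun _ => ℕ) l4951 l4952 (Nat.ble (nat_lit 4952) i)) (Nat.ble (nat_lit 4951) i))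
noncomputable def t4934_4953 (i : ℕ) : ℕ := (@Bool.rec (fun _ => ℕ) (@Bool.rec (fun _ => ℕ) (@Bool.rec (fun _ => ℕ) (t4934_4936 i) (t4936_4938 i) (Nat.ble (nat_lit 4936) i)) (@Bool.rec (fun _ => ℕ) (t4938_4940 i) (t4940_4943 i) (Nat.ble (nat_lit 4940) i)) (Nat.ble (nat_lit 4938) i)) (@Bool.rec (fun _ => ℕ) (@Bool.rec (fun _ => ℕ) (t4943_4945 i) (t4945_4948 i) (Nat.ble (nat_lit 4945) i)) (@Bool.rec (fun _ => ℕ) (t4948_4950 i) (t4950_4953 i) (Nat.ble (nat_lit 4950) i)) (Nat.ble (nat_lit 4948) i)) (Nat.ble (nat_lit 4943) i))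
noncomputable def t4803_4953 (i : ℕ) : ℕ := (@Bool.rec (fun _ => ℕ) (@Bool.rec (fun _ => ℕ) (@Bool.rec (fun _ => ℕ) (t4803_4821 i) (t4821_4840 i) (Nat.ble (nat_lit 4821) i)) (@Bool.rec (fun _ => ℕ) (t4840_4859 i) (t4859_4878 i) (Nat.ble (nat_lit 4859) i)) (Nat.ble (nat_lit 4840) i)) (@Bool.rec (fun _ => ℕ) (@Bool.rec (fun _ => ℕ) (t4878_4896 i) (t4896_4915 i) (Nat.ble (nat_lit 4896) i)) (@Bool.rec (fun _ => ℕ) (t4915_4934 i) (t4934_4953 i) (Nat.ble (nat_lit 4934) i)) (Nat.ble (nat_lit 4915) i)) (Nat.ble (nat_lit 4878) i))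
noncomputable def t4953_4955 (i : ℕ) : ℕ := (@Bool.rec (fun _ => ℕ) l4953 l4954 (Nat.ble (nat_lit 4954) i))
noncomputable def t4955_4957 (i : ℕ) : ℕ := (@Bool.rec (fun _ => ℕ) l4955 l4956 (Nat.ble (nat_lit 4956) i))
noncomputable def t4957_4959 (i : ℕ) : ℕ := (@Bool.rec (fun _ => ℕ) l4957 l4958 (Nat.ble (nat_lit 4958) i))
noncomputable def t4959_4962 (i : ℕ) : ℕ := (@Bool.rec (fun _ => ℕ) l4959 (@Bool.rec (fun _ => ℕ) l4960 l4961 (Nat.ble (nat_lit 4961) i)) (Nat.ble (nat_lit 4960) i))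
noncomputable def t4962_4964 (i : ℕ) : ℕ := (@Bool.rec (fun _ => ℕ) l4962 l4963 (Nat.ble (nat_lit 4963) i))
noncomputable def t4964_4966 (i : ℕ) : ℕ := (@Bool.rec (fun _ => ℕ) l4964 l4965 (Nat.ble (nat_lit 4965) i))
noncomputable def t4966_4968 (i : ℕ) : ℕ := (@Bool.rec (fun _ => ℕ) l4966 l4967 (Nat.ble (nat_lit 4967) i))
noncomputable def t4968_4971 (i : ℕ) : ℕ := (@Bool.rec (fun _ => ℕ) l4968 (@Bool.rec (fun _ => ℕ) l4969 l4970 (Nat.ble (nat_lit 4970) i)) (Nat.ble (nat_lit 4969) i))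
noncomputable def t4953_4971 (i : ℕ) : ℕ := (@Bool.rec (fun _ => ℕ) (@Bool.rec (fun _ => ℕ) (@Bool.rec (fun _ => ℕ) (t4953_4955 i) (t4955_4957 i) (Nat.ble (nat_lit 4955) i)) (@Bool.rec (fun _ => ℕ) (t4957_4959 i) (t4959_4962 i) (Nat.ble (nat_lit 4959) i)) (Nat.ble (nat_lit 4957) i)) (@Bool.rec (fun _ => ℕ) (@Bool.rec (fun _ => ℕ) (t4962_4964 i) (t4964_4966 i) (Nat.ble (nat_lit 4964) i)) (@Bool.rec (fun _ => ℕ) (t4966_4968 i) (t4968_4971 i) (Nat.ble (nat_lit 4968) i)) (Nat.ble (nat_lit 4966) i)) (Nat.ble (nat_lit 4962) i))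
noncomputable def t4971_4973 (i : ℕ) : ℕ := (@Bool.rec (fun _ => ℕ) l4971 l4972 (Nat.ble (nat_lit 4972) i))
noncomputable def t4973_4975 (i : ℕ) : ℕ := (@Bool.rec (fun _ => ℕ) l4973 l4974 (Nat.ble (nat_lit 4974) i))
noncomputable def t4975_4977 (i : ℕ) : ℕ := (@Bool.rec (fun _ => ℕ) l4975 l4976 (Nat.ble (nat_lit 4976) i))
noncomputable def t4977_4980 (i : ℕ) : ℕ := (@Bool.rec (fun _ => ℕ) l4977 (@Bool.rec (fun _ => ℕ) l4978 l4979 (Nat.ble (nat_lit 4979) i)) (Nat.ble (nat_lit 4978) i))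
noncomputable def t4980_4982 (i : ℕ) : ℕ := (@Bool.rec (fun _ => ℕ) l4980 l4981 (Nat.ble (nat_lit 4981) i))
noncomputable def t4982_4985 (i : ℕ) : ℕ := (@Bool.rec (fun _ => ℕ) l4982 (@Bool.rec (fun _ => ℕ) l4983 l4984 (Nat.ble (nat_lit 4984) i)) (Nat.ble (nat_lit 4983) i))
noncomputable def t4985_4987 (i : ℕ) : ℕ := (@Bool.rec (fun _ => ℕ) l4985 l4986 (Nat.ble (nat_lit 4986) i))
noncomputable def t4987_4990 (i : ℕ) : ℕ := (@Bool.rec (fun _ => ℕ) l4987 (@Bool.rec (fun _ => ℕ) l4988 l4989 (Nat.ble (nat_lit 4989) i)) (Nat.ble (nat_lit 4988) i))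
noncomputable def t4971_4990 (i : ℕ) : ℕ := (@Bool.rec (fun _ => ℕ) (@Bool.rec (fun _ => ℕ) (@Bool.rec (fun _ => ℕ) (t4971_4973 i) (t4973_4975 i) (Nat.ble (nat_lit 4973) i)) (@Bool.rec (fun _ => ℕ) (t4975_4977 i) (t4977_4980 i) (Nat.ble (nat_lit 4977) i)) (Nat.ble (nat_lit 4975) i)) (@Bool.rec (fun _ => ℕ) (@Bool.rec (fun _ => ℕ) (t4980_4982 i) (t4982_4985 i) (Nat.ble (nat_lit 4982) i)) (@Bool.rec (fun _ => ℕ) (t4985_4987 i) (t4987_4990 i) (Nat.ble (nat_lit 4987) i)) (Nat.ble (nat_lit 4985) i)) (Nat.ble (nat_lit 4980) i))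
noncomputable def t4990_4992 (i : ℕ) : ℕ := (@Bool.rec (fun _ => ℕ) l4990 l4991 (Nat.ble (nat_lit 4991) i))
noncomputable def t4992_4994 (i : ℕ) : ℕ := (@Bool.rec (fun _ => ℕ) l4992 l4993 (Nat.ble (nat_lit 4993) i))
noncomputable def t4994_4996 (i : ℕ) : ℕ := (@Bool.rec (fun _ => ℕ) l4994 l4995 (Nat.ble (nat_lit 4995) i))
noncomputable def t4996_4999 (i : ℕ) : ℕ := (@Bool.rec (fun _ => ℕ) l4996 (@Bool.rec (fun _ => ℕ) l4997 l4998 (Nat.ble (nat_lit 4998) i)) (Nat.ble (nat_lit 4997) i))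
noncomputable def t4999_5001 (i : ℕ) : ℕ := (@Bool.rec (fun _ => ℕ) l4999 l5000 (Nat.ble (nat_lit 5000) i))
noncomputable def t5001_5004 (i : ℕ) : ℕ := (@Bool.rec (fun _ => ℕ) l5001 (@Bool.rec (fun _ => ℕ) l5002 l5003 (Nat.ble (nat_lit 5003) i)) (Nat.ble (nat_lit 5002) i))
noncomputable def t5004_5006 (i : ℕ) : ℕ := (@Bool.rec (fun _ => ℕ) l5004 l5005 (Nat.ble (nat_lit 5005) i))
noncomputable def t5006_5009 (i : ℕ) : ℕ := (@Bool.rec (fun _ => ℕ) l5006 (@Bool.rec (fun _ => ℕ) l5007 l5008 (Nat.ble (nat_lit 5008) i)) (Nat.ble (nat_lit 5007) i))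
noncomputable def t4990_5009 (i : ℕ) : ℕ := (@Bool.rec (fun _ => ℕ) (@Bool.rec (fun _ => ℕ) (@Bool.rec (fun _ => ℕ) (t4990_4992 i) (t4992_4994 i) (Nat.ble (nat_lit 4992) i)) (@Bool.rec (fun _ => ℕ) (t4994_4996 i) (t4996_4999 i) (Nat.ble (nat_lit 4996) i)) (Nat.ble (nat_lit 4994) i)) (@Bool.rec (fun _ => ℕ) (@Bool.rec (fun _ => ℕ) (t4999_5001 i) (t5001_5004 i) (Nat.ble (nat_lit 5001) i)) (@Bool.rec (fun _ => ℕ) (t5004_5006 i) (t5006_5009 i) (Nat.ble (nat_lit 5006) i)) (Nat.ble (nat_lit 5004) i)) (Nat.ble (nat_lit 4999) i))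
noncomputable def t5009_5011 (i : ℕ) : ℕ := (@Bool.rec (fun _ => ℕ) l5009 l5010 (Nat.ble (nat_lit 5010) i))
noncomputable def t5011_5013 (i : ℕ) : ℕ := (@Bool.rec (fun _ => ℕ) l5011 l5012 (Nat.ble (nat_lit 5012) i))
noncomputable def t5013_5015 (i : ℕ) : ℕ := (@Bool.rec (fun _ => ℕ) l5013 l5014 (Nat.ble (nat_lit 5014) i))
noncomputable def t5015_5018 (i : ℕ) : ℕ := (@Bool.rec (fun _ => ℕ) l5015 (@Bool.rec (fun _ => ℕ) l5016 l5017 (Nat.ble (nat_lit 5017) i)) (Nat.ble (nat_lit 5016) i))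
noncomputable def t5018_5020 (i : ℕ) : ℕ := (@Bool.rec (fun _ => ℕ) l5018 l5019 (Nat.ble (nat_lit 5019) i))
noncomputable def t5020_5023 (i : ℕ) : ℕ := (@Bool.rec (fun _ => ℕ) l5020 (@Bool.rec (fun _ => ℕ) l5021 l5022 (Nat.ble (nat_lit 5022) i)) (Nat.ble (nat_lit 5021) i))
noncomputable def t5023_5025 (i : ℕ) : ℕ := (@Bool.rec (fun _ => ℕ) l5023 l5024 (Nat.ble (nat_lit 5024) i))
noncomputable def t5025_5028 (i : ℕ) : ℕ := (@Bool.rec (fun _ => ℕ) l5025 (@Bool.rec (fun _ => ℕ) l5026 l5027 (Nat.ble (nat_lit 5027) i)) (Nat.ble (nat_lit 5026) i))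
noncomputable def t5009_5028 (i : ℕ) : ℕ := (@Bool.rec (fun _ => ℕ) (@Bool.rec (fun _ => ℕ) (@Bool.rec (fun _ => ℕ) (t5009_5011 i) (t5011_5013 i) (Nat.ble (nat_lit 5011) i)) (@Bool.rec (fun _ => ℕ) (t5013_5015 i) (t5015_5018 i) (Nat.ble (nat_lit 5015) i)) (Nat.ble (nat_lit 5013) i)) (@Bool.rec (fun _ => ℕ) (@Bool.rec (fun _ => ℕ) (t5018_5020 i) (t5020_5023 i) (Nat.ble (nat_lit 5020) i)) (@Bool.rec (fun _ => ℕ) (t5023_5025 i) (t5025_5028 i) (Nat.ble (nat_lit 5025) i)) (Nat.ble (nat_lit 5023) i)) (Nat.ble (nat_lit 5018) i))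
noncomputable def t5028_5030 (i : ℕ) : ℕ := (@Bool.rec (fun _ => ℕ) l5028 l5029 (Nat.ble (nat_lit 5029) i))
noncomputable def t5030_5032 (i : ℕ) : ℕ := (@Bool.rec (fun _ => ℕ) l5030 l5031 (Nat.ble (nat_lit 5031) i))
noncomputable def t5032_5034 (i : ℕ) : ℕ := (@Bool.rec (fun _ => ℕ) l5032 l5033 (Nat.ble (nat_lit 5033) i))
noncomputable def t5034_5037 (i : ℕ) : ℕ := (@Bool.rec (fun _ => ℕ) l5034 (@Bool.rec (fun _ => ℕ) l5035 l5036 (Nat.ble (nat_lit 5036) i)) (Nat.ble (nat_lit 5035) i))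
noncomputable def t5037_5039 (i : ℕ) : ℕ := (@Bool.rec (fun _ => ℕ) l5037 l5038 (Nat.ble (nat_lit 5038) i))
noncomputable def t5039_5041 (i : ℕ) : ℕ := (@Bool.rec (fun _ => ℕ) l5039 l5040 (Nat.ble (nat_lit 5040) i))
noncomputable def t5041_5043 (i : ℕ) : ℕ := (@Bool.rec (fun _ => ℕ) l5041 l5042 (Nat.ble (nat_lit 5042) i))
noncomputable def t5043_5046 (i : ℕ) : ℕ := (@Bool.rec (fun _ => ℕ) l5043 (@Bool.rec (fun _ => ℕ) l5044 l5045 (Nat.ble (nat_lit 5045) i)) (Nat.ble (nat_lit 5044) i))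
noncomputable def t5028_5046 (i : ℕ) : ℕ := (@Bool.rec (fun _ => ℕ) (@Bool.rec (fun _ => ℕ) (@Bool.rec (fun _ => ℕ) (t5028_5030 i) (t5030_5032 i) (Nat.ble (nat_lit 5030) i)) (@Bool.rec (fun _ => ℕ) (t5032_5034 i) (t5034_5037 i) (Nat.ble (nat_lit 5034) i)) (Nat.ble (nat_lit 5032) i)) (@Bool.rec (fun _ => ℕ) (@Bool.rec (fun _ => ℕ) (t5037_5039 i) (t5039_5041 i) (Nat.ble (nat_lit 5039) i)) (@Bool.rec (fun _ => ℕ) (t5041_5043 i) (t5043_5046 i) (Nat.ble (nat_lit 5043) i)) (Nat.ble (nat_lit 5041) i)) (Nat.ble (nat_lit 5037) i))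
noncomputable def t5046_5048 (i : ℕ) : ℕ := (@Bool.rec (fun _ => ℕ) l5046 l5047 (Nat.ble (nat_lit 5047) i))
noncomputable def t5048_5050 (i : ℕ) : ℕ := (@Bool.rec (fun _ => ℕ) l5048 l5049 (Nat.ble (nat_lit 5049) i))
noncomputable def t5050_5052 (i : ℕ) : ℕ := (@Bool.rec (fun _ => ℕ) l5050 l5051 (Nat.ble (nat_lit 5051) i))
noncomputable def t5052_5055 (i : ℕ) : ℕ := (@Bool.rec (fun _ => ℕ) l5052 (@Bool.rec (fun _ => ℕ) l5053 l5054 (Nat.ble (nat_lit 5054) i)) (Nat.ble (nat_lit 5053) i))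
noncomputable def t5055_5057 (i : ℕ) : ℕ := (@Bool.rec (fun _ => ℕ) l5055 l5056 (Nat.ble (nat_lit 5056) i))
noncomputable def t5057_5060 (i : ℕ) : ℕ := (@Bool.rec (fun _ => ℕ) l5057 (@Bool.rec (fun _ => ℕ) l5058 l5059 (Nat.ble (nat_lit 5059) i)) (Nat.ble (nat_lit 5058) i))
noncomputable def t5060_5062 (i : ℕ) : ℕ := (@Bool.rec (fun _ => ℕ) l5060 l5061 (Nat.ble (nat_lit 5061) i))
noncomputable def t5062_5065 (i : ℕ) : ℕ := (@Bool.rec (fun _ => ℕ) l5062 (@Bool.rec (fun _ => ℕ) l5063 l5064 (Nat.ble (nat_lit 5064) i)) (Nat.ble (nat_lit 5063) i))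
noncomputable def t5046_5065 (i : ℕ) : ℕ := (@Bool.rec (fun _ => ℕ) (@Bool.rec (fun _ => ℕ) (@Bool.rec (fun _ => ℕ) (t5046_5048 i) (t5048_5050 i) (Nat.ble (nat_lit 5048) i)) (@Bool.rec (fun _ => ℕ) (t5050_5052 i) (t5052_5055 i) (Nat.ble (nat_lit 5052) i)) (Nat.ble (nat_lit 5050) i)) (@Bool.rec (fun _ => ℕ) (@Bool.rec (fun _ => ℕ) (t5055_5057 i) (t5057_5060 i) (Nat.ble (nat_lit 5057) i)) (@Bool.rec (fun _ => ℕ) (t5060_5062 i) (t5062_5065 i) (Nat.ble (nat_lit 5062) i)) (Nat.ble (nat_lit 5060) i)) (Nat.ble (nat_lit 5055) i))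
noncomputable def t5065_5067 (i : ℕ) : ℕ := (@Bool.rec (fun _ => ℕ) l5065 l5066 (Nat.ble (nat_lit 5066) i))
noncomputable def t5067_5069 (i : ℕ) : ℕ := (@Bool.rec (fun _ => ℕ) l5067 l5068 (Nat.ble (nat_lit 5068) i))
noncomputable def t5069_5071 (i : ℕ) : ℕ := (@Bool.rec (fun _ => ℕ) l5069 l5070 (Nat.ble (nat_lit 5070) i))
noncomputable def t5071_5074 (i : ℕ) : ℕ := (@Bool.rec (fun _ => ℕ) l5071 (@Bool.rec (fun _ => ℕ) l5072 l5073 (Nat.ble (nat_lit 5073) i)) (Nat.ble (nat_lit 5072) i))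
noncomputable def t5074_5076 (i : ℕ) : ℕ := (@Bool.rec (fun _ => ℕ) l5074 l5075 (Nat.ble (nat_lit 5075) i))
noncomputable def t5076_5079 (i : ℕ) : ℕ := (@Bool.rec (fun _ => ℕ) l5076 (@Bool.rec (fun _ => ℕ) l5077 l5078 (Nat.ble (nat_lit 5078) i)) (Nat.ble (nat_lit 5077) i))
noncomputable def t5079_5081 (i : ℕ) : ℕ := (@Bool.rec (fun _ => ℕ) l5079 l5080 (Nat.ble (nat_lit 5080) i))
noncomputable def t5081_5084 (i : ℕ) : ℕ := (@Bool.rec (fun _ => ℕ) l5081 (@Bool.rec (fun _ => ℕ) l5082 l5083 (Nat.ble (nat_lit 5083) i)) (Nat.ble (nat_lit 5082) i))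
noncomputable def t5065_5084 (i : ℕ) : ℕ := (@Bool.rec (fun _ => ℕ) (@Bool.rec (fun _ => ℕ) (@Bool.rec (fun _ => ℕ) (t5065_5067 i) (t5067_5069 i) (Nat.ble (nat_lit 5067) i)) (@Bool.rec (fun _ => ℕ) (t5069_5071 i) (t5071_5074 i) (Nat.ble (nat_lit 5071) i)) (Nat.ble (nat_lit 5069) i)) (@Bool.rec (fun _ => ℕ) (@Bool.rec (fun _ => ℕ) (t5074_5076 i) (t5076_5079 i) (Nat.ble (nat_lit 5076) i)) (@Bool.rec (fun _ => ℕ) (t5079_5081 i) (t5081_5084 i) (Nat.ble (nat_lit 5081) i)) (Nat.ble (nat_lit 5079) i)) (Nat.ble (nat_lit 5074) i))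
noncomputable def t5084_5086 (i : ℕ) : ℕ := (@Bool.rec (fun _ => ℕ) l5084 l5085 (Nat.ble (nat_lit 5085) i))
noncomputable def t5086_5088 (i : ℕ) : ℕ := (@Bool.rec (fun _ => ℕ) l5086 l5087 (Nat.ble (nat_lit 5087) i))
noncomputable def t5088_5090 (i : ℕ) : ℕ := (@Bool.rec (fun _ => ℕ) l5088 l5089 (Nat.ble (nat_lit 5089) i))
noncomputable def t5090_5093 (i : ℕ) : ℕ := (@Bool.rec (fun _ => ℕ) l5090 (@Bool.rec (fun _ => ℕ) l5091 l5092 (Nat.ble (nat_lit 5092) i)) (Nat.ble (nat_lit 5091) i))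
noncomputable def t5093_5095 (i : ℕ) : ℕ := (@Bool.rec (fun _ => ℕ) l5093 l5094 (Nat.ble (nat_lit 5094) i))
noncomputable def t5095_5098 (i : ℕ) : ℕ := (@Bool.rec (fun _ => ℕ) l5095 (@Bool.rec (fun _ => ℕ) l5096 l5097 (Nat.ble (nat_lit 5097) i)) (Nat.ble (nat_lit 5096) i))
noncomputable def t5098_5100 (i : ℕ) : ℕ := (@Bool.rec (fun _ => ℕ) l5098 l5099 (Nat.ble (nat_lit 5099) i))
noncomputable def t5100_5103 (i : ℕ) : ℕ := (@Bool.rec (fun _ => ℕ) l5100 (@Bool.rec (fun _ => ℕ) l5101 l5102 (Nat.ble (nat_lit 5102) i)) (Nat.ble (nat_lit 5101) i))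
noncomputable def t5084_5103 (i : ℕ) : ℕ := (@Bool.rec (fun _ => ℕ) (@Bool.rec (fun _ => ℕ) (@Bool.rec (fun _ => ℕ) (t5084_5086 i) (t5086_5088 i) (Nat.ble (nat_lit 5086) i)) (@Bool.rec (fun _ => ℕ) (t5088_5090 i) (t5090_5093 i) (Nat.ble (nat_lit 5090) i)) (Nat.ble (nat_lit 5088) i)) (@Bool.rec (fun _ => ℕ) (@Bool.rec (fun _ => ℕ) (t5093_5095 i) (t5095_5098 i) (Nat.ble (nat_lit 5095) i)) (@Bool.rec (fun _ => ℕ) (t5098_5100 i) (t5100_5103 i) (Nat.ble (nat_lit 5100) i)) (Nat.ble (nat_lit 5098) i)) (Nat.ble (nat_lit 5093) i))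
noncomputable def t4953_5103 (i : ℕ) : ℕ := (@Bool.rec (fun _ => ℕ) (@Bool.rec (fun _ => ℕ) (@Bool.rec (fun _ => ℕ) (t4953_4971 i) (t4971_4990 i) (Nat.ble (nat_lit 4971) i)) (@Bool.rec (fun _ => ℕ) (t4990_5009 i) (t5009_5028 i) (Nat.ble (nat_lit 5009) i)) (Nat.ble (nat_lit 4990) i)) (@Bool.rec (fun _ => ℕ) (@Bool.rec (fun _ => ℕ) (t5028_5046 i) (t5046_5065 i) (Nat.ble (nat_lit 5046) i)) (@Bool.rec (fun _ => ℕ) (t5065_5084 i) (t5084_5103 i) (Nat.ble (nat_lit 5084) i)) (Nat.ble (nat_lit 5065) i)) (Nat.ble (nat_lit 5028) i))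
noncomputable def t5103_5105 (i : ℕ) : ℕ := (@Bool.rec (fun _ => ℕ) l5103 l5104 (Nat.ble (nat_lit 5104) i))
noncomputable def t5105_5107 (i : ℕ) : ℕ := (@Bool.rec (fun _ => ℕ) l5105 l5106 (Nat.ble (nat_lit 5106) i))
noncomputable def t5107_5109 (i : ℕ) : ℕ := (@Bool.rec (fun _ => ℕ) l5107 l5108 (Nat.ble (nat_lit 5108) i))
noncomputable def t5109_5112 (i : ℕ) : ℕ := (@Bool.rec (fun _ => ℕ) l5109 (@Bool.rec (fun _ => ℕ) l5110 l5111 (Nat.ble (nat_lit 5111) i)) (Nat.ble (nat_lit 5110) i))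
noncomputable def t5112_5114 (i : ℕ) : ℕ := (@Bool.rec (fun _ => ℕ) l5112 l5113 (Nat.ble (nat_lit 5113) i))
noncomputable def t5114_5116 (i : ℕ) : ℕ := (@Bool.rec (fun _ => ℕ) l5114 l5115 (Nat.ble (nat_lit 5115) i))
noncomputable def t5116_5118 (i : ℕ) : ℕ := (@Bool.rec (fun _ => ℕ) l5116 l5117 (Nat.ble (nat_lit 5117) i))
noncomputable def t5118_5121 (i : ℕ) : ℕ := (@Bool.rec (fun _ => ℕ) l5118 (@Bool.rec (fun _ => ℕ) l5119 l5120 (Nat.ble (nat_lit 5120) i)) (Nat.ble (nat_lit 5119) i))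
noncomputable def t5103_5121 (i : ℕ) : ℕ := (@Bool.rec (fun _ => ℕ) (@Bool.rec (fun _ => ℕ) (@Bool.rec (fun _ => ℕ) (t5103_5105 i) (t5105_5107 i) (Nat.ble (nat_lit 5105) i)) (@Bool.rec (fun _ => ℕ) (t5107_5109 i) (t5109_5112 i) (Nat.ble (nat_lit 5109) i)) (Nat.ble (nat_lit 5107) i)) (@Bool.rec (fun _ => ℕ) (@Bool.rec (fun _ => ℕ) (t5112_5114 i) (t5114_5116 i) (Nat.ble (nat_lit 5114) i)) (@Bool.rec (fun _ => ℕ) (t5116_5118 i) (t5118_5121 i) (Nat.ble (nat_lit 5118) i)) (Nat.ble (nat_lit 5116) i)) (Nat.ble (nat_lit 5112) i))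
noncomputable def t5121_5123 (i : ℕ) : ℕ := (@Bool.rec (fun _ => ℕ) l5121 l5122 (Nat.ble (nat_lit 5122) i))
noncomputable def t5123_5125 (i : ℕ) : ℕ := (@Bool.rec (fun _ => ℕ) l5123 l5124 (Nat.ble (nat_lit 5124) i))
noncomputable def t5125_5127 (i : ℕ) : ℕ := (@Bool.rec (fun _ => ℕ) l5125 l5126 (Nat.ble (nat_lit 5126) i))
noncomputable def t5127_5130 (i : ℕ) : ℕ := (@Bool.rec (fun _ => ℕ) l5127 (@Bool.rec (fun _ => ℕ) l5128 l5129 (Nat.ble (nat_lit 5129) i)) (Nat.ble (nat_lit 5128) i))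
noncomputable def t5130_5132 (i : ℕ) : ℕ := (@Bool.rec (fun _ => ℕ) l5130 l5131 (Nat.ble (nat_lit 5131) i))
noncomputable def t5132_5135 (i : ℕ) : ℕ := (@Bool.rec (fun _ => ℕ) l5132 (@Bool.rec (fun _ => ℕ) l5133 l5134 (Nat.ble (nat_lit 5134) i)) (Nat.ble (nat_lit 5133) i))
noncomputable def t5135_5137 (i : ℕ) : ℕ := (@Bool.rec (fun _ => ℕ) l5135 l5136 (Nat.ble (nat_lit 5136) i))
noncomputable def t5137_5140 (i : ℕ) : ℕ := (@Bool.rec (fun _ => ℕ) l5137 (@Bool.rec (fun _ => ℕ) l5138 l5139 (Nat.ble (nat_lit 5139) i)) (Nat.ble (nat_lit 5138) i))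
noncomputable def t5121_5140 (i : ℕ) : ℕ := (@Bool.rec (fun _ => ℕ) (@Bool.rec (fun _ => ℕ) (@Bool.rec (fun _ => ℕ) (t5121_5123 i) (t5123_5125 i) (Nat.ble (nat_lit 5123) i)) (@Bool.rec (fun _ => ℕ) (t5125_5127 i) (t5127_5130 i) (Nat.ble (nat_lit 5127) i)) (Nat.ble (nat_lit 5125) i)) (@Bool.rec (fun _ => ℕ) (@Bool.rec (fun _ => ℕ) (t5130_5132 i) (t5132_5135 i) (Nat.ble (nat_lit 5132) i)) (@Bool.rec (fun _ => ℕ) (t5135_5137 i) (t5137_5140 i) (Nat.ble (nat_lit 5137) i)) (Nat.ble (nat_lit 5135) i)) (Nat.ble (nat_lit 5130) i))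
noncomputable def t5140_5142 (i : ℕ) : ℕ := (@Bool.rec (fun _ => ℕ) l5140 l5141 (Nat.ble (nat_lit 5141) i))
noncomputable def t5142_5144 (i : ℕ) : ℕ := (@Bool.rec (fun _ => ℕ) l5142 l5143 (Nat.ble (nat_lit 5143) i))
noncomputable def t5144_5146 (i : ℕ) : ℕ := (@Bool.rec (fun _ => ℕ) l5144 l5145 (Nat.ble (nat_lit 5145) i))
noncomputable def t5146_5149 (i : ℕ) : ℕ := (@Bool.rec (fun _ => ℕ) l5146 (@Bool.rec (fun _ => ℕ) l5147 l5148 (Nat.ble (nat_lit 5148) i)) (Nat.ble (nat_lit 5147) i))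
noncomputable def t5149_5151 (i : ℕ) : ℕ := (@Bool.rec (fun _ => ℕ) l5149 l5150 (Nat.ble (nat_lit 5150) i))
noncomputable def t5151_5154 (i : ℕ) : ℕ := (@Bool.rec (fun _ => ℕ) l5151 (@Bool.rec (fun _ => ℕ) l5152 l5153 (Nat.ble (nat_lit 5153) i)) (Nat.ble (nat_lit 5152) i))
noncomputable def t5154_5156 (i : ℕ) : ℕ := (@Bool.rec (fun _ => ℕ) l5154 l5155 (Nat.ble (nat_lit 5155) i))
noncomputable def t5156_5159 (i : ℕ) : ℕ := (@Bool.rec (fun _ => ℕ) l5156 (@Bool.rec (fun _ => ℕ) l5157 l5158 (Nat.ble (nat_lit 5158) i)) (Nat.ble (nat_lit 5157) i))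
noncomputable def t5140_5159 (i : ℕ) : ℕ := (@Bool.rec (fun _ => ℕ) (@Bool.rec (fun _ => ℕ) (@Bool.rec (fun _ => ℕ) (t5140_5142 i) (t5142_5144 i) (Nat.ble (nat_lit 5142) i)) (@Bool.rec (fun _ => ℕ) (t5144_5146 i) (t5146_5149 i) (Nat.ble (nat_lit 5146) i)) (Nat.ble (nat_lit 5144) i)) (@Bool.rec (fun _ => ℕ) (@Bool.rec (fun _ => ℕ) (t5149_5151 i) (t5151_5154 i) (Nat.ble (nat_lit 5151) i)) (@Bool.rec (fun _ => ℕ) (t5154_5156 i) (t5156_5159 i) (Nat.ble (nat_lit 5156) i)) (Nat.ble (nat_lit 5154) i)) (Nat.ble (nat_lit 5149) i))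
noncomputable def t5159_5161 (i : ℕ) : ℕ := (@Bool.rec (fun _ => ℕ) l5159 l5160 (Nat.ble (nat_lit 5160) i))
noncomputable def t5161_5163 (i : ℕ) : ℕ := (@Bool.rec (fun _ => ℕ) l5161 l5162 (Nat.ble (nat_lit 5162) i))
noncomputable def t5163_5165 (i : ℕ) : ℕ := (@Bool.rec (fun _ => ℕ) l5163 l5164 (Nat.ble (nat_lit 5164) i))
noncomputable def t5165_5168 (i : ℕ) : ℕ := (@Bool.rec (fun _ => ℕ) l5165 (@Bool.rec (fun _ => ℕ) l5166 l5167 (Nat.ble (nat_lit 5167) i)) (Nat.ble (nat_lit 5166) i))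
noncomputable def t5168_5170 (i : ℕ) : ℕ := (@Bool.rec (fun _ => ℕ) l5168 l5169 (Nat.ble (nat_lit 5169) i))
noncomputable def t5170_5173 (i : ℕ) : ℕ := (@Bool.rec (fun _ => ℕ) l5170 (@Bool.rec (fun _ => ℕ) l5171 l5172 (Nat.ble (nat_lit 5172) i)) (Nat.ble (nat_lit 5171) i))
noncomputable def t5173_5175 (i : ℕ) : ℕ := (@Bool.rec (fun _ => ℕ) l5173 l5174 (Nat.ble (nat_lit 5174) i))
noncomputable def t5175_5178 (i : ℕ) : ℕ := (@Bool.rec (fun _ => ℕ) l5175 (@Bool.rec (fun _ => ℕ) l5176 l5177 (Nat.ble (nat_lit 5177) i)) (Nat.ble (nat_lit 5176) i))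
noncomputable def t5159_5178 (i : ℕ) : ℕ := (@Bool.rec (fun _ => ℕ) (@Bool.rec (fun _ => ℕ) (@Bool.rec (fun _ => ℕ) (t5159_5161 i) (t5161_5163 i) (Nat.ble (nat_lit 5161) i)) (@Bool.rec (fun _ => ℕ) (t5163_5165 i) (t5165_5168 i) (Nat.ble (nat_lit 5165) i)) (Nat.ble (nat_lit 5163) i)) (@Bool.rec (fun _ => ℕ) (@Bool.rec (fun _ => ℕ) (t5168_5170 i) (t5170_5173 i) (Nat.ble (nat_lit 5170) i)) (@Bool.rec (fun _ => ℕ) (t5173_5175 i) (t5175_5178 i) (Nat.ble (nat_lit 5175) i)) (Nat.ble (nat_lit 5173) i)) (Nat.ble (nat_lit 5168) i))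
noncomputable def t5178_5180 (i : ℕ) : ℕ := (@Bool.rec (fun _ => ℕ) l5178 l5179 (Nat.ble (nat_lit 5179) i))
noncomputable def t5180_5182 (i : ℕ) : ℕ := (@Bool.rec (fun _ => ℕ) l5180 l5181 (Nat.ble (nat_lit 5181) i))
noncomputable def t5182_5184 (i : ℕ) : ℕ := (@Bool.rec (fun _ => ℕ) l5182 l5183 (Nat.ble (nat_lit 5183) i))
noncomputable def t5184_5187 (i : ℕ) : ℕ := (@Bool.rec (fun _ => ℕ) l5184 (@Bool.rec (fun _ => ℕ) l5185 l5186 (Nat.ble (nat_lit 5186) i)) (Nat.ble (nat_lit 5185) i))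
noncomputable def t5187_5189 (i : ℕ) : ℕ := (@Bool.rec (fun _ => ℕ) l5187 l5188 (Nat.ble (nat_lit 5188) i))
noncomputable def t5189_5191 (i : ℕ) : ℕ := (@Bool.rec (fun _ => ℕ) l5189 l5190 (Nat.ble (nat_lit 5190) i))
noncomputable def t5191_5193 (i : ℕ) : ℕ := (@Bool.rec (fun _ => ℕ) l5191 l5192 (Nat.ble (nat_lit 5192) i))
noncomputable def t5193_5196 (i : ℕ) : ℕ := (@Bool.rec (fun _ => ℕ) l5193 (@Bool.rec (fun _ => ℕ) l5194 l5195 (Nat.ble (nat_lit 5195) i)) (Nat.ble (nat_lit 5194) i))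
noncomputable def t5178_5196 (i : ℕ) : ℕ := (@Bool.rec (fun _ => ℕ) (@Bool.rec (fun _ => ℕ) (@Bool.rec (fun _ => ℕ) (t5178_5180 i) (t5180_5182 i) (Nat.ble (nat_lit 5180) i)) (@Bool.rec (fun _ => ℕ) (t5182_5184 i) (t5184_5187 i) (Nat.ble (nat_lit 5184) i)) (Nat.ble (nat_lit 5182) i)) (@Bool.rec (fun _ => ℕ) (@Bool.rec (fun _ => ℕ) (t5187_5189 i) (t5189_5191 i) (Nat.ble (nat_lit 5189) i)) (@Bool.rec (fun _ => ℕ) (t5191_5193 i) (t5193_5196 i) (Nat.ble (nat_lit 5193) i)) (Nat.ble (nat_lit 5191) i)) (Nat.ble (nat_lit 5187) i))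
noncomputable def t5196_5198 (i : ℕ) : ℕ := (@Bool.rec (fun _ => ℕ) l5196 l5197 (Nat.ble (nat_lit 5197) i))
noncomputable def t5198_5200 (i : ℕ) : ℕ := (@Bool.rec (fun _ => ℕ) l5198 l5199 (Nat.ble (nat_lit 5199) i))
noncomputable def t5200_5202 (i : ℕ) : ℕ := (@Bool.rec (fun _ => ℕ) l5200 l5201 (Nat.ble (nat_lit 5201) i))
noncomputable def t5202_5205 (i : ℕ) : ℕ := (@Bool.rec (fun _ => ℕ) l5202 (@Bool.rec (fun _ => ℕ) l5203 l5204 (Nat.ble (nat_lit 5204) i)) (Nat.ble (nat_lit 5203) i))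
noncomputable def t5205_5207 (i : ℕ) : ℕ := (@Bool.rec (fun _ => ℕ) l5205 l5206 (Nat.ble (nat_lit 5206) i))
noncomputable def t5207_5210 (i : ℕ) : ℕ := (@Bool.rec (fun _ => ℕ) l5207 (@Bool.rec (fun _ => ℕ) l5208 l5209 (Nat.ble (nat_lit 5209) i)) (Nat.ble (nat_lit 5208) i))
noncomputable def t5210_5212 (i : ℕ) : ℕ := (@Bool.rec (fun _ => ℕ) l5210 l5211 (Nat.ble (nat_lit 5211) i))
noncomputable def t5212_5215 (i : ℕ) : ℕ := (@Bool.rec (fun _ => ℕ) l5212 (@Bool.rec (fun _ => ℕ) l5213 l5214 (Nat.ble (nat_lit 5214) i)) (Nat.ble (nat_lit 5213) i))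
noncomputable def t5196_5215 (i : ℕ) : ℕ := (@Bool.rec (fun _ => ℕ) (@Bool.rec (fun _ => ℕ) (@Bool.rec (fun _ => ℕ) (t5196_5198 i) (t5198_5200 i) (Nat.ble (nat_lit 5198) i)) (@Bool.rec (fun _ => ℕ) (t5200_5202 i) (t5202_5205 i) (Nat.ble (nat_lit 5202) i)) (Nat.ble (nat_lit 5200) i)) (@Bool.rec (fun _ => ℕ) (@Bool.rec (fun _ => ℕ) (t5205_5207 i) (t5207_5210 i) (Nat.ble (nat_lit 5207) i)) (@Bool.rec (fun _ => ℕ) (t5210_5212 i) (t5212_5215 i) (Nat.ble (nat_lit 5212) i)) (Nat.ble (nat_lit 5210) i)) (Nat.ble (nat_lit 5205) i))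
noncomputable def t5215_5217 (i : ℕ) : ℕ := (@Bool.rec (fun _ => ℕ) l5215 l5216 (Nat.ble (nat_lit 5216) i))
noncomputable def t5217_5219 (i : ℕ) : ℕ := (@Bool.rec (fun _ => ℕ) l5217 l5218 (Nat.ble (nat_lit 5218) i))
noncomputable def t5219_5221 (i : ℕ) : ℕ := (@Bool.rec (fun _ => ℕ) l5219 l5220 (Nat.ble (nat_lit 5220) i))
noncomputable def t5221_5224 (i : ℕ) : ℕ := (@Bool.rec (fun _ => ℕ) l5221 (@Bool.rec (fun _ => ℕ) l5222 l5223 (Nat.ble (nat_lit 5223) i)) (Nat.ble (nat_lit 5222) i))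
noncomputable def t5224_5226 (i : ℕ) : ℕ := (@Bool.rec (fun _ => ℕ) l5224 l5225 (Nat.ble (nat_lit 5225) i))
noncomputable def t5226_5229 (i : ℕ) : ℕ := (@Bool.rec (fun _ => ℕ) l5226 (@Bool.rec (fun _ => ℕ) l5227 l5228 (Nat.ble (nat_lit 5228) i)) (Nat.ble (nat_lit 5227) i))
noncomputable def t5229_5231 (i : ℕ) : ℕ := (@Bool.rec (fun _ => ℕ) l5229 l5230 (Nat.ble (nat_lit 5230) i))
noncomputable def t5231_5234 (i : ℕ) : ℕ := (@Bool.rec (fun _ => ℕ) l5231 (@Bool.rec (fun _ => ℕ) l5232 l5233 (Nat.ble (nat_lit 5233) i)) (Nat.ble (nat_lit 5232) i))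
noncomputable def t5215_5234 (i : ℕ) : ℕ := (@Bool.rec (fun _ => ℕ) (@Bool.rec (fun _ => ℕ) (@Bool.rec (fun _ => ℕ) (t5215_5217 i) (t5217_5219 i) (Nat.ble (nat_lit 5217) i)) (@Bool.rec (fun _ => ℕ) (t5219_5221 i) (t5221_5224 i) (Nat.ble (nat_lit 5221) i)) (Nat.ble (nat_lit 5219) i)) (@Bool.rec (fun _ => ℕ) (@Bool.rec (fun _ => ℕ) (t5224_5226 i) (t5226_5229 i) (Nat.ble (nat_lit 5226) i)) (@Bool.rec (fun _ => ℕ) (t5229_5231 i) (t5231_5234 i) (Nat.ble (nat_lit 5231) i)) (Nat.ble (nat_lit 5229) i)) (Nat.ble (nat_lit 5224) i))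
noncomputable def t5234_5236 (i : ℕ) : ℕ := (@Bool.rec (fun _ => ℕ) l5234 l5235 (Nat.ble (nat_lit 5235) i))
noncomputable def t5236_5238 (i : ℕ) : ℕ := (@Bool.rec (fun _ => ℕ) l5236 l5237 (Nat.ble (nat_lit 5237) i))
noncomputable def t5238_5240 (i : ℕ) : ℕ := (@Bool.rec (fun _ => ℕ) l5238 l5239 (Nat.ble (nat_lit 5239) i))
noncomputable def t5240_5243 (i : ℕ) : ℕ := (@Bool.rec (fun _ => ℕ) l5240 (@Bool.rec (fun _ => ℕ) l5241 l5242 (Nat.ble (nat_lit 5242) i)) (Nat.ble (nat_lit 5241) i))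
noncomputable def t5243_5245 (i : ℕ) : ℕ := (@Bool.rec (fun _ => ℕ) l5243 l5244 (Nat.ble (nat_lit 5244) i))
noncomputable def t5245_5248 (i : ℕ) : ℕ := (@Bool.rec (fun _ => ℕ) l5245 (@Bool.rec (fun _ => ℕ) l5246 l5247 (Nat.ble (nat_lit 5247) i)) (Nat.ble (nat_lit 5246) i))
noncomputable def t5248_5250 (i : ℕ) : ℕ := (@Bool.rec (fun _ => ℕ) l5248 l5249 (Nat.ble (nat_lit 5249) i))
noncomputable def t5250_5253 (i : ℕ) : ℕ := (@Bool.rec (fun _ => ℕ) l5250 (@Bool.rec (fun _ => ℕ) l5251 l5252 (Nat.ble (nat_lit 5252) i)) (Nat.ble (nat_lit 5251) i))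
noncomputable def t5234_5253 (i : ℕ) : ℕ := (@Bool.rec (fun _ => ℕ) (@Bool.rec (fun _ => ℕ) (@Bool.rec (fun _ => ℕ) (t5234_5236 i) (t5236_5238 i) (Nat.ble (nat_lit 5236) i)) (@Bool.rec (fun _ => ℕ) (t5238_5240 i) (t5240_5243 i) (Nat.ble (nat_lit 5240) i)) (Nat.ble (nat_lit 5238) i)) (@Bool.rec (fun _ => ℕ) (@Bool.rec (fun _ => ℕ) (t5243_5245 i) (t5245_5248 i) (Nat.ble (nat_lit 5245) i)) (@Bool.rec (fun _ => ℕ) (t5248_5250 i) (t5250_5253 i) (Nat.ble (nat_lit 5250) i)) (Nat.ble (nat_lit 5248) i)) (Nat.ble (nat_lit 5243) i))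
noncomputable def t5103_5253 (i : ℕ) : ℕ := (@Bool.rec (fun _ => ℕ) (@Bool.rec (fun _ => ℕ) (@Bool.rec (fun _ => ℕ) (t5103_5121 i) (t5121_5140 i) (Nat.ble (nat_lit 5121) i)) (@Bool.rec (fun _ => ℕ) (t5140_5159 i) (t5159_5178 i) (Nat.ble (nat_lit 5159) i)) (Nat.ble (nat_lit 5140) i)) (@Bool.rec (fun _ => ℕ) (@Bool.rec (fun _ => ℕ) (t5178_5196 i) (t5196_5215 i) (Nat.ble (nat_lit 5196) i)) (@Bool.rec (fun _ => ℕ) (t5215_5234 i) (t5234_5253 i) (Nat.ble (nat_lit 5234) i)) (Nat.ble (nat_lit 5215) i)) (Nat.ble (nat_lit 5178) i))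
noncomputable def t5253_5255 (i : ℕ) : ℕ := (@Bool.rec (fun _ => ℕ) l5253 l5254 (Nat.ble (nat_lit 5254) i))
noncomputable def t5255_5257 (i : ℕ) : ℕ := (@Bool.rec (fun _ => ℕ) l5255 l5256 (Nat.ble (nat_lit 5256) i))
noncomputable def t5257_5259 (i : ℕ) : ℕ := (@Bool.rec (fun _ => ℕ) l5257 l5258 (Nat.ble (nat_lit 5258) i))
noncomputable def t5259_5262 (i : ℕ) : ℕ := (@Bool.rec (fun _ => ℕ) l5259 (@Bool.rec (fun _ => ℕ) l5260 l5261 (Nat.ble (nat_lit 5261) i)) (Nat.ble (nat_lit 5260) i))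
noncomputable def t5262_5264 (i : ℕ) : ℕ := (@Bool.rec (fun _ => ℕ) l5262 l5263 (Nat.ble (nat_lit 5263) i))
noncomputable def t5264_5266 (i : ℕ) : ℕ := (@Bool.rec (fun _ => ℕ) l5264 l5265 (Nat.ble (nat_lit 5265) i))
noncomputable def t5266_5268 (i : ℕ) : ℕ := (@Bool.rec (fun _ => ℕ) l5266 l5267 (Nat.ble (nat_lit 5267) i))
noncomputable def t5268_5271 (i : ℕ) : ℕ := (@Bool.rec (fun _ => ℕ) l5268 (@Bool.rec (fun _ => ℕ) l5269 l5270 (Nat.ble (nat_lit 5270) i)) (Nat.ble (nat_lit 5269) i))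
noncomputable def t5253_5271 (i : ℕ) : ℕ := (@Bool.rec (fun _ => ℕ) (@Bool.rec (fun _ => ℕ) (@Bool.rec (fun _ => ℕ) (t5253_5255 i) (t5255_5257 i) (Nat.ble (nat_lit 5255) i)) (@Bool.rec (fun _ => ℕ) (t5257_5259 i) (t5259_5262 i) (Nat.ble (nat_lit 5259) i)) (Nat.ble (nat_lit 5257) i)) (@Bool.rec (fun _ => ℕ) (@Bool.rec (fun _ => ℕ) (t5262_5264 i) (t5264_5266 i) (Nat.ble (nat_lit 5264) i)) (@Bool.rec (fun _ => ℕ) (t5266_5268 i) (t5268_5271 i) (Nat.ble (nat_lit 5268) i)) (Nat.ble (nat_lit 5266) i)) (Nat.ble (nat_lit 5262) i))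
noncomputable def t5271_5273 (i : ℕ) : ℕ := (@Bool.rec (fun _ => ℕ) l5271 l5272 (Nat.ble (nat_lit 5272) i))
noncomputable def t5273_5275 (i : ℕ) : ℕ := (@Bool.rec (fun _ => ℕ) l5273 l5274 (Nat.ble (nat_lit 5274) i))
noncomputable def t5275_5277 (i : ℕ) : ℕ := (@Bool.rec (fun _ => ℕ) l5275 l5276 (Nat.ble (nat_lit 5276) i))
noncomputable def t5277_5280 (i : ℕ) : ℕ := (@Bool.rec (fun _ => ℕ) l5277 (@Bool.rec (fun _ => ℕ) l5278 l5279 (Nat.ble (nat_lit 5279) i)) (Nat.ble (nat_lit 5278) i))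
noncomputable def t5280_5282 (i : ℕ) : ℕ := (@Bool.rec (fun _ => ℕ) l5280 l5281 (Nat.ble (nat_lit 5281) i))
noncomputable def t5282_5285 (i : ℕ) : ℕ := (@Bool.rec (fun _ => ℕ) l5282 (@Bool.rec (fun _ => ℕ) l5283 l5284 (Nat.ble (nat_lit 5284) i)) (Nat.ble (nat_lit 5283) i))
noncomputable def t5285_5287 (i : ℕ) : ℕ := (@Bool.rec (fun _ => ℕ) l5285 l5286 (Nat.ble (nat_lit 5286) i))
noncomputable def t5287_5290 (i : ℕ) : ℕ := (@Bool.rec (fun _ => ℕ) l5287 (@Bool.rec (fun _ => ℕ) l5288 l5289 (Nat.ble (nat_lit 5289) i)) (Nat.ble (nat_lit 5288) i))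
noncomputable def t5271_5290 (i : ℕ) : ℕ := (@Bool.rec (fun _ => ℕ) (@Bool.rec (fun _ => ℕ) (@Bool.rec (fun _ => ℕ) (t5271_5273 i) (t5273_5275 i) (Nat.ble (nat_lit 5273) i)) (@Bool.rec (fun _ => ℕ) (t5275_5277 i) (t5277_5280 i) (Nat.ble (nat_lit 5277) i)) (Nat.ble (nat_lit 5275) i)) (@Bool.rec (fun _ => ℕ) (@Bool.rec (fun _ => ℕ) (t5280_5282 i) (t5282_5285 i) (Nat.ble (nat_lit 5282) i)) (@Bool.rec (fun _ => ℕ) (t5285_5287 i) (t5287_5290 i) (Nat.ble (nat_lit 5287) i)) (Nat.ble (nat_lit 5285) i)) (Nat.ble (nat_lit 5280) i))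
noncomputable def t5290_5292 (i : ℕ) : ℕ := (@Bool.rec (fun _ => ℕ) l5290 l5291 (Nat.ble (nat_lit 5291) i))
noncomputable def t5292_5294 (i : ℕ) : ℕ := (@Bool.rec (fun _ => ℕ) l5292 l5293 (Nat.ble (nat_lit 5293) i))
noncomputable def t5294_5296 (i : ℕ) : ℕ := (@Bool.rec (fun _ => ℕ) l5294 l5295 (Nat.ble (nat_lit 5295) i))
noncomputable def t5296_5299 (i : ℕ) : ℕ := (@Bool.rec (fun _ => ℕ) l5296 (@Bool.rec (fun _ => ℕ) l5297 l5298 (Nat.ble (nat_lit 5298) i)) (Nat.ble (nat_lit 5297) i))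
noncomputable def t5299_5301 (i : ℕ) : ℕ := (@Bool.rec (fun _ => ℕ) l5299 l5300 (Nat.ble (nat_lit 5300) i))
noncomputable def t5301_5304 (i : ℕ) : ℕ := (@Bool.rec (fun _ => ℕ) l5301 (@Bool.rec (fun _ => ℕ) l5302 l5303 (Nat.ble (nat_lit 5303) i)) (Nat.ble (nat_lit 5302) i))
noncomputable def t5304_5306 (i : ℕ) : ℕ := (@Bool.rec (fun _ => ℕ) l5304 l5305 (Nat.ble (nat_lit 5305) i))
noncomputable def t5306_5309 (i : ℕ) : ℕ := (@Bool.rec (fun _ => ℕ) l5306 (@Bool.rec (fun _ => ℕ) l5307 l5308 (Nat.ble (nat_lit 5308) i)) (Nat.ble (nat_lit 5307) i))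
noncomputable def t5290_5309 (i : ℕ) : ℕ := (@Bool.rec (fun _ => ℕ) (@Bool.rec (fun _ => ℕ) (@Bool.rec (fun _ => ℕ) (t5290_5292 i) (t5292_5294 i) (Nat.ble (nat_lit 5292) i)) (@Bool.rec (fun _ => ℕ) (t5294_5296 i) (t5296_5299 i) (Nat.ble (nat_lit 5296) i)) (Nat.ble (nat_lit 5294) i)) (@Bool.rec (fun _ => ℕ) (@Bool.rec (fun _ => ℕ) (t5299_5301 i) (t5301_5304 i) (Nat.ble (nat_lit 5301) i)) (@Bool.rec (fun _ => ℕ) (t5304_5306 i) (t5306_5309 i) (Nat.ble (nat_lit 5306) i)) (Nat.ble (nat_lit 5304) i)) (Nat.ble (nat_lit 5299) i))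
noncomputable def t5309_5311 (i : ℕ) : ℕ := (@Bool.rec (fun _ => ℕ) l5309 l5310 (Nat.ble (nat_lit 5310) i))
noncomputable def t5311_5313 (i : ℕ) : ℕ := (@Bool.rec (fun _ => ℕ) l5311 l5312 (Nat.ble (nat_lit 5312) i))
noncomputable def t5313_5315 (i : ℕ) : ℕ := (@Bool.rec (fun _ => ℕ) l5313 l5314 (Nat.ble (nat_lit 5314) i))
noncomputable def t5315_5318 (i : ℕ) : ℕ := (@Bool.rec (fun _ => ℕ) l5315 (@Bool.rec (fun _ => ℕ) l5316 l5317 (Nat.ble (nat_lit 5317) i)) (Nat.ble (nat_lit 5316) i))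
noncomputable def t5318_5320 (i : ℕ) : ℕ := (@Bool.rec (fun _ => ℕ) l5318 l5319 (Nat.ble (nat_lit 5319) i))
noncomputable def t5320_5323 (i : ℕ) : ℕ := (@Bool.rec (fun _ => ℕ) l5320 (@Bool.rec (fun _ => ℕ) l5321 l5322 (Nat.ble (nat_lit 5322) i)) (Nat.ble (nat_lit 5321) i))
noncomputable def t5323_5325 (i : ℕ) : ℕ := (@Bool.rec (fun _ => ℕ) l5323 l5324 (Nat.ble (nat_lit 5324) i))
noncomputable def t5325_5328 (i : ℕ) : ℕ := (@Bool.rec (fun _ => ℕ) l5325 (@Bool.rec (fun _ => ℕ) l5326 l5327 (Nat.ble (nat_lit 5327) i)) (Nat.ble (nat_lit 5326) i))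
noncomputable def t5309_5328 (i : ℕ) : ℕ := (@Bool.rec (fun _ => ℕ) (@Bool.rec (fun _ => ℕ) (@Bool.rec (fun _ => ℕ) (t5309_5311 i) (t5311_5313 i) (Nat.ble (nat_lit 5311) i)) (@Bool.rec (fun _ => ℕ) (t5313_5315 i) (t5315_5318 i) (Nat.ble (nat_lit 5315) i)) (Nat.ble (nat_lit 5313) i)) (@Bool.rec (fun _ => ℕ) (@Bool.rec (fun _ => ℕ) (t5318_5320 i) (t5320_5323 i) (Nat.ble (nat_lit 5320) i)) (@Bool.rec (fun _ => ℕ) (t5323_5325 i) (t5325_5328 i) (Nat.ble (nat_lit 5325) i)) (Nat.ble (nat_lit 5323) i)) (Nat.ble (nat_lit 5318) i))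
noncomputable def t5328_5330 (i : ℕ) : ℕ := (@Bool.rec (fun _ => ℕ) l5328 l5329 (Nat.ble (nat_lit 5329) i))
noncomputable def t5330_5332 (i : ℕ) : ℕ := (@Bool.rec (fun _ => ℕ) l5330 l5331 (Nat.ble (nat_lit 5331) i))
noncomputable def t5332_5334 (i : ℕ) : ℕ := (@Bool.rec (fun _ => ℕ) l5332 l5333 (Nat.ble (nat_lit 5333) i))
noncomputable def t5334_5337 (i : ℕ) : ℕ := (@Bool.rec (fun _ => ℕ) l5334 (@Bool.rec (fun _ => ℕ) l5335 l5336 (Nat.ble (nat_lit 5336) i)) (Nat.ble (nat_lit 5335) i))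
noncomputable def t5337_5339 (i : ℕ) : ℕ := (@Bool.rec (fun _ => ℕ) l5337 l5338 (Nat.ble (nat_lit 5338) i))
noncomputable def t5339_5341 (i : ℕ) : ℕ := (@Bool.rec (fun _ => ℕ) l5339 l5340 (Nat.ble (nat_lit 5340) i))
noncomputable def t5341_5343 (i : ℕ) : ℕ := (@Bool.rec (fun _ => ℕ) l5341 l5342 (Nat.ble (nat_lit 5342) i))
noncomputable def t5343_5346 (i : ℕ) : ℕ := (@Bool.rec (fun _ => ℕ) l5343 (@Bool.rec (fun _ => ℕ) l5344 l5345 (Nat.ble (nat_lit 5345) i)) (Nat.ble (nat_lit 5344) i))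
noncomputable def t5328_5346 (i : ℕ) : ℕ := (@Bool.rec (fun _ => ℕ) (@Bool.rec (fun _ => ℕ) (@Bool.rec (fun _ => ℕ) (t5328_5330 i) (t5330_5332 i) (Nat.ble (nat_lit 5330) i)) (@Bool.rec (fun _ => ℕ) (t5332_5334 i) (t5334_5337 i) (Nat.ble (nat_lit 5334) i)) (Nat.ble (nat_lit 5332) i)) (@Bool.rec (fun _ => ℕ) (@Bool.rec (fun _ => ℕ) (t5337_5339 i) (t5339_5341 i) (Nat.ble (nat_lit 5339) i)) (@Bool.rec (fun _ => ℕ) (t5341_5343 i) (t5343_5346 i) (Nat.ble (nat_lit 5343) i)) (Nat.ble (nat_lit 5341) i)) (Nat.ble (nat_lit 5337) i))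
noncomputable def t5346_5348 (i : ℕ) : ℕ := (@Bool.rec (fun _ => ℕ) l5346 l5347 (Nat.ble (nat_lit 5347) i))
noncomputable def t5348_5350 (i : ℕ) : ℕ := (@Bool.rec (fun _ => ℕ) l5348 l5349 (Nat.ble (nat_lit 5349) i))
noncomputable def t5350_5352 (i : ℕ) : ℕ := (@Bool.rec (fun _ => ℕ) l5350 l5351 (Nat.ble (nat_lit 5351) i))
noncomputable def t5352_5355 (i : ℕ) : ℕ := (@Bool.rec (fun _ => ℕ) l5352 (@Bool.rec (fun _ => ℕ) l5353 l5354 (Nat.ble (nat_lit 5354) i)) (Nat.ble (nat_lit 5353) i))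
noncomputable def t5355_5357 (i : ℕ) : ℕ := (@Bool.rec (fun _ => ℕ) l5355 l5356 (Nat.ble (nat_lit 5356) i))
noncomputable def t5357_5360 (i : ℕ) : ℕ := (@Bool.rec (fun _ => ℕ) l5357 (@Bool.rec (fun _ => ℕ) l5358 l5359 (Nat.ble (nat_lit 5359) i)) (Nat.ble (nat_lit 5358) i))
noncomputable def t5360_5362 (i : ℕ) : ℕ := (@Bool.rec (fun _ => ℕ) l5360 l5361 (Nat.ble (nat_lit 5361) i))
noncomputable def t5362_5365 (i : ℕ) : ℕ := (@Bool.rec (fun _ => ℕ) l5362 (@Bool.rec (fun _ => ℕ) l5363 l5364 (Nat.ble (nat_lit 5364) i)) (Nat.ble (nat_lit 5363) i))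
noncomputable def t5346_5365 (i : ℕ) : ℕ := (@Bool.rec (fun _ => ℕ) (@Bool.rec (fun _ => ℕ) (@Bool.rec (fun _ => ℕ) (t5346_5348 i) (t5348_5350 i) (Nat.ble (nat_lit 5348) i)) (@Bool.rec (fun _ => ℕ) (t5350_5352 i) (t5352_5355 i) (Nat.ble (nat_lit 5352) i)) (Nat.ble (nat_lit 5350) i)) (@Bool.rec (fun _ => ℕ) (@Bool.rec (fun _ => ℕ) (t5355_5357 i) (t5357_5360 i) (Nat.ble (nat_lit 5357) i)) (@Bool.rec (fun _ => ℕ) (t5360_5362 i) (t5362_5365 i) (Nat.ble (nat_lit 5362) i)) (Nat.ble (nat_lit 5360) i)) (Nat.ble (nat_lit 5355) i))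
noncomputable def t5365_5367 (i : ℕ) : ℕ := (@Bool.rec (fun _ => ℕ) l5365 l5366 (Nat.ble (nat_lit 5366) i))
noncomputable def t5367_5369 (i : ℕ) : ℕ := (@Bool.rec (fun _ => ℕ) l5367 l5368 (Nat.ble (nat_lit 5368) i))
noncomputable def t5369_5371 (i : ℕ) : ℕ := (@Bool.rec (fun _ => ℕ) l5369 l5370 (Nat.ble (nat_lit 5370) i))
noncomputable def t5371_5374 (i : ℕ) : ℕ := (@Bool.rec (fun _ => ℕ) l5371 (@Bool.rec (fun _ => ℕ) l5372 l5373 (Nat.ble (nat_lit 5373) i)) (Nat.ble (nat_lit 5372) i))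
noncomputable def t5374_5376 (i : ℕ) : ℕ := (@Bool.rec (fun _ => ℕ) l5374 l5375 (Nat.ble (nat_lit 5375) i))
noncomputable def t5376_5379 (i : ℕ) : ℕ := (@Bool.rec (fun _ => ℕ) l5376 (@Bool.rec (fun _ => ℕ) l5377 l5378 (Nat.ble (nat_lit 5378) i)) (Nat.ble (nat_lit 5377) i))
noncomputable def t5379_5381 (i : ℕ) : ℕ := (@Bool.rec (fun _ => ℕ) l5379 l5380 (Nat.ble (nat_lit 5380) i))
noncomputable def t5381_5384 (i : ℕ) : ℕ := (@Bool.rec (fun _ => ℕ) l5381 (@Bool.rec (fun _ => ℕ) l5382 l5383 (Nat.ble (nat_lit 5383) i)) (Nat.ble (nat_lit 5382) i))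
noncomputable def t5365_5384 (i : ℕ) : ℕ := (@Bool.rec (fun _ => ℕ) (@Bool.rec (fun _ => ℕ) (@Bool.rec (fun _ => ℕ) (t5365_5367 i) (t5367_5369 i) (Nat.ble (nat_lit 5367) i)) (@Bool.rec (fun _ => ℕ) (t5369_5371 i) (t5371_5374 i) (Nat.ble (nat_lit 5371) i)) (Nat.ble (nat_lit 5369) i)) (@Bool.rec (fun _ => ℕ) (@Bool.rec (fun _ => ℕ) (t5374_5376 i) (t5376_5379 i) (Nat.ble (nat_lit 5376) i)) (@Bool.rec (fun _ => ℕ) (t5379_5381 i) (t5381_5384 i) (Nat.ble (nat_lit 5381) i)) (Nat.ble (nat_lit 5379) i)) (Nat.ble (nat_lit 5374) i))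
noncomputable def t5384_5386 (i : ℕ) : ℕ := (@Bool.rec (fun _ => ℕ) l5384 l5385 (Nat.ble (nat_lit 5385) i))
noncomputable def t5386_5388 (i : ℕ) : ℕ := (@Bool.rec (fun _ => ℕ) l5386 l5387 (Nat.ble (nat_lit 5387) i))
noncomputable def t5388_5390 (i : ℕ) : ℕ := (@Bool.rec (fun _ => ℕ) l5388 l5389 (Nat.ble (nat_lit 5389) i))
noncomputable def t5390_5393 (i : ℕ) : ℕ := (@Bool.rec (fun _ => ℕ) l5390 (@Bool.rec (fun _ => ℕ) l5391 l5392 (Nat.ble (nat_lit 5392) i)) (Nat.ble (nat_lit 5391) i))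
noncomputable def t5393_5395 (i : ℕ) : ℕ := (@Bool.rec (fun _ => ℕ) l5393 l5394 (Nat.ble (nat_lit 5394) i))
noncomputable def t5395_5398 (i : ℕ) : ℕ := (@Bool.rec (fun _ => ℕ) l5395 (@Bool.rec (fun _ => ℕ) l5396 l5397 (Nat.ble (nat_lit 5397) i)) (Nat.ble (nat_lit 5396) i))
noncomputable def t5398_5400 (i : ℕ) : ℕ := (@Bool.rec (fun _ => ℕ) l5398 l5399 (Nat.ble (nat_lit 5399) i))
noncomputable def t5400_5403 (i : ℕ) : ℕ := (@Bool.rec (fun _ => ℕ) l5400 (@Bool.rec (fun _ => ℕ) l5401 l5402 (Nat.ble (nat_lit 5402) i)) (Nat.ble (nat_lit 5401) i))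
noncomputable def t5384_5403 (i : ℕ) : ℕ := (@Bool.rec (fun _ => ℕ) (@Bool.rec (fun _ => ℕ) (@Bool.rec (fun _ => ℕ) (t5384_5386 i) (t5386_5388 i) (Nat.ble (nat_lit 5386) i)) (@Bool.rec (fun _ => ℕ) (t5388_5390 i) (t5390_5393 i) (Nat.ble (nat_lit 5390) i)) (Nat.ble (nat_lit 5388) i)) (@Bool.rec (fun _ => ℕ) (@Bool.rec (fun _ => ℕ) (t5393_5395 i) (t5395_5398 i) (Nat.ble (nat_lit 5395) i)) (@Bool.rec (fun _ => ℕ) (t5398_5400 i) (t5400_5403 i) (Nat.ble (nat_lit 5400) i)) (Nat.ble (nat_lit 5398) i)) (Nat.ble (nat_lit 5393) i))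
noncomputable def t5253_5403 (i : ℕ) : ℕ := (@Bool.rec (fun _ => ℕ) (@Bool.rec (fun _ => ℕ) (@Bool.rec (fun _ => ℕ) (t5253_5271 i) (t5271_5290 i) (Nat.ble (nat_lit 5271) i)) (@Bool.rec (fun _ => ℕ) (t5290_5309 i) (t5309_5328 i) (Nat.ble (nat_lit 5309) i)) (Nat.ble (nat_lit 5290) i)) (@Bool.rec (fun _ => ℕ) (@Bool.rec (fun _ => ℕ) (t5328_5346 i) (t5346_5365 i) (Nat.ble (nat_lit 5346) i)) (@Bool.rec (fun _ => ℕ) (t5365_5384 i) (t5384_5403 i) (Nat.ble (nat_lit 5384) i)) (Nat.ble (nat_lit 5365) i)) (Nat.ble (nat_lit 5328) i))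
noncomputable def t5403_5405 (i : ℕ) : ℕ := (@Bool.rec (fun _ => ℕ) l5403 l5404 (Nat.ble (nat_lit 5404) i))
noncomputable def t5405_5407 (i : ℕ) : ℕ := (@Bool.rec (fun _ => ℕ) l5405 l5406 (Nat.ble (nat_lit 5406) i))
noncomputable def t5407_5409 (i : ℕ) : ℕ := (@Bool.rec (fun _ => ℕ) l5407 l5408 (Nat.ble (nat_lit 5408) i))
noncomputable def t5409_5412 (i : ℕ) : ℕ := (@Bool.rec (fun _ => ℕ) l5409 (@Bool.rec (fun _ => ℕ) l5410 l5411 (Nat.ble (nat_lit 5411) i)) (Nat.ble (nat_lit 5410) i))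
noncomputable def t5412_5414 (i : ℕ) : ℕ := (@Bool.rec (fun _ => ℕ) l5412 l5413 (Nat.ble (nat_lit 5413) i))
noncomputable def t5414_5416 (i : ℕ) : ℕ := (@Bool.rec (fun _ => ℕ) l5414 l5415 (Nat.ble (nat_lit 5415) i))
noncomputable def t5416_5418 (i : ℕ) : ℕ := (@Bool.rec (fun _ => ℕ) l5416 l5417 (Nat.ble (nat_lit 5417) i))
noncomputable def t5418_5421 (i : ℕ) : ℕ := (@Bool.rec (fun _ => ℕ) l5418 (@Bool.rec (fun _ => ℕ) l5419 l5420 (Nat.ble (nat_lit 5420) i)) (Nat.ble (nat_lit 5419) i))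
noncomputable def t5403_5421 (i : ℕ) : ℕ := (@Bool.rec (fun _ => ℕ) (@Bool.rec (fun _ => ℕ) (@Bool.rec (fun _ => ℕ) (t5403_5405 i) (t5405_5407 i) (Nat.ble (nat_lit 5405) i)) (@Bool.rec (fun _ => ℕ) (t5407_5409 i) (t5409_5412 i) (Nat.ble (nat_lit 5409) i)) (Nat.ble (nat_lit 5407) i)) (@Bool.rec (fun _ => ℕ) (@Bool.rec (fun _ => ℕ) (t5412_5414 i) (t5414_5416 i) (Nat.ble (nat_lit 5414) i)) (@Bool.rec (fun _ => ℕ) (t5416_5418 i) (t5418_5421 i) (Nat.ble (nat_lit 5418) i)) (Nat.ble (nat_lit 5416) i)) (Nat.ble (nat_lit 5412) i))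
noncomputable def t5421_5423 (i : ℕ) : ℕ := (@Bool.rec (fun _ => ℕ) l5421 l5422 (Nat.ble (nat_lit 5422) i))
noncomputable def t5423_5425 (i : ℕ) : ℕ := (@Bool.rec (fun _ => ℕ) l5423 l5424 (Nat.ble (nat_lit 5424) i))
noncomputable def t5425_5427 (i : ℕ) : ℕ := (@Bool.rec (fun _ => ℕ) l5425 l5426 (Nat.ble (nat_lit 5426) i))
noncomputable def t5427_5430 (i : ℕ) : ℕ := (@Bool.rec (fun _ => ℕ) l5427 (@Bool.rec (fun _ => ℕ) l5428 l5429 (Nat.ble (nat_lit 5429) i)) (Nat.ble (nat_lit 5428) i))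
noncomputable def t5430_5432 (i : ℕ) : ℕ := (@Bool.rec (fun _ => ℕ) l5430 l5431 (Nat.ble (nat_lit 5431) i))
noncomputable def t5432_5435 (i : ℕ) : ℕ := (@Bool.rec (fun _ => ℕ) l5432 (@Bool.rec (fun _ => ℕ) l5433 l5434 (Nat.ble (nat_lit 5434) i)) (Nat.ble (nat_lit 5433) i))
noncomputable def t5435_5437 (i : ℕ) : ℕ := (@Bool.rec (fun _ => ℕ) l5435 l5436 (Nat.ble (nat_lit 5436) i))
noncomputable def t5437_5440 (i : ℕ) : ℕ := (@Bool.rec (fun _ => ℕ) l5437 (@Bool.rec (fun _ => ℕ) l5438 l5439 (Nat.ble (nat_lit 5439) i)) (Nat.ble (nat_lit 5438) i))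
noncomputable def t5421_5440 (i : ℕ) : ℕ := (@Bool.rec (fun _ => ℕ) (@Bool.rec (fun _ => ℕ) (@Bool.rec (fun _ => ℕ) (t5421_5423 i) (t5423_5425 i) (Nat.ble (nat_lit 5423) i)) (@Bool.rec (fun _ => ℕ) (t5425_5427 i) (t5427_5430 i) (Nat.ble (nat_lit 5427) i)) (Nat.ble (nat_lit 5425) i)) (@Bool.rec (fun _ => ℕ) (@Bool.rec (fun _ => ℕ) (t5430_5432 i) (t5432_5435 i) (Nat.ble (nat_lit 5432) i)) (@Bool.rec (fun _ => ℕ) (t5435_5437 i) (t5437_5440 i) (Nat.ble (nat_lit 5437) i)) (Nat.ble (nat_lit 5435) i)) (Nat.ble (nat_lit 5430) i))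
noncomputable def t5440_5442 (i : ℕ) : ℕ := (@Bool.rec (fun _ => ℕ) l5440 l5441 (Nat.ble (nat_lit 5441) i))
noncomputable def t5442_5444 (i : ℕ) : ℕ := (@Bool.rec (fun _ => ℕ) l5442 l5443 (Nat.ble (nat_lit 5443) i))
noncomputable def t5444_5446 (i : ℕ) : ℕ := (@Bool.rec (fun _ => ℕ) l5444 l5445 (Nat.ble (nat_lit 5445) i))
noncomputable def t5446_5449 (i : ℕ) : ℕ := (@Bool.rec (fun _ => ℕ) l5446 (@Bool.rec (fun _ => ℕ) l5447 l5448 (Nat.ble (nat_lit 5448) i)) (Nat.ble (nat_lit 5447) i))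
noncomputable def t5449_5451 (i : ℕ) : ℕ := (@Bool.rec (fun _ => ℕ) l5449 l5450 (Nat.ble (nat_lit 5450) i))
noncomputable def t5451_5454 (i : ℕ) : ℕ := (@Bool.rec (fun _ => ℕ) l5451 (@Bool.rec (fun _ => ℕ) l5452 l5453 (Nat.ble (nat_lit 5453) i)) (Nat.ble (nat_lit 5452) i))
noncomputable def t5454_5456 (i : ℕ) : ℕ := (@Bool.rec (fun _ => ℕ) l5454 l5455 (Nat.ble (nat_lit 5455) i))
noncomputable def t5456_5459 (i : ℕ) : ℕ := (@Bool.rec (fun _ => ℕ) l5456 (@Bool.rec (fun _ => ℕ) l5457 l5458 (Nat.ble (nat_lit 5458) i)) (Nat.ble (nat_lit 5457) i))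
noncomputable def t5440_5459 (i : ℕ) : ℕ := (@Bool.rec (fun _ => ℕ) (@Bool.rec (fun _ => ℕ) (@Bool.rec (fun _ => ℕ) (t5440_5442 i) (t5442_5444 i) (Nat.ble (nat_lit 5442) i)) (@Bool.rec (fun _ => ℕ) (t5444_5446 i) (t5446_5449 i) (Nat.ble (nat_lit 5446) i)) (Nat.ble (nat_lit 5444) i)) (@Bool.rec (fun _ => ℕ) (@Bool.rec (fun _ => ℕ) (t5449_5451 i) (t5451_5454 i) (Nat.ble (nat_lit 5451) i)) (@Bool.rec (fun _ => ℕ) (t5454_5456 i) (t5456_5459 i) (Nat.ble (nat_lit 5456) i)) (Nat.ble (nat_lit 5454) i)) (Nat.ble (nat_lit 5449) i))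
noncomputable def t5459_5461 (i : ℕ) : ℕ := (@Bool.rec (fun _ => ℕ) l5459 l5460 (Nat.ble (nat_lit 5460) i))
noncomputable def t5461_5463 (i : ℕ) : ℕ := (@Bool.rec (fun _ => ℕ) l5461 l5462 (Nat.ble (nat_lit 5462) i))
noncomputable def t5463_5465 (i : ℕ) : ℕ := (@Bool.rec (fun _ => ℕ) l5463 l5464 (Nat.ble (nat_lit 5464) i))
noncomputable def t5465_5468 (i : ℕ) : ℕ := (@Bool.rec (fun _ => ℕ) l5465 (@Bool.rec (fun _ => ℕ) l5466 l5467 (Nat.ble (nat_lit 5467) i)) (Nat.ble (nat_lit 5466) i))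
noncomputable def t5468_5470 (i : ℕ) : ℕ := (@Bool.rec (fun _ => ℕ) l5468 l5469 (Nat.ble (nat_lit 5469) i))
noncomputable def t5470_5473 (i : ℕ) : ℕ := (@Bool.rec (fun _ => ℕ) l5470 (@Bool.rec (fun _ => ℕ) l5471 l5472 (Nat.ble (nat_lit 5472) i)) (Nat.ble (nat_lit 5471) i))
noncomputable def t5473_5475 (i : ℕ) : ℕ := (@Bool.rec (fun _ => ℕ) l5473 l5474 (Nat.ble (nat_lit 5474) i))
noncomputable def t5475_5478 (i : ℕ) : ℕ := (@Bool.rec (fun _ => ℕ) l5475 (@Bool.rec (fun _ => ℕ) l5476 l5477 (Nat.ble (nat_lit 5477) i)) (Nat.ble (nat_lit 5476) i))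
noncomputable def t5459_5478 (i : ℕ) : ℕ := (@Bool.rec (fun _ => ℕ) (@Bool.rec (fun _ => ℕ) (@Bool.rec (fun _ => ℕ) (t5459_5461 i) (t5461_5463 i) (Nat.ble (nat_lit 5461) i)) (@Bool.rec (fun _ => ℕ) (t5463_5465 i) (t5465_5468 i) (Nat.ble (nat_lit 5465) i)) (Nat.ble (nat_lit 5463) i)) (@Bool.rec (fun _ => ℕ) (@Bool.rec (fun _ => ℕ) (t5468_5470 i) (t5470_5473 i) (Nat.ble (nat_lit 5470) i)) (@Bool.rec (fun _ => ℕ) (t5473_5475 i) (t5475_5478 i) (Nat.ble (nat_lit 5475) i)) (Nat.ble (nat_lit 5473) i)) (Nat.ble (nat_lit 5468) i))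
noncomputable def t5478_5480 (i : ℕ) : ℕ := (@Bool.rec (fun _ => ℕ) l5478 l5479 (Nat.ble (nat_lit 5479) i))
noncomputable def t5480_5482 (i : ℕ) : ℕ := (@Bool.rec (fun _ => ℕ) l5480 l5481 (Nat.ble (nat_lit 5481) i))
noncomputable def t5482_5484 (i : ℕ) : ℕ := (@Bool.rec (fun _ => ℕ) l5482 l5483 (Nat.ble (nat_lit 5483) i))
noncomputable def t5484_5487 (i : ℕ) : ℕ := (@Bool.rec (fun _ => ℕ) l5484 (@Bool.rec (fun _ => ℕ) l5485 l5486 (Nat.ble (nat_lit 5486) i)) (Nat.ble (nat_lit 5485) i))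
noncomputable def t5487_5489 (i : ℕ) : ℕ := (@Bool.rec (fun _ => ℕ) l5487 l5488 (Nat.ble (nat_lit 5488) i))
noncomputable def t5489_5491 (i : ℕ) : ℕ := (@Bool.rec (fun _ => ℕ) l5489 l5490 (Nat.ble (nat_lit 5490) i))
noncomputable def t5491_5493 (i : ℕ) : ℕ := (@Bool.rec (fun _ => ℕ) l5491 l5492 (Nat.ble (nat_lit 5492) i))
noncomputable def t5493_5496 (i : ℕ) : ℕ := (@Bool.rec (fun _ => ℕ) l5493 (@Bool.rec (fun _ => ℕ) l5494 l5495 (Nat.ble (nat_lit 5495) i)) (Nat.ble (nat_lit 5494) i))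
noncomputable def t5478_5496 (i : ℕ) : ℕ := (@Bool.rec (fun _ => ℕ) (@Bool.rec (fun _ => ℕ) (@Bool.rec (fun _ => ℕ) (t5478_5480 i) (t5480_5482 i) (Nat.ble (nat_lit 5480) i)) (@Bool.rec (fun _ => ℕ) (t5482_5484 i) (t5484_5487 i) (Nat.ble (nat_lit 5484) i)) (Nat.ble (nat_lit 5482) i)) (@Bool.rec (fun _ => ℕ) (@Bool.rec (fun _ => ℕ) (t5487_5489 i) (t5489_5491 i) (Nat.ble (nat_lit 5489) i)) (@Bool.rec (fun _ => ℕ) (t5491_5493 i) (t5493_5496 i) (Nat.ble (nat_lit 5493) i)) (Nat.ble (nat_lit 5491) i)) (Nat.ble (nat_lit 5487) i))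
noncomputable def t5496_5498 (i : ℕ) : ℕ := (@Bool.rec (fun _ => ℕ) l5496 l5497 (Nat.ble (nat_lit 5497) i))
noncomputable def t5498_5500 (i : ℕ) : ℕ := (@Bool.rec (fun _ => ℕ) l5498 l5499 (Nat.ble (nat_lit 5499) i))
noncomputable def t5500_5502 (i : ℕ) : ℕ := (@Bool.rec (fun _ => ℕ) l5500 l5501 (Nat.ble (nat_lit 5501) i))
noncomputable def t5502_5505 (i : ℕ) : ℕ := (@Bool.rec (fun _ => ℕ) l5502 (@Bool.rec (fun _ => ℕ) l5503 l5504 (Nat.ble (nat_lit 5504) i)) (Nat.ble (nat_lit 5503) i))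
noncomputable def t5505_5507 (i : ℕ) : ℕ := (@Bool.rec (fun _ => ℕ) l5505 l5506 (Nat.ble (nat_lit 5506) i))
noncomputable def t5507_5510 (i : ℕ) : ℕ := (@Bool.rec (fun _ => ℕ) l5507 (@Bool.rec (fun _ => ℕ) l5508 l5509 (Nat.ble (nat_lit 5509) i)) (Nat.ble (nat_lit 5508) i))
noncomputable def t5510_5512 (i : ℕ) : ℕ := (@Bool.rec (fun _ => ℕ) l5510 l5511 (Nat.ble (nat_lit 5511) i))
noncomputable def t5512_5515 (i : ℕ) : ℕ := (@Bool.rec (fun _ => ℕ) l5512 (@Bool.rec (fun _ => ℕ) l5513 l5514 (Nat.ble (nat_lit 5514) i)) (Nat.ble (nat_lit 5513) i))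
noncomputable def t5496_5515 (i : ℕ) : ℕ := (@Bool.rec (fun _ => ℕ) (@Bool.rec (fun _ => ℕ) (@Bool.rec (fun _ => ℕ) (t5496_5498 i) (t5498_5500 i) (Nat.ble (nat_lit 5498) i)) (@Bool.rec (fun _ => ℕ) (t5500_5502 i) (t5502_5505 i) (Nat.ble (nat_lit 5502) i)) (Nat.ble (nat_lit 5500) i)) (@Bool.rec (fun _ => ℕ) (@Bool.rec (fun _ => ℕ) (t5505_5507 i) (t5507_5510 i) (Nat.ble (nat_lit 5507) i)) (@Bool.rec (fun _ => ℕ) (t5510_5512 i) (t5512_5515 i) (Nat.ble (nat_lit 5512) i)) (Nat.ble (nat_lit 5510) i)) (Nat.ble (nat_lit 5505) i))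
noncomputable def t5515_5517 (i : ℕ) : ℕ := (@Bool.rec (fun _ => ℕ) l5515 l5516 (Nat.ble (nat_lit 5516) i))
noncomputable def t5517_5519 (i : ℕ) : ℕ := (@Bool.rec (fun _ => ℕ) l5517 l5518 (Nat.ble (nat_lit 5518) i))
noncomputable def t5519_5521 (i : ℕ) : ℕ := (@Bool.rec (fun _ => ℕ) l5519 l5520 (Nat.ble (nat_lit 5520) i))
noncomputable def t5521_5524 (i : ℕ) : ℕ := (@Bool.rec (fun _ => ℕ) l5521 (@Bool.rec (fun _ => ℕ) l5522 l5523 (Nat.ble (nat_lit 5523) i)) (Nat.ble (nat_lit 5522) i))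
noncomputable def t5524_5526 (i : ℕ) : ℕ := (@Bool.rec (fun _ => ℕ) l5524 l5525 (Nat.ble (nat_lit 5525) i))
noncomputable def t5526_5529 (i : ℕ) : ℕ := (@Bool.rec (fun _ => ℕ) l5526 (@Bool.rec (fun _ => ℕ) l5527 l5528 (Nat.ble (nat_lit 5528) i)) (Nat.ble (nat_lit 5527) i))
noncomputable def t5529_5531 (i : ℕ) : ℕ := (@Bool.rec (fun _ => ℕ) l5529 l5530 (Nat.ble (nat_lit 5530) i))
noncomputable def t5531_5534 (i : ℕ) : ℕ := (@Bool.rec (fun _ => ℕ) l5531 (@Bool.rec (fun _ => ℕ) l5532 l5533 (Nat.ble (nat_lit 5533) i)) (Nat.ble (nat_lit 5532) i))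
noncomputable def t5515_5534 (i : ℕ) : ℕ := (@Bool.rec (fun _ => ℕ) (@Bool.rec (fun _ => ℕ) (@Bool.rec (fun _ => ℕ) (t5515_5517 i) (t5517_5519 i) (Nat.ble (nat_lit 5517) i)) (@Bool.rec (fun _ => ℕ) (t5519_5521 i) (t5521_5524 i) (Nat.ble (nat_lit 5521) i)) (Nat.ble (nat_lit 5519) i)) (@Bool.rec (fun _ => ℕ) (@Bool.rec (fun _ => ℕ) (t5524_5526 i) (t5526_5529 i) (Nat.ble (nat_lit 5526) i)) (@Bool.rec (fun _ => ℕ) (t5529_5531 i) (t5531_5534 i) (Nat.ble (nat_lit 5531) i)) (Nat.ble (nat_lit 5529) i)) (Nat.ble (nat_lit 5524) i))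
noncomputable def t5534_5536 (i : ℕ) : ℕ := (@Bool.rec (fun _ => ℕ) l5534 l5535 (Nat.ble (nat_lit 5535) i))
noncomputable def t5536_5538 (i : ℕ) : ℕ := (@Bool.rec (fun _ => ℕ) l5536 l5537 (Nat.ble (nat_lit 5537) i))
noncomputable def t5538_5540 (i : ℕ) : ℕ := (@Bool.rec (fun _ => ℕ) l5538 l5539 (Nat.ble (nat_lit 5539) i))
noncomputable def t5540_5543 (i : ℕ) : ℕ := (@Bool.rec (fun _ => ℕ) l5540 (@Bool.rec (fun _ => ℕ) l5541 l5542 (Nat.ble (nat_lit 5542) i)) (Nat.ble (nat_lit 5541) i))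
noncomputable def t5543_5545 (i : ℕ) : ℕ := (@Bool.rec (fun _ => ℕ) l5543 l5544 (Nat.ble (nat_lit 5544) i))
noncomputable def t5545_5548 (i : ℕ) : ℕ := (@Bool.rec (fun _ => ℕ) l5545 (@Bool.rec (fun _ => ℕ) l5546 l5547 (Nat.ble (nat_lit 5547) i)) (Nat.ble (nat_lit 5546) i))
noncomputable def t5548_5550 (i : ℕ) : ℕ := (@Bool.rec (fun _ => ℕ) l5548 l5549 (Nat.ble (nat_lit 5549) i))
noncomputable def t5550_5553 (i : ℕ) : ℕ := (@Bool.rec (fun _ => ℕ) l5550 (@Bool.rec (fun _ => ℕ) l5551 l5552 (Nat.ble (nat_lit 5552) i)) (Nat.ble (nat_lit 5551) i))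
noncomputable def t5534_5553 (i : ℕ) : ℕ := (@Bool.rec (fun _ => ℕ) (@Bool.rec (fun _ => ℕ) (@Bool.rec (fun _ => ℕ) (t5534_5536 i) (t5536_5538 i) (Nat.ble (nat_lit 5536) i)) (@Bool.rec (fun _ => ℕ) (t5538_5540 i) (t5540_5543 i) (Nat.ble (nat_lit 5540) i)) (Nat.ble (nat_lit 5538) i)) (@Bool.rec (fun _ => ℕ) (@Bool.rec (fun _ => ℕ) (t5543_5545 i) (t5545_5548 i) (Nat.ble (nat_lit 5545) i)) (@Bool.rec (fun _ => ℕ) (t5548_5550 i) (t5550_5553 i) (Nat.ble (nat_lit 5550) i)) (Nat.ble (nat_lit 5548) i)) (Nat.ble (nat_lit 5543) i))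
noncomputable def t5403_5553 (i : ℕ) : ℕ := (@Bool.rec (fun _ => ℕ) (@Bool.rec (fun _ => ℕ) (@Bool.rec (fun _ => ℕ) (t5403_5421 i) (t5421_5440 i) (Nat.ble (nat_lit 5421) i)) (@Bool.rec (fun _ => ℕ) (t5440_5459 i) (t5459_5478 i) (Nat.ble (nat_lit 5459) i)) (Nat.ble (nat_lit 5440) i)) (@Bool.rec (fun _ => ℕ) (@Bool.rec (fun _ => ℕ) (t5478_5496 i) (t5496_5515 i) (Nat.ble (nat_lit 5496) i)) (@Bool.rec (fun _ => ℕ) (t5515_5534 i) (t5534_5553 i) (Nat.ble (nat_lit 5534) i)) (Nat.ble (nat_lit 5515) i)) (Nat.ble (nat_lit 5478) i))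
noncomputable def t5553_5555 (i : ℕ) : ℕ := (@Bool.rec (fun _ => ℕ) l5553 l5554 (Nat.ble (nat_lit 5554) i))
noncomputable def t5555_5557 (i : ℕ) : ℕ := (@Bool.rec (fun _ => ℕ) l5555 l5556 (Nat.ble (nat_lit 5556) i))
noncomputable def t5557_5559 (i : ℕ) : ℕ := (@Bool.rec (fun _ => ℕ) l5557 l5558 (Nat.ble (nat_lit 5558) i))
noncomputable def t5559_5562 (i : ℕ) : ℕ := (@Bool.rec (fun _ => ℕ) l5559 (@Bool.rec (fun _ => ℕ) l5560 l5561 (Nat.ble (nat_lit 5561) i)) (Nat.ble (nat_lit 5560) i))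
noncomputable def t5562_5564 (i : ℕ) : ℕ := (@Bool.rec (fun _ => ℕ) l5562 l5563 (Nat.ble (nat_lit 5563) i))
noncomputable def t5564_5566 (i : ℕ) : ℕ := (@Bool.rec (fun _ => ℕ) l5564 l5565 (Nat.ble (nat_lit 5565) i))
noncomputable def t5566_5568 (i : ℕ) : ℕ := (@Bool.rec (fun _ => ℕ) l5566 l5567 (Nat.ble (nat_lit 5567) i))
noncomputable def t5568_5571 (i : ℕ) : ℕ := (@Bool.rec (fun _ => ℕ) l5568 (@Bool.rec (fun _ => ℕ) l5569 l5570 (Nat.ble (nat_lit 5570) i)) (Nat.ble (nat_lit 5569) i))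
noncomputable def t5553_5571 (i : ℕ) : ℕ := (@Bool.rec (fun _ => ℕ) (@Bool.rec (fun _ => ℕ) (@Bool.rec (fun _ => ℕ) (t5553_5555 i) (t5555_5557 i) (Nat.ble (nat_lit 5555) i)) (@Bool.rec (fun _ => ℕ) (t5557_5559 i) (t5559_5562 i) (Nat.ble (nat_lit 5559) i)) (Nat.ble (nat_lit 5557) i)) (@Bool.rec (fun _ => ℕ) (@Bool.rec (fun _ => ℕ) (t5562_5564 i) (t5564_5566 i) (Nat.ble (nat_lit 5564) i)) (@Bool.rec (fun _ => ℕ) (t5566_5568 i) (t5568_5571 i) (Nat.ble (nat_lit 5568) i)) (Nat.ble (nat_lit 5566) i)) (Nat.ble (nat_lit 5562) i))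
noncomputable def t5571_5573 (i : ℕ) : ℕ := (@Bool.rec (fun _ => ℕ) l5571 l5572 (Nat.ble (nat_lit 5572) i))
noncomputable def t5573_5575 (i : ℕ) : ℕ := (@Bool.rec (fun _ => ℕ) l5573 l5574 (Nat.ble (nat_lit 5574) i))
noncomputable def t5575_5577 (i : ℕ) : ℕ := (@Bool.rec (fun _ => ℕ) l5575 l5576 (Nat.ble (nat_lit 5576) i))
noncomputable def t5577_5580 (i : ℕ) : ℕ := (@Bool.rec (fun _ => ℕ) l5577 (@Bool.rec (fun _ => ℕ) l5578 l5579 (Nat.ble (nat_lit 5579) i)) (Nat.ble (nat_lit 5578) i))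
noncomputable def t5580_5582 (i : ℕ) : ℕ := (@Bool.rec (fun _ => ℕ) l5580 l5581 (Nat.ble (nat_lit 5581) i))
noncomputable def t5582_5585 (i : ℕ) : ℕ := (@Bool.rec (fun _ => ℕ) l5582 (@Bool.rec (fun _ => ℕ) l5583 l5584 (Nat.ble (nat_lit 5584) i)) (Nat.ble (nat_lit 5583) i))
noncomputable def t5585_5587 (i : ℕ) : ℕ := (@Bool.rec (fun _ => ℕ) l5585 l5586 (Nat.ble (nat_lit 5586) i))
noncomputable def t5587_5590 (i : ℕ) : ℕ := (@Bool.rec (fun _ => ℕ) l5587 (@Bool.rec (fun _ => ℕ) l5588 l5589 (Nat.ble (nat_lit 5589) i)) (Nat.ble (nat_lit 5588) i))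
noncomputable def t5571_5590 (i : ℕ) : ℕ := (@Bool.rec (fun _ => ℕ) (@Bool.rec (fun _ => ℕ) (@Bool.rec (fun _ => ℕ) (t5571_5573 i) (t5573_5575 i) (Nat.ble (nat_lit 5573) i)) (@Bool.rec (fun _ => ℕ) (t5575_5577 i) (t5577_5580 i) (Nat.ble (nat_lit 5577) i)) (Nat.ble (nat_lit 5575) i)) (@Bool.rec (fun _ => ℕ) (@Bool.rec (fun _ => ℕ) (t5580_5582 i) (t5582_5585 i) (Nat.ble (nat_lit 5582) i)) (@Bool.rec (fun _ => ℕ) (t5585_5587 i) (t5587_5590 i) (Nat.ble (nat_lit 5587) i)) (Nat.ble (nat_lit 5585) i)) (Nat.ble (nat_lit 5580) i))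
noncomputable def t5590_5592 (i : ℕ) : ℕ := (@Bool.rec (fun _ => ℕ) l5590 l5591 (Nat.ble (nat_lit 5591) i))
noncomputable def t5592_5594 (i : ℕ) : ℕ := (@Bool.rec (fun _ => ℕ) l5592 l5593 (Nat.ble (nat_lit 5593) i))
noncomputable def t5594_5596 (i : ℕ) : ℕ := (@Bool.rec (fun _ => ℕ) l5594 l5595 (Nat.ble (nat_lit 5595) i))
noncomputable def t5596_5599 (i : ℕ) : ℕ := (@Bool.rec (fun _ => ℕ) l5596 (@Bool.rec (fun _ => ℕ) l5597 l5598 (Nat.ble (nat_lit 5598) i)) (Nat.ble (nat_lit 5597) i))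
noncomputable def t5599_5601 (i : ℕ) : ℕ := (@Bool.rec (fun _ => ℕ) l5599 l5600 (Nat.ble (nat_lit 5600) i))
noncomputable def t5601_5604 (i : ℕ) : ℕ := (@Bool.rec (fun _ => ℕ) l5601 (@Bool.rec (fun _ => ℕ) l5602 l5603 (Nat.ble (nat_lit 5603) i)) (Nat.ble (nat_lit 5602) i))
noncomputable def t5604_5606 (i : ℕ) : ℕ := (@Bool.rec (fun _ => ℕ) l5604 l5605 (Nat.ble (nat_lit 5605) i))
noncomputable def t5606_5609 (i : ℕ) : ℕ := (@Bool.rec (fun _ => ℕ) l5606 (@Bool.rec (fun _ => ℕ) l5607 l5608 (Nat.ble (nat_lit 5608) i)) (Nat.ble (nat_lit 5607) i))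
noncomputable def t5590_5609 (i : ℕ) : ℕ := (@Bool.rec (fun _ => ℕ) (@Bool.rec (fun _ => ℕ) (@Bool.rec (fun _ => ℕ) (t5590_5592 i) (t5592_5594 i) (Nat.ble (nat_lit 5592) i)) (@Bool.rec (fun _ => ℕ) (t5594_5596 i) (t5596_5599 i) (Nat.ble (nat_lit 5596) i)) (Nat.ble (nat_lit 5594) i)) (@Bool.rec (fun _ => ℕ) (@Bool.rec (fun _ => ℕ) (t5599_5601 i) (t5601_5604 i) (Nat.ble (nat_lit 5601) i)) (@Bool.rec (fun _ => ℕ) (t5604_5606 i) (t5606_5609 i) (Nat.ble (nat_lit 5606) i)) (Nat.ble (nat_lit 5604) i)) (Nat.ble (nat_lit 5599) i))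
noncomputable def t5609_5611 (i : ℕ) : ℕ := (@Bool.rec (fun _ => ℕ) l5609 l5610 (Nat.ble (nat_lit 5610) i))
noncomputable def t5611_5613 (i : ℕ) : ℕ := (@Bool.rec (fun _ => ℕ) l5611 l5612 (Nat.ble (nat_lit 5612) i))
noncomputable def t5613_5615 (i : ℕ) : ℕ := (@Bool.rec (fun _ => ℕ) l5613 l5614 (Nat.ble (nat_lit 5614) i))
noncomputable def t5615_5618 (i : ℕ) : ℕ := (@Bool.rec (fun _ => ℕ) l5615 (@Bool.rec (fun _ => ℕ) l5616 l5617 (Nat.ble (nat_lit 5617) i)) (Nat.ble (nat_lit 5616) i))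
noncomputable def t5618_5620 (i : ℕ) : ℕ := (@Bool.rec (fun _ => ℕ) l5618 l5619 (Nat.ble (nat_lit 5619) i))
noncomputable def t5620_5623 (i : ℕ) : ℕ := (@Bool.rec (fun _ => ℕ) l5620 (@Bool.rec (fun _ => ℕ) l5621 l5622 (Nat.ble (nat_lit 5622) i)) (Nat.ble (nat_lit 5621) i))
noncomputable def t5623_5625 (i : ℕ) : ℕ := (@Bool.rec (fun _ => ℕ) l5623 l5624 (Nat.ble (nat_lit 5624) i))
noncomputable def t5625_5628 (i : ℕ) : ℕ := (@Bool.rec (fun _ => ℕ) l5625 (@Bool.rec (fun _ => ℕ) l5626 l5627 (Nat.ble (nat_lit 5627) i)) (Nat.ble (nat_lit 5626) i))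
noncomputable def t5609_5628 (i : ℕ) : ℕ := (@Bool.rec (fun _ => ℕ) (@Bool.rec (fun _ => ℕ) (@Bool.rec (fun _ => ℕ) (t5609_5611 i) (t5611_5613 i) (Nat.ble (nat_lit 5611) i)) (@Bool.rec (fun _ => ℕ) (t5613_5615 i) (t5615_5618 i) (Nat.ble (nat_lit 5615) i)) (Nat.ble (nat_lit 5613) i)) (@Bool.rec (fun _ => ℕ) (@Bool.rec (fun _ => ℕ) (t5618_5620 i) (t5620_5623 i) (Nat.ble (nat_lit 5620) i)) (@Bool.rec (fun _ => ℕ) (t5623_5625 i) (t5625_5628 i) (Nat.ble (nat_lit 5625) i)) (Nat.ble (nat_lit 5623) i)) (Nat.ble (nat_lit 5618) i))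
noncomputable def t5628_5630 (i : ℕ) : ℕ := (@Bool.rec (fun _ => ℕ) l5628 l5629 (Nat.ble (nat_lit 5629) i))
noncomputable def t5630_5632 (i : ℕ) : ℕ := (@Bool.rec (fun _ => ℕ) l5630 l5631 (Nat.ble (nat_lit 5631) i))
noncomputable def t5632_5634 (i : ℕ) : ℕ := (@Bool.rec (fun _ => ℕ) l5632 l5633 (Nat.ble (nat_lit 5633) i))
noncomputable def t5634_5637 (i : ℕ) : ℕ := (@Bool.rec (fun _ => ℕ) l5634 (@Bool.rec (fun _ => ℕ) l5635 l5636 (Nat.ble (nat_lit 5636) i)) (Nat.ble (nat_lit 5635) i))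
noncomputable def t5637_5639 (i : ℕ) : ℕ := (@Bool.rec (fun _ => ℕ) l5637 l5638 (Nat.ble (nat_lit 5638) i))
noncomputable def t5639_5641 (i : ℕ) : ℕ := (@Bool.rec (fun _ => ℕ) l5639 l5640 (Nat.ble (nat_lit 5640) i))
noncomputable def t5641_5643 (i : ℕ) : ℕ := (@Bool.rec (fun _ => ℕ) l5641 l5642 (Nat.ble (nat_lit 5642) i))
noncomputable def t5643_5646 (i : ℕ) : ℕ := (@Bool.rec (fun _ => ℕ) l5643 (@Bool.rec (fun _ => ℕ) l5644 l5645 (Nat.ble (nat_lit 5645) i)) (Nat.ble (nat_lit 5644) i))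
noncomputable def t5628_5646 (i : ℕ) : ℕ := (@Bool.rec (fun _ => ℕ) (@Bool.rec (fun _ => ℕ) (@Bool.rec (fun _ => ℕ) (t5628_5630 i) (t5630_5632 i) (Nat.ble (nat_lit 5630) i)) (@Bool.rec (fun _ => ℕ) (t5632_5634 i) (t5634_5637 i) (Nat.ble (nat_lit 5634) i)) (Nat.ble (nat_lit 5632) i)) (@Bool.rec (fun _ => ℕ) (@Bool.rec (fun _ => ℕ) (t5637_5639 i) (t5639_5641 i) (Nat.ble (nat_lit 5639) i)) (@Bool.rec (fun _ => ℕ) (t5641_5643 i) (t5643_5646 i) (Nat.ble (nat_lit 5643) i)) (Nat.ble (nat_lit 5641) i)) (Nat.ble (nat_lit 5637) i))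
noncomputable def t5646_5648 (i : ℕ) : ℕ := (@Bool.rec (fun _ => ℕ) l5646 l5647 (Nat.ble (nat_lit 5647) i))
noncomputable def t5648_5650 (i : ℕ) : ℕ := (@Bool.rec (fun _ => ℕ) l5648 l5649 (Nat.ble (nat_lit 5649) i))
noncomputable def t5650_5652 (i : ℕ) : ℕ := (@Bool.rec (fun _ => ℕ) l5650 l5651 (Nat.ble (nat_lit 5651) i))
noncomputable def t5652_5655 (i : ℕ) : ℕ := (@Bool.rec (fun _ => ℕ) l5652 (@Bool.rec (fun _ => ℕ) l5653 l5654 (Nat.ble (nat_lit 5654) i)) (Nat.ble (nat_lit 5653) i))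
noncomputable def t5655_5657 (i : ℕ) : ℕ := (@Bool.rec (fun _ => ℕ) l5655 l5656 (Nat.ble (nat_lit 5656) i))
noncomputable def t5657_5660 (i : ℕ) : ℕ := (@Bool.rec (fun _ => ℕ) l5657 (@Bool.rec (fun _ => ℕ) l5658 l5659 (Nat.ble (nat_lit 5659) i)) (Nat.ble (nat_lit 5658) i))
noncomputable def t5660_5662 (i : ℕ) : ℕ := (@Bool.rec (fun _ => ℕ) l5660 l5661 (Nat.ble (nat_lit 5661) i))
noncomputable def t5662_5665 (i : ℕ) : ℕ := (@Bool.rec (fun _ => ℕ) l5662 (@Bool.rec (fun _ => ℕ) l5663 l5664 (Nat.ble (nat_lit 5664) i)) (Nat.ble (nat_lit 5663) i))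
noncomputable def t5646_5665 (i : ℕ) : ℕ := (@Bool.rec (fun _ => ℕ) (@Bool.rec (fun _ => ℕ) (@Bool.rec (fun _ => ℕ) (t5646_5648 i) (t5648_5650 i) (Nat.ble (nat_lit 5648) i)) (@Bool.rec (fun _ => ℕ) (t5650_5652 i) (t5652_5655 i) (Nat.ble (nat_lit 5652) i)) (Nat.ble (nat_lit 5650) i)) (@Bool.rec (fun _ => ℕ) (@Bool.rec (fun _ => ℕ) (t5655_5657 i) (t5657_5660 i) (Nat.ble (nat_lit 5657) i)) (@Bool.rec (fun _ => ℕ) (t5660_5662 i) (t5662_5665 i) (Nat.ble (nat_lit 5662) i)) (Nat.ble (nat_lit 5660) i)) (Nat.ble (nat_lit 5655) i))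
noncomputable def t5665_5667 (i : ℕ) : ℕ := (@Bool.rec (fun _ => ℕ) l5665 l5666 (Nat.ble (nat_lit 5666) i))
noncomputable def t5667_5669 (i : ℕ) : ℕ := (@Bool.rec (fun _ => ℕ) l5667 l5668 (Nat.ble (nat_lit 5668) i))
noncomputable def t5669_5671 (i : ℕ) : ℕ := (@Bool.rec (fun _ => ℕ) l5669 l5670 (Nat.ble (nat_lit 5670) i))
noncomputable def t5671_5674 (i : ℕ) : ℕ := (@Bool.rec (fun _ => ℕ) l5671 (@Bool.rec (fun _ => ℕ) l5672 l5673 (Nat.ble (nat_lit 5673) i)) (Nat.ble (nat_lit 5672) i))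
noncomputable def t5674_5676 (i : ℕ) : ℕ := (@Bool.rec (fun _ => ℕ) l5674 l5675 (Nat.ble (nat_lit 5675) i))
noncomputable def t5676_5679 (i : ℕ) : ℕ := (@Bool.rec (fun _ => ℕ) l5676 (@Bool.rec (fun _ => ℕ) l5677 l5678 (Nat.ble (nat_lit 5678) i)) (Nat.ble (nat_lit 5677) i))
noncomputable def t5679_5681 (i : ℕ) : ℕ := (@Bool.rec (fun _ => ℕ) l5679 l5680 (Nat.ble (nat_lit 5680) i))
noncomputable def t5681_5684 (i : ℕ) : ℕ := (@Bool.rec (fun _ => ℕ) l5681 (@Bool.rec (fun _ => ℕ) l5682 l5683 (Nat.ble (nat_lit 5683) i)) (Nat.ble (nat_lit 5682) i))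
noncomputable def t5665_5684 (i : ℕ) : ℕ := (@Bool.rec (fun _ => ℕ) (@Bool.rec (fun _ => ℕ) (@Bool.rec (fun _ => ℕ) (t5665_5667 i) (t5667_5669 i) (Nat.ble (nat_lit 5667) i)) (@Bool.rec (fun _ => ℕ) (t5669_5671 i) (t5671_5674 i) (Nat.ble (nat_lit 5671) i)) (Nat.ble (nat_lit 5669) i)) (@Bool.rec (fun _ => ℕ) (@Bool.rec (fun _ => ℕ) (t5674_5676 i) (t5676_5679 i) (Nat.ble (nat_lit 5676) i)) (@Bool.rec (fun _ => ℕ) (t5679_5681 i) (t5681_5684 i) (Nat.ble (nat_lit 5681) i)) (Nat.ble (nat_lit 5679) i)) (Nat.ble (nat_lit 5674) i))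
noncomputable def t5684_5686 (i : ℕ) : ℕ := (@Bool.rec (fun _ => ℕ) l5684 l5685 (Nat.ble (nat_lit 5685) i))
noncomputable def t5686_5688 (i : ℕ) : ℕ := (@Bool.rec (fun _ => ℕ) l5686 l5687 (Nat.ble (nat_lit 5687) i))
noncomputable def t5688_5690 (i : ℕ) : ℕ := (@Bool.rec (fun _ => ℕ) l5688 l5689 (Nat.ble (nat_lit 5689) i))
noncomputable def t5690_5693 (i : ℕ) : ℕ := (@Bool.rec (fun _ => ℕ) l5690 (@Bool.rec (fun _ => ℕ) l5691 l5692 (Nat.ble (nat_lit 5692) i)) (Nat.ble (nat_lit 5691) i))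
noncomputable def t5693_5695 (i : ℕ) : ℕ := (@Bool.rec (fun _ => ℕ) l5693 l5694 (Nat.ble (nat_lit 5694) i))
noncomputable def t5695_5698 (i : ℕ) : ℕ := (@Bool.rec (fun _ => ℕ) l5695 (@Bool.rec (fun _ => ℕ) l5696 l5697 (Nat.ble (nat_lit 5697) i)) (Nat.ble (nat_lit 5696) i))
noncomputable def t5698_5700 (i : ℕ) : ℕ := (@Bool.rec (fun _ => ℕ) l5698 l5699 (Nat.ble (nat_lit 5699) i))
noncomputable def t5700_5703 (i : ℕ) : ℕ := (@Bool.rec (fun _ => ℕ) l5700 (@Bool.rec (fun _ => ℕ) l5701 l5702 (Nat.ble (nat_lit 5702) i)) (Nat.ble (nat_lit 5701) i))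
noncomputable def t5684_5703 (i : ℕ) : ℕ := (@Bool.rec (fun _ => ℕ) (@Bool.rec (fun _ => ℕ) (@Bool.rec (fun _ => ℕ) (t5684_5686 i) (t5686_5688 i) (Nat.ble (nat_lit 5686) i)) (@Bool.rec (fun _ => ℕ) (t5688_5690 i) (t5690_5693 i) (Nat.ble (nat_lit 5690) i)) (Nat.ble (nat_lit 5688) i)) (@Bool.rec (fun _ => ℕ) (@Bool.rec (fun _ => ℕ) (t5693_5695 i) (t5695_5698 i) (Nat.ble (nat_lit 5695) i)) (@Bool.rec (fun _ => ℕ) (t5698_5700 i) (t5700_5703 i) (Nat.ble (nat_lit 5700) i)) (Nat.ble (nat_lit 5698) i)) (Nat.ble (nat_lit 5693) i))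
noncomputable def t5553_5703 (i : ℕ) : ℕ := (@Bool.rec (fun _ => ℕ) (@Bool.rec (fun _ => ℕ) (@Bool.rec (fun _ => ℕ) (t5553_5571 i) (t5571_5590 i) (Nat.ble (nat_lit 5571) i)) (@Bool.rec (fun _ => ℕ) (t5590_5609 i) (t5609_5628 i) (Nat.ble (nat_lit 5609) i)) (Nat.ble (nat_lit 5590) i)) (@Bool.rec (fun _ => ℕ) (@Bool.rec (fun _ => ℕ) (t5628_5646 i) (t5646_5665 i) (Nat.ble (nat_lit 5646) i)) (@Bool.rec (fun _ => ℕ) (t5665_5684 i) (t5684_5703 i) (Nat.ble (nat_lit 5684) i)) (Nat.ble (nat_lit 5665) i)) (Nat.ble (nat_lit 5628) i))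
noncomputable def t5703_5705 (i : ℕ) : ℕ := (@Bool.rec (fun _ => ℕ) l5703 l5704 (Nat.ble (nat_lit 5704) i))
noncomputable def t5705_5707 (i : ℕ) : ℕ := (@Bool.rec (fun _ => ℕ) l5705 l5706 (Nat.ble (nat_lit 5706) i))
noncomputable def t5707_5709 (i : ℕ) : ℕ := (@Bool.rec (fun _ => ℕ) l5707 l5708 (Nat.ble (nat_lit 5708) i))
noncomputable def t5709_5712 (i : ℕ) : ℕ := (@Bool.rec (fun _ => ℕ) l5709 (@Bool.rec (fun _ => ℕ) l5710 l5711 (Nat.ble (nat_lit 5711) i)) (Nat.ble (nat_lit 5710) i))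
noncomputable def t5712_5714 (i : ℕ) : ℕ := (@Bool.rec (fun _ => ℕ) l5712 l5713 (Nat.ble (nat_lit 5713) i))
noncomputable def t5714_5716 (i : ℕ) : ℕ := (@Bool.rec (fun _ => ℕ) l5714 l5715 (Nat.ble (nat_lit 5715) i))
noncomputable def t5716_5718 (i : ℕ) : ℕ := (@Bool.rec (fun _ => ℕ) l5716 l5717 (Nat.ble (nat_lit 5717) i))
noncomputable def t5718_5721 (i : ℕ) : ℕ := (@Bool.rec (fun _ => ℕ) l5718 (@Bool.rec (fun _ => ℕ) l5719 l5720 (Nat.ble (nat_lit 5720) i)) (Nat.ble (nat_lit 5719) i))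
noncomputable def t5703_5721 (i : ℕ) : ℕ := (@Bool.rec (fun _ => ℕ) (@Bool.rec (fun _ => ℕ) (@Bool.rec (fun _ => ℕ) (t5703_5705 i) (t5705_5707 i) (Nat.ble (nat_lit 5705) i)) (@Bool.rec (fun _ => ℕ) (t5707_5709 i) (t5709_5712 i) (Nat.ble (nat_lit 5709) i)) (Nat.ble (nat_lit 5707) i)) (@Bool.rec (fun _ => ℕ) (@Bool.rec (fun _ => ℕ) (t5712_5714 i) (t5714_5716 i) (Nat.ble (nat_lit 5714) i)) (@Bool.rec (fun _ => ℕ) (t5716_5718 i) (t5718_5721 i) (Nat.ble (nat_lit 5718) i)) (Nat.ble (nat_lit 5716) i)) (Nat.ble (nat_lit 5712) i))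
noncomputable def t5721_5723 (i : ℕ) : ℕ := (@Bool.rec (fun _ => ℕ) l5721 l5722 (Nat.ble (nat_lit 5722) i))
noncomputable def t5723_5725 (i : ℕ) : ℕ := (@Bool.rec (fun _ => ℕ) l5723 l5724 (Nat.ble (nat_lit 5724) i))
noncomputable def t5725_5727 (i : ℕ) : ℕ := (@Bool.rec (fun _ => ℕ) l5725 l5726 (Nat.ble (nat_lit 5726) i))
noncomputable def t5727_5730 (i : ℕ) : ℕ := (@Bool.rec (fun _ => ℕ) l5727 (@Bool.rec (fun _ => ℕ) l5728 l5729 (Nat.ble (nat_lit 5729) i)) (Nat.ble (nat_lit 5728) i))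
noncomputable def t5730_5732 (i : ℕ) : ℕ := (@Bool.rec (fun _ => ℕ) l5730 l5731 (Nat.ble (nat_lit 5731) i))
noncomputable def t5732_5735 (i : ℕ) : ℕ := (@Bool.rec (fun _ => ℕ) l5732 (@Bool.rec (fun _ => ℕ) l5733 l5734 (Nat.ble (nat_lit 5734) i)) (Nat.ble (nat_lit 5733) i))
noncomputable def t5735_5737 (i : ℕ) : ℕ := (@Bool.rec (fun _ => ℕ) l5735 l5736 (Nat.ble (nat_lit 5736) i))
noncomputable def t5737_5740 (i : ℕ) : ℕ := (@Bool.rec (fun _ => ℕ) l5737 (@Bool.rec (fun _ => ℕ) l5738 l5739 (Nat.ble (nat_lit 5739) i)) (Nat.ble (nat_lit 5738) i))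
noncomputable def t5721_5740 (i : ℕ) : ℕ := (@Bool.rec (fun _ => ℕ) (@Bool.rec (fun _ => ℕ) (@Bool.rec (fun _ => ℕ) (t5721_5723 i) (t5723_5725 i) (Nat.ble (nat_lit 5723) i)) (@Bool.rec (fun _ => ℕ) (t5725_5727 i) (t5727_5730 i) (Nat.ble (nat_lit 5727) i)) (Nat.ble (nat_lit 5725) i)) (@Bool.rec (fun _ => ℕ) (@Bool.rec (fun _ => ℕ) (t5730_5732 i) (t5732_5735 i) (Nat.ble (nat_lit 5732) i)) (@Bool.rec (fun _ => ℕ) (t5735_5737 i) (t5737_5740 i) (Nat.ble (nat_lit 5737) i)) (Nat.ble (nat_lit 5735) i)) (Nat.ble (nat_lit 5730) i))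
noncomputable def t5740_5742 (i : ℕ) : ℕ := (@Bool.rec (fun _ => ℕ) l5740 l5741 (Nat.ble (nat_lit 5741) i))
noncomputable def t5742_5744 (i : ℕ) : ℕ := (@Bool.rec (fun _ => ℕ) l5742 l5743 (Nat.ble (nat_lit 5743) i))
noncomputable def t5744_5746 (i : ℕ) : ℕ := (@Bool.rec (fun _ => ℕ) l5744 l5745 (Nat.ble (nat_lit 5745) i))
noncomputable def t5746_5749 (i : ℕ) : ℕ := (@Bool.rec (fun _ => ℕ) l5746 (@Bool.rec (fun _ => ℕ) l5747 l5748 (Nat.ble (nat_lit 5748) i)) (Nat.ble (nat_lit 5747) i))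
noncomputable def t5749_5751 (i : ℕ) : ℕ := (@Bool.rec (fun _ => ℕ) l5749 l5750 (Nat.ble (nat_lit 5750) i))
noncomputable def t5751_5754 (i : ℕ) : ℕ := (@Bool.rec (fun _ => ℕ) l5751 (@Bool.rec (fun _ => ℕ) l5752 l5753 (Nat.ble (nat_lit 5753) i)) (Nat.ble (nat_lit 5752) i))
noncomputable def t5754_5756 (i : ℕ) : ℕ := (@Bool.rec (fun _ => ℕ) l5754 l5755 (Nat.ble (nat_lit 5755) i))
noncomputable def t5756_5759 (i : ℕ) : ℕ := (@Bool.rec (fun _ => ℕ) l5756 (@Bool.rec (fun _ => ℕ) l5757 l5758 (Nat.ble (nat_lit 5758) i)) (Nat.ble (nat_lit 5757) i))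
noncomputable def t5740_5759 (i : ℕ) : ℕ := (@Bool.rec (fun _ => ℕ) (@Bool.rec (fun _ => ℕ) (@Bool.rec (fun _ => ℕ) (t5740_5742 i) (t5742_5744 i) (Nat.ble (nat_lit 5742) i)) (@Bool.rec (fun _ => ℕ) (t5744_5746 i) (t5746_5749 i) (Nat.ble (nat_lit 5746) i)) (Nat.ble (nat_lit 5744) i)) (@Bool.rec (fun _ => ℕ) (@Bool.rec (fun _ => ℕ) (t5749_5751 i) (t5751_5754 i) (Nat.ble (nat_lit 5751) i)) (@Bool.rec (fun _ => ℕ) (t5754_5756 i) (t5756_5759 i) (Nat.ble (nat_lit 5756) i)) (Nat.ble (nat_lit 5754) i)) (Nat.ble (nat_lit 5749) i))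
noncomputable def t5759_5761 (i : ℕ) : ℕ := (@Bool.rec (fun _ => ℕ) l5759 l5760 (Nat.ble (nat_lit 5760) i))
noncomputable def t5761_5763 (i : ℕ) : ℕ := (@Bool.rec (fun _ => ℕ) l5761 l5762 (Nat.ble (nat_lit 5762) i))
noncomputable def t5763_5765 (i : ℕ) : ℕ := (@Bool.rec (fun _ => ℕ) l5763 l5764 (Nat.ble (nat_lit 5764) i))
noncomputable def t5765_5768 (i : ℕ) : ℕ := (@Bool.rec (fun _ => ℕ) l5765 (@Bool.rec (fun _ => ℕ) l5766 l5767 (Nat.ble (nat_lit 5767) i)) (Nat.ble (nat_lit 5766) i))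
noncomputable def t5768_5770 (i : ℕ) : ℕ := (@Bool.rec (fun _ => ℕ) l5768 l5769 (Nat.ble (nat_lit 5769) i))
noncomputable def t5770_5773 (i : ℕ) : ℕ := (@Bool.rec (fun _ => ℕ) l5770 (@Bool.rec (fun _ => ℕ) l5771 l5772 (Nat.ble (nat_lit 5772) i)) (Nat.ble (nat_lit 5771) i))
noncomputable def t5773_5775 (i : ℕ) : ℕ := (@Bool.rec (fun _ => ℕ) l5773 l5774 (Nat.ble (nat_lit 5774) i))
noncomputable def t5775_5778 (i : ℕ) : ℕ := (@Bool.rec (fun _ => ℕ) l5775 (@Bool.rec (fun _ => ℕ) l5776 l5777 (Nat.ble (nat_lit 5777) i)) (Nat.ble (nat_lit 5776) i))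
noncomputable def t5759_5778 (i : ℕ) : ℕ := (@Bool.rec (fun _ => ℕ) (@Bool.rec (fun _ => ℕ) (@Bool.rec (fun _ => ℕ) (t5759_5761 i) (t5761_5763 i) (Nat.ble (nat_lit 5761) i)) (@Bool.rec (fun _ => ℕ) (t5763_5765 i) (t5765_5768 i) (Nat.ble (nat_lit 5765) i)) (Nat.ble (nat_lit 5763) i)) (@Bool.rec (fun _ => ℕ) (@Bool.rec (fun _ => ℕ) (t5768_5770 i) (t5770_5773 i) (Nat.ble (nat_lit 5770) i)) (@Bool.rec (fun _ => ℕ) (t5773_5775 i) (t5775_5778 i) (Nat.ble (nat_lit 5775) i)) (Nat.ble (nat_lit 5773) i)) (Nat.ble (nat_lit 5768) i))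
noncomputable def t5778_5780 (i : ℕ) : ℕ := (@Bool.rec (fun _ => ℕ) l5778 l5779 (Nat.ble (nat_lit 5779) i))
noncomputable def t5780_5782 (i : ℕ) : ℕ := (@Bool.rec (fun _ => ℕ) l5780 l5781 (Nat.ble (nat_lit 5781) i))
noncomputable def t5782_5784 (i : ℕ) : ℕ := (@Bool.rec (fun _ => ℕ) l5782 l5783 (Nat.ble (nat_lit 5783) i))
noncomputable def t5784_5787 (i : ℕ) : ℕ := (@Bool.rec (fun _ => ℕ) l5784 (@Bool.rec (fun _ => ℕ) l5785 l5786 (Nat.ble (nat_lit 5786) i)) (Nat.ble (nat_lit 5785) i))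
noncomputable def t5787_5789 (i : ℕ) : ℕ := (@Bool.rec (fun _ => ℕ) l5787 l5788 (Nat.ble (nat_lit 5788) i))
noncomputable def t5789_5791 (i : ℕ) : ℕ := (@Bool.rec (fun _ => ℕ) l5789 l5790 (Nat.ble (nat_lit 5790) i))
noncomputable def t5791_5793 (i : ℕ) : ℕ := (@Bool.rec (fun _ => ℕ) l5791 l5792 (Nat.ble (nat_lit 5792) i))
noncomputable def t5793_5796 (i : ℕ) : ℕ := (@Bool.rec (fun _ => ℕ) l5793 (@Bool.rec (fun _ => ℕ) l5794 l5795 (Nat.ble (nat_lit 5795) i)) (Nat.ble (nat_lit 5794) i))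
noncomputable def t5778_5796 (i : ℕ) : ℕ := (@Bool.rec (fun _ => ℕ) (@Bool.rec (fun _ => ℕ) (@Bool.rec (fun _ => ℕ) (t5778_5780 i) (t5780_5782 i) (Nat.ble (nat_lit 5780) i)) (@Bool.rec (fun _ => ℕ) (t5782_5784 i) (t5784_5787 i) (Nat.ble (nat_lit 5784) i)) (Nat.ble (nat_lit 5782) i)) (@Bool.rec (fun _ => ℕ) (@Bool.rec (fun _ => ℕ) (t5787_5789 i) (t5789_5791 i) (Nat.ble (nat_lit 5789) i)) (@Bool.rec (fun _ => ℕ) (t5791_5793 i) (t5793_5796 i) (Nat.ble (nat_lit 5793) i)) (Nat.ble (nat_lit 5791) i)) (Nat.ble (nat_lit 5787) i))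
noncomputable def t5796_5798 (i : ℕ) : ℕ := (@Bool.rec (fun _ => ℕ) l5796 l5797 (Nat.ble (nat_lit 5797) i))
noncomputable def t5798_5800 (i : ℕ) : ℕ := (@Bool.rec (fun _ => ℕ) l5798 l5799 (Nat.ble (nat_lit 5799) i))
noncomputable def t5800_5802 (i : ℕ) : ℕ := (@Bool.rec (fun _ => ℕ) l5800 l5801 (Nat.ble (nat_lit 5801) i))
noncomputable def t5802_5805 (i : ℕ) : ℕ := (@Bool.rec (fun _ => ℕ) l5802 (@Bool.rec (fun _ => ℕ) l5803 l5804 (Nat.ble (nat_lit 5804) i)) (Nat.ble (nat_lit 5803) i))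
noncomputable def t5805_5807 (i : ℕ) : ℕ := (@Bool.rec (fun _ => ℕ) l5805 l5806 (Nat.ble (nat_lit 5806) i))
noncomputable def t5807_5810 (i : ℕ) : ℕ := (@Bool.rec (fun _ => ℕ) l5807 (@Bool.rec (fun _ => ℕ) l5808 l5809 (Nat.ble (nat_lit 5809) i)) (Nat.ble (nat_lit 5808) i))
noncomputable def t5810_5812 (i : ℕ) : ℕ := (@Bool.rec (fun _ => ℕ) l5810 l5811 (Nat.ble (nat_lit 5811) i))
noncomputable def t5812_5815 (i : ℕ) : ℕ := (@Bool.rec (fun _ => ℕ) l5812 (@Bool.rec (fun _ => ℕ) l5813 l5814 (Nat.ble (nat_lit 5814) i)) (Nat.ble (nat_lit 5813) i))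
noncomputable def t5796_5815 (i : ℕ) : ℕ := (@Bool.rec (fun _ => ℕ) (@Bool.rec (fun _ => ℕ) (@Bool.rec (fun _ => ℕ) (t5796_5798 i) (t5798_5800 i) (Nat.ble (nat_lit 5798) i)) (@Bool.rec (fun _ => ℕ) (t5800_5802 i) (t5802_5805 i) (Nat.ble (nat_lit 5802) i)) (Nat.ble (nat_lit 5800) i)) (@Bool.rec (fun _ => ℕ) (@Bool.rec (fun _ => ℕ) (t5805_5807 i) (t5807_5810 i) (Nat.ble (nat_lit 5807) i)) (@Bool.rec (fun _ => ℕ) (t5810_5812 i) (t5812_5815 i) (Nat.ble (nat_lit 5812) i)) (Nat.ble (nat_lit 5810) i)) (Nat.ble (nat_lit 5805) i))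
noncomputable def t5815_5817 (i : ℕ) : ℕ := (@Bool.rec (fun _ => ℕ) l5815 l5816 (Nat.ble (nat_lit 5816) i))
noncomputable def t5817_5819 (i : ℕ) : ℕ := (@Bool.rec (fun _ => ℕ) l5817 l5818 (Nat.ble (nat_lit 5818) i))
noncomputable def t5819_5821 (i : ℕ) : ℕ := (@Bool.rec (fun _ => ℕ) l5819 l5820 (Nat.ble (nat_lit 5820) i))
noncomputable def t5821_5824 (i : ℕ) : ℕ := (@Bool.rec (fun _ => ℕ) l5821 (@Bool.rec (fun _ => ℕ) l5822 l5823 (Nat.ble (nat_lit 5823) i)) (Nat.ble (nat_lit 5822) i))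
noncomputable def t5824_5826 (i : ℕ) : ℕ := (@Bool.rec (fun _ => ℕ) l5824 l5825 (Nat.ble (nat_lit 5825) i))
noncomputable def t5826_5829 (i : ℕ) : ℕ := (@Bool.rec (fun _ => ℕ) l5826 (@Bool.rec (fun _ => ℕ) l5827 l5828 (Nat.ble (nat_lit 5828) i)) (Nat.ble (nat_lit 5827) i))
noncomputable def t5829_5831 (i : ℕ) : ℕ := (@Bool.rec (fun _ => ℕ) l5829 l5830 (Nat.ble (nat_lit 5830) i))
noncomputable def t5831_5834 (i : ℕ) : ℕ := (@Bool.rec (fun _ => ℕ) l5831 (@Bool.rec (fun _ => ℕ) l5832 l5833 (Nat.ble (nat_lit 5833) i)) (Nat.ble (nat_lit 5832) i))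
noncomputable def t5815_5834 (i : ℕ) : ℕ := (@Bool.rec (fun _ => ℕ) (@Bool.rec (fun _ => ℕ) (@Bool.rec (fun _ => ℕ) (t5815_5817 i) (t5817_5819 i) (Nat.ble (nat_lit 5817) i)) (@Bool.rec (fun _ => ℕ) (t5819_5821 i) (t5821_5824 i) (Nat.ble (nat_lit 5821) i)) (Nat.ble (nat_lit 5819) i)) (@Bool.rec (fun _ => ℕ) (@Bool.rec (fun _ => ℕ) (t5824_5826 i) (t5826_5829 i) (Nat.ble (nat_lit 5826) i)) (@Bool.rec (fun _ => ℕ) (t5829_5831 i) (t5831_5834 i) (Nat.ble (nat_lit 5831) i)) (Nat.ble (nat_lit 5829) i)) (Nat.ble (nat_lit 5824) i))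
noncomputable def t5834_5836 (i : ℕ) : ℕ := (@Bool.rec (fun _ => ℕ) l5834 l5835 (Nat.ble (nat_lit 5835) i))
noncomputable def t5836_5838 (i : ℕ) : ℕ := (@Bool.rec (fun _ => ℕ) l5836 l5837 (Nat.ble (nat_lit 5837) i))
noncomputable def t5838_5840 (i : ℕ) : ℕ := (@Bool.rec (fun _ => ℕ) l5838 l5839 (Nat.ble (nat_lit 5839) i))
noncomputable def t5840_5843 (i : ℕ) : ℕ := (@Bool.rec (fun _ => ℕ) l5840 (@Bool.rec (fun _ => ℕ) l5841 l5842 (Nat.ble (nat_lit 5842) i)) (Nat.ble (nat_lit 5841) i))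
noncomputable def t5843_5845 (i : ℕ) : ℕ := (@Bool.rec (fun _ => ℕ) l5843 l5844 (Nat.ble (nat_lit 5844) i))
noncomputable def t5845_5848 (i : ℕ) : ℕ := (@Bool.rec (fun _ => ℕ) l5845 (@Bool.rec (fun _ => ℕ) l5846 l5847 (Nat.ble (nat_lit 5847) i)) (Nat.ble (nat_lit 5846) i))
noncomputable def t5848_5850 (i : ℕ) : ℕ := (@Bool.rec (fun _ => ℕ) l5848 l5849 (Nat.ble (nat_lit 5849) i))
noncomputable def t5850_5853 (i : ℕ) : ℕ := (@Bool.rec (fun _ => ℕ) l5850 (@Bool.rec (fun _ => ℕ) l5851 l5852 (Nat.ble (nat_lit 5852) i)) (Nat.ble (nat_lit 5851) i))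
noncomputable def t5834_5853 (i : ℕ) : ℕ := (@Bool.rec (fun _ => ℕ) (@Bool.rec (fun _ => ℕ) (@Bool.rec (fun _ => ℕ) (t5834_5836 i) (t5836_5838 i) (Nat.ble (nat_lit 5836) i)) (@Bool.rec (fun _ => ℕ) (t5838_5840 i) (t5840_5843 i) (Nat.ble (nat_lit 5840) i)) (Nat.ble (nat_lit 5838) i)) (@Bool.rec (fun _ => ℕ) (@Bool.rec (fun _ => ℕ) (t5843_5845 i) (t5845_5848 i) (Nat.ble (nat_lit 5845) i)) (@Bool.rec (fun _ => ℕ) (t5848_5850 i) (t5850_5853 i) (Nat.ble (nat_lit 5850) i)) (Nat.ble (nat_lit 5848) i)) (Nat.ble (nat_lit 5843) i))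
noncomputable def t5703_5853 (i : ℕ) : ℕ := (@Bool.rec (fun _ => ℕ) (@Bool.rec (fun _ => ℕ) (@Bool.rec (fun _ => ℕ) (t5703_5721 i) (t5721_5740 i) (Nat.ble (nat_lit 5721) i)) (@Bool.rec (fun _ => ℕ) (t5740_5759 i) (t5759_5778 i) (Nat.ble (nat_lit 5759) i)) (Nat.ble (nat_lit 5740) i)) (@Bool.rec (fun _ => ℕ) (@Bool.rec (fun _ => ℕ) (t5778_5796 i) (t5796_5815 i) (Nat.ble (nat_lit 5796) i)) (@Bool.rec (fun _ => ℕ) (t5815_5834 i) (t5834_5853 i) (Nat.ble (nat_lit 5834) i)) (Nat.ble (nat_lit 5815) i)) (Nat.ble (nat_lit 5778) i))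
noncomputable def t5853_5855 (i : ℕ) : ℕ := (@Bool.rec (fun _ => ℕ) l5853 l5854 (Nat.ble (nat_lit 5854) i))
noncomputable def t5855_5857 (i : ℕ) : ℕ := (@Bool.rec (fun _ => ℕ) l5855 l5856 (Nat.ble (nat_lit 5856) i))
noncomputable def t5857_5859 (i : ℕ) : ℕ := (@Bool.rec (fun _ => ℕ) l5857 l5858 (Nat.ble (nat_lit 5858) i))
noncomputable def t5859_5862 (i : ℕ) : ℕ := (@Bool.rec (fun _ => ℕ) l5859 (@Bool.rec (fun _ => ℕ) l5860 l5861 (Nat.ble (nat_lit 5861) i)) (Nat.ble (nat_lit 5860) i))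
noncomputable def t5862_5864 (i : ℕ) : ℕ := (@Bool.rec (fun _ => ℕ) l5862 l5863 (Nat.ble (nat_lit 5863) i))
noncomputable def t5864_5866 (i : ℕ) : ℕ := (@Bool.rec (fun _ => ℕ) l5864 l5865 (Nat.ble (nat_lit 5865) i))
noncomputable def t5866_5868 (i : ℕ) : ℕ := (@Bool.rec (fun _ => ℕ) l5866 l5867 (Nat.ble (nat_lit 5867) i))
noncomputable def t5868_5871 (i : ℕ) : ℕ := (@Bool.rec (fun _ => ℕ) l5868 (@Bool.rec (fun _ => ℕ) l5869 l5870 (Nat.ble (nat_lit 5870) i)) (Nat.ble (nat_lit 5869) i))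
noncomputable def t5853_5871 (i : ℕ) : ℕ := (@Bool.rec (fun _ => ℕ) (@Bool.rec (fun _ => ℕ) (@Bool.rec (fun _ => ℕ) (t5853_5855 i) (t5855_5857 i) (Nat.ble (nat_lit 5855) i)) (@Bool.rec (fun _ => ℕ) (t5857_5859 i) (t5859_5862 i) (Nat.ble (nat_lit 5859) i)) (Nat.ble (nat_lit 5857) i)) (@Bool.rec (fun _ => ℕ) (@Bool.rec (fun _ => ℕ) (t5862_5864 i) (t5864_5866 i) (Nat.ble (nat_lit 5864) i)) (@Bool.rec (fun _ => ℕ) (t5866_5868 i) (t5868_5871 i) (Nat.ble (nat_lit 5868) i)) (Nat.ble (nat_lit 5866) i)) (Nat.ble (nat_lit 5862) i))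
noncomputable def t5871_5873 (i : ℕ) : ℕ := (@Bool.rec (fun _ => ℕ) l5871 l5872 (Nat.ble (nat_lit 5872) i))
noncomputable def t5873_5875 (i : ℕ) : ℕ := (@Bool.rec (fun _ => ℕ) l5873 l5874 (Nat.ble (nat_lit 5874) i))
noncomputable def t5875_5877 (i : ℕ) : ℕ := (@Bool.rec (fun _ => ℕ) l5875 l5876 (Nat.ble (nat_lit 5876) i))
noncomputable def t5877_5880 (i : ℕ) : ℕ := (@Bool.rec (fun _ => ℕ) l5877 (@Bool.rec (fun _ => ℕ) l5878 l5879 (Nat.ble (nat_lit 5879) i)) (Nat.ble (nat_lit 5878) i))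
noncomputable def t5880_5882 (i : ℕ) : ℕ := (@Bool.rec (fun _ => ℕ) l5880 l5881 (Nat.ble (nat_lit 5881) i))
noncomputable def t5882_5885 (i : ℕ) : ℕ := (@Bool.rec (fun _ => ℕ) l5882 (@Bool.rec (fun _ => ℕ) l5883 l5884 (Nat.ble (nat_lit 5884) i)) (Nat.ble (nat_lit 5883) i))
noncomputable def t5885_5887 (i : ℕ) : ℕ := (@Bool.rec (fun _ => ℕ) l5885 l5886 (Nat.ble (nat_lit 5886) i))
noncomputable def t5887_5890 (i : ℕ) : ℕ := (@Bool.rec (fun _ => ℕ) l5887 (@Bool.rec (fun _ => ℕ) l5888 l5889 (Nat.ble (nat_lit 5889) i)) (Nat.ble (nat_lit 5888) i))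
noncomputable def t5871_5890 (i : ℕ) : ℕ := (@Bool.rec (fun _ => ℕ) (@Bool.rec (fun _ => ℕ) (@Bool.rec (fun _ => ℕ) (t5871_5873 i) (t5873_5875 i) (Nat.ble (nat_lit 5873) i)) (@Bool.rec (fun _ => ℕ) (t5875_5877 i) (t5877_5880 i) (Nat.ble (nat_lit 5877) i)) (Nat.ble (nat_lit 5875) i)) (@Bool.rec (fun _ => ℕ) (@Bool.rec (fun _ => ℕ) (t5880_5882 i) (t5882_5885 i) (Nat.ble (nat_lit 5882) i)) (@Bool.rec (fun _ => ℕ) (t5885_5887 i) (t5887_5890 i) (Nat.ble (nat_lit 5887) i)) (Nat.ble (nat_lit 5885) i)) (Nat.ble (nat_lit 5880) i))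
noncomputable def t5890_5892 (i : ℕ) : ℕ := (@Bool.rec (fun _ => ℕ) l5890 l5891 (Nat.ble (nat_lit 5891) i))
noncomputable def t5892_5894 (i : ℕ) : ℕ := (@Bool.rec (fun _ => ℕ) l5892 l5893 (Nat.ble (nat_lit 5893) i))
noncomputable def t5894_5896 (i : ℕ) : ℕ := (@Bool.rec (fun _ => ℕ) l5894 l5895 (Nat.ble (nat_lit 5895) i))
noncomputable def t5896_5899 (i : ℕ) : ℕ := (@Bool.rec (fun _ => ℕ) l5896 (@Bool.rec (fun _ => ℕ) l5897 l5898 (Nat.ble (nat_lit 5898) i)) (Nat.ble (nat_lit 5897) i))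
noncomputable def t5899_5901 (i : ℕ) : ℕ := (@Bool.rec (fun _ => ℕ) l5899 l5900 (Nat.ble (nat_lit 5900) i))
noncomputable def t5901_5904 (i : ℕ) : ℕ := (@Bool.rec (fun _ => ℕ) l5901 (@Bool.rec (fun _ => ℕ) l5902 l5903 (Nat.ble (nat_lit 5903) i)) (Nat.ble (nat_lit 5902) i))
noncomputable def t5904_5906 (i : ℕ) : ℕ := (@Bool.rec (fun _ => ℕ) l5904 l5905 (Nat.ble (nat_lit 5905) i))
noncomputable def t5906_5909 (i : ℕ) : ℕ := (@Bool.rec (fun _ => ℕ) l5906 (@Bool.rec (fun _ => ℕ) l5907 l5908 (Nat.ble (nat_lit 5908) i)) (Nat.ble (nat_lit 5907) i))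
noncomputable def t5890_5909 (i : ℕ) : ℕ := (@Bool.rec (fun _ => ℕ) (@Bool.rec (fun _ => ℕ) (@Bool.rec (fun _ => ℕ) (t5890_5892 i) (t5892_5894 i) (Nat.ble (nat_lit 5892) i)) (@Bool.rec (fun _ => ℕ) (t5894_5896 i) (t5896_5899 i) (Nat.ble (nat_lit 5896) i)) (Nat.ble (nat_lit 5894) i)) (@Bool.rec (fun _ => ℕ) (@Bool.rec (fun _ => ℕ) (t5899_5901 i) (t5901_5904 i) (Nat.ble (nat_lit 5901) i)) (@Bool.rec (fun _ => ℕ) (t5904_5906 i) (t5906_5909 i) (Nat.ble (nat_lit 5906) i)) (Nat.ble (nat_lit 5904) i)) (Nat.ble (nat_lit 5899) i))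
noncomputable def t5909_5911 (i : ℕ) : ℕ := (@Bool.rec (fun _ => ℕ) l5909 l5910 (Nat.ble (nat_lit 5910) i))
noncomputable def t5911_5913 (i : ℕ) : ℕ := (@Bool.rec (fun _ => ℕ) l5911 l5912 (Nat.ble (nat_lit 5912) i))
noncomputable def t5913_5915 (i : ℕ) : ℕ := (@Bool.rec (fun _ => ℕ) l5913 l5914 (Nat.ble (nat_lit 5914) i))
noncomputable def t5915_5918 (i : ℕ) : ℕ := (@Bool.rec (fun _ => ℕ) l5915 (@Bool.rec (fun _ => ℕ) l5916 l5917 (Nat.ble (nat_lit 5917) i)) (Nat.ble (nat_lit 5916) i))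
noncomputable def t5918_5920 (i : ℕ) : ℕ := (@Bool.rec (fun _ => ℕ) l5918 l5919 (Nat.ble (nat_lit 5919) i))
noncomputable def t5920_5923 (i : ℕ) : ℕ := (@Bool.rec (fun _ => ℕ) l5920 (@Bool.rec (fun _ => ℕ) l5921 l5922 (Nat.ble (nat_lit 5922) i)) (Nat.ble (nat_lit 5921) i))
noncomputable def t5923_5925 (i : ℕ) : ℕ := (@Bool.rec (fun _ => ℕ) l5923 l5924 (Nat.ble (nat_lit 5924) i))
noncomputable def t5925_5928 (i : ℕ) : ℕ := (@Bool.rec (fun _ => ℕ) l5925 (@Bool.rec (fun _ => ℕ) l5926 l5927 (Nat.ble (nat_lit 5927) i)) (Nat.ble (nat_lit 5926) i))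
noncomputable def t5909_5928 (i : ℕ) : ℕ := (@Bool.rec (fun _ => ℕ) (@Bool.rec (fun _ => ℕ) (@Bool.rec (fun _ => ℕ) (t5909_5911 i) (t5911_5913 i) (Nat.ble (nat_lit 5911) i)) (@Bool.rec (fun _ => ℕ) (t5913_5915 i) (t5915_5918 i) (Nat.ble (nat_lit 5915) i)) (Nat.ble (nat_lit 5913) i)) (@Bool.rec (fun _ => ℕ) (@Bool.rec (fun _ => ℕ) (t5918_5920 i) (t5920_5923 i) (Nat.ble (nat_lit 5920) i)) (@Bool.rec (fun _ => ℕ) (t5923_5925 i) (t5925_5928 i) (Nat.ble (nat_lit 5925) i)) (Nat.ble (nat_lit 5923) i)) (Nat.ble (nat_lit 5918) i))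
noncomputable def t5928_5930 (i : ℕ) : ℕ := (@Bool.rec (fun _ => ℕ) l5928 l5929 (Nat.ble (nat_lit 5929) i))
noncomputable def t5930_5932 (i : ℕ) : ℕ := (@Bool.rec (fun _ => ℕ) l5930 l5931 (Nat.ble (nat_lit 5931) i))
noncomputable def t5932_5934 (i : ℕ) : ℕ := (@Bool.rec (fun _ => ℕ) l5932 l5933 (Nat.ble (nat_lit 5933) i))
noncomputable def t5934_5937 (i : ℕ) : ℕ := (@Bool.rec (fun _ => ℕ) l5934 (@Bool.rec (fun _ => ℕ) l5935 l5936 (Nat.ble (nat_lit 5936) i)) (Nat.ble (nat_lit 5935) i))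
noncomputable def t5937_5939 (i : ℕ) : ℕ := (@Bool.rec (fun _ => ℕ) l5937 l5938 (Nat.ble (nat_lit 5938) i))
noncomputable def t5939_5942 (i : ℕ) : ℕ := (@Bool.rec (fun _ => ℕ) l5939 (@Bool.rec (fun _ => ℕ) l5940 l5941 (Nat.ble (nat_lit 5941) i)) (Nat.ble (nat_lit 5940) i))
noncomputable def t5942_5944 (i : ℕ) : ℕ := (@Bool.rec (fun _ => ℕ) l5942 l5943 (Nat.ble (nat_lit 5943) i))
noncomputable def t5944_5947 (i : ℕ) : ℕ := (@Bool.rec (fun _ => ℕ) l5944 (@Bool.rec (fun _ => ℕ) l5945 l5946 (Nat.ble (nat_lit 5946) i)) (Nat.ble (nat_lit 5945) i))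
noncomputable def t5928_5947 (i : ℕ) : ℕ := (@Bool.rec (fun _ => ℕ) (@Bool.rec (fun _ => ℕ) (@Bool.rec (fun _ => ℕ) (t5928_5930 i) (t5930_5932 i) (Nat.ble (nat_lit 5930) i)) (@Bool.rec (fun _ => ℕ) (t5932_5934 i) (t5934_5937 i) (Nat.ble (nat_lit 5934) i)) (Nat.ble (nat_lit 5932) i)) (@Bool.rec (fun _ => ℕ) (@Bool.rec (fun _ => ℕ) (t5937_5939 i) (t5939_5942 i) (Nat.ble (nat_lit 5939) i)) (@Bool.rec (fun _ => ℕ) (t5942_5944 i) (t5944_5947 i) (Nat.ble (nat_lit 5944) i)) (Nat.ble (nat_lit 5942) i)) (Nat.ble (nat_lit 5937) i))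
noncomputable def t5947_5949 (i : ℕ) : ℕ := (@Bool.rec (fun _ => ℕ) l5947 l5948 (Nat.ble (nat_lit 5948) i))
noncomputable def t5949_5951 (i : ℕ) : ℕ := (@Bool.rec (fun _ => ℕ) l5949 l5950 (Nat.ble (nat_lit 5950) i))
noncomputable def t5951_5953 (i : ℕ) : ℕ := (@Bool.rec (fun _ => ℕ) l5951 l5952 (Nat.ble (nat_lit 5952) i))
noncomputable def t5953_5956 (i : ℕ) : ℕ := (@Bool.rec (fun _ => ℕ) l5953 (@Bool.rec (fun _ => ℕ) l5954 l5955 (Nat.ble (nat_lit 5955) i)) (Nat.ble (nat_lit 5954) i))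
noncomputable def t5956_5958 (i : ℕ) : ℕ := (@Bool.rec (fun _ => ℕ) l5956 l5957 (Nat.ble (nat_lit 5957) i))
noncomputable def t5958_5961 (i : ℕ) : ℕ := (@Bool.rec (fun _ => ℕ) l5958 (@Bool.rec (fun _ => ℕ) l5959 l5960 (Nat.ble (nat_lit 5960) i)) (Nat.ble (nat_lit 5959) i))
noncomputable def t5961_5963 (i : ℕ) : ℕ := (@Bool.rec (fun _ => ℕ) l5961 l5962 (Nat.ble (nat_lit 5962) i))
noncomputable def t5963_5966 (i : ℕ) : ℕ := (@Bool.rec (fun _ => ℕ) l5963 (@Bool.rec (fun _ => ℕ) l5964 l5965 (Nat.ble (nat_lit 5965) i)) (Nat.ble (nat_lit 5964) i))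
noncomputable def t5947_5966 (i : ℕ) : ℕ := (@Bool.rec (fun _ => ℕ) (@Bool.rec (fun _ => ℕ) (@Bool.rec (fun _ => ℕ) (t5947_5949 i) (t5949_5951 i) (Nat.ble (nat_lit 5949) i)) (@Bool.rec (fun _ => ℕ) (t5951_5953 i) (t5953_5956 i) (Nat.ble (nat_lit 5953) i)) (Nat.ble (nat_lit 5951) i)) (@Bool.rec (fun _ => ℕ) (@Bool.rec (fun _ => ℕ) (t5956_5958 i) (t5958_5961 i) (Nat.ble (nat_lit 5958) i)) (@Bool.rec (fun _ => ℕ) (t5961_5963 i) (t5963_5966 i) (Nat.ble (nat_lit 5963) i)) (Nat.ble (nat_lit 5961) i)) (Nat.ble (nat_lit 5956) i))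
noncomputable def t5966_5968 (i : ℕ) : ℕ := (@Bool.rec (fun _ => ℕ) l5966 l5967 (Nat.ble (nat_lit 5967) i))
noncomputable def t5968_5970 (i : ℕ) : ℕ := (@Bool.rec (fun _ => ℕ) l5968 l5969 (Nat.ble (nat_lit 5969) i))
noncomputable def t5970_5972 (i : ℕ) : ℕ := (@Bool.rec (fun _ => ℕ) l5970 l5971 (Nat.ble (nat_lit 5971) i))
noncomputable def t5972_5975 (i : ℕ) : ℕ := (@Bool.rec (fun _ => ℕ) l5972 (@Bool.rec (fun _ => ℕ) l5973 l5974 (Nat.ble (nat_lit 5974) i)) (Nat.ble (nat_lit 5973) i))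
noncomputable def t5975_5977 (i : ℕ) : ℕ := (@Bool.rec (fun _ => ℕ) l5975 l5976 (Nat.ble (nat_lit 5976) i))
noncomputable def t5977_5980 (i : ℕ) : ℕ := (@Bool.rec (fun _ => ℕ) l5977 (@Bool.rec (fun _ => ℕ) l5978 l5979 (Nat.ble (nat_lit 5979) i)) (Nat.ble (nat_lit 5978) i))
noncomputable def t5980_5982 (i : ℕ) : ℕ := (@Bool.rec (fun _ => ℕ) l5980 l5981 (Nat.ble (nat_lit 5981) i))
noncomputable def t5982_5985 (i : ℕ) : ℕ := (@Bool.rec (fun _ => ℕ) l5982 (@Bool.rec (fun _ => ℕ) l5983 l5984 (Nat.ble (nat_lit 5984) i)) (Nat.ble (nat_lit 5983) i))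
noncomputable def t5966_5985 (i : ℕ) : ℕ := (@Bool.rec (fun _ => ℕ) (@Bool.rec (fun _ => ℕ) (@Bool.rec (fun _ => ℕ) (t5966_5968 i) (t5968_5970 i) (Nat.ble (nat_lit 5968) i)) (@Bool.rec (fun _ => ℕ) (t5970_5972 i) (t5972_5975 i) (Nat.ble (nat_lit 5972) i)) (Nat.ble (nat_lit 5970) i)) (@Bool.rec (fun _ => ℕ) (@Bool.rec (fun _ => ℕ) (t5975_5977 i) (t5977_5980 i) (Nat.ble (nat_lit 5977) i)) (@Bool.rec (fun _ => ℕ) (t5980_5982 i) (t5982_5985 i) (Nat.ble (nat_lit 5982) i)) (Nat.ble (nat_lit 5980) i)) (Nat.ble (nat_lit 5975) i))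
noncomputable def t5985_5987 (i : ℕ) : ℕ := (@Bool.rec (fun _ => ℕ) l5985 l5986 (Nat.ble (nat_lit 5986) i))
noncomputable def t5987_5989 (i : ℕ) : ℕ := (@Bool.rec (fun _ => ℕ) l5987 l5988 (Nat.ble (nat_lit 5988) i))
noncomputable def t5989_5991 (i : ℕ) : ℕ := (@Bool.rec (fun _ => ℕ) l5989 l5990 (Nat.ble (nat_lit 5990) i))
noncomputable def t5991_5994 (i : ℕ) : ℕ := (@Bool.rec (fun _ => ℕ) l5991 (@Bool.rec (fun _ => ℕ) l5992 l5993 (Nat.ble (nat_lit 5993) i)) (Nat.ble (nat_lit 5992) i))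
noncomputable def t5994_5996 (i : ℕ) : ℕ := (@Bool.rec (fun _ => ℕ) l5994 l5995 (Nat.ble (nat_lit 5995) i))
noncomputable def t5996_5999 (i : ℕ) : ℕ := (@Bool.rec (fun _ => ℕ) l5996 (@Bool.rec (fun _ => ℕ) l5997 l5998 (Nat.ble (nat_lit 5998) i)) (Nat.ble (nat_lit 5997) i))
noncomputable def t5999_6001 (i : ℕ) : ℕ := (@Bool.rec (fun _ => ℕ) l5999 l6000 (Nat.ble (nat_lit 6000) i))
noncomputable def t6001_6004 (i : ℕ) : ℕ := (@Bool.rec (fun _ => ℕ) l6001 (@Bool.rec (fun _ => ℕ) l6002 l6003 (Nat.ble (nat_lit 6003) i)) (Nat.ble (nat_lit 6002) i))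
noncomputable def t5985_6004 (i : ℕ) : ℕ := (@Bool.rec (fun _ => ℕ) (@Bool.rec (fun _ => ℕ) (@Bool.rec (fun _ => ℕ) (t5985_5987 i) (t5987_5989 i) (Nat.ble (nat_lit 5987) i)) (@Bool.rec (fun _ => ℕ) (t5989_5991 i) (t5991_5994 i) (Nat.ble (nat_lit 5991) i)) (Nat.ble (nat_lit 5989) i)) (@Bool.rec (fun _ => ℕ) (@Bool.rec (fun _ => ℕ) (t5994_5996 i) (t5996_5999 i) (Nat.ble (nat_lit 5996) i)) (@Bool.rec (fun _ => ℕ) (t5999_6001 i) (t6001_6004 i) (Nat.ble (nat_lit 6001) i)) (Nat.ble (nat_lit 5999) i)) (Nat.ble (nat_lit 5994) i))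
noncomputable def t5853_6004 (i : ℕ) : ℕ := (@Bool.rec (fun _ => ℕ) (@Bool.rec (fun _ => ℕ) (@Bool.rec (fun _ => ℕ) (t5853_5871 i) (t5871_5890 i) (Nat.ble (nat_lit 5871) i)) (@Bool.rec (fun _ => ℕ) (t5890_5909 i) (t5909_5928 i) (Nat.ble (nat_lit 5909) i)) (Nat.ble (nat_lit 5890) i)) (@Bool.rec (fun _ => ℕ) (@Bool.rec (fun _ => ℕ) (t5928_5947 i) (t5947_5966 i) (Nat.ble (nat_lit 5947) i)) (@Bool.rec (fun _ => ℕ) (t5966_5985 i) (t5985_6004 i) (Nat.ble (nat_lit 5985) i)) (Nat.ble (nat_lit 5966) i)) (Nat.ble (nat_lit 5928) i))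
noncomputable def t4803_6004 (i : ℕ) : ℕ := (@Bool.rec (fun _ => ℕ) (@Bool.rec (fun _ => ℕ) (@Bool.rec (fun _ => ℕ) (t4803_4953 i) (t4953_5103 i) (Nat.ble (nat_lit 4953) i)) (@Bool.rec (fun _ => ℕ) (t5103_5253 i) (t5253_5403 i) (Nat.ble (nat_lit 5253) i)) (Nat.ble (nat_lit 5103) i)) (@Bool.rec (fun _ => ℕ) (@Bool.rec (fun _ => ℕ) (t5403_5553 i) (t5553_5703 i) (Nat.ble (nat_lit 5553) i)) (@Bool.rec (fun _ => ℕ) (t5703_5853 i) (t5853_6004 i) (Nat.ble (nat_lit 5853) i)) (Nat.ble (nat_lit 5703) i)) (Nat.ble (nat_lit 5403) i))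
noncomputable def t6004_6006 (i : ℕ) : ℕ := (@Bool.rec (fun _ => ℕ) l6004 l6005 (Nat.ble (nat_lit 6005) i))
noncomputable def t6006_6008 (i : ℕ) : ℕ := (@Bool.rec (fun _ => ℕ) l6006 l6007 (Nat.ble (nat_lit 6007) i))
noncomputable def t6008_6010 (i : ℕ) : ℕ := (@Bool.rec (fun _ => ℕ) l6008 l6009 (Nat.ble (nat_lit 6009) i))
noncomputable def t6010_6013 (i : ℕ) : ℕ := (@Bool.rec (fun _ => ℕ) l6010 (@Bool.rec (fun _ => ℕ) l6011 l6012 (Nat.ble (nat_lit 6012) i)) (Nat.ble (nat_lit 6011) i))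
noncomputable def t6013_6015 (i : ℕ) : ℕ := (@Bool.rec (fun _ => ℕ) l6013 l6014 (Nat.ble (nat_lit 6014) i))
noncomputable def t6015_6017 (i : ℕ) : ℕ := (@Bool.rec (fun _ => ℕ) l6015 l6016 (Nat.ble (nat_lit 6016) i))
noncomputable def t6017_6019 (i : ℕ) : ℕ := (@Bool.rec (fun _ => ℕ) l6017 l6018 (Nat.ble (nat_lit 6018) i))
noncomputable def t6019_6022 (i : ℕ) : ℕ := (@Bool.rec (fun _ => ℕ) l6019 (@Bool.rec (fun _ => ℕ) l6020 l6021 (Nat.ble (nat_lit 6021) i)) (Nat.ble (nat_lit 6020) i))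
noncomputable def t6004_6022 (i : ℕ) : ℕ := (@Bool.rec (fun _ => ℕ) (@Bool.rec (fun _ => ℕ) (@Bool.rec (fun _ => ℕ) (t6004_6006 i) (t6006_6008 i) (Nat.ble (nat_lit 6006) i)) (@Bool.rec (fun _ => ℕ) (t6008_6010 i) (t6010_6013 i) (Nat.ble (nat_lit 6010) i)) (Nat.ble (nat_lit 6008) i)) (@Bool.rec (fun _ => ℕ) (@Bool.rec (fun _ => ℕ) (t6013_6015 i) (t6015_6017 i) (Nat.ble (nat_lit 6015) i)) (@Bool.rec (fun _ => ℕ) (t6017_6019 i) (t6019_6022 i) (Nat.ble (nat_lit 6019) i)) (Nat.ble (nat_lit 6017) i)) (Nat.ble (nat_lit 6013) i))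
noncomputable def t6022_6024 (i : ℕ) : ℕ := (@Bool.rec (fun _ => ℕ) l6022 l6023 (Nat.ble (nat_lit 6023) i))
noncomputable def t6024_6026 (i : ℕ) : ℕ := (@Bool.rec (fun _ => ℕ) l6024 l6025 (Nat.ble (nat_lit 6025) i))
noncomputable def t6026_6028 (i : ℕ) : ℕ := (@Bool.rec (fun _ => ℕ) l6026 l6027 (Nat.ble (nat_lit 6027) i))
noncomputable def t6028_6031 (i : ℕ) : ℕ := (@Bool.rec (fun _ => ℕ) l6028 (@Bool.rec (fun _ => ℕ) l6029 l6030 (Nat.ble (nat_lit 6030) i)) (Nat.ble (nat_lit 6029) i))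
noncomputable def t6031_6033 (i : ℕ) : ℕ := (@Bool.rec (fun _ => ℕ) l6031 l6032 (Nat.ble (nat_lit 6032) i))
noncomputable def t6033_6036 (i : ℕ) : ℕ := (@Bool.rec (fun _ => ℕ) l6033 (@Bool.rec (fun _ => ℕ) l6034 l6035 (Nat.ble (nat_lit 6035) i)) (Nat.ble (nat_lit 6034) i))
noncomputable def t6036_6038 (i : ℕ) : ℕ := (@Bool.rec (fun _ => ℕ) l6036 l6037 (Nat.ble (nat_lit 6037) i))
noncomputable def t6038_6041 (i : ℕ) : ℕ := (@Bool.rec (fun _ => ℕ) l6038 (@Bool.rec (fun _ => ℕ) l6039 l6040 (Nat.ble (nat_lit 6040) i)) (Nat.ble (nat_lit 6039) i))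
noncomputable def t6022_6041 (i : ℕ) : ℕ := (@Bool.rec (fun _ => ℕ) (@Bool.rec (fun _ => ℕ) (@Bool.rec (fun _ => ℕ) (t6022_6024 i) (t6024_6026 i) (Nat.ble (nat_lit 6024) i)) (@Bool.rec (fun _ => ℕ) (t6026_6028 i) (t6028_6031 i) (Nat.ble (nat_lit 6028) i)) (Nat.ble (nat_lit 6026) i)) (@Bool.rec (fun _ => ℕ) (@Bool.rec (fun _ => ℕ) (t6031_6033 i) (t6033_6036 i) (Nat.ble (nat_lit 6033) i)) (@Bool.rec (fun _ => ℕ) (t6036_6038 i) (t6038_6041 i) (Nat.ble (nat_lit 6038) i)) (Nat.ble (nat_lit 6036) i)) (Nat.ble (nat_lit 6031) i))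
noncomputable def t6041_6043 (i : ℕ) : ℕ := (@Bool.rec (fun _ => ℕ) l6041 l6042 (Nat.ble (nat_lit 6042) i))
noncomputable def t6043_6045 (i : ℕ) : ℕ := (@Bool.rec (fun _ => ℕ) l6043 l6044 (Nat.ble (nat_lit 6044) i))
noncomputable def t6045_6047 (i : ℕ) : ℕ := (@Bool.rec (fun _ => ℕ) l6045 l6046 (Nat.ble (nat_lit 6046) i))
noncomputable def t6047_6050 (i : ℕ) : ℕ := (@Bool.rec (fun _ => ℕ) l6047 (@Bool.rec (fun _ => ℕ) l6048 l6049 (Nat.ble (nat_lit 6049) i)) (Nat.ble (nat_lit 6048) i))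
noncomputable def t6050_6052 (i : ℕ) : ℕ := (@Bool.rec (fun _ => ℕ) l6050 l6051 (Nat.ble (nat_lit 6051) i))
noncomputable def t6052_6055 (i : ℕ) : ℕ := (@Bool.rec (fun _ => ℕ) l6052 (@Bool.rec (fun _ => ℕ) l6053 l6054 (Nat.ble (nat_lit 6054) i)) (Nat.ble (nat_lit 6053) i))
noncomputable def t6055_6057 (i : ℕ) : ℕ := (@Bool.rec (fun _ => ℕ) l6055 l6056 (Nat.ble (nat_lit 6056) i))
noncomputable def t6057_6060 (i : ℕ) : ℕ := (@Bool.rec (fun _ => ℕ) l6057 (@Bool.rec (fun _ => ℕ) l6058 l6059 (Nat.ble (nat_lit 6059) i)) (Nat.ble (nat_lit 6058) i))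
noncomputable def t6041_6060 (i : ℕ) : ℕ := (@Bool.rec (fun _ => ℕ) (@Bool.rec (fun _ => ℕ) (@Bool.rec (fun _ => ℕ) (t6041_6043 i) (t6043_6045 i) (Nat.ble (nat_lit 6043) i)) (@Bool.rec (fun _ => ℕ) (t6045_6047 i) (t6047_6050 i) (Nat.ble (nat_lit 6047) i)) (Nat.ble (nat_lit 6045) i)) (@Bool.rec (fun _ => ℕ) (@Bool.rec (fun _ => ℕ) (t6050_6052 i) (t6052_6055 i) (Nat.ble (nat_lit 6052) i)) (@Bool.rec (fun _ => ℕ) (t6055_6057 i) (t6057_6060 i) (Nat.ble (nat_lit 6057) i)) (Nat.ble (nat_lit 6055) i)) (Nat.ble (nat_lit 6050) i))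
noncomputable def t6060_6062 (i : ℕ) : ℕ := (@Bool.rec (fun _ => ℕ) l6060 l6061 (Nat.ble (nat_lit 6061) i))
noncomputable def t6062_6064 (i : ℕ) : ℕ := (@Bool.rec (fun _ => ℕ) l6062 l6063 (Nat.ble (nat_lit 6063) i))
noncomputable def t6064_6066 (i : ℕ) : ℕ := (@Bool.rec (fun _ => ℕ) l6064 l6065 (Nat.ble (nat_lit 6065) i))
noncomputable def t6066_6069 (i : ℕ) : ℕ := (@Bool.rec (fun _ => ℕ) l6066 (@Bool.rec (fun _ => ℕ) l6067 l6068 (Nat.ble (nat_lit 6068) i)) (Nat.ble (nat_lit 6067) i))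
noncomputable def t6069_6071 (i : ℕ) : ℕ := (@Bool.rec (fun _ => ℕ) l6069 l6070 (Nat.ble (nat_lit 6070) i))
noncomputable def t6071_6074 (i : ℕ) : ℕ := (@Bool.rec (fun _ => ℕ) l6071 (@Bool.rec (fun _ => ℕ) l6072 l6073 (Nat.ble (nat_lit 6073) i)) (Nat.ble (nat_lit 6072) i))
noncomputable def t6074_6076 (i : ℕ) : ℕ := (@Bool.rec (fun _ => ℕ) l6074 l6075 (Nat.ble (nat_lit 6075) i))
noncomputable def t6076_6079 (i : ℕ) : ℕ := (@Bool.rec (fun _ => ℕ) l6076 (@Bool.rec (fun _ => ℕ) l6077 l6078 (Nat.ble (nat_lit 6078) i)) (Nat.ble (nat_lit 6077) i))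
noncomputable def t6060_6079 (i : ℕ) : ℕ := (@Bool.rec (fun _ => ℕ) (@Bool.rec (fun _ => ℕ) (@Bool.rec (fun _ => ℕ) (t6060_6062 i) (t6062_6064 i) (Nat.ble (nat_lit 6062) i)) (@Bool.rec (fun _ => ℕ) (t6064_6066 i) (t6066_6069 i) (Nat.ble (nat_lit 6066) i)) (Nat.ble (nat_lit 6064) i)) (@Bool.rec (fun _ => ℕ) (@Bool.rec (fun _ => ℕ) (t6069_6071 i) (t6071_6074 i) (Nat.ble (nat_lit 6071) i)) (@Bool.rec (fun _ => ℕ) (t6074_6076 i) (t6076_6079 i) (Nat.ble (nat_lit 6076) i)) (Nat.ble (nat_lit 6074) i)) (Nat.ble (nat_lit 6069) i))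
noncomputable def t6079_6081 (i : ℕ) : ℕ := (@Bool.rec (fun _ => ℕ) l6079 l6080 (Nat.ble (nat_lit 6080) i))
noncomputable def t6081_6083 (i : ℕ) : ℕ := (@Bool.rec (fun _ => ℕ) l6081 l6082 (Nat.ble (nat_lit 6082) i))
noncomputable def t6083_6085 (i : ℕ) : ℕ := (@Bool.rec (fun _ => ℕ) l6083 l6084 (Nat.ble (nat_lit 6084) i))
noncomputable def t6085_6088 (i : ℕ) : ℕ := (@Bool.rec (fun _ => ℕ) l6085 (@Bool.rec (fun _ => ℕ) l6086 l6087 (Nat.ble (nat_lit 6087) i)) (Nat.ble (nat_lit 6086) i))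
noncomputable def t6088_6090 (i : ℕ) : ℕ := (@Bool.rec (fun _ => ℕ) l6088 l6089 (Nat.ble (nat_lit 6089) i))
noncomputable def t6090_6092 (i : ℕ) : ℕ := (@Bool.rec (fun _ => ℕ) l6090 l6091 (Nat.ble (nat_lit 6091) i))
noncomputable def t6092_6094 (i : ℕ) : ℕ := (@Bool.rec (fun _ => ℕ) l6092 l6093 (Nat.ble (nat_lit 6093) i))
noncomputable def t6094_6097 (i : ℕ) : ℕ := (@Bool.rec (fun _ => ℕ) l6094 (@Bool.rec (fun _ => ℕ) l6095 l6096 (Nat.ble (nat_lit 6096) i)) (Nat.ble (nat_lit 6095) i))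
noncomputable def t6079_6097 (i : ℕ) : ℕ := (@Bool.rec (fun _ => ℕ) (@Bool.rec (fun _ => ℕ) (@Bool.rec (fun _ => ℕ) (t6079_6081 i) (t6081_6083 i) (Nat.ble (nat_lit 6081) i)) (@Bool.rec (fun _ => ℕ) (t6083_6085 i) (t6085_6088 i) (Nat.ble (nat_lit 6085) i)) (Nat.ble (nat_lit 6083) i)) (@Bool.rec (fun _ => ℕ) (@Bool.rec (fun _ => ℕ) (t6088_6090 i) (t6090_6092 i) (Nat.ble (nat_lit 6090) i)) (@Bool.rec (fun _ => ℕ) (t6092_6094 i) (t6094_6097 i) (Nat.ble (nat_lit 6094) i)) (Nat.ble (nat_lit 6092) i)) (Nat.ble (nat_lit 6088) i))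
noncomputable def t6097_6099 (i : ℕ) : ℕ := (@Bool.rec (fun _ => ℕ) l6097 l6098 (Nat.ble (nat_lit 6098) i))
noncomputable def t6099_6101 (i : ℕ) : ℕ := (@Bool.rec (fun _ => ℕ) l6099 l6100 (Nat.ble (nat_lit 6100) i))
noncomputable def t6101_6103 (i : ℕ) : ℕ := (@Bool.rec (fun _ => ℕ) l6101 l6102 (Nat.ble (nat_lit 6102) i))
noncomputable def t6103_6106 (i : ℕ) : ℕ := (@Bool.rec (fun _ => ℕ) l6103 (@Bool.rec (fun _ => ℕ) l6104 l6105 (Nat.ble (nat_lit 6105) i)) (Nat.ble (nat_lit 6104) i))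
noncomputable def t6106_6108 (i : ℕ) : ℕ := (@Bool.rec (fun _ => ℕ) l6106 l6107 (Nat.ble (nat_lit 6107) i))
noncomputable def t6108_6111 (i : ℕ) : ℕ := (@Bool.rec (fun _ => ℕ) l6108 (@Bool.rec (fun _ => ℕ) l6109 l6110 (Nat.ble (nat_lit 6110) i)) (Nat.ble (nat_lit 6109) i))
noncomputable def t6111_6113 (i : ℕ) : ℕ := (@Bool.rec (fun _ => ℕ) l6111 l6112 (Nat.ble (nat_lit 6112) i))
noncomputable def t6113_6116 (i : ℕ) : ℕ := (@Bool.rec (fun _ => ℕ) l6113 (@Bool.rec (fun _ => ℕ) l6114 l6115 (Nat.ble (nat_lit 6115) i)) (Nat.ble (nat_lit 6114) i))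
noncomputable def t6097_6116 (i : ℕ) : ℕ := (@Bool.rec (fun _ => ℕ) (@Bool.rec (fun _ => ℕ) (@Bool.rec (fun _ => ℕ) (t6097_6099 i) (t6099_6101 i) (Nat.ble (nat_lit 6099) i)) (@Bool.rec (fun _ => ℕ) (t6101_6103 i) (t6103_6106 i) (Nat.ble (nat_lit 6103) i)) (Nat.ble (nat_lit 6101) i)) (@Bool.rec (fun _ => ℕ) (@Bool.rec (fun _ => ℕ) (t6106_6108 i) (t6108_6111 i) (Nat.ble (nat_lit 6108) i)) (@Bool.rec (fun _ => ℕ) (t6111_6113 i) (t6113_6116 i) (Nat.ble (nat_lit 6113) i)) (Nat.ble (nat_lit 6111) i)) (Nat.ble (nat_lit 6106) i))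
noncomputable def t6116_6118 (i : ℕ) : ℕ := (@Bool.rec (fun _ => ℕ) l6116 l6117 (Nat.ble (nat_lit 6117) i))
noncomputable def t6118_6120 (i : ℕ) : ℕ := (@Bool.rec (fun _ => ℕ) l6118 l6119 (Nat.ble (nat_lit 6119) i))
noncomputable def t6120_6122 (i : ℕ) : ℕ := (@Bool.rec (fun _ => ℕ) l6120 l6121 (Nat.ble (nat_lit 6121) i))
noncomputable def t6122_6125 (i : ℕ) : ℕ := (@Bool.rec (fun _ => ℕ) l6122 (@Bool.rec (fun _ => ℕ) l6123 l6124 (Nat.ble (nat_lit 6124) i)) (Nat.ble (nat_lit 6123) i))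
noncomputable def t6125_6127 (i : ℕ) : ℕ := (@Bool.rec (fun _ => ℕ) l6125 l6126 (Nat.ble (nat_lit 6126) i))
noncomputable def t6127_6130 (i : ℕ) : ℕ := (@Bool.rec (fun _ => ℕ) l6127 (@Bool.rec (fun _ => ℕ) l6128 l6129 (Nat.ble (nat_lit 6129) i)) (Nat.ble (nat_lit 6128) i))
noncomputable def t6130_6132 (i : ℕ) : ℕ := (@Bool.rec (fun _ => ℕ) l6130 l6131 (Nat.ble (nat_lit 6131) i))
noncomputable def t6132_6135 (i : ℕ) : ℕ := (@Bool.rec (fun _ => ℕ) l6132 (@Bool.rec (fun _ => ℕ) l6133 l6134 (Nat.ble (nat_lit 6134) i)) (Nat.ble (nat_lit 6133) i))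
noncomputable def t6116_6135 (i : ℕ) : ℕ := (@Bool.rec (fun _ => ℕ) (@Bool.rec (fun _ => ℕ) (@Bool.rec (fun _ => ℕ) (t6116_6118 i) (t6118_6120 i) (Nat.ble (nat_lit 6118) i)) (@Bool.rec (fun _ => ℕ) (t6120_6122 i) (t6122_6125 i) (Nat.ble (nat_lit 6122) i)) (Nat.ble (nat_lit 6120) i)) (@Bool.rec (fun _ => ℕ) (@Bool.rec (fun _ => ℕ) (t6125_6127 i) (t6127_6130 i) (Nat.ble (nat_lit 6127) i)) (@Bool.rec (fun _ => ℕ) (t6130_6132 i) (t6132_6135 i) (Nat.ble (nat_lit 6132) i)) (Nat.ble (nat_lit 6130) i)) (Nat.ble (nat_lit 6125) i))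
noncomputable def t6135_6137 (i : ℕ) : ℕ := (@Bool.rec (fun _ => ℕ) l6135 l6136 (Nat.ble (nat_lit 6136) i))
noncomputable def t6137_6139 (i : ℕ) : ℕ := (@Bool.rec (fun _ => ℕ) l6137 l6138 (Nat.ble (nat_lit 6138) i))
noncomputable def t6139_6141 (i : ℕ) : ℕ := (@Bool.rec (fun _ => ℕ) l6139 l6140 (Nat.ble (nat_lit 6140) i))
noncomputable def t6141_6144 (i : ℕ) : ℕ := (@Bool.rec (fun _ => ℕ) l6141 (@Bool.rec (fun _ => ℕ) l6142 l6143 (Nat.ble (nat_lit 6143) i)) (Nat.ble (nat_lit 6142) i))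
noncomputable def t6144_6146 (i : ℕ) : ℕ := (@Bool.rec (fun _ => ℕ) l6144 l6145 (Nat.ble (nat_lit 6145) i))
noncomputable def t6146_6149 (i : ℕ) : ℕ := (@Bool.rec (fun _ => ℕ) l6146 (@Bool.rec (fun _ => ℕ) l6147 l6148 (Nat.ble (nat_lit 6148) i)) (Nat.ble (nat_lit 6147) i))
noncomputable def t6149_6151 (i : ℕ) : ℕ := (@Bool.rec (fun _ => ℕ) l6149 l6150 (Nat.ble (nat_lit 6150) i))
noncomputable def t6151_6154 (i : ℕ) : ℕ := (@Bool.rec (fun _ => ℕ) l6151 (@Bool.rec (fun _ => ℕ) l6152 l6153 (Nat.ble (nat_lit 6153) i)) (Nat.ble (nat_lit 6152) i))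
noncomputable def t6135_6154 (i : ℕ) : ℕ := (@Bool.rec (fun _ => ℕ) (@Bool.rec (fun _ => ℕ) (@Bool.rec (fun _ => ℕ) (t6135_6137 i) (t6137_6139 i) (Nat.ble (nat_lit 6137) i)) (@Bool.rec (fun _ => ℕ) (t6139_6141 i) (t6141_6144 i) (Nat.ble (nat_lit 6141) i)) (Nat.ble (nat_lit 6139) i)) (@Bool.rec (fun _ => ℕ) (@Bool.rec (fun _ => ℕ) (t6144_6146 i) (t6146_6149 i) (Nat.ble (nat_lit 6146) i)) (@Bool.rec (fun _ => ℕ) (t6149_6151 i) (t6151_6154 i) (Nat.ble (nat_lit 6151) i)) (Nat.ble (nat_lit 6149) i)) (Nat.ble (nat_lit 6144) i))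
noncomputable def t6004_6154 (i : ℕ) : ℕ := (@Bool.rec (fun _ => ℕ) (@Bool.rec (fun _ => ℕ) (@Bool.rec (fun _ => ℕ) (t6004_6022 i) (t6022_6041 i) (Nat.ble (nat_lit 6022) i)) (@Bool.rec (fun _ => ℕ) (t6041_6060 i) (t6060_6079 i) (Nat.ble (nat_lit 6060) i)) (Nat.ble (nat_lit 6041) i)) (@Bool.rec (fun _ => ℕ) (@Bool.rec (fun _ => ℕ) (t6079_6097 i) (t6097_6116 i) (Nat.ble (nat_lit 6097) i)) (@Bool.rec (fun _ => ℕ) (t6116_6135 i) (t6135_6154 i) (Nat.ble (nat_lit 6135) i)) (Nat.ble (nat_lit 6116) i)) (Nat.ble (nat_lit 6079) i))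
noncomputable def t6154_6156 (i : ℕ) : ℕ := (@Bool.rec (fun _ => ℕ) l6154 l6155 (Nat.ble (nat_lit 6155) i))
noncomputable def t6156_6158 (i : ℕ) : ℕ := (@Bool.rec (fun _ => ℕ) l6156 l6157 (Nat.ble (nat_lit 6157) i))
noncomputable def t6158_6160 (i : ℕ) : ℕ := (@Bool.rec (fun _ => ℕ) l6158 l6159 (Nat.ble (nat_lit 6159) i))
noncomputable def t6160_6163 (i : ℕ) : ℕ := (@Bool.rec (fun _ => ℕ) l6160 (@Bool.rec (fun _ => ℕ) l6161 l6162 (Nat.ble (nat_lit 6162) i)) (Nat.ble (nat_lit 6161) i))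
noncomputable def t6163_6165 (i : ℕ) : ℕ := (@Bool.rec (fun _ => ℕ) l6163 l6164 (Nat.ble (nat_lit 6164) i))
noncomputable def t6165_6167 (i : ℕ) : ℕ := (@Bool.rec (fun _ => ℕ) l6165 l6166 (Nat.ble (nat_lit 6166) i))
noncomputable def t6167_6169 (i : ℕ) : ℕ := (@Bool.rec (fun _ => ℕ) l6167 l6168 (Nat.ble (nat_lit 6168) i))
noncomputable def t6169_6172 (i : ℕ) : ℕ := (@Bool.rec (fun _ => ℕ) l6169 (@Bool.rec (fun _ => ℕ) l6170 l6171 (Nat.ble (nat_lit 6171) i)) (Nat.ble (nat_lit 6170) i))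
noncomputable def t6154_6172 (i : ℕ) : ℕ := (@Bool.rec (fun _ => ℕ) (@Bool.rec (fun _ => ℕ) (@Bool.rec (fun _ => ℕ) (t6154_6156 i) (t6156_6158 i) (Nat.ble (nat_lit 6156) i)) (@Bool.rec (fun _ => ℕ) (t6158_6160 i) (t6160_6163 i) (Nat.ble (nat_lit 6160) i)) (Nat.ble (nat_lit 6158) i)) (@Bool.rec (fun _ => ℕ) (@Bool.rec (fun _ => ℕ) (t6163_6165 i) (t6165_6167 i) (Nat.ble (nat_lit 6165) i)) (@Bool.rec (fun _ => ℕ) (t6167_6169 i) (t6169_6172 i) (Nat.ble (nat_lit 6169) i)) (Nat.ble (nat_lit 6167) i)) (Nat.ble (nat_lit 6163) i))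
noncomputable def t6172_6174 (i : ℕ) : ℕ := (@Bool.rec (fun _ => ℕ) l6172 l6173 (Nat.ble (nat_lit 6173) i))
noncomputable def t6174_6176 (i : ℕ) : ℕ := (@Bool.rec (fun _ => ℕ) l6174 l6175 (Nat.ble (nat_lit 6175) i))
noncomputable def t6176_6178 (i : ℕ) : ℕ := (@Bool.rec (fun _ => ℕ) l6176 l6177 (Nat.ble (nat_lit 6177) i))
noncomputable def t6178_6181 (i : ℕ) : ℕ := (@Bool.rec (fun _ => ℕ) l6178 (@Bool.rec (fun _ => ℕ) l6179 l6180 (Nat.ble (nat_lit 6180) i)) (Nat.ble (nat_lit 6179) i))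
noncomputable def t6181_6183 (i : ℕ) : ℕ := (@Bool.rec (fun _ => ℕ) l6181 l6182 (Nat.ble (nat_lit 6182) i))
noncomputable def t6183_6186 (i : ℕ) : ℕ := (@Bool.rec (fun _ => ℕ) l6183 (@Bool.rec (fun _ => ℕ) l6184 l6185 (Nat.ble (nat_lit 6185) i)) (Nat.ble (nat_lit 6184) i))
noncomputable def t6186_6188 (i : ℕ) : ℕ := (@Bool.rec (fun _ => ℕ) l6186 l6187 (Nat.ble (nat_lit 6187) i))
noncomputable def t6188_6191 (i : ℕ) : ℕ := (@Bool.rec (fun _ => ℕ) l6188 (@Bool.rec (fun _ => ℕ) l6189 l6190 (Nat.ble (nat_lit 6190) i)) (Nat.ble (nat_lit 6189) i))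
noncomputable def t6172_6191 (i : ℕ) : ℕ := (@Bool.rec (fun _ => ℕ) (@Bool.rec (fun _ => ℕ) (@Bool.rec (fun _ => ℕ) (t6172_6174 i) (t6174_6176 i) (Nat.ble (nat_lit 6174) i)) (@Bool.rec (fun _ => ℕ) (t6176_6178 i) (t6178_6181 i) (Nat.ble (nat_lit 6178) i)) (Nat.ble (nat_lit 6176) i)) (@Bool.rec (fun _ => ℕ) (@Bool.rec (fun _ => ℕ) (t6181_6183 i) (t6183_6186 i) (Nat.ble (nat_lit 6183) i)) (@Bool.rec (fun _ => ℕ) (t6186_6188 i) (t6188_6191 i) (Nat.ble (nat_lit 6188) i)) (Nat.ble (nat_lit 6186) i)) (Nat.ble (nat_lit 6181) i))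
noncomputable def t6191_6193 (i : ℕ) : ℕ := (@Bool.rec (fun _ => ℕ) l6191 l6192 (Nat.ble (nat_lit 6192) i))
noncomputable def t6193_6195 (i : ℕ) : ℕ := (@Bool.rec (fun _ => ℕ) l6193 l6194 (Nat.ble (nat_lit 6194) i))
noncomputable def t6195_6197 (i : ℕ) : ℕ := (@Bool.rec (fun _ => ℕ) l6195 l6196 (Nat.ble (nat_lit 6196) i))
noncomputable def t6197_6200 (i : ℕ) : ℕ := (@Bool.rec (fun _ => ℕ) l6197 (@Bool.rec (fun _ => ℕ) l6198 l6199 (Nat.ble (nat_lit 6199) i)) (Nat.ble (nat_lit 6198) i))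
noncomputable def t6200_6202 (i : ℕ) : ℕ := (@Bool.rec (fun _ => ℕ) l6200 l6201 (Nat.ble (nat_lit 6201) i))
noncomputable def t6202_6205 (i : ℕ) : ℕ := (@Bool.rec (fun _ => ℕ) l6202 (@Bool.rec (fun _ => ℕ) l6203 l6204 (Nat.ble (nat_lit 6204) i)) (Nat.ble (nat_lit 6203) i))
noncomputable def t6205_6207 (i : ℕ) : ℕ := (@Bool.rec (fun _ => ℕ) l6205 l6206 (Nat.ble (nat_lit 6206) i))
noncomputable def t6207_6210 (i : ℕ) : ℕ := (@Bool.rec (fun _ => ℕ) l6207 (@Bool.rec (fun _ => ℕ) l6208 l6209 (Nat.ble (nat_lit 6209) i)) (Nat.ble (nat_lit 6208) i))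
noncomputable def t6191_6210 (i : ℕ) : ℕ := (@Bool.rec (fun _ => ℕ) (@Bool.rec (fun _ => ℕ) (@Bool.rec (fun _ => ℕ) (t6191_6193 i) (t6193_6195 i) (Nat.ble (nat_lit 6193) i)) (@Bool.rec (fun _ => ℕ) (t6195_6197 i) (t6197_6200 i) (Nat.ble (nat_lit 6197) i)) (Nat.ble (nat_lit 6195) i)) (@Bool.rec (fun _ => ℕ) (@Bool.rec (fun _ => ℕ) (t6200_6202 i) (t6202_6205 i) (Nat.ble (nat_lit 6202) i)) (@Bool.rec (fun _ => ℕ) (t6205_6207 i) (t6207_6210 i) (Nat.ble (nat_lit 6207) i)) (Nat.ble (nat_lit 6205) i)) (Nat.ble (nat_lit 6200) i))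
noncomputable def t6210_6212 (i : ℕ) : ℕ := (@Bool.rec (fun _ => ℕ) l6210 l6211 (Nat.ble (nat_lit 6211) i))
noncomputable def t6212_6214 (i : ℕ) : ℕ := (@Bool.rec (fun _ => ℕ) l6212 l6213 (Nat.ble (nat_lit 6213) i))
noncomputable def t6214_6216 (i : ℕ) : ℕ := (@Bool.rec (fun _ => ℕ) l6214 l6215 (Nat.ble (nat_lit 6215) i))
noncomputable def t6216_6219 (i : ℕ) : ℕ := (@Bool.rec (fun _ => ℕ) l6216 (@Bool.rec (fun _ => ℕ) l6217 l6218 (Nat.ble (nat_lit 6218) i)) (Nat.ble (nat_lit 6217) i))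
noncomputable def t6219_6221 (i : ℕ) : ℕ := (@Bool.rec (fun _ => ℕ) l6219 l6220 (Nat.ble (nat_lit 6220) i))
noncomputable def t6221_6224 (i : ℕ) : ℕ := (@Bool.rec (fun _ => ℕ) l6221 (@Bool.rec (fun _ => ℕ) l6222 l6223 (Nat.ble (nat_lit 6223) i)) (Nat.ble (nat_lit 6222) i))
noncomputable def t6224_6226 (i : ℕ) : ℕ := (@Bool.rec (fun _ => ℕ) l6224 l6225 (Nat.ble (nat_lit 6225) i))
noncomputable def t6226_6229 (i : ℕ) : ℕ := (@Bool.rec (fun _ => ℕ) l6226 (@Bool.rec (fun _ => ℕ) l6227 l6228 (Nat.ble (nat_lit 6228) i)) (Nat.ble (nat_lit 6227) i))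
noncomputable def t6210_6229 (i : ℕ) : ℕ := (@Bool.rec (fun _ => ℕ) (@Bool.rec (fun _ => ℕ) (@Bool.rec (fun _ => ℕ) (t6210_6212 i) (t6212_6214 i) (Nat.ble (nat_lit 6212) i)) (@Bool.rec (fun _ => ℕ) (t6214_6216 i) (t6216_6219 i) (Nat.ble (nat_lit 6216) i)) (Nat.ble (nat_lit 6214) i)) (@Bool.rec (fun _ => ℕ) (@Bool.rec (fun _ => ℕ) (t6219_6221 i) (t6221_6224 i) (Nat.ble (nat_lit 6221) i)) (@Bool.rec (fun _ => ℕ) (t6224_6226 i) (t6226_6229 i) (Nat.ble (nat_lit 6226) i)) (Nat.ble (nat_lit 6224) i)) (Nat.ble (nat_lit 6219) i))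
noncomputable def t6229_6231 (i : ℕ) : ℕ := (@Bool.rec (fun _ => ℕ) l6229 l6230 (Nat.ble (nat_lit 6230) i))
noncomputable def t6231_6233 (i : ℕ) : ℕ := (@Bool.rec (fun _ => ℕ) l6231 l6232 (Nat.ble (nat_lit 6232) i))
noncomputable def t6233_6235 (i : ℕ) : ℕ := (@Bool.rec (fun _ => ℕ) l6233 l6234 (Nat.ble (nat_lit 6234) i))
noncomputable def t6235_6238 (i : ℕ) : ℕ := (@Bool.rec (fun _ => ℕ) l6235 (@Bool.rec (fun _ => ℕ) l6236 l6237 (Nat.ble (nat_lit 6237) i)) (Nat.ble (nat_lit 6236) i))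
noncomputable def t6238_6240 (i : ℕ) : ℕ := (@Bool.rec (fun _ => ℕ) l6238 l6239 (Nat.ble (nat_lit 6239) i))
noncomputable def t6240_6242 (i : ℕ) : ℕ := (@Bool.rec (fun _ => ℕ) l6240 l6241 (Nat.ble (nat_lit 6241) i))
noncomputable def t6242_6244 (i : ℕ) : ℕ := (@Bool.rec (fun _ => ℕ) l6242 l6243 (Nat.ble (nat_lit 6243) i))
noncomputable def t6244_6247 (i : ℕ) : ℕ := (@Bool.rec (fun _ => ℕ) l6244 (@Bool.rec (fun _ => ℕ) l6245 l6246 (Nat.ble (nat_lit 6246) i)) (Nat.ble (nat_lit 6245) i))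
noncomputable def t6229_6247 (i : ℕ) : ℕ := (@Bool.rec (fun _ => ℕ) (@Bool.rec (fun _ => ℕ) (@Bool.rec (fun _ => ℕ) (t6229_6231 i) (t6231_6233 i) (Nat.ble (nat_lit 6231) i)) (@Bool.rec (fun _ => ℕ) (t6233_6235 i) (t6235_6238 i) (Nat.ble (nat_lit 6235) i)) (Nat.ble (nat_lit 6233) i)) (@Bool.rec (fun _ => ℕ) (@Bool.rec (fun _ => ℕ) (t6238_6240 i) (t6240_6242 i) (Nat.ble (nat_lit 6240) i)) (@Bool.rec (fun _ => ℕ) (t6242_6244 i) (t6244_6247 i) (Nat.ble (nat_lit 6244) i)) (Nat.ble (nat_lit 6242) i)) (Nat.ble (nat_lit 6238) i))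
noncomputable def t6247_6249 (i : ℕ) : ℕ := (@Bool.rec (fun _ => ℕ) l6247 l6248 (Nat.ble (nat_lit 6248) i))
noncomputable def t6249_6251 (i : ℕ) : ℕ := (@Bool.rec (fun _ => ℕ) l6249 l6250 (Nat.ble (nat_lit 6250) i))
noncomputable def t6251_6253 (i : ℕ) : ℕ := (@Bool.rec (fun _ => ℕ) l6251 l6252 (Nat.ble (nat_lit 6252) i))
noncomputable def t6253_6256 (i : ℕ) : ℕ := (@Bool.rec (fun _ => ℕ) l6253 (@Bool.rec (fun _ => ℕ) l6254 l6255 (Nat.ble (nat_lit 6255) i)) (Nat.ble (nat_lit 6254) i))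
noncomputable def t6256_6258 (i : ℕ) : ℕ := (@Bool.rec (fun _ => ℕ) l6256 l6257 (Nat.ble (nat_lit 6257) i))
noncomputable def t6258_6261 (i : ℕ) : ℕ := (@Bool.rec (fun _ => ℕ) l6258 (@Bool.rec (fun _ => ℕ) l6259 l6260 (Nat.ble (nat_lit 6260) i)) (Nat.ble (nat_lit 6259) i))
noncomputable def t6261_6263 (i : ℕ) : ℕ := (@Bool.rec (fun _ => ℕ) l6261 l6262 (Nat.ble (nat_lit 6262) i))
noncomputable def t6263_6266 (i : ℕ) : ℕ := (@Bool.rec (fun _ => ℕ) l6263 (@Bool.rec (fun _ => ℕ) l6264 l6265 (Nat.ble (nat_lit 6265) i)) (Nat.ble (nat_lit 6264) i))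
noncomputable def t6247_6266 (i : ℕ) : ℕ := (@Bool.rec (fun _ => ℕ) (@Bool.rec (fun _ => ℕ) (@Bool.rec (fun _ => ℕ) (t6247_6249 i) (t6249_6251 i) (Nat.ble (nat_lit 6249) i)) (@Bool.rec (fun _ => ℕ) (t6251_6253 i) (t6253_6256 i) (Nat.ble (nat_lit 6253) i)) (Nat.ble (nat_lit 6251) i)) (@Bool.rec (fun _ => ℕ) (@Bool.rec (fun _ => ℕ) (t6256_6258 i) (t6258_6261 i) (Nat.ble (nat_lit 6258) i)) (@Bool.rec (fun _ => ℕ) (t6261_6263 i) (t6263_6266 i) (Nat.ble (nat_lit 6263) i)) (Nat.ble (nat_lit 6261) i)) (Nat.ble (nat_lit 6256) i))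
noncomputable def t6266_6268 (i : ℕ) : ℕ := (@Bool.rec (fun _ => ℕ) l6266 l6267 (Nat.ble (nat_lit 6267) i))
noncomputable def t6268_6270 (i : ℕ) : ℕ := (@Bool.rec (fun _ => ℕ) l6268 l6269 (Nat.ble (nat_lit 6269) i))
noncomputable def t6270_6272 (i : ℕ) : ℕ := (@Bool.rec (fun _ => ℕ) l6270 l6271 (Nat.ble (nat_lit 6271) i))
noncomputable def t6272_6275 (i : ℕ) : ℕ := (@Bool.rec (fun _ => ℕ) l6272 (@Bool.rec (fun _ => ℕ) l6273 l6274 (Nat.ble (nat_lit 6274) i)) (Nat.ble (nat_lit 6273) i))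
noncomputable def t6275_6277 (i : ℕ) : ℕ := (@Bool.rec (fun _ => ℕ) l6275 l6276 (Nat.ble (nat_lit 6276) i))
noncomputable def t6277_6280 (i : ℕ) : ℕ := (@Bool.rec (fun _ => ℕ) l6277 (@Bool.rec (fun _ => ℕ) l6278 l6279 (Nat.ble (nat_lit 6279) i)) (Nat.ble (nat_lit 6278) i))
noncomputable def t6280_6282 (i : ℕ) : ℕ := (@Bool.rec (fun _ => ℕ) l6280 l6281 (Nat.ble (nat_lit 6281) i))
noncomputable def t6282_6285 (i : ℕ) : ℕ := (@Bool.rec (fun _ => ℕ) l6282 (@Bool.rec (fun _ => ℕ) l6283 l6284 (Nat.ble (nat_lit 6284) i)) (Nat.ble (nat_lit 6283) i))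
noncomputable def t6266_6285 (i : ℕ) : ℕ := (@Bool.rec (fun _ => ℕ) (@Bool.rec (fun _ => ℕ) (@Bool.rec (fun _ => ℕ) (t6266_6268 i) (t6268_6270 i) (Nat.ble (nat_lit 6268) i)) (@Bool.rec (fun _ => ℕ) (t6270_6272 i) (t6272_6275 i) (Nat.ble (nat_lit 6272) i)) (Nat.ble (nat_lit 6270) i)) (@Bool.rec (fun _ => ℕ) (@Bool.rec (fun _ => ℕ) (t6275_6277 i) (t6277_6280 i) (Nat.ble (nat_lit 6277) i)) (@Bool.rec (fun _ => ℕ) (t6280_6282 i) (t6282_6285 i) (Nat.ble (nat_lit 6282) i)) (Nat.ble (nat_lit 6280) i)) (Nat.ble (nat_lit 6275) i))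
noncomputable def t6285_6287 (i : ℕ) : ℕ := (@Bool.rec (fun _ => ℕ) l6285 l6286 (Nat.ble (nat_lit 6286) i))
noncomputable def t6287_6289 (i : ℕ) : ℕ := (@Bool.rec (fun _ => ℕ) l6287 l6288 (Nat.ble (nat_lit 6288) i))
noncomputable def t6289_6291 (i : ℕ) : ℕ := (@Bool.rec (fun _ => ℕ) l6289 l6290 (Nat.ble (nat_lit 6290) i))
noncomputable def t6291_6294 (i : ℕ) : ℕ := (@Bool.rec (fun _ => ℕ) l6291 (@Bool.rec (fun _ => ℕ) l6292 l6293 (Nat.ble (nat_lit 6293) i)) (Nat.ble (nat_lit 6292) i))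
noncomputable def t6294_6296 (i : ℕ) : ℕ := (@Bool.rec (fun _ => ℕ) l6294 l6295 (Nat.ble (nat_lit 6295) i))
noncomputable def t6296_6299 (i : ℕ) : ℕ := (@Bool.rec (fun _ => ℕ) l6296 (@Bool.rec (fun _ => ℕ) l6297 l6298 (Nat.ble (nat_lit 6298) i)) (Nat.ble (nat_lit 6297) i))
noncomputable def t6299_6301 (i : ℕ) : ℕ := (@Bool.rec (fun _ => ℕ) l6299 l6300 (Nat.ble (nat_lit 6300) i))
noncomputable def t6301_6304 (i : ℕ) : ℕ := (@Bool.rec (fun _ => ℕ) l6301 (@Bool.rec (fun _ => ℕ) l6302 l6303 (Nat.ble (nat_lit 6303) i)) (Nat.ble (nat_lit 6302) i))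
noncomputable def t6285_6304 (i : ℕ) : ℕ := (@Bool.rec (fun _ => ℕ) (@Bool.rec (fun _ => ℕ) (@Bool.rec (fun _ => ℕ) (t6285_6287 i) (t6287_6289 i) (Nat.ble (nat_lit 6287) i)) (@Bool.rec (fun _ => ℕ) (t6289_6291 i) (t6291_6294 i) (Nat.ble (nat_lit 6291) i)) (Nat.ble (nat_lit 6289) i)) (@Bool.rec (fun _ => ℕ) (@Bool.rec (fun _ => ℕ) (t6294_6296 i) (t6296_6299 i) (Nat.ble (nat_lit 6296) i)) (@Bool.rec (fun _ => ℕ) (t6299_6301 i) (t6301_6304 i) (Nat.ble (nat_lit 6301) i)) (Nat.ble (nat_lit 6299) i)) (Nat.ble (nat_lit 6294) i))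
noncomputable def t6154_6304 (i : ℕ) : ℕ := (@Bool.rec (fun _ => ℕ) (@Bool.rec (fun _ => ℕ) (@Bool.rec (fun _ => ℕ) (t6154_6172 i) (t6172_6191 i) (Nat.ble (nat_lit 6172) i)) (@Bool.rec (fun _ => ℕ) (t6191_6210 i) (t6210_6229 i) (Nat.ble (nat_lit 6210) i)) (Nat.ble (nat_lit 6191) i)) (@Bool.rec (fun _ => ℕ) (@Bool.rec (fun _ => ℕ) (t6229_6247 i) (t6247_6266 i) (Nat.ble (nat_lit 6247) i)) (@Bool.rec (fun _ => ℕ) (t6266_6285 i) (t6285_6304 i) (Nat.ble (nat_lit 6285) i)) (Nat.ble (nat_lit 6266) i)) (Nat.ble (nat_lit 6229) i))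
noncomputable def t6304_6306 (i : ℕ) : ℕ := (@Bool.rec (fun _ => ℕ) l6304 l6305 (Nat.ble (nat_lit 6305) i))
noncomputable def t6306_6308 (i : ℕ) : ℕ := (@Bool.rec (fun _ => ℕ) l6306 l6307 (Nat.ble (nat_lit 6307) i))
noncomputable def t6308_6310 (i : ℕ) : ℕ := (@Bool.rec (fun _ => ℕ) l6308 l6309 (Nat.ble (nat_lit 6309) i))
noncomputable def t6310_6313 (i : ℕ) : ℕ := (@Bool.rec (fun _ => ℕ) l6310 (@Bool.rec (fun _ => ℕ) l6311 l6312 (Nat.ble (nat_lit 6312) i)) (Nat.ble (nat_lit 6311) i))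
noncomputable def t6313_6315 (i : ℕ) : ℕ := (@Bool.rec (fun _ => ℕ) l6313 l6314 (Nat.ble (nat_lit 6314) i))
noncomputable def t6315_6317 (i : ℕ) : ℕ := (@Bool.rec (fun _ => ℕ) l6315 l6316 (Nat.ble (nat_lit 6316) i))
noncomputable def t6317_6319 (i : ℕ) : ℕ := (@Bool.rec (fun _ => ℕ) l6317 l6318 (Nat.ble (nat_lit 6318) i))
noncomputable def t6319_6322 (i : ℕ) : ℕ := (@Bool.rec (fun _ => ℕ) l6319 (@Bool.rec (fun _ => ℕ) l6320 l6321 (Nat.ble (nat_lit 6321) i)) (Nat.ble (nat_lit 6320) i))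
noncomputable def t6304_6322 (i : ℕ) : ℕ := (@Bool.rec (fun _ => ℕ) (@Bool.rec (fun _ => ℕ) (@Bool.rec (fun _ => ℕ) (t6304_6306 i) (t6306_6308 i) (Nat.ble (nat_lit 6306) i)) (@Bool.rec (fun _ => ℕ) (t6308_6310 i) (t6310_6313 i) (Nat.ble (nat_lit 6310) i)) (Nat.ble (nat_lit 6308) i)) (@Bool.rec (fun _ => ℕ) (@Bool.rec (fun _ => ℕ) (t6313_6315 i) (t6315_6317 i) (Nat.ble (nat_lit 6315) i)) (@Bool.rec (fun _ => ℕ) (t6317_6319 i) (t6319_6322 i) (Nat.ble (nat_lit 6319) i)) (Nat.ble (nat_lit 6317) i)) (Nat.ble (nat_lit 6313) i))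
noncomputable def t6322_6324 (i : ℕ) : ℕ := (@Bool.rec (fun _ => ℕ) l6322 l6323 (Nat.ble (nat_lit 6323) i))
noncomputable def t6324_6326 (i : ℕ) : ℕ := (@Bool.rec (fun _ => ℕ) l6324 l6325 (Nat.ble (nat_lit 6325) i))
noncomputable def t6326_6328 (i : ℕ) : ℕ := (@Bool.rec (fun _ => ℕ) l6326 l6327 (Nat.ble (nat_lit 6327) i))
noncomputable def t6328_6331 (i : ℕ) : ℕ := (@Bool.rec (fun _ => ℕ) l6328 (@Bool.rec (fun _ => ℕ) l6329 l6330 (Nat.ble (nat_lit 6330) i)) (Nat.ble (nat_lit 6329) i))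
noncomputable def t6331_6333 (i : ℕ) : ℕ := (@Bool.rec (fun _ => ℕ) l6331 l6332 (Nat.ble (nat_lit 6332) i))
noncomputable def t6333_6336 (i : ℕ) : ℕ := (@Bool.rec (fun _ => ℕ) l6333 (@Bool.rec (fun _ => ℕ) l6334 l6335 (Nat.ble (nat_lit 6335) i)) (Nat.ble (nat_lit 6334) i))
noncomputable def t6336_6338 (i : ℕ) : ℕ := (@Bool.rec (fun _ => ℕ) l6336 l6337 (Nat.ble (nat_lit 6337) i))
noncomputable def t6338_6341 (i : ℕ) : ℕ := (@Bool.rec (fun _ => ℕ) l6338 (@Bool.rec (fun _ => ℕ) l6339 l6340 (Nat.ble (nat_lit 6340) i)) (Nat.ble (nat_lit 6339) i))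
noncomputable def t6322_6341 (i : ℕ) : ℕ := (@Bool.rec (fun _ => ℕ) (@Bool.rec (fun _ => ℕ) (@Bool.rec (fun _ => ℕ) (t6322_6324 i) (t6324_6326 i) (Nat.ble (nat_lit 6324) i)) (@Bool.rec (fun _ => ℕ) (t6326_6328 i) (t6328_6331 i) (Nat.ble (nat_lit 6328) i)) (Nat.ble (nat_lit 6326) i)) (@Bool.rec (fun _ => ℕ) (@Bool.rec (fun _ => ℕ) (t6331_6333 i) (t6333_6336 i) (Nat.ble (nat_lit 6333) i)) (@Bool.rec (fun _ => ℕ) (t6336_6338 i) (t6338_6341 i) (Nat.ble (nat_lit 6338) i)) (Nat.ble (nat_lit 6336) i)) (Nat.ble (nat_lit 6331) i))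
noncomputable def t6341_6343 (i : ℕ) : ℕ := (@Bool.rec (fun _ => ℕ) l6341 l6342 (Nat.ble (nat_lit 6342) i))
noncomputable def t6343_6345 (i : ℕ) : ℕ := (@Bool.rec (fun _ => ℕ) l6343 l6344 (Nat.ble (nat_lit 6344) i))
noncomputable def t6345_6347 (i : ℕ) : ℕ := (@Bool.rec (fun _ => ℕ) l6345 l6346 (Nat.ble (nat_lit 6346) i))
noncomputable def t6347_6350 (i : ℕ) : ℕ := (@Bool.rec (fun _ => ℕ) l6347 (@Bool.rec (fun _ => ℕ) l6348 l6349 (Nat.ble (nat_lit 6349) i)) (Nat.ble (nat_lit 6348) i))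
noncomputable def t6350_6352 (i : ℕ) : ℕ := (@Bool.rec (fun _ => ℕ) l6350 l6351 (Nat.ble (nat_lit 6351) i))
noncomputable def t6352_6355 (i : ℕ) : ℕ := (@Bool.rec (fun _ => ℕ) l6352 (@Bool.rec (fun _ => ℕ) l6353 l6354 (Nat.ble (nat_lit 6354) i)) (Nat.ble (nat_lit 6353) i))
noncomputable def t6355_6357 (i : ℕ) : ℕ := (@Bool.rec (fun _ => ℕ) l6355 l6356 (Nat.ble (nat_lit 6356) i))
noncomputable def t6357_6360 (i : ℕ) : ℕ := (@Bool.rec (fun _ => ℕ) l6357 (@Bool.rec (fun _ => ℕ) l6358 l6359 (Nat.ble (nat_lit 6359) i)) (Nat.ble (nat_lit 6358) i))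
noncomputable def t6341_6360 (i : ℕ) : ℕ := (@Bool.rec (fun _ => ℕ) (@Bool.rec (fun _ => ℕ) (@Bool.rec (fun _ => ℕ) (t6341_6343 i) (t6343_6345 i) (Nat.ble (nat_lit 6343) i)) (@Bool.rec (fun _ => ℕ) (t6345_6347 i) (t6347_6350 i) (Nat.ble (nat_lit 6347) i)) (Nat.ble (nat_lit 6345) i)) (@Bool.rec (fun _ => ℕ) (@Bool.rec (fun _ => ℕ) (t6350_6352 i) (t6352_6355 i) (Nat.ble (nat_lit 6352) i)) (@Bool.rec (fun _ => ℕ) (t6355_6357 i) (t6357_6360 i) (Nat.ble (nat_lit 6357) i)) (Nat.ble (nat_lit 6355) i)) (Nat.ble (nat_lit 6350) i))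
noncomputable def t6360_6362 (i : ℕ) : ℕ := (@Bool.rec (fun _ => ℕ) l6360 l6361 (Nat.ble (nat_lit 6361) i))
noncomputable def t6362_6364 (i : ℕ) : ℕ := (@Bool.rec (fun _ => ℕ) l6362 l6363 (Nat.ble (nat_lit 6363) i))
noncomputable def t6364_6366 (i : ℕ) : ℕ := (@Bool.rec (fun _ => ℕ) l6364 l6365 (Nat.ble (nat_lit 6365) i))
noncomputable def t6366_6369 (i : ℕ) : ℕ := (@Bool.rec (fun _ => ℕ) l6366 (@Bool.rec (fun _ => ℕ) l6367 l6368 (Nat.ble (nat_lit 6368) i)) (Nat.ble (nat_lit 6367) i))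
noncomputable def t6369_6371 (i : ℕ) : ℕ := (@Bool.rec (fun _ => ℕ) l6369 l6370 (Nat.ble (nat_lit 6370) i))
noncomputable def t6371_6374 (i : ℕ) : ℕ := (@Bool.rec (fun _ => ℕ) l6371 (@Bool.rec (fun _ => ℕ) l6372 l6373 (Nat.ble (nat_lit 6373) i)) (Nat.ble (nat_lit 6372) i))
noncomputable def t6374_6376 (i : ℕ) : ℕ := (@Bool.rec (fun _ => ℕ) l6374 l6375 (Nat.ble (nat_lit 6375) i))
noncomputable def t6376_6379 (i : ℕ) : ℕ := (@Bool.rec (fun _ => ℕ) l6376 (@Bool.rec (fun _ => ℕ) l6377 l6378 (Nat.ble (nat_lit 6378) i)) (Nat.ble (nat_lit 6377) i))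
noncomputable def t6360_6379 (i : ℕ) : ℕ := (@Bool.rec (fun _ => ℕ) (@Bool.rec (fun _ => ℕ) (@Bool.rec (fun _ => ℕ) (t6360_6362 i) (t6362_6364 i) (Nat.ble (nat_lit 6362) i)) (@Bool.rec (fun _ => ℕ) (t6364_6366 i) (t6366_6369 i) (Nat.ble (nat_lit 6366) i)) (Nat.ble (nat_lit 6364) i)) (@Bool.rec (fun _ => ℕ) (@Bool.rec (fun _ => ℕ) (t6369_6371 i) (t6371_6374 i) (Nat.ble (nat_lit 6371) i)) (@Bool.rec (fun _ => ℕ) (t6374_6376 i) (t6376_6379 i) (Nat.ble (nat_lit 6376) i)) (Nat.ble (nat_lit 6374) i)) (Nat.ble (nat_lit 6369) i))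
noncomputable def t6379_6381 (i : ℕ) : ℕ := (@Bool.rec (fun _ => ℕ) l6379 l6380 (Nat.ble (nat_lit 6380) i))
noncomputable def t6381_6383 (i : ℕ) : ℕ := (@Bool.rec (fun _ => ℕ) l6381 l6382 (Nat.ble (nat_lit 6382) i))
noncomputable def t6383_6385 (i : ℕ) : ℕ := (@Bool.rec (fun _ => ℕ) l6383 l6384 (Nat.ble (nat_lit 6384) i))
noncomputable def t6385_6388 (i : ℕ) : ℕ := (@Bool.rec (fun _ => ℕ) l6385 (@Bool.rec (fun _ => ℕ) l6386 l6387 (Nat.ble (nat_lit 6387) i)) (Nat.ble (nat_lit 6386) i))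
noncomputable def t6388_6390 (i : ℕ) : ℕ := (@Bool.rec (fun _ => ℕ) l6388 l6389 (Nat.ble (nat_lit 6389) i))
noncomputable def t6390_6392 (i : ℕ) : ℕ := (@Bool.rec (fun _ => ℕ) l6390 l6391 (Nat.ble (nat_lit 6391) i))
noncomputable def t6392_6394 (i : ℕ) : ℕ := (@Bool.rec (fun _ => ℕ) l6392 l6393 (Nat.ble (nat_lit 6393) i))
noncomputable def t6394_6397 (i : ℕ) : ℕ := (@Bool.rec (fun _ => ℕ) l6394 (@Bool.rec (fun _ => ℕ) l6395 l6396 (Nat.ble (nat_lit 6396) i)) (Nat.ble (nat_lit 6395) i))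
noncomputable def t6379_6397 (i : ℕ) : ℕ := (@Bool.rec (fun _ => ℕ) (@Bool.rec (fun _ => ℕ) (@Bool.rec (fun _ => ℕ) (t6379_6381 i) (t6381_6383 i) (Nat.ble (nat_lit 6381) i)) (@Bool.rec (fun _ => ℕ) (t6383_6385 i) (t6385_6388 i) (Nat.ble (nat_lit 6385) i)) (Nat.ble (nat_lit 6383) i)) (@Bool.rec (fun _ => ℕ) (@Bool.rec (fun _ => ℕ) (t6388_6390 i) (t6390_6392 i) (Nat.ble (nat_lit 6390) i)) (@Bool.rec (fun _ => ℕ) (t6392_6394 i) (t6394_6397 i) (Nat.ble (nat_lit 6394) i)) (Nat.ble (nat_lit 6392) i)) (Nat.ble (nat_lit 6388) i))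
noncomputable def t6397_6399 (i : ℕ) : ℕ := (@Bool.rec (fun _ => ℕ) l6397 l6398 (Nat.ble (nat_lit 6398) i))
noncomputable def t6399_6401 (i : ℕ) : ℕ := (@Bool.rec (fun _ => ℕ) l6399 l6400 (Nat.ble (nat_lit 6400) i))
noncomputable def t6401_6403 (i : ℕ) : ℕ := (@Bool.rec (fun _ => ℕ) l6401 l6402 (Nat.ble (nat_lit 6402) i))
noncomputable def t6403_6406 (i : ℕ) : ℕ := (@Bool.rec (fun _ => ℕ) l6403 (@Bool.rec (fun _ => ℕ) l6404 l6405 (Nat.ble (nat_lit 6405) i)) (Nat.ble (nat_lit 6404) i))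
noncomputable def t6406_6408 (i : ℕ) : ℕ := (@Bool.rec (fun _ => ℕ) l6406 l6407 (Nat.ble (nat_lit 6407) i))
noncomputable def t6408_6411 (i : ℕ) : ℕ := (@Bool.rec (fun _ => ℕ) l6408 (@Bool.rec (fun _ => ℕ) l6409 l6410 (Nat.ble (nat_lit 6410) i)) (Nat.ble (nat_lit 6409) i))
noncomputable def t6411_6413 (i : ℕ) : ℕ := (@Bool.rec (fun _ => ℕ) l6411 l6412 (Nat.ble (nat_lit 6412) i))
noncomputable def t6413_6416 (i : ℕ) : ℕ := (@Bool.rec (fun _ => ℕ) l6413 (@Bool.rec (fun _ => ℕ) l6414 l6415 (Nat.ble (nat_lit 6415) i)) (Nat.ble (nat_lit 6414) i))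
noncomputable def t6397_6416 (i : ℕ) : ℕ := (@Bool.rec (fun _ => ℕ) (@Bool.rec (fun _ => ℕ) (@Bool.rec (fun _ => ℕ) (t6397_6399 i) (t6399_6401 i) (Nat.ble (nat_lit 6399) i)) (@Bool.rec (fun _ => ℕ) (t6401_6403 i) (t6403_6406 i) (Nat.ble (nat_lit 6403) i)) (Nat.ble (nat_lit 6401) i)) (@Bool.rec (fun _ => ℕ) (@Bool.rec (fun _ => ℕ) (t6406_6408 i) (t6408_6411 i) (Nat.ble (nat_lit 6408) i)) (@Bool.rec (fun _ => ℕ) (t6411_6413 i) (t6413_6416 i) (Nat.ble (nat_lit 6413) i)) (Nat.ble (nat_lit 6411) i)) (Nat.ble (nat_lit 6406) i))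
noncomputable def t6416_6418 (i : ℕ) : ℕ := (@Bool.rec (fun _ => ℕ) l6416 l6417 (Nat.ble (nat_lit 6417) i))
noncomputable def t6418_6420 (i : ℕ) : ℕ := (@Bool.rec (fun _ => ℕ) l6418 l6419 (Nat.ble (nat_lit 6419) i))
noncomputable def t6420_6422 (i : ℕ) : ℕ := (@Bool.rec (fun _ => ℕ) l6420 l6421 (Nat.ble (nat_lit 6421) i))
noncomputable def t6422_6425 (i : ℕ) : ℕ := (@Bool.rec (fun _ => ℕ) l6422 (@Bool.rec (fun _ => ℕ) l6423 l6424 (Nat.ble (nat_lit 6424) i)) (Nat.ble (nat_lit 6423) i))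
noncomputable def t6425_6427 (i : ℕ) : ℕ := (@Bool.rec (fun _ => ℕ) l6425 l6426 (Nat.ble (nat_lit 6426) i))
noncomputable def t6427_6430 (i : ℕ) : ℕ := (@Bool.rec (fun _ => ℕ) l6427 (@Bool.rec (fun _ => ℕ) l6428 l6429 (Nat.ble (nat_lit 6429) i)) (Nat.ble (nat_lit 6428) i))
noncomputable def t6430_6432 (i : ℕ) : ℕ := (@Bool.rec (fun _ => ℕ) l6430 l6431 (Nat.ble (nat_lit 6431) i))
noncomputable def t6432_6435 (i : ℕ) : ℕ := (@Bool.rec (fun _ => ℕ) l6432 (@Bool.rec (fun _ => ℕ) l6433 l6434 (Nat.ble (nat_lit 6434) i)) (Nat.ble (nat_lit 6433) i))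
noncomputable def t6416_6435 (i : ℕ) : ℕ := (@Bool.rec (fun _ => ℕ) (@Bool.rec (fun _ => ℕ) (@Bool.rec (fun _ => ℕ) (t6416_6418 i) (t6418_6420 i) (Nat.ble (nat_lit 6418) i)) (@Bool.rec (fun _ => ℕ) (t6420_6422 i) (t6422_6425 i) (Nat.ble (nat_lit 6422) i)) (Nat.ble (nat_lit 6420) i)) (@Bool.rec (fun _ => ℕ) (@Bool.rec (fun _ => ℕ) (t6425_6427 i) (t6427_6430 i) (Nat.ble (nat_lit 6427) i)) (@Bool.rec (fun _ => ℕ) (t6430_6432 i) (t6432_6435 i) (Nat.ble (nat_lit 6432) i)) (Nat.ble (nat_lit 6430) i)) (Nat.ble (nat_lit 6425) i))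
noncomputable def t6435_6437 (i : ℕ) : ℕ := (@Bool.rec (fun _ => ℕ) l6435 l6436 (Nat.ble (nat_lit 6436) i))
noncomputable def t6437_6439 (i : ℕ) : ℕ := (@Bool.rec (fun _ => ℕ) l6437 l6438 (Nat.ble (nat_lit 6438) i))
noncomputable def t6439_6441 (i : ℕ) : ℕ := (@Bool.rec (fun _ => ℕ) l6439 l6440 (Nat.ble (nat_lit 6440) i))
noncomputable def t6441_6444 (i : ℕ) : ℕ := (@Bool.rec (fun _ => ℕ) l6441 (@Bool.rec (fun _ => ℕ) l6442 l6443 (Nat.ble (nat_lit 6443) i)) (Nat.ble (nat_lit 6442) i))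
noncomputable def t6444_6446 (i : ℕ) : ℕ := (@Bool.rec (fun _ => ℕ) l6444 l6445 (Nat.ble (nat_lit 6445) i))
noncomputable def t6446_6449 (i : ℕ) : ℕ := (@Bool.rec (fun _ => ℕ) l6446 (@Bool.rec (fun _ => ℕ) l6447 l6448 (Nat.ble (nat_lit 6448) i)) (Nat.ble (nat_lit 6447) i))
noncomputable def t6449_6451 (i : ℕ) : ℕ := (@Bool.rec (fun _ => ℕ) l6449 l6450 (Nat.ble (nat_lit 6450) i))
noncomputable def t6451_6454 (i : ℕ) : ℕ := (@Bool.rec (fun _ => ℕ) l6451 (@Bool.rec (fun _ => ℕ) l6452 l6453 (Nat.ble (nat_lit 6453) i)) (Nat.ble (nat_lit 6452) i))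
noncomputable def t6435_6454 (i : ℕ) : ℕ := (@Bool.rec (fun _ => ℕ) (@Bool.rec (fun _ => ℕ) (@Bool.rec (fun _ => ℕ) (t6435_6437 i) (t6437_6439 i) (Nat.ble (nat_lit 6437) i)) (@Bool.rec (fun _ => ℕ) (t6439_6441 i) (t6441_6444 i) (Nat.ble (nat_lit 6441) i)) (Nat.ble (nat_lit 6439) i)) (@Bool.rec (fun _ => ℕ) (@Bool.rec (fun _ => ℕ) (t6444_6446 i) (t6446_6449 i) (Nat.ble (nat_lit 6446) i)) (@Bool.rec (fun _ => ℕ) (t6449_6451 i) (t6451_6454 i) (Nat.ble (nat_lit 6451) i)) (Nat.ble (nat_lit 6449) i)) (Nat.ble (nat_lit 6444) i))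
noncomputable def t6304_6454 (i : ℕ) : ℕ := (@Bool.rec (fun _ => ℕ) (@Bool.rec (fun _ => ℕ) (@Bool.rec (fun _ => ℕ) (t6304_6322 i) (t6322_6341 i) (Nat.ble (nat_lit 6322) i)) (@Bool.rec (fun _ => ℕ) (t6341_6360 i) (t6360_6379 i) (Nat.ble (nat_lit 6360) i)) (Nat.ble (nat_lit 6341) i)) (@Bool.rec (fun _ => ℕ) (@Bool.rec (fun _ => ℕ) (t6379_6397 i) (t6397_6416 i) (Nat.ble (nat_lit 6397) i)) (@Bool.rec (fun _ => ℕ) (t6416_6435 i) (t6435_6454 i) (Nat.ble (nat_lit 6435) i)) (Nat.ble (nat_lit 6416) i)) (Nat.ble (nat_lit 6379) i))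
noncomputable def t6454_6456 (i : ℕ) : ℕ := (@Bool.rec (fun _ => ℕ) l6454 l6455 (Nat.ble (nat_lit 6455) i))
noncomputable def t6456_6458 (i : ℕ) : ℕ := (@Bool.rec (fun _ => ℕ) l6456 l6457 (Nat.ble (nat_lit 6457) i))
noncomputable def t6458_6460 (i : ℕ) : ℕ := (@Bool.rec (fun _ => ℕ) l6458 l6459 (Nat.ble (nat_lit 6459) i))
noncomputable def t6460_6463 (i : ℕ) : ℕ := (@Bool.rec (fun _ => ℕ) l6460 (@Bool.rec (fun _ => ℕ) l6461 l6462 (Nat.ble (nat_lit 6462) i)) (Nat.ble (nat_lit 6461) i))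
noncomputable def t6463_6465 (i : ℕ) : ℕ := (@Bool.rec (fun _ => ℕ) l6463 l6464 (Nat.ble (nat_lit 6464) i))
noncomputable def t6465_6467 (i : ℕ) : ℕ := (@Bool.rec (fun _ => ℕ) l6465 l6466 (Nat.ble (nat_lit 6466) i))
noncomputable def t6467_6469 (i : ℕ) : ℕ := (@Bool.rec (fun _ => ℕ) l6467 l6468 (Nat.ble (nat_lit 6468) i))
noncomputable def t6469_6472 (i : ℕ) : ℕ := (@Bool.rec (fun _ => ℕ) l6469 (@Bool.rec (fun _ => ℕ) l6470 l6471 (Nat.ble (nat_lit 6471) i)) (Nat.ble (nat_lit 6470) i))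
noncomputable def t6454_6472 (i : ℕ) : ℕ := (@Bool.rec (fun _ => ℕ) (@Bool.rec (fun _ => ℕ) (@Bool.rec (fun _ => ℕ) (t6454_6456 i) (t6456_6458 i) (Nat.ble (nat_lit 6456) i)) (@Bool.rec (fun _ => ℕ) (t6458_6460 i) (t6460_6463 i) (Nat.ble (nat_lit 6460) i)) (Nat.ble (nat_lit 6458) i)) (@Bool.rec (fun _ => ℕ) (@Bool.rec (fun _ => ℕ) (t6463_6465 i) (t6465_6467 i) (Nat.ble (nat_lit 6465) i)) (@Bool.rec (fun _ => ℕ) (t6467_6469 i) (t6469_6472 i) (Nat.ble (nat_lit 6469) i)) (Nat.ble (nat_lit 6467) i)) (Nat.ble (nat_lit 6463) i))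
noncomputable def t6472_6474 (i : ℕ) : ℕ := (@Bool.rec (fun _ => ℕ) l6472 l6473 (Nat.ble (nat_lit 6473) i))
noncomputable def t6474_6476 (i : ℕ) : ℕ := (@Bool.rec (fun _ => ℕ) l6474 l6475 (Nat.ble (nat_lit 6475) i))
noncomputable def t6476_6478 (i : ℕ) : ℕ := (@Bool.rec (fun _ => ℕ) l6476 l6477 (Nat.ble (nat_lit 6477) i))
noncomputable def t6478_6481 (i : ℕ) : ℕ := (@Bool.rec (fun _ => ℕ) l6478 (@Bool.rec (fun _ => ℕ) l6479 l6480 (Nat.ble (nat_lit 6480) i)) (Nat.ble (nat_lit 6479) i))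
noncomputable def t6481_6483 (i : ℕ) : ℕ := (@Bool.rec (fun _ => ℕ) l6481 l6482 (Nat.ble (nat_lit 6482) i))
noncomputable def t6483_6486 (i : ℕ) : ℕ := (@Bool.rec (fun _ => ℕ) l6483 (@Bool.rec (fun _ => ℕ) l6484 l6485 (Nat.ble (nat_lit 6485) i)) (Nat.ble (nat_lit 6484) i))
noncomputable def t6486_6488 (i : ℕ) : ℕ := (@Bool.rec (fun _ => ℕ) l6486 l6487 (Nat.ble (nat_lit 6487) i))
noncomputable def t6488_6491 (i : ℕ) : ℕ := (@Bool.rec (fun _ => ℕ) l6488 (@Bool.rec (fun _ => ℕ) l6489 l6490 (Nat.ble (nat_lit 6490) i)) (Nat.ble (nat_lit 6489) i))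
noncomputable def t6472_6491 (i : ℕ) : ℕ := (@Bool.rec (fun _ => ℕ) (@Bool.rec (fun _ => ℕ) (@Bool.rec (fun _ => ℕ) (t6472_6474 i) (t6474_6476 i) (Nat.ble (nat_lit 6474) i)) (@Bool.rec (fun _ => ℕ) (t6476_6478 i) (t6478_6481 i) (Nat.ble (nat_lit 6478) i)) (Nat.ble (nat_lit 6476) i)) (@Bool.rec (fun _ => ℕ) (@Bool.rec (fun _ => ℕ) (t6481_6483 i) (t6483_6486 i) (Nat.ble (nat_lit 6483) i)) (@Bool.rec (fun _ => ℕ) (t6486_6488 i) (t6488_6491 i) (Nat.ble (nat_lit 6488) i)) (Nat.ble (nat_lit 6486) i)) (Nat.ble (nat_lit 6481) i))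
noncomputable def t6491_6493 (i : ℕ) : ℕ := (@Bool.rec (fun _ => ℕ) l6491 l6492 (Nat.ble (nat_lit 6492) i))
noncomputable def t6493_6495 (i : ℕ) : ℕ := (@Bool.rec (fun _ => ℕ) l6493 l6494 (Nat.ble (nat_lit 6494) i))
noncomputable def t6495_6497 (i : ℕ) : ℕ := (@Bool.rec (fun _ => ℕ) l6495 l6496 (Nat.ble (nat_lit 6496) i))
noncomputable def t6497_6500 (i : ℕ) : ℕ := (@Bool.rec (fun _ => ℕ) l6497 (@Bool.rec (fun _ => ℕ) l6498 l6499 (Nat.ble (nat_lit 6499) i)) (Nat.ble (nat_lit 6498) i))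
noncomputable def t6500_6502 (i : ℕ) : ℕ := (@Bool.rec (fun _ => ℕ) l6500 l6501 (Nat.ble (nat_lit 6501) i))
noncomputable def t6502_6505 (i : ℕ) : ℕ := (@Bool.rec (fun _ => ℕ) l6502 (@Bool.rec (fun _ => ℕ) l6503 l6504 (Nat.ble (nat_lit 6504) i)) (Nat.ble (nat_lit 6503) i))
noncomputable def t6505_6507 (i : ℕ) : ℕ := (@Bool.rec (fun _ => ℕ) l6505 l6506 (Nat.ble (nat_lit 6506) i))
noncomputable def t6507_6510 (i : ℕ) : ℕ := (@Bool.rec (fun _ => ℕ) l6507 (@Bool.rec (fun _ => ℕ) l6508 l6509 (Nat.ble (nat_lit 6509) i)) (Nat.ble (nat_lit 6508) i))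
noncomputable def t6491_6510 (i : ℕ) : ℕ := (@Bool.rec (fun _ => ℕ) (@Bool.rec (fun _ => ℕ) (@Bool.rec (fun _ => ℕ) (t6491_6493 i) (t6493_6495 i) (Nat.ble (nat_lit 6493) i)) (@Bool.rec (fun _ => ℕ) (t6495_6497 i) (t6497_6500 i) (Nat.ble (nat_lit 6497) i)) (Nat.ble (nat_lit 6495) i)) (@Bool.rec (fun _ => ℕ) (@Bool.rec (fun _ => ℕ) (t6500_6502 i) (t6502_6505 i) (Nat.ble (nat_lit 6502) i)) (@Bool.rec (fun _ => ℕ) (t6505_6507 i) (t6507_6510 i) (Nat.ble (nat_lit 6507) i)) (Nat.ble (nat_lit 6505) i)) (Nat.ble (nat_lit 6500) i))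
noncomputable def t6510_6512 (i : ℕ) : ℕ := (@Bool.rec (fun _ => ℕ) l6510 l6511 (Nat.ble (nat_lit 6511) i))
noncomputable def t6512_6514 (i : ℕ) : ℕ := (@Bool.rec (fun _ => ℕ) l6512 l6513 (Nat.ble (nat_lit 6513) i))
noncomputable def t6514_6516 (i : ℕ) : ℕ := (@Bool.rec (fun _ => ℕ) l6514 l6515 (Nat.ble (nat_lit 6515) i))
noncomputable def t6516_6519 (i : ℕ) : ℕ := (@Bool.rec (fun _ => ℕ) l6516 (@Bool.rec (fun _ => ℕ) l6517 l6518 (Nat.ble (nat_lit 6518) i)) (Nat.ble (nat_lit 6517) i))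
noncomputable def t6519_6521 (i : ℕ) : ℕ := (@Bool.rec (fun _ => ℕ) l6519 l6520 (Nat.ble (nat_lit 6520) i))
noncomputable def t6521_6524 (i : ℕ) : ℕ := (@Bool.rec (fun _ => ℕ) l6521 (@Bool.rec (fun _ => ℕ) l6522 l6523 (Nat.ble (nat_lit 6523) i)) (Nat.ble (nat_lit 6522) i))
noncomputable def t6524_6526 (i : ℕ) : ℕ := (@Bool.rec (fun _ => ℕ) l6524 l6525 (Nat.ble (nat_lit 6525) i))
noncomputable def t6526_6529 (i : ℕ) : ℕ := (@Bool.rec (fun _ => ℕ) l6526 (@Bool.rec (fun _ => ℕ) l6527 l6528 (Nat.ble (nat_lit 6528) i)) (Nat.ble (nat_lit 6527) i))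
noncomputable def t6510_6529 (i : ℕ) : ℕ := (@Bool.rec (fun _ => ℕ) (@Bool.rec (fun _ => ℕ) (@Bool.rec (fun _ => ℕ) (t6510_6512 i) (t6512_6514 i) (Nat.ble (nat_lit 6512) i)) (@Bool.rec (fun _ => ℕ) (t6514_6516 i) (t6516_6519 i) (Nat.ble (nat_lit 6516) i)) (Nat.ble (nat_lit 6514) i)) (@Bool.rec (fun _ => ℕ) (@Bool.rec (fun _ => ℕ) (t6519_6521 i) (t6521_6524 i) (Nat.ble (nat_lit 6521) i)) (@Bool.rec (fun _ => ℕ) (t6524_6526 i) (t6526_6529 i) (Nat.ble (nat_lit 6526) i)) (Nat.ble (nat_lit 6524) i)) (Nat.ble (nat_lit 6519) i))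
noncomputable def t6529_6531 (i : ℕ) : ℕ := (@Bool.rec (fun _ => ℕ) l6529 l6530 (Nat.ble (nat_lit 6530) i))
noncomputable def t6531_6533 (i : ℕ) : ℕ := (@Bool.rec (fun _ => ℕ) l6531 l6532 (Nat.ble (nat_lit 6532) i))
noncomputable def t6533_6535 (i : ℕ) : ℕ := (@Bool.rec (fun _ => ℕ) l6533 l6534 (Nat.ble (nat_lit 6534) i))
noncomputable def t6535_6538 (i : ℕ) : ℕ := (@Bool.rec (fun _ => ℕ) l6535 (@Bool.rec (fun _ => ℕ) l6536 l6537 (Nat.ble (nat_lit 6537) i)) (Nat.ble (nat_lit 6536) i))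
noncomputable def t6538_6540 (i : ℕ) : ℕ := (@Bool.rec (fun _ => ℕ) l6538 l6539 (Nat.ble (nat_lit 6539) i))
noncomputable def t6540_6542 (i : ℕ) : ℕ := (@Bool.rec (fun _ => ℕ) l6540 l6541 (Nat.ble (nat_lit 6541) i))
noncomputable def t6542_6544 (i : ℕ) : ℕ := (@Bool.rec (fun _ => ℕ) l6542 l6543 (Nat.ble (nat_lit 6543) i))
noncomputable def t6544_6547 (i : ℕ) : ℕ := (@Bool.rec (fun _ => ℕ) l6544 (@Bool.rec (fun _ => ℕ) l6545 l6546 (Nat.ble (nat_lit 6546) i)) (Nat.ble (nat_lit 6545) i))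
noncomputable def t6529_6547 (i : ℕ) : ℕ := (@Bool.rec (fun _ => ℕ) (@Bool.rec (fun _ => ℕ) (@Bool.rec (fun _ => ℕ) (t6529_6531 i) (t6531_6533 i) (Nat.ble (nat_lit 6531) i)) (@Bool.rec (fun _ => ℕ) (t6533_6535 i) (t6535_6538 i) (Nat.ble (nat_lit 6535) i)) (Nat.ble (nat_lit 6533) i)) (@Bool.rec (fun _ => ℕ) (@Bool.rec (fun _ => ℕ) (t6538_6540 i) (t6540_6542 i) (Nat.ble (nat_lit 6540) i)) (@Bool.rec (fun _ => ℕ) (t6542_6544 i) (t6544_6547 i) (Nat.ble (nat_lit 6544) i)) (Nat.ble (nat_lit 6542) i)) (Nat.ble (nat_lit 6538) i))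
noncomputable def t6547_6549 (i : ℕ) : ℕ := (@Bool.rec (fun _ => ℕ) l6547 l6548 (Nat.ble (nat_lit 6548) i))
noncomputable def t6549_6551 (i : ℕ) : ℕ := (@Bool.rec (fun _ => ℕ) l6549 l6550 (Nat.ble (nat_lit 6550) i))
noncomputable def t6551_6553 (i : ℕ) : ℕ := (@Bool.rec (fun _ => ℕ) l6551 l6552 (Nat.ble (nat_lit 6552) i))
noncomputable def t6553_6556 (i : ℕ) : ℕ := (@Bool.rec (fun _ => ℕ) l6553 (@Bool.rec (fun _ => ℕ) l6554 l6555 (Nat.ble (nat_lit 6555) i)) (Nat.ble (nat_lit 6554) i))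
noncomputable def t6556_6558 (i : ℕ) : ℕ := (@Bool.rec (fun _ => ℕ) l6556 l6557 (Nat.ble (nat_lit 6557) i))
noncomputable def t6558_6561 (i : ℕ) : ℕ := (@Bool.rec (fun _ => ℕ) l6558 (@Bool.rec (fun _ => ℕ) l6559 l6560 (Nat.ble (nat_lit 6560) i)) (Nat.ble (nat_lit 6559) i))
noncomputable def t6561_6563 (i : ℕ) : ℕ := (@Bool.rec (fun _ => ℕ) l6561 l6562 (Nat.ble (nat_lit 6562) i))
noncomputable def t6563_6566 (i : ℕ) : ℕ := (@Bool.rec (fun _ => ℕ) l6563 (@Bool.rec (fun _ => ℕ) l6564 l6565 (Nat.ble (nat_lit 6565) i)) (Nat.ble (nat_lit 6564) i))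
noncomputable def t6547_6566 (i : ℕ) : ℕ := (@Bool.rec (fun _ => ℕ) (@Bool.rec (fun _ => ℕ) (@Bool.rec (fun _ => ℕ) (t6547_6549 i) (t6549_6551 i) (Nat.ble (nat_lit 6549) i)) (@Bool.rec (fun _ => ℕ) (t6551_6553 i) (t6553_6556 i) (Nat.ble (nat_lit 6553) i)) (Nat.ble (nat_lit 6551) i)) (@Bool.rec (fun _ => ℕ) (@Bool.rec (fun _ => ℕ) (t6556_6558 i) (t6558_6561 i) (Nat.ble (nat_lit 6558) i)) (@Bool.rec (fun _ => ℕ) (t6561_6563 i) (t6563_6566 i) (Nat.ble (nat_lit 6563) i)) (Nat.ble (nat_lit 6561) i)) (Nat.ble (nat_lit 6556) i))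
noncomputable def t6566_6568 (i : ℕ) : ℕ := (@Bool.rec (fun _ => ℕ) l6566 l6567 (Nat.ble (nat_lit 6567) i))
noncomputable def t6568_6570 (i : ℕ) : ℕ := (@Bool.rec (fun _ => ℕ) l6568 l6569 (Nat.ble (nat_lit 6569) i))
noncomputable def t6570_6572 (i : ℕ) : ℕ := (@Bool.rec (fun _ => ℕ) l6570 l6571 (Nat.ble (nat_lit 6571) i))
noncomputable def t6572_6575 (i : ℕ) : ℕ := (@Bool.rec (fun _ => ℕ) l6572 (@Bool.rec (fun _ => ℕ) l6573 l6574 (Nat.ble (nat_lit 6574) i)) (Nat.ble (nat_lit 6573) i))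
noncomputable def t6575_6577 (i : ℕ) : ℕ := (@Bool.rec (fun _ => ℕ) l6575 l6576 (Nat.ble (nat_lit 6576) i))
noncomputable def t6577_6580 (i : ℕ) : ℕ := (@Bool.rec (fun _ => ℕ) l6577 (@Bool.rec (fun _ => ℕ) l6578 l6579 (Nat.ble (nat_lit 6579) i)) (Nat.ble (nat_lit 6578) i))
noncomputable def t6580_6582 (i : ℕ) : ℕ := (@Bool.rec (fun _ => ℕ) l6580 l6581 (Nat.ble (nat_lit 6581) i))
noncomputable def t6582_6585 (i : ℕ) : ℕ := (@Bool.rec (fun _ => ℕ) l6582 (@Bool.rec (fun _ => ℕ) l6583 l6584 (Nat.ble (nat_lit 6584) i)) (Nat.ble (nat_lit 6583) i))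
noncomputable def t6566_6585 (i : ℕ) : ℕ := (@Bool.rec (fun _ => ℕ) (@Bool.rec (fun _ => ℕ) (@Bool.rec (fun _ => ℕ) (t6566_6568 i) (t6568_6570 i) (Nat.ble (nat_lit 6568) i)) (@Bool.rec (fun _ => ℕ) (t6570_6572 i) (t6572_6575 i) (Nat.ble (nat_lit 6572) i)) (Nat.ble (nat_lit 6570) i)) (@Bool.rec (fun _ => ℕ) (@Bool.rec (fun _ => ℕ) (t6575_6577 i) (t6577_6580 i) (Nat.ble (nat_lit 6577) i)) (@Bool.rec (fun _ => ℕ) (t6580_6582 i) (t6582_6585 i) (Nat.ble (nat_lit 6582) i)) (Nat.ble (nat_lit 6580) i)) (Nat.ble (nat_lit 6575) i))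
noncomputable def t6585_6587 (i : ℕ) : ℕ := (@Bool.rec (fun _ => ℕ) l6585 l6586 (Nat.ble (nat_lit 6586) i))
noncomputable def t6587_6589 (i : ℕ) : ℕ := (@Bool.rec (fun _ => ℕ) l6587 l6588 (Nat.ble (nat_lit 6588) i))
noncomputable def t6589_6591 (i : ℕ) : ℕ := (@Bool.rec (fun _ => ℕ) l6589 l6590 (Nat.ble (nat_lit 6590) i))
noncomputable def t6591_6594 (i : ℕ) : ℕ := (@Bool.rec (fun _ => ℕ) l6591 (@Bool.rec (fun _ => ℕ) l6592 l6593 (Nat.ble (nat_lit 6593) i)) (Nat.ble (nat_lit 6592) i))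
noncomputable def t6594_6596 (i : ℕ) : ℕ := (@Bool.rec (fun _ => ℕ) l6594 l6595 (Nat.ble (nat_lit 6595) i))
noncomputable def t6596_6599 (i : ℕ) : ℕ := (@Bool.rec (fun _ => ℕ) l6596 (@Bool.rec (fun _ => ℕ) l6597 l6598 (Nat.ble (nat_lit 6598) i)) (Nat.ble (nat_lit 6597) i))
noncomputable def t6599_6601 (i : ℕ) : ℕ := (@Bool.rec (fun _ => ℕ) l6599 l6600 (Nat.ble (nat_lit 6600) i))
noncomputable def t6601_6604 (i : ℕ) : ℕ := (@Bool.rec (fun _ => ℕ) l6601 (@Bool.rec (fun _ => ℕ) l6602 l6603 (Nat.ble (nat_lit 6603) i)) (Nat.ble (nat_lit 6602) i))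
noncomputable def t6585_6604 (i : ℕ) : ℕ := (@Bool.rec (fun _ => ℕ) (@Bool.rec (fun _ => ℕ) (@Bool.rec (fun _ => ℕ) (t6585_6587 i) (t6587_6589 i) (Nat.ble (nat_lit 6587) i)) (@Bool.rec (fun _ => ℕ) (t6589_6591 i) (t6591_6594 i) (Nat.ble (nat_lit 6591) i)) (Nat.ble (nat_lit 6589) i)) (@Bool.rec (fun _ => ℕ) (@Bool.rec (fun _ => ℕ) (t6594_6596 i) (t6596_6599 i) (Nat.ble (nat_lit 6596) i)) (@Bool.rec (fun _ => ℕ) (t6599_6601 i) (t6601_6604 i) (Nat.ble (nat_lit 6601) i)) (Nat.ble (nat_lit 6599) i)) (Nat.ble (nat_lit 6594) i))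
noncomputable def t6454_6604 (i : ℕ) : ℕ := (@Bool.rec (fun _ => ℕ) (@Bool.rec (fun _ => ℕ) (@Bool.rec (fun _ => ℕ) (t6454_6472 i) (t6472_6491 i) (Nat.ble (nat_lit 6472) i)) (@Bool.rec (fun _ => ℕ) (t6491_6510 i) (t6510_6529 i) (Nat.ble (nat_lit 6510) i)) (Nat.ble (nat_lit 6491) i)) (@Bool.rec (fun _ => ℕ) (@Bool.rec (fun _ => ℕ) (t6529_6547 i) (t6547_6566 i) (Nat.ble (nat_lit 6547) i)) (@Bool.rec (fun _ => ℕ) (t6566_6585 i) (t6585_6604 i) (Nat.ble (nat_lit 6585) i)) (Nat.ble (nat_lit 6566) i)) (Nat.ble (nat_lit 6529) i))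
noncomputable def t6604_6606 (i : ℕ) : ℕ := (@Bool.rec (fun _ => ℕ) l6604 l6605 (Nat.ble (nat_lit 6605) i))
noncomputable def t6606_6608 (i : ℕ) : ℕ := (@Bool.rec (fun _ => ℕ) l6606 l6607 (Nat.ble (nat_lit 6607) i))
noncomputable def t6608_6610 (i : ℕ) : ℕ := (@Bool.rec (fun _ => ℕ) l6608 l6609 (Nat.ble (nat_lit 6609) i))
noncomputable def t6610_6613 (i : ℕ) : ℕ := (@Bool.rec (fun _ => ℕ) l6610 (@Bool.rec (fun _ => ℕ) l6611 l6612 (Nat.ble (nat_lit 6612) i)) (Nat.ble (nat_lit 6611) i))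
noncomputable def t6613_6615 (i : ℕ) : ℕ := (@Bool.rec (fun _ => ℕ) l6613 l6614 (Nat.ble (nat_lit 6614) i))
noncomputable def t6615_6617 (i : ℕ) : ℕ := (@Bool.rec (fun _ => ℕ) l6615 l6616 (Nat.ble (nat_lit 6616) i))
noncomputable def t6617_6619 (i : ℕ) : ℕ := (@Bool.rec (fun _ => ℕ) l6617 l6618 (Nat.ble (nat_lit 6618) i))
noncomputable def t6619_6622 (i : ℕ) : ℕ := (@Bool.rec (fun _ => ℕ) l6619 (@Bool.rec (fun _ => ℕ) l6620 l6621 (Nat.ble (nat_lit 6621) i)) (Nat.ble (nat_lit 6620) i))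
noncomputable def t6604_6622 (i : ℕ) : ℕ := (@Bool.rec (fun _ => ℕ) (@Bool.rec (fun _ => ℕ) (@Bool.rec (fun _ => ℕ) (t6604_6606 i) (t6606_6608 i) (Nat.ble (nat_lit 6606) i)) (@Bool.rec (fun _ => ℕ) (t6608_6610 i) (t6610_6613 i) (Nat.ble (nat_lit 6610) i)) (Nat.ble (nat_lit 6608) i)) (@Bool.rec (fun _ => ℕ) (@Bool.rec (fun _ => ℕ) (t6613_6615 i) (t6615_6617 i) (Nat.ble (nat_lit 6615) i)) (@Bool.rec (fun _ => ℕ) (t6617_6619 i) (t6619_6622 i) (Nat.ble (nat_lit 6619) i)) (Nat.ble (nat_lit 6617) i)) (Nat.ble (nat_lit 6613) i))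
noncomputable def t6622_6624 (i : ℕ) : ℕ := (@Bool.rec (fun _ => ℕ) l6622 l6623 (Nat.ble (nat_lit 6623) i))
noncomputable def t6624_6626 (i : ℕ) : ℕ := (@Bool.rec (fun _ => ℕ) l6624 l6625 (Nat.ble (nat_lit 6625) i))
noncomputable def t6626_6628 (i : ℕ) : ℕ := (@Bool.rec (fun _ => ℕ) l6626 l6627 (Nat.ble (nat_lit 6627) i))
noncomputable def t6628_6631 (i : ℕ) : ℕ := (@Bool.rec (fun _ => ℕ) l6628 (@Bool.rec (fun _ => ℕ) l6629 l6630 (Nat.ble (nat_lit 6630) i)) (Nat.ble (nat_lit 6629) i))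
noncomputable def t6631_6633 (i : ℕ) : ℕ := (@Bool.rec (fun _ => ℕ) l6631 l6632 (Nat.ble (nat_lit 6632) i))
noncomputable def t6633_6636 (i : ℕ) : ℕ := (@Bool.rec (fun _ => ℕ) l6633 (@Bool.rec (fun _ => ℕ) l6634 l6635 (Nat.ble (nat_lit 6635) i)) (Nat.ble (nat_lit 6634) i))
noncomputable def t6636_6638 (i : ℕ) : ℕ := (@Bool.rec (fun _ => ℕ) l6636 l6637 (Nat.ble (nat_lit 6637) i))
noncomputable def t6638_6641 (i : ℕ) : ℕ := (@Bool.rec (fun _ => ℕ) l6638 (@Bool.rec (fun _ => ℕ) l6639 l6640 (Nat.ble (nat_lit 6640) i)) (Nat.ble (nat_lit 6639) i))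
noncomputable def t6622_6641 (i : ℕ) : ℕ := (@Bool.rec (fun _ => ℕ) (@Bool.rec (fun _ => ℕ) (@Bool.rec (fun _ => ℕ) (t6622_6624 i) (t6624_6626 i) (Nat.ble (nat_lit 6624) i)) (@Bool.rec (fun _ => ℕ) (t6626_6628 i) (t6628_6631 i) (Nat.ble (nat_lit 6628) i)) (Nat.ble (nat_lit 6626) i)) (@Bool.rec (fun _ => ℕ) (@Bool.rec (fun _ => ℕ) (t6631_6633 i) (t6633_6636 i) (Nat.ble (nat_lit 6633) i)) (@Bool.rec (fun _ => ℕ) (t6636_6638 i) (t6638_6641 i) (Nat.ble (nat_lit 6638) i)) (Nat.ble (nat_lit 6636) i)) (Nat.ble (nat_lit 6631) i))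
noncomputable def t6641_6643 (i : ℕ) : ℕ := (@Bool.rec (fun _ => ℕ) l6641 l6642 (Nat.ble (nat_lit 6642) i))
noncomputable def t6643_6645 (i : ℕ) : ℕ := (@Bool.rec (fun _ => ℕ) l6643 l6644 (Nat.ble (nat_lit 6644) i))
noncomputable def t6645_6647 (i : ℕ) : ℕ := (@Bool.rec (fun _ => ℕ) l6645 l6646 (Nat.ble (nat_lit 6646) i))
noncomputable def t6647_6650 (i : ℕ) : ℕ := (@Bool.rec (fun _ => ℕ) l6647 (@Bool.rec (fun _ => ℕ) l6648 l6649 (Nat.ble (nat_lit 6649) i)) (Nat.ble (nat_lit 6648) i))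
noncomputable def t6650_6652 (i : ℕ) : ℕ := (@Bool.rec (fun _ => ℕ) l6650 l6651 (Nat.ble (nat_lit 6651) i))
noncomputable def t6652_6655 (i : ℕ) : ℕ := (@Bool.rec (fun _ => ℕ) l6652 (@Bool.rec (fun _ => ℕ) l6653 l6654 (Nat.ble (nat_lit 6654) i)) (Nat.ble (nat_lit 6653) i))
noncomputable def t6655_6657 (i : ℕ) : ℕ := (@Bool.rec (fun _ => ℕ) l6655 l6656 (Nat.ble (nat_lit 6656) i))
noncomputable def t6657_6660 (i : ℕ) : ℕ := (@Bool.rec (fun _ => ℕ) l6657 (@Bool.rec (fun _ => ℕ) l6658 l6659 (Nat.ble (nat_lit 6659) i)) (Nat.ble (nat_lit 6658) i))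
noncomputable def t6641_6660 (i : ℕ) : ℕ := (@Bool.rec (fun _ => ℕ) (@Bool.rec (fun _ => ℕ) (@Bool.rec (fun _ => ℕ) (t6641_6643 i) (t6643_6645 i) (Nat.ble (nat_lit 6643) i)) (@Bool.rec (fun _ => ℕ) (t6645_6647 i) (t6647_6650 i) (Nat.ble (nat_lit 6647) i)) (Nat.ble (nat_lit 6645) i)) (@Bool.rec (fun _ => ℕ) (@Bool.rec (fun _ => ℕ) (t6650_6652 i) (t6652_6655 i) (Nat.ble (nat_lit 6652) i)) (@Bool.rec (fun _ => ℕ) (t6655_6657 i) (t6657_6660 i) (Nat.ble (nat_lit 6657) i)) (Nat.ble (nat_lit 6655) i)) (Nat.ble (nat_lit 6650) i))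
noncomputable def t6660_6662 (i : ℕ) : ℕ := (@Bool.rec (fun _ => ℕ) l6660 l6661 (Nat.ble (nat_lit 6661) i))
noncomputable def t6662_6664 (i : ℕ) : ℕ := (@Bool.rec (fun _ => ℕ) l6662 l6663 (Nat.ble (nat_lit 6663) i))
noncomputable def t6664_6666 (i : ℕ) : ℕ := (@Bool.rec (fun _ => ℕ) l6664 l6665 (Nat.ble (nat_lit 6665) i))
noncomputable def t6666_6669 (i : ℕ) : ℕ := (@Bool.rec (fun _ => ℕ) l6666 (@Bool.rec (fun _ => ℕ) l6667 l6668 (Nat.ble (nat_lit 6668) i)) (Nat.ble (nat_lit 6667) i))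
noncomputable def t6669_6671 (i : ℕ) : ℕ := (@Bool.rec (fun _ => ℕ) l6669 l6670 (Nat.ble (nat_lit 6670) i))
noncomputable def t6671_6674 (i : ℕ) : ℕ := (@Bool.rec (fun _ => ℕ) l6671 (@Bool.rec (fun _ => ℕ) l6672 l6673 (Nat.ble (nat_lit 6673) i)) (Nat.ble (nat_lit 6672) i))
noncomputable def t6674_6676 (i : ℕ) : ℕ := (@Bool.rec (fun _ => ℕ) l6674 l6675 (Nat.ble (nat_lit 6675) i))
noncomputable def t6676_6679 (i : ℕ) : ℕ := (@Bool.rec (fun _ => ℕ) l6676 (@Bool.rec (fun _ => ℕ) l6677 l6678 (Nat.ble (nat_lit 6678) i)) (Nat.ble (nat_lit 6677) i))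
noncomputable def t6660_6679 (i : ℕ) : ℕ := (@Bool.rec (fun _ => ℕ) (@Bool.rec (fun _ => ℕ) (@Bool.rec (fun _ => ℕ) (t6660_6662 i) (t6662_6664 i) (Nat.ble (nat_lit 6662) i)) (@Bool.rec (fun _ => ℕ) (t6664_6666 i) (t6666_6669 i) (Nat.ble (nat_lit 6666) i)) (Nat.ble (nat_lit 6664) i)) (@Bool.rec (fun _ => ℕ) (@Bool.rec (fun _ => ℕ) (t6669_6671 i) (t6671_6674 i) (Nat.ble (nat_lit 6671) i)) (@Bool.rec (fun _ => ℕ) (t6674_6676 i) (t6676_6679 i) (Nat.ble (nat_lit 6676) i)) (Nat.ble (nat_lit 6674) i)) (Nat.ble (nat_lit 6669) i))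
noncomputable def t6679_6681 (i : ℕ) : ℕ := (@Bool.rec (fun _ => ℕ) l6679 l6680 (Nat.ble (nat_lit 6680) i))
noncomputable def t6681_6683 (i : ℕ) : ℕ := (@Bool.rec (fun _ => ℕ) l6681 l6682 (Nat.ble (nat_lit 6682) i))
noncomputable def t6683_6685 (i : ℕ) : ℕ := (@Bool.rec (fun _ => ℕ) l6683 l6684 (Nat.ble (nat_lit 6684) i))
noncomputable def t6685_6688 (i : ℕ) : ℕ := (@Bool.rec (fun _ => ℕ) l6685 (@Bool.rec (fun _ => ℕ) l6686 l6687 (Nat.ble (nat_lit 6687) i)) (Nat.ble (nat_lit 6686) i))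
noncomputable def t6688_6690 (i : ℕ) : ℕ := (@Bool.rec (fun _ => ℕ) l6688 l6689 (Nat.ble (nat_lit 6689) i))
noncomputable def t6690_6692 (i : ℕ) : ℕ := (@Bool.rec (fun _ => ℕ) l6690 l6691 (Nat.ble (nat_lit 6691) i))
noncomputable def t6692_6694 (i : ℕ) : ℕ := (@Bool.rec (fun _ => ℕ) l6692 l6693 (Nat.ble (nat_lit 6693) i))
noncomputable def t6694_6697 (i : ℕ) : ℕ := (@Bool.rec (fun _ => ℕ) l6694 (@Bool.rec (fun _ => ℕ) l6695 l6696 (Nat.ble (nat_lit 6696) i)) (Nat.ble (nat_lit 6695) i))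
noncomputable def t6679_6697 (i : ℕ) : ℕ := (@Bool.rec (fun _ => ℕ) (@Bool.rec (fun _ => ℕ) (@Bool.rec (fun _ => ℕ) (t6679_6681 i) (t6681_6683 i) (Nat.ble (nat_lit 6681) i)) (@Bool.rec (fun _ => ℕ) (t6683_6685 i) (t6685_6688 i) (Nat.ble (nat_lit 6685) i)) (Nat.ble (nat_lit 6683) i)) (@Bool.rec (fun _ => ℕ) (@Bool.rec (fun _ => ℕ) (t6688_6690 i) (t6690_6692 i) (Nat.ble (nat_lit 6690) i)) (@Bool.rec (fun _ => ℕ) (t6692_6694 i) (t6694_6697 i) (Nat.ble (nat_lit 6694) i)) (Nat.ble (nat_lit 6692) i)) (Nat.ble (nat_lit 6688) i))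
noncomputable def t6697_6699 (i : ℕ) : ℕ := (@Bool.rec (fun _ => ℕ) l6697 l6698 (Nat.ble (nat_lit 6698) i))
noncomputable def t6699_6701 (i : ℕ) : ℕ := (@Bool.rec (fun _ => ℕ) l6699 l6700 (Nat.ble (nat_lit 6700) i))
noncomputable def t6701_6703 (i : ℕ) : ℕ := (@Bool.rec (fun _ => ℕ) l6701 l6702 (Nat.ble (nat_lit 6702) i))
noncomputable def t6703_6706 (i : ℕ) : ℕ := (@Bool.rec (fun _ => ℕ) l6703 (@Bool.rec (fun _ => ℕ) l6704 l6705 (Nat.ble (nat_lit 6705) i)) (Nat.ble (nat_lit 6704) i))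
noncomputable def t6706_6708 (i : ℕ) : ℕ := (@Bool.rec (fun _ => ℕ) l6706 l6707 (Nat.ble (nat_lit 6707) i))
noncomputable def t6708_6711 (i : ℕ) : ℕ := (@Bool.rec (fun _ => ℕ) l6708 (@Bool.rec (fun _ => ℕ) l6709 l6710 (Nat.ble (nat_lit 6710) i)) (Nat.ble (nat_lit 6709) i))
noncomputable def t6711_6713 (i : ℕ) : ℕ := (@Bool.rec (fun _ => ℕ) l6711 l6712 (Nat.ble (nat_lit 6712) i))
noncomputable def t6713_6716 (i : ℕ) : ℕ := (@Bool.rec (fun _ => ℕ) l6713 (@Bool.rec (fun _ => ℕ) l6714 l6715 (Nat.ble (nat_lit 6715) i)) (Nat.ble (nat_lit 6714) i))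
noncomputable def t6697_6716 (i : ℕ) : ℕ := (@Bool.rec (fun _ => ℕ) (@Bool.rec (fun _ => ℕ) (@Bool.rec (fun _ => ℕ) (t6697_6699 i) (t6699_6701 i) (Nat.ble (nat_lit 6699) i)) (@Bool.rec (fun _ => ℕ) (t6701_6703 i) (t6703_6706 i) (Nat.ble (nat_lit 6703) i)) (Nat.ble (nat_lit 6701) i)) (@Bool.rec (fun _ => ℕ) (@Bool.rec (fun _ => ℕ) (t6706_6708 i) (t6708_6711 i) (Nat.ble (nat_lit 6708) i)) (@Bool.rec (fun _ => ℕ) (t6711_6713 i) (t6713_6716 i) (Nat.ble (nat_lit 6713) i)) (Nat.ble (nat_lit 6711) i)) (Nat.ble (nat_lit 6706) i))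
noncomputable def t6716_6718 (i : ℕ) : ℕ := (@Bool.rec (fun _ => ℕ) l6716 l6717 (Nat.ble (nat_lit 6717) i))
noncomputable def t6718_6720 (i : ℕ) : ℕ := (@Bool.rec (fun _ => ℕ) l6718 l6719 (Nat.ble (nat_lit 6719) i))
noncomputable def t6720_6722 (i : ℕ) : ℕ := (@Bool.rec (fun _ => ℕ) l6720 l6721 (Nat.ble (nat_lit 6721) i))
noncomputable def t6722_6725 (i : ℕ) : ℕ := (@Bool.rec (fun _ => ℕ) l6722 (@Bool.rec (fun _ => ℕ) l6723 l6724 (Nat.ble (nat_lit 6724) i)) (Nat.ble (nat_lit 6723) i))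
noncomputable def t6725_6727 (i : ℕ) : ℕ := (@Bool.rec (fun _ => ℕ) l6725 l6726 (Nat.ble (nat_lit 6726) i))
noncomputable def t6727_6730 (i : ℕ) : ℕ := (@Bool.rec (fun _ => ℕ) l6727 (@Bool.rec (fun _ => ℕ) l6728 l6729 (Nat.ble (nat_lit 6729) i)) (Nat.ble (nat_lit 6728) i))
noncomputable def t6730_6732 (i : ℕ) : ℕ := (@Bool.rec (fun _ => ℕ) l6730 l6731 (Nat.ble (nat_lit 6731) i))
noncomputable def t6732_6735 (i : ℕ) : ℕ := (@Bool.rec (fun _ => ℕ) l6732 (@Bool.rec (fun _ => ℕ) l6733 l6734 (Nat.ble (nat_lit 6734) i)) (Nat.ble (nat_lit 6733) i))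
noncomputable def t6716_6735 (i : ℕ) : ℕ := (@Bool.rec (fun _ => ℕ) (@Bool.rec (fun _ => ℕ) (@Bool.rec (fun _ => ℕ) (t6716_6718 i) (t6718_6720 i) (Nat.ble (nat_lit 6718) i)) (@Bool.rec (fun _ => ℕ) (t6720_6722 i) (t6722_6725 i) (Nat.ble (nat_lit 6722) i)) (Nat.ble (nat_lit 6720) i)) (@Bool.rec (fun _ => ℕ) (@Bool.rec (fun _ => ℕ) (t6725_6727 i) (t6727_6730 i) (Nat.ble (nat_lit 6727) i)) (@Bool.rec (fun _ => ℕ) (t6730_6732 i) (t6732_6735 i) (Nat.ble (nat_lit 6732) i)) (Nat.ble (nat_lit 6730) i)) (Nat.ble (nat_lit 6725) i))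
noncomputable def t6735_6737 (i : ℕ) : ℕ := (@Bool.rec (fun _ => ℕ) l6735 l6736 (Nat.ble (nat_lit 6736) i))
noncomputable def t6737_6739 (i : ℕ) : ℕ := (@Bool.rec (fun _ => ℕ) l6737 l6738 (Nat.ble (nat_lit 6738) i))
noncomputable def t6739_6741 (i : ℕ) : ℕ := (@Bool.rec (fun _ => ℕ) l6739 l6740 (Nat.ble (nat_lit 6740) i))
noncomputable def t6741_6744 (i : ℕ) : ℕ := (@Bool.rec (fun _ => ℕ) l6741 (@Bool.rec (fun _ => ℕ) l6742 l6743 (Nat.ble (nat_lit 6743) i)) (Nat.ble (nat_lit 6742) i))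
noncomputable def t6744_6746 (i : ℕ) : ℕ := (@Bool.rec (fun _ => ℕ) l6744 l6745 (Nat.ble (nat_lit 6745) i))
noncomputable def t6746_6749 (i : ℕ) : ℕ := (@Bool.rec (fun _ => ℕ) l6746 (@Bool.rec (fun _ => ℕ) l6747 l6748 (Nat.ble (nat_lit 6748) i)) (Nat.ble (nat_lit 6747) i))
noncomputable def t6749_6751 (i : ℕ) : ℕ := (@Bool.rec (fun _ => ℕ) l6749 l6750 (Nat.ble (nat_lit 6750) i))
noncomputable def t6751_6754 (i : ℕ) : ℕ := (@Bool.rec (fun _ => ℕ) l6751 (@Bool.rec (fun _ => ℕ) l6752 l6753 (Nat.ble (nat_lit 6753) i)) (Nat.ble (nat_lit 6752) i))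
noncomputable def t6735_6754 (i : ℕ) : ℕ := (@Bool.rec (fun _ => ℕ) (@Bool.rec (fun _ => ℕ) (@Bool.rec (fun _ => ℕ) (t6735_6737 i) (t6737_6739 i) (Nat.ble (nat_lit 6737) i)) (@Bool.rec (fun _ => ℕ) (t6739_6741 i) (t6741_6744 i) (Nat.ble (nat_lit 6741) i)) (Nat.ble (nat_lit 6739) i)) (@Bool.rec (fun _ => ℕ) (@Bool.rec (fun _ => ℕ) (t6744_6746 i) (t6746_6749 i) (Nat.ble (nat_lit 6746) i)) (@Bool.rec (fun _ => ℕ) (t6749_6751 i) (t6751_6754 i) (Nat.ble (nat_lit 6751) i)) (Nat.ble (nat_lit 6749) i)) (Nat.ble (nat_lit 6744) i))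
noncomputable def t6604_6754 (i : ℕ) : ℕ := (@Bool.rec (fun _ => ℕ) (@Bool.rec (fun _ => ℕ) (@Bool.rec (fun _ => ℕ) (t6604_6622 i) (t6622_6641 i) (Nat.ble (nat_lit 6622) i)) (@Bool.rec (fun _ => ℕ) (t6641_6660 i) (t6660_6679 i) (Nat.ble (nat_lit 6660) i)) (Nat.ble (nat_lit 6641) i)) (@Bool.rec (fun _ => ℕ) (@Bool.rec (fun _ => ℕ) (t6679_6697 i) (t6697_6716 i) (Nat.ble (nat_lit 6697) i)) (@Bool.rec (fun _ => ℕ) (t6716_6735 i) (t6735_6754 i) (Nat.ble (nat_lit 6735) i)) (Nat.ble (nat_lit 6716) i)) (Nat.ble (nat_lit 6679) i))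
noncomputable def t6754_6756 (i : ℕ) : ℕ := (@Bool.rec (fun _ => ℕ) l6754 l6755 (Nat.ble (nat_lit 6755) i))
noncomputable def t6756_6758 (i : ℕ) : ℕ := (@Bool.rec (fun _ => ℕ) l6756 l6757 (Nat.ble (nat_lit 6757) i))
noncomputable def t6758_6760 (i : ℕ) : ℕ := (@Bool.rec (fun _ => ℕ) l6758 l6759 (Nat.ble (nat_lit 6759) i))
noncomputable def t6760_6763 (i : ℕ) : ℕ := (@Bool.rec (fun _ => ℕ) l6760 (@Bool.rec (fun _ => ℕ) l6761 l6762 (Nat.ble (nat_lit 6762) i)) (Nat.ble (nat_lit 6761) i))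
noncomputable def t6763_6765 (i : ℕ) : ℕ := (@Bool.rec (fun _ => ℕ) l6763 l6764 (Nat.ble (nat_lit 6764) i))
noncomputable def t6765_6767 (i : ℕ) : ℕ := (@Bool.rec (fun _ => ℕ) l6765 l6766 (Nat.ble (nat_lit 6766) i))
noncomputable def t6767_6769 (i : ℕ) : ℕ := (@Bool.rec (fun _ => ℕ) l6767 l6768 (Nat.ble (nat_lit 6768) i))
noncomputable def t6769_6772 (i : ℕ) : ℕ := (@Bool.rec (fun _ => ℕ) l6769 (@Bool.rec (fun _ => ℕ) l6770 l6771 (Nat.ble (nat_lit 6771) i)) (Nat.ble (nat_lit 6770) i))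
noncomputable def t6754_6772 (i : ℕ) : ℕ := (@Bool.rec (fun _ => ℕ) (@Bool.rec (fun _ => ℕ) (@Bool.rec (fun _ => ℕ) (t6754_6756 i) (t6756_6758 i) (Nat.ble (nat_lit 6756) i)) (@Bool.rec (fun _ => ℕ) (t6758_6760 i) (t6760_6763 i) (Nat.ble (nat_lit 6760) i)) (Nat.ble (nat_lit 6758) i)) (@Bool.rec (fun _ => ℕ) (@Bool.rec (fun _ => ℕ) (t6763_6765 i) (t6765_6767 i) (Nat.ble (nat_lit 6765) i)) (@Bool.rec (fun _ => ℕ) (t6767_6769 i) (t6769_6772 i) (Nat.ble (nat_lit 6769) i)) (Nat.ble (nat_lit 6767) i)) (Nat.ble (nat_lit 6763) i))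
noncomputable def t6772_6774 (i : ℕ) : ℕ := (@Bool.rec (fun _ => ℕ) l6772 l6773 (Nat.ble (nat_lit 6773) i))
noncomputable def t6774_6776 (i : ℕ) : ℕ := (@Bool.rec (fun _ => ℕ) l6774 l6775 (Nat.ble (nat_lit 6775) i))
noncomputable def t6776_6778 (i : ℕ) : ℕ := (@Bool.rec (fun _ => ℕ) l6776 l6777 (Nat.ble (nat_lit 6777) i))
noncomputable def t6778_6781 (i : ℕ) : ℕ := (@Bool.rec (fun _ => ℕ) l6778 (@Bool.rec (fun _ => ℕ) l6779 l6780 (Nat.ble (nat_lit 6780) i)) (Nat.ble (nat_lit 6779) i))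
noncomputable def t6781_6783 (i : ℕ) : ℕ := (@Bool.rec (fun _ => ℕ) l6781 l6782 (Nat.ble (nat_lit 6782) i))
noncomputable def t6783_6786 (i : ℕ) : ℕ := (@Bool.rec (fun _ => ℕ) l6783 (@Bool.rec (fun _ => ℕ) l6784 l6785 (Nat.ble (nat_lit 6785) i)) (Nat.ble (nat_lit 6784) i))
noncomputable def t6786_6788 (i : ℕ) : ℕ := (@Bool.rec (fun _ => ℕ) l6786 l6787 (Nat.ble (nat_lit 6787) i))
noncomputable def t6788_6791 (i : ℕ) : ℕ := (@Bool.rec (fun _ => ℕ) l6788 (@Bool.rec (fun _ => ℕ) l6789 l6790 (Nat.ble (nat_lit 6790) i)) (Nat.ble (nat_lit 6789) i))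
noncomputable def t6772_6791 (i : ℕ) : ℕ := (@Bool.rec (fun _ => ℕ) (@Bool.rec (fun _ => ℕ) (@Bool.rec (fun _ => ℕ) (t6772_6774 i) (t6774_6776 i) (Nat.ble (nat_lit 6774) i)) (@Bool.rec (fun _ => ℕ) (t6776_6778 i) (t6778_6781 i) (Nat.ble (nat_lit 6778) i)) (Nat.ble (nat_lit 6776) i)) (@Bool.rec (fun _ => ℕ) (@Bool.rec (fun _ => ℕ) (t6781_6783 i) (t6783_6786 i) (Nat.ble (nat_lit 6783) i)) (@Bool.rec (fun _ => ℕ) (t6786_6788 i) (t6788_6791 i) (Nat.ble (nat_lit 6788) i)) (Nat.ble (nat_lit 6786) i)) (Nat.ble (nat_lit 6781) i))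
noncomputable def t6791_6793 (i : ℕ) : ℕ := (@Bool.rec (fun _ => ℕ) l6791 l6792 (Nat.ble (nat_lit 6792) i))
noncomputable def t6793_6795 (i : ℕ) : ℕ := (@Bool.rec (fun _ => ℕ) l6793 l6794 (Nat.ble (nat_lit 6794) i))
noncomputable def t6795_6797 (i : ℕ) : ℕ := (@Bool.rec (fun _ => ℕ) l6795 l6796 (Nat.ble (nat_lit 6796) i))
noncomputable def t6797_6800 (i : ℕ) : ℕ := (@Bool.rec (fun _ => ℕ) l6797 (@Bool.rec (fun _ => ℕ) l6798 l6799 (Nat.ble (nat_lit 6799) i)) (Nat.ble (nat_lit 6798) i))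
noncomputable def t6800_6802 (i : ℕ) : ℕ := (@Bool.rec (fun _ => ℕ) l6800 l6801 (Nat.ble (nat_lit 6801) i))
noncomputable def t6802_6805 (i : ℕ) : ℕ := (@Bool.rec (fun _ => ℕ) l6802 (@Bool.rec (fun _ => ℕ) l6803 l6804 (Nat.ble (nat_lit 6804) i)) (Nat.ble (nat_lit 6803) i))
noncomputable def t6805_6807 (i : ℕ) : ℕ := (@Bool.rec (fun _ => ℕ) l6805 l6806 (Nat.ble (nat_lit 6806) i))
noncomputable def t6807_6810 (i : ℕ) : ℕ := (@Bool.rec (fun _ => ℕ) l6807 (@Bool.rec (fun _ => ℕ) l6808 l6809 (Nat.ble (nat_lit 6809) i)) (Nat.ble (nat_lit 6808) i))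
noncomputable def t6791_6810 (i : ℕ) : ℕ := (@Bool.rec (fun _ => ℕ) (@Bool.rec (fun _ => ℕ) (@Bool.rec (fun _ => ℕ) (t6791_6793 i) (t6793_6795 i) (Nat.ble (nat_lit 6793) i)) (@Bool.rec (fun _ => ℕ) (t6795_6797 i) (t6797_6800 i) (Nat.ble (nat_lit 6797) i)) (Nat.ble (nat_lit 6795) i)) (@Bool.rec (fun _ => ℕ) (@Bool.rec (fun _ => ℕ) (t6800_6802 i) (t6802_6805 i) (Nat.ble (nat_lit 6802) i)) (@Bool.rec (fun _ => ℕ) (t6805_6807 i) (t6807_6810 i) (Nat.ble (nat_lit 6807) i)) (Nat.ble (nat_lit 6805) i)) (Nat.ble (nat_lit 6800) i))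
noncomputable def t6810_6812 (i : ℕ) : ℕ := (@Bool.rec (fun _ => ℕ) l6810 l6811 (Nat.ble (nat_lit 6811) i))
noncomputable def t6812_6814 (i : ℕ) : ℕ := (@Bool.rec (fun _ => ℕ) l6812 l6813 (Nat.ble (nat_lit 6813) i))
noncomputable def t6814_6816 (i : ℕ) : ℕ := (@Bool.rec (fun _ => ℕ) l6814 l6815 (Nat.ble (nat_lit 6815) i))
noncomputable def t6816_6819 (i : ℕ) : ℕ := (@Bool.rec (fun _ => ℕ) l6816 (@Bool.rec (fun _ => ℕ) l6817 l6818 (Nat.ble (nat_lit 6818) i)) (Nat.ble (nat_lit 6817) i))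
noncomputable def t6819_6821 (i : ℕ) : ℕ := (@Bool.rec (fun _ => ℕ) l6819 l6820 (Nat.ble (nat_lit 6820) i))
noncomputable def t6821_6824 (i : ℕ) : ℕ := (@Bool.rec (fun _ => ℕ) l6821 (@Bool.rec (fun _ => ℕ) l6822 l6823 (Nat.ble (nat_lit 6823) i)) (Nat.ble (nat_lit 6822) i))
noncomputable def t6824_6826 (i : ℕ) : ℕ := (@Bool.rec (fun _ => ℕ) l6824 l6825 (Nat.ble (nat_lit 6825) i))
noncomputable def t6826_6829 (i : ℕ) : ℕ := (@Bool.rec (fun _ => ℕ) l6826 (@Bool.rec (fun _ => ℕ) l6827 l6828 (Nat.ble (nat_lit 6828) i)) (Nat.ble (nat_lit 6827) i))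
noncomputable def t6810_6829 (i : ℕ) : ℕ := (@Bool.rec (fun _ => ℕ) (@Bool.rec (fun _ => ℕ) (@Bool.rec (fun _ => ℕ) (t6810_6812 i) (t6812_6814 i) (Nat.ble (nat_lit 6812) i)) (@Bool.rec (fun _ => ℕ) (t6814_6816 i) (t6816_6819 i) (Nat.ble (nat_lit 6816) i)) (Nat.ble (nat_lit 6814) i)) (@Bool.rec (fun _ => ℕ) (@Bool.rec (fun _ => ℕ) (t6819_6821 i) (t6821_6824 i) (Nat.ble (nat_lit 6821) i)) (@Bool.rec (fun _ => ℕ) (t6824_6826 i) (t6826_6829 i) (Nat.ble (nat_lit 6826) i)) (Nat.ble (nat_lit 6824) i)) (Nat.ble (nat_lit 6819) i))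
noncomputable def t6829_6831 (i : ℕ) : ℕ := (@Bool.rec (fun _ => ℕ) l6829 l6830 (Nat.ble (nat_lit 6830) i))
noncomputable def t6831_6833 (i : ℕ) : ℕ := (@Bool.rec (fun _ => ℕ) l6831 l6832 (Nat.ble (nat_lit 6832) i))
noncomputable def t6833_6835 (i : ℕ) : ℕ := (@Bool.rec (fun _ => ℕ) l6833 l6834 (Nat.ble (nat_lit 6834) i))
noncomputable def t6835_6838 (i : ℕ) : ℕ := (@Bool.rec (fun _ => ℕ) l6835 (@Bool.rec (fun _ => ℕ) l6836 l6837 (Nat.ble (nat_lit 6837) i)) (Nat.ble (nat_lit 6836) i))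
noncomputable def t6838_6840 (i : ℕ) : ℕ := (@Bool.rec (fun _ => ℕ) l6838 l6839 (Nat.ble (nat_lit 6839) i))
noncomputable def t6840_6842 (i : ℕ) : ℕ := (@Bool.rec (fun _ => ℕ) l6840 l6841 (Nat.ble (nat_lit 6841) i))
noncomputable def t6842_6844 (i : ℕ) : ℕ := (@Bool.rec (fun _ => ℕ) l6842 l6843 (Nat.ble (nat_lit 6843) i))
noncomputable def t6844_6847 (i : ℕ) : ℕ := (@Bool.rec (fun _ => ℕ) l6844 (@Bool.rec (fun _ => ℕ) l6845 l6846 (Nat.ble (nat_lit 6846) i)) (Nat.ble (nat_lit 6845) i))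
noncomputable def t6829_6847 (i : ℕ) : ℕ := (@Bool.rec (fun _ => ℕ) (@Bool.rec (fun _ => ℕ) (@Bool.rec (fun _ => ℕ) (t6829_6831 i) (t6831_6833 i) (Nat.ble (nat_lit 6831) i)) (@Bool.rec (fun _ => ℕ) (t6833_6835 i) (t6835_6838 i) (Nat.ble (nat_lit 6835) i)) (Nat.ble (nat_lit 6833) i)) (@Bool.rec (fun _ => ℕ) (@Bool.rec (fun _ => ℕ) (t6838_6840 i) (t6840_6842 i) (Nat.ble (nat_lit 6840) i)) (@Bool.rec (fun _ => ℕ) (t6842_6844 i) (t6844_6847 i) (Nat.ble (nat_lit 6844) i)) (Nat.ble (nat_lit 6842) i)) (Nat.ble (nat_lit 6838) i))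
noncomputable def t6847_6849 (i : ℕ) : ℕ := (@Bool.rec (fun _ => ℕ) l6847 l6848 (Nat.ble (nat_lit 6848) i))
noncomputable def t6849_6851 (i : ℕ) : ℕ := (@Bool.rec (fun _ => ℕ) l6849 l6850 (Nat.ble (nat_lit 6850) i))
noncomputable def t6851_6853 (i : ℕ) : ℕ := (@Bool.rec (fun _ => ℕ) l6851 l6852 (Nat.ble (nat_lit 6852) i))
noncomputable def t6853_6856 (i : ℕ) : ℕ := (@Bool.rec (fun _ => ℕ) l6853 (@Bool.rec (fun _ => ℕ) l6854 l6855 (Nat.ble (nat_lit 6855) i)) (Nat.ble (nat_lit 6854) i))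
noncomputable def t6856_6858 (i : ℕ) : ℕ := (@Bool.rec (fun _ => ℕ) l6856 l6857 (Nat.ble (nat_lit 6857) i))
noncomputable def t6858_6861 (i : ℕ) : ℕ := (@Bool.rec (fun _ => ℕ) l6858 (@Bool.rec (fun _ => ℕ) l6859 l6860 (Nat.ble (nat_lit 6860) i)) (Nat.ble (nat_lit 6859) i))
noncomputable def t6861_6863 (i : ℕ) : ℕ := (@Bool.rec (fun _ => ℕ) l6861 l6862 (Nat.ble (nat_lit 6862) i))
noncomputable def t6863_6866 (i : ℕ) : ℕ := (@Bool.rec (fun _ => ℕ) l6863 (@Bool.rec (fun _ => ℕ) l6864 l6865 (Nat.ble (nat_lit 6865) i)) (Nat.ble (nat_lit 6864) i))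
noncomputable def t6847_6866 (i : ℕ) : ℕ := (@Bool.rec (fun _ => ℕ) (@Bool.rec (fun _ => ℕ) (@Bool.rec (fun _ => ℕ) (t6847_6849 i) (t6849_6851 i) (Nat.ble (nat_lit 6849) i)) (@Bool.rec (fun _ => ℕ) (t6851_6853 i) (t6853_6856 i) (Nat.ble (nat_lit 6853) i)) (Nat.ble (nat_lit 6851) i)) (@Bool.rec (fun _ => ℕ) (@Bool.rec (fun _ => ℕ) (t6856_6858 i) (t6858_6861 i) (Nat.ble (nat_lit 6858) i)) (@Bool.rec (fun _ => ℕ) (t6861_6863 i) (t6863_6866 i) (Nat.ble (nat_lit 6863) i)) (Nat.ble (nat_lit 6861) i)) (Nat.ble (nat_lit 6856) i))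
noncomputable def t6866_6868 (i : ℕ) : ℕ := (@Bool.rec (fun _ => ℕ) l6866 l6867 (Nat.ble (nat_lit 6867) i))
noncomputable def t6868_6870 (i : ℕ) : ℕ := (@Bool.rec (fun _ => ℕ) l6868 l6869 (Nat.ble (nat_lit 6869) i))
noncomputable def t6870_6872 (i : ℕ) : ℕ := (@Bool.rec (fun _ => ℕ) l6870 l6871 (Nat.ble (nat_lit 6871) i))
noncomputable def t6872_6875 (i : ℕ) : ℕ := (@Bool.rec (fun _ => ℕ) l6872 (@Bool.rec (fun _ => ℕ) l6873 l6874 (Nat.ble (nat_lit 6874) i)) (Nat.ble (nat_lit 6873) i))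
noncomputable def t6875_6877 (i : ℕ) : ℕ := (@Bool.rec (fun _ => ℕ) l6875 l6876 (Nat.ble (nat_lit 6876) i))
noncomputable def t6877_6880 (i : ℕ) : ℕ := (@Bool.rec (fun _ => ℕ) l6877 (@Bool.rec (fun _ => ℕ) l6878 l6879 (Nat.ble (nat_lit 6879) i)) (Nat.ble (nat_lit 6878) i))
noncomputable def t6880_6882 (i : ℕ) : ℕ := (@Bool.rec (fun _ => ℕ) l6880 l6881 (Nat.ble (nat_lit 6881) i))
noncomputable def t6882_6885 (i : ℕ) : ℕ := (@Bool.rec (fun _ => ℕ) l6882 (@Bool.rec (fun _ => ℕ) l6883 l6884 (Nat.ble (nat_lit 6884) i)) (Nat.ble (nat_lit 6883) i))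
noncomputable def t6866_6885 (i : ℕ) : ℕ := (@Bool.rec (fun _ => ℕ) (@Bool.rec (fun _ => ℕ) (@Bool.rec (fun _ => ℕ) (t6866_6868 i) (t6868_6870 i) (Nat.ble (nat_lit 6868) i)) (@Bool.rec (fun _ => ℕ) (t6870_6872 i) (t6872_6875 i) (Nat.ble (nat_lit 6872) i)) (Nat.ble (nat_lit 6870) i)) (@Bool.rec (fun _ => ℕ) (@Bool.rec (fun _ => ℕ) (t6875_6877 i) (t6877_6880 i) (Nat.ble (nat_lit 6877) i)) (@Bool.rec (fun _ => ℕ) (t6880_6882 i) (t6882_6885 i) (Nat.ble (nat_lit 6882) i)) (Nat.ble (nat_lit 6880) i)) (Nat.ble (nat_lit 6875) i))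
noncomputable def t6885_6887 (i : ℕ) : ℕ := (@Bool.rec (fun _ => ℕ) l6885 l6886 (Nat.ble (nat_lit 6886) i))
noncomputable def t6887_6889 (i : ℕ) : ℕ := (@Bool.rec (fun _ => ℕ) l6887 l6888 (Nat.ble (nat_lit 6888) i))
noncomputable def t6889_6891 (i : ℕ) : ℕ := (@Bool.rec (fun _ => ℕ) l6889 l6890 (Nat.ble (nat_lit 6890) i))
noncomputable def t6891_6894 (i : ℕ) : ℕ := (@Bool.rec (fun _ => ℕ) l6891 (@Bool.rec (fun _ => ℕ) l6892 l6893 (Nat.ble (nat_lit 6893) i)) (Nat.ble (nat_lit 6892) i))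
noncomputable def t6894_6896 (i : ℕ) : ℕ := (@Bool.rec (fun _ => ℕ) l6894 l6895 (Nat.ble (nat_lit 6895) i))
noncomputable def t6896_6899 (i : ℕ) : ℕ := (@Bool.rec (fun _ => ℕ) l6896 (@Bool.rec (fun _ => ℕ) l6897 l6898 (Nat.ble (nat_lit 6898) i)) (Nat.ble (nat_lit 6897) i))
noncomputable def t6899_6901 (i : ℕ) : ℕ := (@Bool.rec (fun _ => ℕ) l6899 l6900 (Nat.ble (nat_lit 6900) i))
noncomputable def t6901_6904 (i : ℕ) : ℕ := (@Bool.rec (fun _ => ℕ) l6901 (@Bool.rec (fun _ => ℕ) l6902 l6903 (Nat.ble (nat_lit 6903) i)) (Nat.ble (nat_lit 6902) i))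
noncomputable def t6885_6904 (i : ℕ) : ℕ := (@Bool.rec (fun _ => ℕ) (@Bool.rec (fun _ => ℕ) (@Bool.rec (fun _ => ℕ) (t6885_6887 i) (t6887_6889 i) (Nat.ble (nat_lit 6887) i)) (@Bool.rec (fun _ => ℕ) (t6889_6891 i) (t6891_6894 i) (Nat.ble (nat_lit 6891) i)) (Nat.ble (nat_lit 6889) i)) (@Bool.rec (fun _ => ℕ) (@Bool.rec (fun _ => ℕ) (t6894_6896 i) (t6896_6899 i) (Nat.ble (nat_lit 6896) i)) (@Bool.rec (fun _ => ℕ) (t6899_6901 i) (t6901_6904 i) (Nat.ble (nat_lit 6901) i)) (Nat.ble (nat_lit 6899) i)) (Nat.ble (nat_lit 6894) i))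
noncomputable def t6754_6904 (i : ℕ) : ℕ := (@Bool.rec (fun _ => ℕ) (@Bool.rec (fun _ => ℕ) (@Bool.rec (fun _ => ℕ) (t6754_6772 i) (t6772_6791 i) (Nat.ble (nat_lit 6772) i)) (@Bool.rec (fun _ => ℕ) (t6791_6810 i) (t6810_6829 i) (Nat.ble (nat_lit 6810) i)) (Nat.ble (nat_lit 6791) i)) (@Bool.rec (fun _ => ℕ) (@Bool.rec (fun _ => ℕ) (t6829_6847 i) (t6847_6866 i) (Nat.ble (nat_lit 6847) i)) (@Bool.rec (fun _ => ℕ) (t6866_6885 i) (t6885_6904 i) (Nat.ble (nat_lit 6885) i)) (Nat.ble (nat_lit 6866) i)) (Nat.ble (nat_lit 6829) i))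
noncomputable def t6904_6906 (i : ℕ) : ℕ := (@Bool.rec (fun _ => ℕ) l6904 l6905 (Nat.ble (nat_lit 6905) i))
noncomputable def t6906_6908 (i : ℕ) : ℕ := (@Bool.rec (fun _ => ℕ) l6906 l6907 (Nat.ble (nat_lit 6907) i))
noncomputable def t6908_6910 (i : ℕ) : ℕ := (@Bool.rec (fun _ => ℕ) l6908 l6909 (Nat.ble (nat_lit 6909) i))
noncomputable def t6910_6913 (i : ℕ) : ℕ := (@Bool.rec (fun _ => ℕ) l6910 (@Bool.rec (fun _ => ℕ) l6911 l6912 (Nat.ble (nat_lit 6912) i)) (Nat.ble (nat_lit 6911) i))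
noncomputable def t6913_6915 (i : ℕ) : ℕ := (@Bool.rec (fun _ => ℕ) l6913 l6914 (Nat.ble (nat_lit 6914) i))
noncomputable def t6915_6917 (i : ℕ) : ℕ := (@Bool.rec (fun _ => ℕ) l6915 l6916 (Nat.ble (nat_lit 6916) i))
noncomputable def t6917_6919 (i : ℕ) : ℕ := (@Bool.rec (fun _ => ℕ) l6917 l6918 (Nat.ble (nat_lit 6918) i))
noncomputable def t6919_6922 (i : ℕ) : ℕ := (@Bool.rec (fun _ => ℕ) l6919 (@Bool.rec (fun _ => ℕ) l6920 l6921 (Nat.ble (nat_lit 6921) i)) (Nat.ble (nat_lit 6920) i))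
noncomputable def t6904_6922 (i : ℕ) : ℕ := (@Bool.rec (fun _ => ℕ) (@Bool.rec (fun _ => ℕ) (@Bool.rec (fun _ => ℕ) (t6904_6906 i) (t6906_6908 i) (Nat.ble (nat_lit 6906) i)) (@Bool.rec (fun _ => ℕ) (t6908_6910 i) (t6910_6913 i) (Nat.ble (nat_lit 6910) i)) (Nat.ble (nat_lit 6908) i)) (@Bool.rec (fun _ => ℕ) (@Bool.rec (fun _ => ℕ) (t6913_6915 i) (t6915_6917 i) (Nat.ble (nat_lit 6915) i)) (@Bool.rec (fun _ => ℕ) (t6917_6919 i) (t6919_6922 i) (Nat.ble (nat_lit 6919) i)) (Nat.ble (nat_lit 6917) i)) (Nat.ble (nat_lit 6913) i))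
noncomputable def t6922_6924 (i : ℕ) : ℕ := (@Bool.rec (fun _ => ℕ) l6922 l6923 (Nat.ble (nat_lit 6923) i))
noncomputable def t6924_6926 (i : ℕ) : ℕ := (@Bool.rec (fun _ => ℕ) l6924 l6925 (Nat.ble (nat_lit 6925) i))
noncomputable def t6926_6928 (i : ℕ) : ℕ := (@Bool.rec (fun _ => ℕ) l6926 l6927 (Nat.ble (nat_lit 6927) i))
noncomputable def t6928_6931 (i : ℕ) : ℕ := (@Bool.rec (fun _ => ℕ) l6928 (@Bool.rec (fun _ => ℕ) l6929 l6930 (Nat.ble (nat_lit 6930) i)) (Nat.ble (nat_lit 6929) i))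
noncomputable def t6931_6933 (i : ℕ) : ℕ := (@Bool.rec (fun _ => ℕ) l6931 l6932 (Nat.ble (nat_lit 6932) i))
noncomputable def t6933_6936 (i : ℕ) : ℕ := (@Bool.rec (fun _ => ℕ) l6933 (@Bool.rec (fun _ => ℕ) l6934 l6935 (Nat.ble (nat_lit 6935) i)) (Nat.ble (nat_lit 6934) i))
noncomputable def t6936_6938 (i : ℕ) : ℕ := (@Bool.rec (fun _ => ℕ) l6936 l6937 (Nat.ble (nat_lit 6937) i))
noncomputable def t6938_6941 (i : ℕ) : ℕ := (@Bool.rec (fun _ => ℕ) l6938 (@Bool.rec (fun _ => ℕ) l6939 l6940 (Nat.ble (nat_lit 6940) i)) (Nat.ble (nat_lit 6939) i))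
noncomputable def t6922_6941 (i : ℕ) : ℕ := (@Bool.rec (fun _ => ℕ) (@Bool.rec (fun _ => ℕ) (@Bool.rec (fun _ => ℕ) (t6922_6924 i) (t6924_6926 i) (Nat.ble (nat_lit 6924) i)) (@Bool.rec (fun _ => ℕ) (t6926_6928 i) (t6928_6931 i) (Nat.ble (nat_lit 6928) i)) (Nat.ble (nat_lit 6926) i)) (@Bool.rec (fun _ => ℕ) (@Bool.rec (fun _ => ℕ) (t6931_6933 i) (t6933_6936 i) (Nat.ble (nat_lit 6933) i)) (@Bool.rec (fun _ => ℕ) (t6936_6938 i) (t6938_6941 i) (Nat.ble (nat_lit 6938) i)) (Nat.ble (nat_lit 6936) i)) (Nat.ble (nat_lit 6931) i))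
noncomputable def t6941_6943 (i : ℕ) : ℕ := (@Bool.rec (fun _ => ℕ) l6941 l6942 (Nat.ble (nat_lit 6942) i))
noncomputable def t6943_6945 (i : ℕ) : ℕ := (@Bool.rec (fun _ => ℕ) l6943 l6944 (Nat.ble (nat_lit 6944) i))
noncomputable def t6945_6947 (i : ℕ) : ℕ := (@Bool.rec (fun _ => ℕ) l6945 l6946 (Nat.ble (nat_lit 6946) i))
noncomputable def t6947_6950 (i : ℕ) : ℕ := (@Bool.rec (fun _ => ℕ) l6947 (@Bool.rec (fun _ => ℕ) l6948 l6949 (Nat.ble (nat_lit 6949) i)) (Nat.ble (nat_lit 6948) i))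
noncomputable def t6950_6952 (i : ℕ) : ℕ := (@Bool.rec (fun _ => ℕ) l6950 l6951 (Nat.ble (nat_lit 6951) i))
noncomputable def t6952_6955 (i : ℕ) : ℕ := (@Bool.rec (fun _ => ℕ) l6952 (@Bool.rec (fun _ => ℕ) l6953 l6954 (Nat.ble (nat_lit 6954) i)) (Nat.ble (nat_lit 6953) i))
noncomputable def t6955_6957 (i : ℕ) : ℕ := (@Bool.rec (fun _ => ℕ) l6955 l6956 (Nat.ble (nat_lit 6956) i))
noncomputable def t6957_6960 (i : ℕ) : ℕ := (@Bool.rec (fun _ => ℕ) l6957 (@Bool.rec (fun _ => ℕ) l6958 l6959 (Nat.ble (nat_lit 6959) i)) (Nat.ble (nat_lit 6958) i))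
noncomputable def t6941_6960 (i : ℕ) : ℕ := (@Bool.rec (fun _ => ℕ) (@Bool.rec (fun _ => ℕ) (@Bool.rec (fun _ => ℕ) (t6941_6943 i) (t6943_6945 i) (Nat.ble (nat_lit 6943) i)) (@Bool.rec (fun _ => ℕ) (t6945_6947 i) (t6947_6950 i) (Nat.ble (nat_lit 6947) i)) (Nat.ble (nat_lit 6945) i)) (@Bool.rec (fun _ => ℕ) (@Bool.rec (fun _ => ℕ) (t6950_6952 i) (t6952_6955 i) (Nat.ble (nat_lit 6952) i)) (@Bool.rec (fun _ => ℕ) (t6955_6957 i) (t6957_6960 i) (Nat.ble (nat_lit 6957) i)) (Nat.ble (nat_lit 6955) i)) (Nat.ble (nat_lit 6950) i))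
noncomputable def t6960_6962 (i : ℕ) : ℕ := (@Bool.rec (fun _ => ℕ) l6960 l6961 (Nat.ble (nat_lit 6961) i))
noncomputable def t6962_6964 (i : ℕ) : ℕ := (@Bool.rec (fun _ => ℕ) l6962 l6963 (Nat.ble (nat_lit 6963) i))
noncomputable def t6964_6966 (i : ℕ) : ℕ := (@Bool.rec (fun _ => ℕ) l6964 l6965 (Nat.ble (nat_lit 6965) i))
noncomputable def t6966_6969 (i : ℕ) : ℕ := (@Bool.rec (fun _ => ℕ) l6966 (@Bool.rec (fun _ => ℕ) l6967 l6968 (Nat.ble (nat_lit 6968) i)) (Nat.ble (nat_lit 6967) i))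
noncomputable def t6969_6971 (i : ℕ) : ℕ := (@Bool.rec (fun _ => ℕ) l6969 l6970 (Nat.ble (nat_lit 6970) i))
noncomputable def t6971_6974 (i : ℕ) : ℕ := (@Bool.rec (fun _ => ℕ) l6971 (@Bool.rec (fun _ => ℕ) l6972 l6973 (Nat.ble (nat_lit 6973) i)) (Nat.ble (nat_lit 6972) i))
noncomputable def t6974_6976 (i : ℕ) : ℕ := (@Bool.rec (fun _ => ℕ) l6974 l6975 (Nat.ble (nat_lit 6975) i))
noncomputable def t6976_6979 (i : ℕ) : ℕ := (@Bool.rec (fun _ => ℕ) l6976 (@Bool.rec (fun _ => ℕ) l6977 l6978 (Nat.ble (nat_lit 6978) i)) (Nat.ble (nat_lit 6977) i))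
noncomputable def t6960_6979 (i : ℕ) : ℕ := (@Bool.rec (fun _ => ℕ) (@Bool.rec (fun _ => ℕ) (@Bool.rec (fun _ => ℕ) (t6960_6962 i) (t6962_6964 i) (Nat.ble (nat_lit 6962) i)) (@Bool.rec (fun _ => ℕ) (t6964_6966 i) (t6966_6969 i) (Nat.ble (nat_lit 6966) i)) (Nat.ble (nat_lit 6964) i)) (@Bool.rec (fun _ => ℕ) (@Bool.rec (fun _ => ℕ) (t6969_6971 i) (t6971_6974 i) (Nat.ble (nat_lit 6971) i)) (@Bool.rec (fun _ => ℕ) (t6974_6976 i) (t6976_6979 i) (Nat.ble (nat_lit 6976) i)) (Nat.ble (nat_lit 6974) i)) (Nat.ble (nat_lit 6969) i))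
noncomputable def t6979_6981 (i : ℕ) : ℕ := (@Bool.rec (fun _ => ℕ) l6979 l6980 (Nat.ble (nat_lit 6980) i))
noncomputable def t6981_6983 (i : ℕ) : ℕ := (@Bool.rec (fun _ => ℕ) l6981 l6982 (Nat.ble (nat_lit 6982) i))
noncomputable def t6983_6985 (i : ℕ) : ℕ := (@Bool.rec (fun _ => ℕ) l6983 l6984 (Nat.ble (nat_lit 6984) i))
noncomputable def t6985_6988 (i : ℕ) : ℕ := (@Bool.rec (fun _ => ℕ) l6985 (@Bool.rec (fun _ => ℕ) l6986 l6987 (Nat.ble (nat_lit 6987) i)) (Nat.ble (nat_lit 6986) i))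
noncomputable def t6988_6990 (i : ℕ) : ℕ := (@Bool.rec (fun _ => ℕ) l6988 l6989 (Nat.ble (nat_lit 6989) i))
noncomputable def t6990_6992 (i : ℕ) : ℕ := (@Bool.rec (fun _ => ℕ) l6990 l6991 (Nat.ble (nat_lit 6991) i))
noncomputable def t6992_6994 (i : ℕ) : ℕ := (@Bool.rec (fun _ => ℕ) l6992 l6993 (Nat.ble (nat_lit 6993) i))
noncomputable def t6994_6997 (i : ℕ) : ℕ := (@Bool.rec (fun _ => ℕ) l6994 (@Bool.rec (fun _ => ℕ) l6995 l6996 (Nat.ble (nat_lit 6996) i)) (Nat.ble (nat_lit 6995) i))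
noncomputable def t6979_6997 (i : ℕ) : ℕ := (@Bool.rec (fun _ => ℕ) (@Bool.rec (fun _ => ℕ) (@Bool.rec (fun _ => ℕ) (t6979_6981 i) (t6981_6983 i) (Nat.ble (nat_lit 6981) i)) (@Bool.rec (fun _ => ℕ) (t6983_6985 i) (t6985_6988 i) (Nat.ble (nat_lit 6985) i)) (Nat.ble (nat_lit 6983) i)) (@Bool.rec (fun _ => ℕ) (@Bool.rec (fun _ => ℕ) (t6988_6990 i) (t6990_6992 i) (Nat.ble (nat_lit 6990) i)) (@Bool.rec (fun _ => ℕ) (t6992_6994 i) (t6994_6997 i) (Nat.ble (nat_lit 6994) i)) (Nat.ble (nat_lit 6992) i)) (Nat.ble (nat_lit 6988) i))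
noncomputable def t6997_6999 (i : ℕ) : ℕ := (@Bool.rec (fun _ => ℕ) l6997 l6998 (Nat.ble (nat_lit 6998) i))
noncomputable def t6999_7001 (i : ℕ) : ℕ := (@Bool.rec (fun _ => ℕ) l6999 l7000 (Nat.ble (nat_lit 7000) i))
noncomputable def t7001_7003 (i : ℕ) : ℕ := (@Bool.rec (fun _ => ℕ) l7001 l7002 (Nat.ble (nat_lit 7002) i))
noncomputable def t7003_7006 (i : ℕ) : ℕ := (@Bool.rec (fun _ => ℕ) l7003 (@Bool.rec (fun _ => ℕ) l7004 l7005 (Nat.ble (nat_lit 7005) i)) (Nat.ble (nat_lit 7004) i))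
noncomputable def t7006_7008 (i : ℕ) : ℕ := (@Bool.rec (fun _ => ℕ) l7006 l7007 (Nat.ble (nat_lit 7007) i))
noncomputable def t7008_7011 (i : ℕ) : ℕ := (@Bool.rec (fun _ => ℕ) l7008 (@Bool.rec (fun _ => ℕ) l7009 l7010 (Nat.ble (nat_lit 7010) i)) (Nat.ble (nat_lit 7009) i))
noncomputable def t7011_7013 (i : ℕ) : ℕ := (@Bool.rec (fun _ => ℕ) l7011 l7012 (Nat.ble (nat_lit 7012) i))
noncomputable def t7013_7016 (i : ℕ) : ℕ := (@Bool.rec (fun _ => ℕ) l7013 (@Bool.rec (fun _ => ℕ) l7014 l7015 (Nat.ble (nat_lit 7015) i)) (Nat.ble (nat_lit 7014) i))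
noncomputable def t6997_7016 (i : ℕ) : ℕ := (@Bool.rec (fun _ => ℕ) (@Bool.rec (fun _ => ℕ) (@Bool.rec (fun _ => ℕ) (t6997_6999 i) (t6999_7001 i) (Nat.ble (nat_lit 6999) i)) (@Bool.rec (fun _ => ℕ) (t7001_7003 i) (t7003_7006 i) (Nat.ble (nat_lit 7003) i)) (Nat.ble (nat_lit 7001) i)) (@Bool.rec (fun _ => ℕ) (@Bool.rec (fun _ => ℕ) (t7006_7008 i) (t7008_7011 i) (Nat.ble (nat_lit 7008) i)) (@Bool.rec (fun _ => ℕ) (t7011_7013 i) (t7013_7016 i) (Nat.ble (nat_lit 7013) i)) (Nat.ble (nat_lit 7011) i)) (Nat.ble (nat_lit 7006) i))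
noncomputable def t7016_7018 (i : ℕ) : ℕ := (@Bool.rec (fun _ => ℕ) l7016 l7017 (Nat.ble (nat_lit 7017) i))
noncomputable def t7018_7020 (i : ℕ) : ℕ := (@Bool.rec (fun _ => ℕ) l7018 l7019 (Nat.ble (nat_lit 7019) i))
noncomputable def t7020_7022 (i : ℕ) : ℕ := (@Bool.rec (fun _ => ℕ) l7020 l7021 (Nat.ble (nat_lit 7021) i))
noncomputable def t7022_7025 (i : ℕ) : ℕ := (@Bool.rec (fun _ => ℕ) l7022 (@Bool.rec (fun _ => ℕ) l7023 l7024 (Nat.ble (nat_lit 7024) i)) (Nat.ble (nat_lit 7023) i))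
noncomputable def t7025_7027 (i : ℕ) : ℕ := (@Bool.rec (fun _ => ℕ) l7025 l7026 (Nat.ble (nat_lit 7026) i))
noncomputable def t7027_7030 (i : ℕ) : ℕ := (@Bool.rec (fun _ => ℕ) l7027 (@Bool.rec (fun _ => ℕ) l7028 l7029 (Nat.ble (nat_lit 7029) i)) (Nat.ble (nat_lit 7028) i))
noncomputable def t7030_7032 (i : ℕ) : ℕ := (@Bool.rec (fun _ => ℕ) l7030 l7031 (Nat.ble (nat_lit 7031) i))
noncomputable def t7032_7035 (i : ℕ) : ℕ := (@Bool.rec (fun _ => ℕ) l7032 (@Bool.rec (fun _ => ℕ) l7033 l7034 (Nat.ble (nat_lit 7034) i)) (Nat.ble (nat_lit 7033) i))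
noncomputable def t7016_7035 (i : ℕ) : ℕ := (@Bool.rec (fun _ => ℕ) (@Bool.rec (fun _ => ℕ) (@Bool.rec (fun _ => ℕ) (t7016_7018 i) (t7018_7020 i) (Nat.ble (nat_lit 7018) i)) (@Bool.rec (fun _ => ℕ) (t7020_7022 i) (t7022_7025 i) (Nat.ble (nat_lit 7022) i)) (Nat.ble (nat_lit 7020) i)) (@Bool.rec (fun _ => ℕ) (@Bool.rec (fun _ => ℕ) (t7025_7027 i) (t7027_7030 i) (Nat.ble (nat_lit 7027) i)) (@Bool.rec (fun _ => ℕ) (t7030_7032 i) (t7032_7035 i) (Nat.ble (nat_lit 7032) i)) (Nat.ble (nat_lit 7030) i)) (Nat.ble (nat_lit 7025) i))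
noncomputable def t7035_7037 (i : ℕ) : ℕ := (@Bool.rec (fun _ => ℕ) l7035 l7036 (Nat.ble (nat_lit 7036) i))
noncomputable def t7037_7039 (i : ℕ) : ℕ := (@Bool.rec (fun _ => ℕ) l7037 l7038 (Nat.ble (nat_lit 7038) i))
noncomputable def t7039_7041 (i : ℕ) : ℕ := (@Bool.rec (fun _ => ℕ) l7039 l7040 (Nat.ble (nat_lit 7040) i))
noncomputable def t7041_7044 (i : ℕ) : ℕ := (@Bool.rec (fun _ => ℕ) l7041 (@Bool.rec (fun _ => ℕ) l7042 l7043 (Nat.ble (nat_lit 7043) i)) (Nat.ble (nat_lit 7042) i))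
noncomputable def t7044_7046 (i : ℕ) : ℕ := (@Bool.rec (fun _ => ℕ) l7044 l7045 (Nat.ble (nat_lit 7045) i))
noncomputable def t7046_7049 (i : ℕ) : ℕ := (@Bool.rec (fun _ => ℕ) l7046 (@Bool.rec (fun _ => ℕ) l7047 l7048 (Nat.ble (nat_lit 7048) i)) (Nat.ble (nat_lit 7047) i))
noncomputable def t7049_7051 (i : ℕ) : ℕ := (@Bool.rec (fun _ => ℕ) l7049 l7050 (Nat.ble (nat_lit 7050) i))
noncomputable def t7051_7054 (i : ℕ) : ℕ := (@Bool.rec (fun _ => ℕ) l7051 (@Bool.rec (fun _ => ℕ) l7052 l7053 (Nat.ble (nat_lit 7053) i)) (Nat.ble (nat_lit 7052) i))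
noncomputable def t7035_7054 (i : ℕ) : ℕ := (@Bool.rec (fun _ => ℕ) (@Bool.rec (fun _ => ℕ) (@Bool.rec (fun _ => ℕ) (t7035_7037 i) (t7037_7039 i) (Nat.ble (nat_lit 7037) i)) (@Bool.rec (fun _ => ℕ) (t7039_7041 i) (t7041_7044 i) (Nat.ble (nat_lit 7041) i)) (Nat.ble (nat_lit 7039) i)) (@Bool.rec (fun _ => ℕ) (@Bool.rec (fun _ => ℕ) (t7044_7046 i) (t7046_7049 i) (Nat.ble (nat_lit 7046) i)) (@Bool.rec (fun _ => ℕ) (t7049_7051 i) (t7051_7054 i) (Nat.ble (nat_lit 7051) i)) (Nat.ble (nat_lit 7049) i)) (Nat.ble (nat_lit 7044) i))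
noncomputable def t6904_7054 (i : ℕ) : ℕ := (@Bool.rec (fun _ => ℕ) (@Bool.rec (fun _ => ℕ) (@Bool.rec (fun _ => ℕ) (t6904_6922 i) (t6922_6941 i) (Nat.ble (nat_lit 6922) i)) (@Bool.rec (fun _ => ℕ) (t6941_6960 i) (t6960_6979 i) (Nat.ble (nat_lit 6960) i)) (Nat.ble (nat_lit 6941) i)) (@Bool.rec (fun _ => ℕ) (@Bool.rec (fun _ => ℕ) (t6979_6997 i) (t6997_7016 i) (Nat.ble (nat_lit 6997) i)) (@Bool.rec (fun _ => ℕ) (t7016_7035 i) (t7035_7054 i) (Nat.ble (nat_lit 7035) i)) (Nat.ble (nat_lit 7016) i)) (Nat.ble (nat_lit 6979) i))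
noncomputable def t7054_7056 (i : ℕ) : ℕ := (@Bool.rec (fun _ => ℕ) l7054 l7055 (Nat.ble (nat_lit 7055) i))
noncomputable def t7056_7058 (i : ℕ) : ℕ := (@Bool.rec (fun _ => ℕ) l7056 l7057 (Nat.ble (nat_lit 7057) i))
noncomputable def t7058_7060 (i : ℕ) : ℕ := (@Bool.rec (fun _ => ℕ) l7058 l7059 (Nat.ble (nat_lit 7059) i))
noncomputable def t7060_7063 (i : ℕ) : ℕ := (@Bool.rec (fun _ => ℕ) l7060 (@Bool.rec (fun _ => ℕ) l7061 l7062 (Nat.ble (nat_lit 7062) i)) (Nat.ble (nat_lit 7061) i))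
noncomputable def t7063_7065 (i : ℕ) : ℕ := (@Bool.rec (fun _ => ℕ) l7063 l7064 (Nat.ble (nat_lit 7064) i))
noncomputable def t7065_7067 (i : ℕ) : ℕ := (@Bool.rec (fun _ => ℕ) l7065 l7066 (Nat.ble (nat_lit 7066) i))
noncomputable def t7067_7069 (i : ℕ) : ℕ := (@Bool.rec (fun _ => ℕ) l7067 l7068 (Nat.ble (nat_lit 7068) i))
noncomputable def t7069_7072 (i : ℕ) : ℕ := (@Bool.rec (fun _ => ℕ) l7069 (@Bool.rec (fun _ => ℕ) l7070 l7071 (Nat.ble (nat_lit 7071) i)) (Nat.ble (nat_lit 7070) i))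
noncomputable def t7054_7072 (i : ℕ) : ℕ := (@Bool.rec (fun _ => ℕ) (@Bool.rec (fun _ => ℕ) (@Bool.rec (fun _ => ℕ) (t7054_7056 i) (t7056_7058 i) (Nat.ble (nat_lit 7056) i)) (@Bool.rec (fun _ => ℕ) (t7058_7060 i) (t7060_7063 i) (Nat.ble (nat_lit 7060) i)) (Nat.ble (nat_lit 7058) i)) (@Bool.rec (fun _ => ℕ) (@Bool.rec (fun _ => ℕ) (t7063_7065 i) (t7065_7067 i) (Nat.ble (nat_lit 7065) i)) (@Bool.rec (fun _ => ℕ) (t7067_7069 i) (t7069_7072 i) (Nat.ble (nat_lit 7069) i)) (Nat.ble (nat_lit 7067) i)) (Nat.ble (nat_lit 7063) i))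
noncomputable def t7072_7074 (i : ℕ) : ℕ := (@Bool.rec (fun _ => ℕ) l7072 l7073 (Nat.ble (nat_lit 7073) i))
noncomputable def t7074_7076 (i : ℕ) : ℕ := (@Bool.rec (fun _ => ℕ) l7074 l7075 (Nat.ble (nat_lit 7075) i))
noncomputable def t7076_7078 (i : ℕ) : ℕ := (@Bool.rec (fun _ => ℕ) l7076 l7077 (Nat.ble (nat_lit 7077) i))
noncomputable def t7078_7081 (i : ℕ) : ℕ := (@Bool.rec (fun _ => ℕ) l7078 (@Bool.rec (fun _ => ℕ) l7079 l7080 (Nat.ble (nat_lit 7080) i)) (Nat.ble (nat_lit 7079) i))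
noncomputable def t7081_7083 (i : ℕ) : ℕ := (@Bool.rec (fun _ => ℕ) l7081 l7082 (Nat.ble (nat_lit 7082) i))
noncomputable def t7083_7086 (i : ℕ) : ℕ := (@Bool.rec (fun _ => ℕ) l7083 (@Bool.rec (fun _ => ℕ) l7084 l7085 (Nat.ble (nat_lit 7085) i)) (Nat.ble (nat_lit 7084) i))
noncomputable def t7086_7088 (i : ℕ) : ℕ := (@Bool.rec (fun _ => ℕ) l7086 l7087 (Nat.ble (nat_lit 7087) i))
noncomputable def t7088_7091 (i : ℕ) : ℕ := (@Bool.rec (fun _ => ℕ) l7088 (@Bool.rec (fun _ => ℕ) l7089 l7090 (Nat.ble (nat_lit 7090) i)) (Nat.ble (nat_lit 7089) i))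
noncomputable def t7072_7091 (i : ℕ) : ℕ := (@Bool.rec (fun _ => ℕ) (@Bool.rec (fun _ => ℕ) (@Bool.rec (fun _ => ℕ) (t7072_7074 i) (t7074_7076 i) (Nat.ble (nat_lit 7074) i)) (@Bool.rec (fun _ => ℕ) (t7076_7078 i) (t7078_7081 i) (Nat.ble (nat_lit 7078) i)) (Nat.ble (nat_lit 7076) i)) (@Bool.rec (fun _ => ℕ) (@Bool.rec (fun _ => ℕ) (t7081_7083 i) (t7083_7086 i) (Nat.ble (nat_lit 7083) i)) (@Bool.rec (fun _ => ℕ) (t7086_7088 i) (t7088_7091 i) (Nat.ble (nat_lit 7088) i)) (Nat.ble (nat_lit 7086) i)) (Nat.ble (nat_lit 7081) i))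
noncomputable def t7091_7093 (i : ℕ) : ℕ := (@Bool.rec (fun _ => ℕ) l7091 l7092 (Nat.ble (nat_lit 7092) i))
noncomputable def t7093_7095 (i : ℕ) : ℕ := (@Bool.rec (fun _ => ℕ) l7093 l7094 (Nat.ble (nat_lit 7094) i))
noncomputable def t7095_7097 (i : ℕ) : ℕ := (@Bool.rec (fun _ => ℕ) l7095 l7096 (Nat.ble (nat_lit 7096) i))
noncomputable def t7097_7100 (i : ℕ) : ℕ := (@Bool.rec (fun _ => ℕ) l7097 (@Bool.rec (fun _ => ℕ) l7098 l7099 (Nat.ble (nat_lit 7099) i)) (Nat.ble (nat_lit 7098) i))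
noncomputable def t7100_7102 (i : ℕ) : ℕ := (@Bool.rec (fun _ => ℕ) l7100 l7101 (Nat.ble (nat_lit 7101) i))
noncomputable def t7102_7105 (i : ℕ) : ℕ := (@Bool.rec (fun _ => ℕ) l7102 (@Bool.rec (fun _ => ℕ) l7103 l7104 (Nat.ble (nat_lit 7104) i)) (Nat.ble (nat_lit 7103) i))
noncomputable def t7105_7107 (i : ℕ) : ℕ := (@Bool.rec (fun _ => ℕ) l7105 l7106 (Nat.ble (nat_lit 7106) i))
noncomputable def t7107_7110 (i : ℕ) : ℕ := (@Bool.rec (fun _ => ℕ) l7107 (@Bool.rec (fun _ => ℕ) l7108 l7109 (Nat.ble (nat_lit 7109) i)) (Nat.ble (nat_lit 7108) i))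
noncomputable def t7091_7110 (i : ℕ) : ℕ := (@Bool.rec (fun _ => ℕ) (@Bool.rec (fun _ => ℕ) (@Bool.rec (fun _ => ℕ) (t7091_7093 i) (t7093_7095 i) (Nat.ble (nat_lit 7093) i)) (@Bool.rec (fun _ => ℕ) (t7095_7097 i) (t7097_7100 i) (Nat.ble (nat_lit 7097) i)) (Nat.ble (nat_lit 7095) i)) (@Bool.rec (fun _ => ℕ) (@Bool.rec (fun _ => ℕ) (t7100_7102 i) (t7102_7105 i) (Nat.ble (nat_lit 7102) i)) (@Bool.rec (fun _ => ℕ) (t7105_7107 i) (t7107_7110 i) (Nat.ble (nat_lit 7107) i)) (Nat.ble (nat_lit 7105) i)) (Nat.ble (nat_lit 7100) i))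
noncomputable def t7110_7112 (i : ℕ) : ℕ := (@Bool.rec (fun _ => ℕ) l7110 l7111 (Nat.ble (nat_lit 7111) i))
noncomputable def t7112_7114 (i : ℕ) : ℕ := (@Bool.rec (fun _ => ℕ) l7112 l7113 (Nat.ble (nat_lit 7113) i))
noncomputable def t7114_7116 (i : ℕ) : ℕ := (@Bool.rec (fun _ => ℕ) l7114 l7115 (Nat.ble (nat_lit 7115) i))
noncomputable def t7116_7119 (i : ℕ) : ℕ := (@Bool.rec (fun _ => ℕ) l7116 (@Bool.rec (fun _ => ℕ) l7117 l7118 (Nat.ble (nat_lit 7118) i)) (Nat.ble (nat_lit 7117) i))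
noncomputable def t7119_7121 (i : ℕ) : ℕ := (@Bool.rec (fun _ => ℕ) l7119 l7120 (Nat.ble (nat_lit 7120) i))
noncomputable def t7121_7124 (i : ℕ) : ℕ := (@Bool.rec (fun _ => ℕ) l7121 (@Bool.rec (fun _ => ℕ) l7122 l7123 (Nat.ble (nat_lit 7123) i)) (Nat.ble (nat_lit 7122) i))
noncomputable def t7124_7126 (i : ℕ) : ℕ := (@Bool.rec (fun _ => ℕ) l7124 l7125 (Nat.ble (nat_lit 7125) i))
noncomputable def t7126_7129 (i : ℕ) : ℕ := (@Bool.rec (fun _ => ℕ) l7126 (@Bool.rec (fun _ => ℕ) l7127 l7128 (Nat.ble (nat_lit 7128) i)) (Nat.ble (nat_lit 7127) i))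
noncomputable def t7110_7129 (i : ℕ) : ℕ := (@Bool.rec (fun _ => ℕ) (@Bool.rec (fun _ => ℕ) (@Bool.rec (fun _ => ℕ) (t7110_7112 i) (t7112_7114 i) (Nat.ble (nat_lit 7112) i)) (@Bool.rec (fun _ => ℕ) (t7114_7116 i) (t7116_7119 i) (Nat.ble (nat_lit 7116) i)) (Nat.ble (nat_lit 7114) i)) (@Bool.rec (fun _ => ℕ) (@Bool.rec (fun _ => ℕ) (t7119_7121 i) (t7121_7124 i) (Nat.ble (nat_lit 7121) i)) (@Bool.rec (fun _ => ℕ) (t7124_7126 i) (t7126_7129 i) (Nat.ble (nat_lit 7126) i)) (Nat.ble (nat_lit 7124) i)) (Nat.ble (nat_lit 7119) i))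
noncomputable def t7129_7131 (i : ℕ) : ℕ := (@Bool.rec (fun _ => ℕ) l7129 l7130 (Nat.ble (nat_lit 7130) i))
noncomputable def t7131_7133 (i : ℕ) : ℕ := (@Bool.rec (fun _ => ℕ) l7131 l7132 (Nat.ble (nat_lit 7132) i))
noncomputable def t7133_7135 (i : ℕ) : ℕ := (@Bool.rec (fun _ => ℕ) l7133 l7134 (Nat.ble (nat_lit 7134) i))
noncomputable def t7135_7138 (i : ℕ) : ℕ := (@Bool.rec (fun _ => ℕ) l7135 (@Bool.rec (fun _ => ℕ) l7136 l7137 (Nat.ble (nat_lit 7137) i)) (Nat.ble (nat_lit 7136) i))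
noncomputable def t7138_7140 (i : ℕ) : ℕ := (@Bool.rec (fun _ => ℕ) l7138 l7139 (Nat.ble (nat_lit 7139) i))
noncomputable def t7140_7143 (i : ℕ) : ℕ := (@Bool.rec (fun _ => ℕ) l7140 (@Bool.rec (fun _ => ℕ) l7141 l7142 (Nat.ble (nat_lit 7142) i)) (Nat.ble (nat_lit 7141) i))
noncomputable def t7143_7145 (i : ℕ) : ℕ := (@Bool.rec (fun _ => ℕ) l7143 l7144 (Nat.ble (nat_lit 7144) i))
noncomputable def t7145_7148 (i : ℕ) : ℕ := (@Bool.rec (fun _ => ℕ) l7145 (@Bool.rec (fun _ => ℕ) l7146 l7147 (Nat.ble (nat_lit 7147) i)) (Nat.ble (nat_lit 7146) i))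
noncomputable def t7129_7148 (i : ℕ) : ℕ := (@Bool.rec (fun _ => ℕ) (@Bool.rec (fun _ => ℕ) (@Bool.rec (fun _ => ℕ) (t7129_7131 i) (t7131_7133 i) (Nat.ble (nat_lit 7131) i)) (@Bool.rec (fun _ => ℕ) (t7133_7135 i) (t7135_7138 i) (Nat.ble (nat_lit 7135) i)) (Nat.ble (nat_lit 7133) i)) (@Bool.rec (fun _ => ℕ) (@Bool.rec (fun _ => ℕ) (t7138_7140 i) (t7140_7143 i) (Nat.ble (nat_lit 7140) i)) (@Bool.rec (fun _ => ℕ) (t7143_7145 i) (t7145_7148 i) (Nat.ble (nat_lit 7145) i)) (Nat.ble (nat_lit 7143) i)) (Nat.ble (nat_lit 7138) i))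
noncomputable def t7148_7150 (i : ℕ) : ℕ := (@Bool.rec (fun _ => ℕ) l7148 l7149 (Nat.ble (nat_lit 7149) i))
noncomputable def t7150_7152 (i : ℕ) : ℕ := (@Bool.rec (fun _ => ℕ) l7150 l7151 (Nat.ble (nat_lit 7151) i))
noncomputable def t7152_7154 (i : ℕ) : ℕ := (@Bool.rec (fun _ => ℕ) l7152 l7153 (Nat.ble (nat_lit 7153) i))
noncomputable def t7154_7157 (i : ℕ) : ℕ := (@Bool.rec (fun _ => ℕ) l7154 (@Bool.rec (fun _ => ℕ) l7155 l7156 (Nat.ble (nat_lit 7156) i)) (Nat.ble (nat_lit 7155) i))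
noncomputable def t7157_7159 (i : ℕ) : ℕ := (@Bool.rec (fun _ => ℕ) l7157 l7158 (Nat.ble (nat_lit 7158) i))
noncomputable def t7159_7162 (i : ℕ) : ℕ := (@Bool.rec (fun _ => ℕ) l7159 (@Bool.rec (fun _ => ℕ) l7160 l7161 (Nat.ble (nat_lit 7161) i)) (Nat.ble (nat_lit 7160) i))
noncomputable def t7162_7164 (i : ℕ) : ℕ := (@Bool.rec (fun _ => ℕ) l7162 l7163 (Nat.ble (nat_lit 7163) i))
noncomputable def t7164_7167 (i : ℕ) : ℕ := (@Bool.rec (fun _ => ℕ) l7164 (@Bool.rec (fun _ => ℕ) l7165 l7166 (Nat.ble (nat_lit 7166) i)) (Nat.ble (nat_lit 7165) i))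
noncomputable def t7148_7167 (i : ℕ) : ℕ := (@Bool.rec (fun _ => ℕ) (@Bool.rec (fun _ => ℕ) (@Bool.rec (fun _ => ℕ) (t7148_7150 i) (t7150_7152 i) (Nat.ble (nat_lit 7150) i)) (@Bool.rec (fun _ => ℕ) (t7152_7154 i) (t7154_7157 i) (Nat.ble (nat_lit 7154) i)) (Nat.ble (nat_lit 7152) i)) (@Bool.rec (fun _ => ℕ) (@Bool.rec (fun _ => ℕ) (t7157_7159 i) (t7159_7162 i) (Nat.ble (nat_lit 7159) i)) (@Bool.rec (fun _ => ℕ) (t7162_7164 i) (t7164_7167 i) (Nat.ble (nat_lit 7164) i)) (Nat.ble (nat_lit 7162) i)) (Nat.ble (nat_lit 7157) i))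
noncomputable def t7167_7169 (i : ℕ) : ℕ := (@Bool.rec (fun _ => ℕ) l7167 l7168 (Nat.ble (nat_lit 7168) i))
noncomputable def t7169_7171 (i : ℕ) : ℕ := (@Bool.rec (fun _ => ℕ) l7169 l7170 (Nat.ble (nat_lit 7170) i))
noncomputable def t7171_7173 (i : ℕ) : ℕ := (@Bool.rec (fun _ => ℕ) l7171 l7172 (Nat.ble (nat_lit 7172) i))
noncomputable def t7173_7176 (i : ℕ) : ℕ := (@Bool.rec (fun _ => ℕ) l7173 (@Bool.rec (fun _ => ℕ) l7174 l7175 (Nat.ble (nat_lit 7175) i)) (Nat.ble (nat_lit 7174) i))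
noncomputable def t7176_7178 (i : ℕ) : ℕ := (@Bool.rec (fun _ => ℕ) l7176 l7177 (Nat.ble (nat_lit 7177) i))
noncomputable def t7178_7181 (i : ℕ) : ℕ := (@Bool.rec (fun _ => ℕ) l7178 (@Bool.rec (fun _ => ℕ) l7179 l7180 (Nat.ble (nat_lit 7180) i)) (Nat.ble (nat_lit 7179) i))
noncomputable def t7181_7183 (i : ℕ) : ℕ := (@Bool.rec (fun _ => ℕ) l7181 l7182 (Nat.ble (nat_lit 7182) i))
noncomputable def t7183_7186 (i : ℕ) : ℕ := (@Bool.rec (fun _ => ℕ) l7183 (@Bool.rec (fun _ => ℕ) l7184 l7185 (Nat.ble (nat_lit 7185) i)) (Nat.ble (nat_lit 7184) i))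
noncomputable def t7167_7186 (i : ℕ) : ℕ := (@Bool.rec (fun _ => ℕ) (@Bool.rec (fun _ => ℕ) (@Bool.rec (fun _ => ℕ) (t7167_7169 i) (t7169_7171 i) (Nat.ble (nat_lit 7169) i)) (@Bool.rec (fun _ => ℕ) (t7171_7173 i) (t7173_7176 i) (Nat.ble (nat_lit 7173) i)) (Nat.ble (nat_lit 7171) i)) (@Bool.rec (fun _ => ℕ) (@Bool.rec (fun _ => ℕ) (t7176_7178 i) (t7178_7181 i) (Nat.ble (nat_lit 7178) i)) (@Bool.rec (fun _ => ℕ) (t7181_7183 i) (t7183_7186 i) (Nat.ble (nat_lit 7183) i)) (Nat.ble (nat_lit 7181) i)) (Nat.ble (nat_lit 7176) i))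
noncomputable def t7186_7188 (i : ℕ) : ℕ := (@Bool.rec (fun _ => ℕ) l7186 l7187 (Nat.ble (nat_lit 7187) i))
noncomputable def t7188_7190 (i : ℕ) : ℕ := (@Bool.rec (fun _ => ℕ) l7188 l7189 (Nat.ble (nat_lit 7189) i))
noncomputable def t7190_7192 (i : ℕ) : ℕ := (@Bool.rec (fun _ => ℕ) l7190 l7191 (Nat.ble (nat_lit 7191) i))
noncomputable def t7192_7195 (i : ℕ) : ℕ := (@Bool.rec (fun _ => ℕ) l7192 (@Bool.rec (fun _ => ℕ) l7193 l7194 (Nat.ble (nat_lit 7194) i)) (Nat.ble (nat_lit 7193) i))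
noncomputable def t7195_7197 (i : ℕ) : ℕ := (@Bool.rec (fun _ => ℕ) l7195 l7196 (Nat.ble (nat_lit 7196) i))
noncomputable def t7197_7200 (i : ℕ) : ℕ := (@Bool.rec (fun _ => ℕ) l7197 (@Bool.rec (fun _ => ℕ) l7198 l7199 (Nat.ble (nat_lit 7199) i)) (Nat.ble (nat_lit 7198) i))
noncomputable def t7200_7202 (i : ℕ) : ℕ := (@Bool.rec (fun _ => ℕ) l7200 l7201 (Nat.ble (nat_lit 7201) i))
noncomputable def t7202_7205 (i : ℕ) : ℕ := (@Bool.rec (fun _ => ℕ) l7202 (@Bool.rec (fun _ => ℕ) l7203 l7204 (Nat.ble (nat_lit 7204) i)) (Nat.ble (nat_lit 7203) i))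
noncomputable def t7186_7205 (i : ℕ) : ℕ := (@Bool.rec (fun _ => ℕ) (@Bool.rec (fun _ => ℕ) (@Bool.rec (fun _ => ℕ) (t7186_7188 i) (t7188_7190 i) (Nat.ble (nat_lit 7188) i)) (@Bool.rec (fun _ => ℕ) (t7190_7192 i) (t7192_7195 i) (Nat.ble (nat_lit 7192) i)) (Nat.ble (nat_lit 7190) i)) (@Bool.rec (fun _ => ℕ) (@Bool.rec (fun _ => ℕ) (t7195_7197 i) (t7197_7200 i) (Nat.ble (nat_lit 7197) i)) (@Bool.rec (fun _ => ℕ) (t7200_7202 i) (t7202_7205 i) (Nat.ble (nat_lit 7202) i)) (Nat.ble (nat_lit 7200) i)) (Nat.ble (nat_lit 7195) i))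
noncomputable def t7054_7205 (i : ℕ) : ℕ := (@Bool.rec (fun _ => ℕ) (@Bool.rec (fun _ => ℕ) (@Bool.rec (fun _ => ℕ) (t7054_7072 i) (t7072_7091 i) (Nat.ble (nat_lit 7072) i)) (@Bool.rec (fun _ => ℕ) (t7091_7110 i) (t7110_7129 i) (Nat.ble (nat_lit 7110) i)) (Nat.ble (nat_lit 7091) i)) (@Bool.rec (fun _ => ℕ) (@Bool.rec (fun _ => ℕ) (t7129_7148 i) (t7148_7167 i) (Nat.ble (nat_lit 7148) i)) (@Bool.rec (fun _ => ℕ) (t7167_7186 i) (t7186_7205 i) (Nat.ble (nat_lit 7186) i)) (Nat.ble (nat_lit 7167) i)) (Nat.ble (nat_lit 7129) i))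
noncomputable def t6004_7205 (i : ℕ) : ℕ := (@Bool.rec (fun _ => ℕ) (@Bool.rec (fun _ => ℕ) (@Bool.rec (fun _ => ℕ) (t6004_6154 i) (t6154_6304 i) (Nat.ble (nat_lit 6154) i)) (@Bool.rec (fun _ => ℕ) (t6304_6454 i) (t6454_6604 i) (Nat.ble (nat_lit 6454) i)) (Nat.ble (nat_lit 6304) i)) (@Bool.rec (fun _ => ℕ) (@Bool.rec (fun _ => ℕ) (t6604_6754 i) (t6754_6904 i) (Nat.ble (nat_lit 6754) i)) (@Bool.rec (fun _ => ℕ) (t6904_7054 i) (t7054_7205 i) (Nat.ble (nat_lit 7054) i)) (Nat.ble (nat_lit 6904) i)) (Nat.ble (nat_lit 6604) i))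
noncomputable def t7205_7207 (i : ℕ) : ℕ := (@Bool.rec (fun _ => ℕ) l7205 l7206 (Nat.ble (nat_lit 7206) i))
noncomputable def t7207_7209 (i : ℕ) : ℕ := (@Bool.rec (fun _ => ℕ) l7207 l7208 (Nat.ble (nat_lit 7208) i))
noncomputable def t7209_7211 (i : ℕ) : ℕ := (@Bool.rec (fun _ => ℕ) l7209 l7210 (Nat.ble (nat_lit 7210) i))
noncomputable def t7211_7214 (i : ℕ) : ℕ := (@Bool.rec (fun _ => ℕ) l7211 (@Bool.rec (fun _ => ℕ) l7212 l7213 (Nat.ble (nat_lit 7213) i)) (Nat.ble (nat_lit 7212) i))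
noncomputable def t7214_7216 (i : ℕ) : ℕ := (@Bool.rec (fun _ => ℕ) l7214 l7215 (Nat.ble (nat_lit 7215) i))
noncomputable def t7216_7218 (i : ℕ) : ℕ := (@Bool.rec (fun _ => ℕ) l7216 l7217 (Nat.ble (nat_lit 7217) i))
noncomputable def t7218_7220 (i : ℕ) : ℕ := (@Bool.rec (fun _ => ℕ) l7218 l7219 (Nat.ble (nat_lit 7219) i))
noncomputable def t7220_7223 (i : ℕ) : ℕ := (@Bool.rec (fun _ => ℕ) l7220 (@Bool.rec (fun _ => ℕ) l7221 l7222 (Nat.ble (nat_lit 7222) i)) (Nat.ble (nat_lit 7221) i))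
noncomputable def t7205_7223 (i : ℕ) : ℕ := (@Bool.rec (fun _ => ℕ) (@Bool.rec (fun _ => ℕ) (@Bool.rec (fun _ => ℕ) (t7205_7207 i) (t7207_7209 i) (Nat.ble (nat_lit 7207) i)) (@Bool.rec (fun _ => ℕ) (t7209_7211 i) (t7211_7214 i) (Nat.ble (nat_lit 7211) i)) (Nat.ble (nat_lit 7209) i)) (@Bool.rec (fun _ => ℕ) (@Bool.rec (fun _ => ℕ) (t7214_7216 i) (t7216_7218 i) (Nat.ble (nat_lit 7216) i)) (@Bool.rec (fun _ => ℕ) (t7218_7220 i) (t7220_7223 i) (Nat.ble (nat_lit 7220) i)) (Nat.ble (nat_lit 7218) i)) (Nat.ble (nat_lit 7214) i))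
noncomputable def t7223_7225 (i : ℕ) : ℕ := (@Bool.rec (fun _ => ℕ) l7223 l7224 (Nat.ble (nat_lit 7224) i))
noncomputable def t7225_7227 (i : ℕ) : ℕ := (@Bool.rec (fun _ => ℕ) l7225 l7226 (Nat.ble (nat_lit 7226) i))
noncomputable def t7227_7229 (i : ℕ) : ℕ := (@Bool.rec (fun _ => ℕ) l7227 l7228 (Nat.ble (nat_lit 7228) i))
noncomputable def t7229_7232 (i : ℕ) : ℕ := (@Bool.rec (fun _ => ℕ) l7229 (@Bool.rec (fun _ => ℕ) l7230 l7231 (Nat.ble (nat_lit 7231) i)) (Nat.ble (nat_lit 7230) i))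
noncomputable def t7232_7234 (i : ℕ) : ℕ := (@Bool.rec (fun _ => ℕ) l7232 l7233 (Nat.ble (nat_lit 7233) i))
noncomputable def t7234_7237 (i : ℕ) : ℕ := (@Bool.rec (fun _ => ℕ) l7234 (@Bool.rec (fun _ => ℕ) l7235 l7236 (Nat.ble (nat_lit 7236) i)) (Nat.ble (nat_lit 7235) i))
noncomputable def t7237_7239 (i : ℕ) : ℕ := (@Bool.rec (fun _ => ℕ) l7237 l7238 (Nat.ble (nat_lit 7238) i))
noncomputable def t7239_7242 (i : ℕ) : ℕ := (@Bool.rec (fun _ => ℕ) l7239 (@Bool.rec (fun _ => ℕ) l7240 l7241 (Nat.ble (nat_lit 7241) i)) (Nat.ble (nat_lit 7240) i))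
noncomputable def t7223_7242 (i : ℕ) : ℕ := (@Bool.rec (fun _ => ℕ) (@Bool.rec (fun _ => ℕ) (@Bool.rec (fun _ => ℕ) (t7223_7225 i) (t7225_7227 i) (Nat.ble (nat_lit 7225) i)) (@Bool.rec (fun _ => ℕ) (t7227_7229 i) (t7229_7232 i) (Nat.ble (nat_lit 7229) i)) (Nat.ble (nat_lit 7227) i)) (@Bool.rec (fun _ => ℕ) (@Bool.rec (fun _ => ℕ) (t7232_7234 i) (t7234_7237 i) (Nat.ble (nat_lit 7234) i)) (@Bool.rec (fun _ => ℕ) (t7237_7239 i) (t7239_7242 i) (Nat.ble (nat_lit 7239) i)) (Nat.ble (nat_lit 7237) i)) (Nat.ble (nat_lit 7232) i))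
noncomputable def t7242_7244 (i : ℕ) : ℕ := (@Bool.rec (fun _ => ℕ) l7242 l7243 (Nat.ble (nat_lit 7243) i))
noncomputable def t7244_7246 (i : ℕ) : ℕ := (@Bool.rec (fun _ => ℕ) l7244 l7245 (Nat.ble (nat_lit 7245) i))
noncomputable def t7246_7248 (i : ℕ) : ℕ := (@Bool.rec (fun _ => ℕ) l7246 l7247 (Nat.ble (nat_lit 7247) i))
noncomputable def t7248_7251 (i : ℕ) : ℕ := (@Bool.rec (fun _ => ℕ) l7248 (@Bool.rec (fun _ => ℕ) l7249 l7250 (Nat.ble (nat_lit 7250) i)) (Nat.ble (nat_lit 7249) i))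
noncomputable def t7251_7253 (i : ℕ) : ℕ := (@Bool.rec (fun _ => ℕ) l7251 l7252 (Nat.ble (nat_lit 7252) i))
noncomputable def t7253_7256 (i : ℕ) : ℕ := (@Bool.rec (fun _ => ℕ) l7253 (@Bool.rec (fun _ => ℕ) l7254 l7255 (Nat.ble (nat_lit 7255) i)) (Nat.ble (nat_lit 7254) i))
noncomputable def t7256_7258 (i : ℕ) : ℕ := (@Bool.rec (fun _ => ℕ) l7256 l7257 (Nat.ble (nat_lit 7257) i))
noncomputable def t7258_7261 (i : ℕ) : ℕ := (@Bool.rec (fun _ => ℕ) l7258 (@Bool.rec (fun _ => ℕ) l7259 l7260 (Nat.ble (nat_lit 7260) i)) (Nat.ble (nat_lit 7259) i))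
noncomputable def t7242_7261 (i : ℕ) : ℕ := (@Bool.rec (fun _ => ℕ) (@Bool.rec (fun _ => ℕ) (@Bool.rec (fun _ => ℕ) (t7242_7244 i) (t7244_7246 i) (Nat.ble (nat_lit 7244) i)) (@Bool.rec (fun _ => ℕ) (t7246_7248 i) (t7248_7251 i) (Nat.ble (nat_lit 7248) i)) (Nat.ble (nat_lit 7246) i)) (@Bool.rec (fun _ => ℕ) (@Bool.rec (fun _ => ℕ) (t7251_7253 i) (t7253_7256 i) (Nat.ble (nat_lit 7253) i)) (@Bool.rec (fun _ => ℕ) (t7256_7258 i) (t7258_7261 i) (Nat.ble (nat_lit 7258) i)) (Nat.ble (nat_lit 7256) i)) (Nat.ble (nat_lit 7251) i))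
noncomputable def t7261_7263 (i : ℕ) : ℕ := (@Bool.rec (fun _ => ℕ) l7261 l7262 (Nat.ble (nat_lit 7262) i))
noncomputable def t7263_7265 (i : ℕ) : ℕ := (@Bool.rec (fun _ => ℕ) l7263 l7264 (Nat.ble (nat_lit 7264) i))
noncomputable def t7265_7267 (i : ℕ) : ℕ := (@Bool.rec (fun _ => ℕ) l7265 l7266 (Nat.ble (nat_lit 7266) i))
noncomputable def t7267_7270 (i : ℕ) : ℕ := (@Bool.rec (fun _ => ℕ) l7267 (@Bool.rec (fun _ => ℕ) l7268 l7269 (Nat.ble (nat_lit 7269) i)) (Nat.ble (nat_lit 7268) i))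
noncomputable def t7270_7272 (i : ℕ) : ℕ := (@Bool.rec (fun _ => ℕ) l7270 l7271 (Nat.ble (nat_lit 7271) i))
noncomputable def t7272_7275 (i : ℕ) : ℕ := (@Bool.rec (fun _ => ℕ) l7272 (@Bool.rec (fun _ => ℕ) l7273 l7274 (Nat.ble (nat_lit 7274) i)) (Nat.ble (nat_lit 7273) i))
noncomputable def t7275_7277 (i : ℕ) : ℕ := (@Bool.rec (fun _ => ℕ) l7275 l7276 (Nat.ble (nat_lit 7276) i))
noncomputable def t7277_7280 (i : ℕ) : ℕ := (@Bool.rec (fun _ => ℕ) l7277 (@Bool.rec (fun _ => ℕ) l7278 l7279 (Nat.ble (nat_lit 7279) i)) (Nat.ble (nat_lit 7278) i))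
noncomputable def t7261_7280 (i : ℕ) : ℕ := (@Bool.rec (fun _ => ℕ) (@Bool.rec (fun _ => ℕ) (@Bool.rec (fun _ => ℕ) (t7261_7263 i) (t7263_7265 i) (Nat.ble (nat_lit 7263) i)) (@Bool.rec (fun _ => ℕ) (t7265_7267 i) (t7267_7270 i) (Nat.ble (nat_lit 7267) i)) (Nat.ble (nat_lit 7265) i)) (@Bool.rec (fun _ => ℕ) (@Bool.rec (fun _ => ℕ) (t7270_7272 i) (t7272_7275 i) (Nat.ble (nat_lit 7272) i)) (@Bool.rec (fun _ => ℕ) (t7275_7277 i) (t7277_7280 i) (Nat.ble (nat_lit 7277) i)) (Nat.ble (nat_lit 7275) i)) (Nat.ble (nat_lit 7270) i))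
noncomputable def t7280_7282 (i : ℕ) : ℕ := (@Bool.rec (fun _ => ℕ) l7280 l7281 (Nat.ble (nat_lit 7281) i))
noncomputable def t7282_7284 (i : ℕ) : ℕ := (@Bool.rec (fun _ => ℕ) l7282 l7283 (Nat.ble (nat_lit 7283) i))
noncomputable def t7284_7286 (i : ℕ) : ℕ := (@Bool.rec (fun _ => ℕ) l7284 l7285 (Nat.ble (nat_lit 7285) i))
noncomputable def t7286_7289 (i : ℕ) : ℕ := (@Bool.rec (fun _ => ℕ) l7286 (@Bool.rec (fun _ => ℕ) l7287 l7288 (Nat.ble (nat_lit 7288) i)) (Nat.ble (nat_lit 7287) i))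
noncomputable def t7289_7291 (i : ℕ) : ℕ := (@Bool.rec (fun _ => ℕ) l7289 l7290 (Nat.ble (nat_lit 7290) i))
noncomputable def t7291_7293 (i : ℕ) : ℕ := (@Bool.rec (fun _ => ℕ) l7291 l7292 (Nat.ble (nat_lit 7292) i))
noncomputable def t7293_7295 (i : ℕ) : ℕ := (@Bool.rec (fun _ => ℕ) l7293 l7294 (Nat.ble (nat_lit 7294) i))
noncomputable def t7295_7298 (i : ℕ) : ℕ := (@Bool.rec (fun _ => ℕ) l7295 (@Bool.rec (fun _ => ℕ) l7296 l7297 (Nat.ble (nat_lit 7297) i)) (Nat.ble (nat_lit 7296) i))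
noncomputable def t7280_7298 (i : ℕ) : ℕ := (@Bool.rec (fun _ => ℕ) (@Bool.rec (fun _ => ℕ) (@Bool.rec (fun _ => ℕ) (t7280_7282 i) (t7282_7284 i) (Nat.ble (nat_lit 7282) i)) (@Bool.rec (fun _ => ℕ) (t7284_7286 i) (t7286_7289 i) (Nat.ble (nat_lit 7286) i)) (Nat.ble (nat_lit 7284) i)) (@Bool.rec (fun _ => ℕ) (@Bool.rec (fun _ => ℕ) (t7289_7291 i) (t7291_7293 i) (Nat.ble (nat_lit 7291) i)) (@Bool.rec (fun _ => ℕ) (t7293_7295 i) (t7295_7298 i) (Nat.ble (nat_lit 7295) i)) (Nat.ble (nat_lit 7293) i)) (Nat.ble (nat_lit 7289) i))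
noncomputable def t7298_7300 (i : ℕ) : ℕ := (@Bool.rec (fun _ => ℕ) l7298 l7299 (Nat.ble (nat_lit 7299) i))
noncomputable def t7300_7302 (i : ℕ) : ℕ := (@Bool.rec (fun _ => ℕ) l7300 l7301 (Nat.ble (nat_lit 7301) i))
noncomputable def t7302_7304 (i : ℕ) : ℕ := (@Bool.rec (fun _ => ℕ) l7302 l7303 (Nat.ble (nat_lit 7303) i))
noncomputable def t7304_7307 (i : ℕ) : ℕ := (@Bool.rec (fun _ => ℕ) l7304 (@Bool.rec (fun _ => ℕ) l7305 l7306 (Nat.ble (nat_lit 7306) i)) (Nat.ble (nat_lit 7305) i))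
noncomputable def t7307_7309 (i : ℕ) : ℕ := (@Bool.rec (fun _ => ℕ) l7307 l7308 (Nat.ble (nat_lit 7308) i))
noncomputable def t7309_7312 (i : ℕ) : ℕ := (@Bool.rec (fun _ => ℕ) l7309 (@Bool.rec (fun _ => ℕ) l7310 l7311 (Nat.ble (nat_lit 7311) i)) (Nat.ble (nat_lit 7310) i))
noncomputable def t7312_7314 (i : ℕ) : ℕ := (@Bool.rec (fun _ => ℕ) l7312 l7313 (Nat.ble (nat_lit 7313) i))
noncomputable def t7314_7317 (i : ℕ) : ℕ := (@Bool.rec (fun _ => ℕ) l7314 (@Bool.rec (fun _ => ℕ) l7315 l7316 (Nat.ble (nat_lit 7316) i)) (Nat.ble (nat_lit 7315) i))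
noncomputable def t7298_7317 (i : ℕ) : ℕ := (@Bool.rec (fun _ => ℕ) (@Bool.rec (fun _ => ℕ) (@Bool.rec (fun _ => ℕ) (t7298_7300 i) (t7300_7302 i) (Nat.ble (nat_lit 7300) i)) (@Bool.rec (fun _ => ℕ) (t7302_7304 i) (t7304_7307 i) (Nat.ble (nat_lit 7304) i)) (Nat.ble (nat_lit 7302) i)) (@Bool.rec (fun _ => ℕ) (@Bool.rec (fun _ => ℕ) (t7307_7309 i) (t7309_7312 i) (Nat.ble (nat_lit 7309) i)) (@Bool.rec (fun _ => ℕ) (t7312_7314 i) (t7314_7317 i) (Nat.ble (nat_lit 7314) i)) (Nat.ble (nat_lit 7312) i)) (Nat.ble (nat_lit 7307) i))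
noncomputable def t7317_7319 (i : ℕ) : ℕ := (@Bool.rec (fun _ => ℕ) l7317 l7318 (Nat.ble (nat_lit 7318) i))
noncomputable def t7319_7321 (i : ℕ) : ℕ := (@Bool.rec (fun _ => ℕ) l7319 l7320 (Nat.ble (nat_lit 7320) i))
noncomputable def t7321_7323 (i : ℕ) : ℕ := (@Bool.rec (fun _ => ℕ) l7321 l7322 (Nat.ble (nat_lit 7322) i))
noncomputable def t7323_7326 (i : ℕ) : ℕ := (@Bool.rec (fun _ => ℕ) l7323 (@Bool.rec (fun _ => ℕ) l7324 l7325 (Nat.ble (nat_lit 7325) i)) (Nat.ble (nat_lit 7324) i))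
noncomputable def t7326_7328 (i : ℕ) : ℕ := (@Bool.rec (fun _ => ℕ) l7326 l7327 (Nat.ble (nat_lit 7327) i))
noncomputable def t7328_7331 (i : ℕ) : ℕ := (@Bool.rec (fun _ => ℕ) l7328 (@Bool.rec (fun _ => ℕ) l7329 l7330 (Nat.ble (nat_lit 7330) i)) (Nat.ble (nat_lit 7329) i))
noncomputable def t7331_7333 (i : ℕ) : ℕ := (@Bool.rec (fun _ => ℕ) l7331 l7332 (Nat.ble (nat_lit 7332) i))
noncomputable def t7333_7336 (i : ℕ) : ℕ := (@Bool.rec (fun _ => ℕ) l7333 (@Bool.rec (fun _ => ℕ) l7334 l7335 (Nat.ble (nat_lit 7335) i)) (Nat.ble (nat_lit 7334) i))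
noncomputable def t7317_7336 (i : ℕ) : ℕ := (@Bool.rec (fun _ => ℕ) (@Bool.rec (fun _ => ℕ) (@Bool.rec (fun _ => ℕ) (t7317_7319 i) (t7319_7321 i) (Nat.ble (nat_lit 7319) i)) (@Bool.rec (fun _ => ℕ) (t7321_7323 i) (t7323_7326 i) (Nat.ble (nat_lit 7323) i)) (Nat.ble (nat_lit 7321) i)) (@Bool.rec (fun _ => ℕ) (@Bool.rec (fun _ => ℕ) (t7326_7328 i) (t7328_7331 i) (Nat.ble (nat_lit 7328) i)) (@Bool.rec (fun _ => ℕ) (t7331_7333 i) (t7333_7336 i) (Nat.ble (nat_lit 7333) i)) (Nat.ble (nat_lit 7331) i)) (Nat.ble (nat_lit 7326) i))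
noncomputable def t7336_7338 (i : ℕ) : ℕ := (@Bool.rec (fun _ => ℕ) l7336 l7337 (Nat.ble (nat_lit 7337) i))
noncomputable def t7338_7340 (i : ℕ) : ℕ := (@Bool.rec (fun _ => ℕ) l7338 l7339 (Nat.ble (nat_lit 7339) i))
noncomputable def t7340_7342 (i : ℕ) : ℕ := (@Bool.rec (fun _ => ℕ) l7340 l7341 (Nat.ble (nat_lit 7341) i))
noncomputable def t7342_7345 (i : ℕ) : ℕ := (@Bool.rec (fun _ => ℕ) l7342 (@Bool.rec (fun _ => ℕ) l7343 l7344 (Nat.ble (nat_lit 7344) i)) (Nat.ble (nat_lit 7343) i))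
noncomputable def t7345_7347 (i : ℕ) : ℕ := (@Bool.rec (fun _ => ℕ) l7345 l7346 (Nat.ble (nat_lit 7346) i))
noncomputable def t7347_7350 (i : ℕ) : ℕ := (@Bool.rec (fun _ => ℕ) l7347 (@Bool.rec (fun _ => ℕ) l7348 l7349 (Nat.ble (nat_lit 7349) i)) (Nat.ble (nat_lit 7348) i))
noncomputable def t7350_7352 (i : ℕ) : ℕ := (@Bool.rec (fun _ => ℕ) l7350 l7351 (Nat.ble (nat_lit 7351) i))
noncomputable def t7352_7355 (i : ℕ) : ℕ := (@Bool.rec (fun _ => ℕ) l7352 (@Bool.rec (fun _ => ℕ) l7353 l7354 (Nat.ble (nat_lit 7354) i)) (Nat.ble (nat_lit 7353) i))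
noncomputable def t7336_7355 (i : ℕ) : ℕ := (@Bool.rec (fun _ => ℕ) (@Bool.rec (fun _ => ℕ) (@Bool.rec (fun _ => ℕ) (t7336_7338 i) (t7338_7340 i) (Nat.ble (nat_lit 7338) i)) (@Bool.rec (fun _ => ℕ) (t7340_7342 i) (t7342_7345 i) (Nat.ble (nat_lit 7342) i)) (Nat.ble (nat_lit 7340) i)) (@Bool.rec (fun _ => ℕ) (@Bool.rec (fun _ => ℕ) (t7345_7347 i) (t7347_7350 i) (Nat.ble (nat_lit 7347) i)) (@Bool.rec (fun _ => ℕ) (t7350_7352 i) (t7352_7355 i) (Nat.ble (nat_lit 7352) i)) (Nat.ble (nat_lit 7350) i)) (Nat.ble (nat_lit 7345) i))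
noncomputable def t7205_7355 (i : ℕ) : ℕ := (@Bool.rec (fun _ => ℕ) (@Bool.rec (fun _ => ℕ) (@Bool.rec (fun _ => ℕ) (t7205_7223 i) (t7223_7242 i) (Nat.ble (nat_lit 7223) i)) (@Bool.rec (fun _ => ℕ) (t7242_7261 i) (t7261_7280 i) (Nat.ble (nat_lit 7261) i)) (Nat.ble (nat_lit 7242) i)) (@Bool.rec (fun _ => ℕ) (@Bool.rec (fun _ => ℕ) (t7280_7298 i) (t7298_7317 i) (Nat.ble (nat_lit 7298) i)) (@Bool.rec (fun _ => ℕ) (t7317_7336 i) (t7336_7355 i) (Nat.ble (nat_lit 7336) i)) (Nat.ble (nat_lit 7317) i)) (Nat.ble (nat_lit 7280) i))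
noncomputable def t7355_7357 (i : ℕ) : ℕ := (@Bool.rec (fun _ => ℕ) l7355 l7356 (Nat.ble (nat_lit 7356) i))
noncomputable def t7357_7359 (i : ℕ) : ℕ := (@Bool.rec (fun _ => ℕ) l7357 l7358 (Nat.ble (nat_lit 7358) i))
noncomputable def t7359_7361 (i : ℕ) : ℕ := (@Bool.rec (fun _ => ℕ) l7359 l7360 (Nat.ble (nat_lit 7360) i))
noncomputable def t7361_7364 (i : ℕ) : ℕ := (@Bool.rec (fun _ => ℕ) l7361 (@Bool.rec (fun _ => ℕ) l7362 l7363 (Nat.ble (nat_lit 7363) i)) (Nat.ble (nat_lit 7362) i))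
noncomputable def t7364_7366 (i : ℕ) : ℕ := (@Bool.rec (fun _ => ℕ) l7364 l7365 (Nat.ble (nat_lit 7365) i))
noncomputable def t7366_7368 (i : ℕ) : ℕ := (@Bool.rec (fun _ => ℕ) l7366 l7367 (Nat.ble (nat_lit 7367) i))
noncomputable def t7368_7370 (i : ℕ) : ℕ := (@Bool.rec (fun _ => ℕ) l7368 l7369 (Nat.ble (nat_lit 7369) i))
noncomputable def t7370_7373 (i : ℕ) : ℕ := (@Bool.rec (fun _ => ℕ) l7370 (@Bool.rec (fun _ => ℕ) l7371 l7372 (Nat.ble (nat_lit 7372) i)) (Nat.ble (nat_lit 7371) i))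
noncomputable def t7355_7373 (i : ℕ) : ℕ := (@Bool.rec (fun _ => ℕ) (@Bool.rec (fun _ => ℕ) (@Bool.rec (fun _ => ℕ) (t7355_7357 i) (t7357_7359 i) (Nat.ble (nat_lit 7357) i)) (@Bool.rec (fun _ => ℕ) (t7359_7361 i) (t7361_7364 i) (Nat.ble (nat_lit 7361) i)) (Nat.ble (nat_lit 7359) i)) (@Bool.rec (fun _ => ℕ) (@Bool.rec (fun _ => ℕ) (t7364_7366 i) (t7366_7368 i) (Nat.ble (nat_lit 7366) i)) (@Bool.rec (fun _ => ℕ) (t7368_7370 i) (t7370_7373 i) (Nat.ble (nat_lit 7370) i)) (Nat.ble (nat_lit 7368) i)) (Nat.ble (nat_lit 7364) i))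
noncomputable def t7373_7375 (i : ℕ) : ℕ := (@Bool.rec (fun _ => ℕ) l7373 l7374 (Nat.ble (nat_lit 7374) i))
noncomputable def t7375_7377 (i : ℕ) : ℕ := (@Bool.rec (fun _ => ℕ) l7375 l7376 (Nat.ble (nat_lit 7376) i))
noncomputable def t7377_7379 (i : ℕ) : ℕ := (@Bool.rec (fun _ => ℕ) l7377 l7378 (Nat.ble (nat_lit 7378) i))
noncomputable def t7379_7382 (i : ℕ) : ℕ := (@Bool.rec (fun _ => ℕ) l7379 (@Bool.rec (fun _ => ℕ) l7380 l7381 (Nat.ble (nat_lit 7381) i)) (Nat.ble (nat_lit 7380) i))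
noncomputable def t7382_7384 (i : ℕ) : ℕ := (@Bool.rec (fun _ => ℕ) l7382 l7383 (Nat.ble (nat_lit 7383) i))
noncomputable def t7384_7387 (i : ℕ) : ℕ := (@Bool.rec (fun _ => ℕ) l7384 (@Bool.rec (fun _ => ℕ) l7385 l7386 (Nat.ble (nat_lit 7386) i)) (Nat.ble (nat_lit 7385) i))
noncomputable def t7387_7389 (i : ℕ) : ℕ := (@Bool.rec (fun _ => ℕ) l7387 l7388 (Nat.ble (nat_lit 7388) i))
noncomputable def t7389_7392 (i : ℕ) : ℕ := (@Bool.rec (fun _ => ℕ) l7389 (@Bool.rec (fun _ => ℕ) l7390 l7391 (Nat.ble (nat_lit 7391) i)) (Nat.ble (nat_lit 7390) i))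
noncomputable def t7373_7392 (i : ℕ) : ℕ := (@Bool.rec (fun _ => ℕ) (@Bool.rec (fun _ => ℕ) (@Bool.rec (fun _ => ℕ) (t7373_7375 i) (t7375_7377 i) (Nat.ble (nat_lit 7375) i)) (@Bool.rec (fun _ => ℕ) (t7377_7379 i) (t7379_7382 i) (Nat.ble (nat_lit 7379) i)) (Nat.ble (nat_lit 7377) i)) (@Bool.rec (fun _ => ℕ) (@Bool.rec (fun _ => ℕ) (t7382_7384 i) (t7384_7387 i) (Nat.ble (nat_lit 7384) i)) (@Bool.rec (fun _ => ℕ) (t7387_7389 i) (t7389_7392 i) (Nat.ble (nat_lit 7389) i)) (Nat.ble (nat_lit 7387) i)) (Nat.ble (nat_lit 7382) i))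
noncomputable def t7392_7394 (i : ℕ) : ℕ := (@Bool.rec (fun _ => ℕ) l7392 l7393 (Nat.ble (nat_lit 7393) i))
noncomputable def t7394_7396 (i : ℕ) : ℕ := (@Bool.rec (fun _ => ℕ) l7394 l7395 (Nat.ble (nat_lit 7395) i))
noncomputable def t7396_7398 (i : ℕ) : ℕ := (@Bool.rec (fun _ => ℕ) l7396 l7397 (Nat.ble (nat_lit 7397) i))
noncomputable def t7398_7401 (i : ℕ) : ℕ := (@Bool.rec (fun _ => ℕ) l7398 (@Bool.rec (fun _ => ℕ) l7399 l7400 (Nat.ble (nat_lit 7400) i)) (Nat.ble (nat_lit 7399) i))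
noncomputable def t7401_7403 (i : ℕ) : ℕ := (@Bool.rec (fun _ => ℕ) l7401 l7402 (Nat.ble (nat_lit 7402) i))
noncomputable def t7403_7406 (i : ℕ) : ℕ := (@Bool.rec (fun _ => ℕ) l7403 (@Bool.rec (fun _ => ℕ) l7404 l7405 (Nat.ble (nat_lit 7405) i)) (Nat.ble (nat_lit 7404) i))
noncomputable def t7406_7408 (i : ℕ) : ℕ := (@Bool.rec (fun _ => ℕ) l7406 l7407 (Nat.ble (nat_lit 7407) i))
noncomputable def t7408_7411 (i : ℕ) : ℕ := (@Bool.rec (fun _ => ℕ) l7408 (@Bool.rec (fun _ => ℕ) l7409 l7410 (Nat.ble (nat_lit 7410) i)) (Nat.ble (nat_lit 7409) i))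
noncomputable def t7392_7411 (i : ℕ) : ℕ := (@Bool.rec (fun _ => ℕ) (@Bool.rec (fun _ => ℕ) (@Bool.rec (fun _ => ℕ) (t7392_7394 i) (t7394_7396 i) (Nat.ble (nat_lit 7394) i)) (@Bool.rec (fun _ => ℕ) (t7396_7398 i) (t7398_7401 i) (Nat.ble (nat_lit 7398) i)) (Nat.ble (nat_lit 7396) i)) (@Bool.rec (fun _ => ℕ) (@Bool.rec (fun _ => ℕ) (t7401_7403 i) (t7403_7406 i) (Nat.ble (nat_lit 7403) i)) (@Bool.rec (fun _ => ℕ) (t7406_7408 i) (t7408_7411 i) (Nat.ble (nat_lit 7408) i)) (Nat.ble (nat_lit 7406) i)) (Nat.ble (nat_lit 7401) i))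
noncomputable def t7411_7413 (i : ℕ) : ℕ := (@Bool.rec (fun _ => ℕ) l7411 l7412 (Nat.ble (nat_lit 7412) i))
noncomputable def t7413_7415 (i : ℕ) : ℕ := (@Bool.rec (fun _ => ℕ) l7413 l7414 (Nat.ble (nat_lit 7414) i))
noncomputable def t7415_7417 (i : ℕ) : ℕ := (@Bool.rec (fun _ => ℕ) l7415 l7416 (Nat.ble (nat_lit 7416) i))
noncomputable def t7417_7420 (i : ℕ) : ℕ := (@Bool.rec (fun _ => ℕ) l7417 (@Bool.rec (fun _ => ℕ) l7418 l7419 (Nat.ble (nat_lit 7419) i)) (Nat.ble (nat_lit 7418) i))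
noncomputable def t7420_7422 (i : ℕ) : ℕ := (@Bool.rec (fun _ => ℕ) l7420 l7421 (Nat.ble (nat_lit 7421) i))
noncomputable def t7422_7425 (i : ℕ) : ℕ := (@Bool.rec (fun _ => ℕ) l7422 (@Bool.rec (fun _ => ℕ) l7423 l7424 (Nat.ble (nat_lit 7424) i)) (Nat.ble (nat_lit 7423) i))
noncomputable def t7425_7427 (i : ℕ) : ℕ := (@Bool.rec (fun _ => ℕ) l7425 l7426 (Nat.ble (nat_lit 7426) i))
noncomputable def t7427_7430 (i : ℕ) : ℕ := (@Bool.rec (fun _ => ℕ) l7427 (@Bool.rec (fun _ => ℕ) l7428 l7429 (Nat.ble (nat_lit 7429) i)) (Nat.ble (nat_lit 7428) i))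
noncomputable def t7411_7430 (i : ℕ) : ℕ := (@Bool.rec (fun _ => ℕ) (@Bool.rec (fun _ => ℕ) (@Bool.rec (fun _ => ℕ) (t7411_7413 i) (t7413_7415 i) (Nat.ble (nat_lit 7413) i)) (@Bool.rec (fun _ => ℕ) (t7415_7417 i) (t7417_7420 i) (Nat.ble (nat_lit 7417) i)) (Nat.ble (nat_lit 7415) i)) (@Bool.rec (fun _ => ℕ) (@Bool.rec (fun _ => ℕ) (t7420_7422 i) (t7422_7425 i) (Nat.ble (nat_lit 7422) i)) (@Bool.rec (fun _ => ℕ) (t7425_7427 i) (t7427_7430 i) (Nat.ble (nat_lit 7427) i)) (Nat.ble (nat_lit 7425) i)) (Nat.ble (nat_lit 7420) i))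
noncomputable def t7430_7432 (i : ℕ) : ℕ := (@Bool.rec (fun _ => ℕ) l7430 l7431 (Nat.ble (nat_lit 7431) i))
noncomputable def t7432_7434 (i : ℕ) : ℕ := (@Bool.rec (fun _ => ℕ) l7432 l7433 (Nat.ble (nat_lit 7433) i))
noncomputable def t7434_7436 (i : ℕ) : ℕ := (@Bool.rec (fun _ => ℕ) l7434 l7435 (Nat.ble (nat_lit 7435) i))
noncomputable def t7436_7439 (i : ℕ) : ℕ := (@Bool.rec (fun _ => ℕ) l7436 (@Bool.rec (fun _ => ℕ) l7437 l7438 (Nat.ble (nat_lit 7438) i)) (Nat.ble (nat_lit 7437) i))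
noncomputable def t7439_7441 (i : ℕ) : ℕ := (@Bool.rec (fun _ => ℕ) l7439 l7440 (Nat.ble (nat_lit 7440) i))
noncomputable def t7441_7443 (i : ℕ) : ℕ := (@Bool.rec (fun _ => ℕ) l7441 l7442 (Nat.ble (nat_lit 7442) i))
noncomputable def t7443_7445 (i : ℕ) : ℕ := (@Bool.rec (fun _ => ℕ) l7443 l7444 (Nat.ble (nat_lit 7444) i))
noncomputable def t7445_7448 (i : ℕ) : ℕ := (@Bool.rec (fun _ => ℕ) l7445 (@Bool.rec (fun _ => ℕ) l7446 l7447 (Nat.ble (nat_lit 7447) i)) (Nat.ble (nat_lit 7446) i))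
noncomputable def t7430_7448 (i : ℕ) : ℕ := (@Bool.rec (fun _ => ℕ) (@Bool.rec (fun _ => ℕ) (@Bool.rec (fun _ => ℕ) (t7430_7432 i) (t7432_7434 i) (Nat.ble (nat_lit 7432) i)) (@Bool.rec (fun _ => ℕ) (t7434_7436 i) (t7436_7439 i) (Nat.ble (nat_lit 7436) i)) (Nat.ble (nat_lit 7434) i)) (@Bool.rec (fun _ => ℕ) (@Bool.rec (fun _ => ℕ) (t7439_7441 i) (t7441_7443 i) (Nat.ble (nat_lit 7441) i)) (@Bool.rec (fun _ => ℕ) (t7443_7445 i) (t7445_7448 i) (Nat.ble (nat_lit 7445) i)) (Nat.ble (nat_lit 7443) i)) (Nat.ble (nat_lit 7439) i))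
noncomputable def t7448_7450 (i : ℕ) : ℕ := (@Bool.rec (fun _ => ℕ) l7448 l7449 (Nat.ble (nat_lit 7449) i))
noncomputable def t7450_7452 (i : ℕ) : ℕ := (@Bool.rec (fun _ => ℕ) l7450 l7451 (Nat.ble (nat_lit 7451) i))
noncomputable def t7452_7454 (i : ℕ) : ℕ := (@Bool.rec (fun _ => ℕ) l7452 l7453 (Nat.ble (nat_lit 7453) i))
noncomputable def t7454_7457 (i : ℕ) : ℕ := (@Bool.rec (fun _ => ℕ) l7454 (@Bool.rec (fun _ => ℕ) l7455 l7456 (Nat.ble (nat_lit 7456) i)) (Nat.ble (nat_lit 7455) i))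
noncomputable def t7457_7459 (i : ℕ) : ℕ := (@Bool.rec (fun _ => ℕ) l7457 l7458 (Nat.ble (nat_lit 7458) i))
noncomputable def t7459_7462 (i : ℕ) : ℕ := (@Bool.rec (fun _ => ℕ) l7459 (@Bool.rec (fun _ => ℕ) l7460 l7461 (Nat.ble (nat_lit 7461) i)) (Nat.ble (nat_lit 7460) i))
noncomputable def t7462_7464 (i : ℕ) : ℕ := (@Bool.rec (fun _ => ℕ) l7462 l7463 (Nat.ble (nat_lit 7463) i))
noncomputable def t7464_7467 (i : ℕ) : ℕ := (@Bool.rec (fun _ => ℕ) l7464 (@Bool.rec (fun _ => ℕ) l7465 l7466 (Nat.ble (nat_lit 7466) i)) (Nat.ble (nat_lit 7465) i))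
noncomputable def t7448_7467 (i : ℕ) : ℕ := (@Bool.rec (fun _ => ℕ) (@Bool.rec (fun _ => ℕ) (@Bool.rec (fun _ => ℕ) (t7448_7450 i) (t7450_7452 i) (Nat.ble (nat_lit 7450) i)) (@Bool.rec (fun _ => ℕ) (t7452_7454 i) (t7454_7457 i) (Nat.ble (nat_lit 7454) i)) (Nat.ble (nat_lit 7452) i)) (@Bool.rec (fun _ => ℕ) (@Bool.rec (fun _ => ℕ) (t7457_7459 i) (t7459_7462 i) (Nat.ble (nat_lit 7459) i)) (@Bool.rec (fun _ => ℕ) (t7462_7464 i) (t7464_7467 i) (Nat.ble (nat_lit 7464) i)) (Nat.ble (nat_lit 7462) i)) (Nat.ble (nat_lit 7457) i))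
noncomputable def t7467_7469 (i : ℕ) : ℕ := (@Bool.rec (fun _ => ℕ) l7467 l7468 (Nat.ble (nat_lit 7468) i))
noncomputable def t7469_7471 (i : ℕ) : ℕ := (@Bool.rec (fun _ => ℕ) l7469 l7470 (Nat.ble (nat_lit 7470) i))
noncomputable def t7471_7473 (i : ℕ) : ℕ := (@Bool.rec (fun _ => ℕ) l7471 l7472 (Nat.ble (nat_lit 7472) i))
noncomputable def t7473_7476 (i : ℕ) : ℕ := (@Bool.rec (fun _ => ℕ) l7473 (@Bool.rec (fun _ => ℕ) l7474 l7475 (Nat.ble (nat_lit 7475) i)) (Nat.ble (nat_lit 7474) i))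
noncomputable def t7476_7478 (i : ℕ) : ℕ := (@Bool.rec (fun _ => ℕ) l7476 l7477 (Nat.ble (nat_lit 7477) i))
noncomputable def t7478_7481 (i : ℕ) : ℕ := (@Bool.rec (fun _ => ℕ) l7478 (@Bool.rec (fun _ => ℕ) l7479 l7480 (Nat.ble (nat_lit 7480) i)) (Nat.ble (nat_lit 7479) i))
noncomputable def t7481_7483 (i : ℕ) : ℕ := (@Bool.rec (fun _ => ℕ) l7481 l7482 (Nat.ble (nat_lit 7482) i))
noncomputable def t7483_7486 (i : ℕ) : ℕ := (@Bool.rec (fun _ => ℕ) l7483 (@Bool.rec (fun _ => ℕ) l7484 l7485 (Nat.ble (nat_lit 7485) i)) (Nat.ble (nat_lit 7484) i))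
noncomputable def t7467_7486 (i : ℕ) : ℕ := (@Bool.rec (fun _ => ℕ) (@Bool.rec (fun _ => ℕ) (@Bool.rec (fun _ => ℕ) (t7467_7469 i) (t7469_7471 i) (Nat.ble (nat_lit 7469) i)) (@Bool.rec (fun _ => ℕ) (t7471_7473 i) (t7473_7476 i) (Nat.ble (nat_lit 7473) i)) (Nat.ble (nat_lit 7471) i)) (@Bool.rec (fun _ => ℕ) (@Bool.rec (fun _ => ℕ) (t7476_7478 i) (t7478_7481 i) (Nat.ble (nat_lit 7478) i)) (@Bool.rec (fun _ => ℕ) (t7481_7483 i) (t7483_7486 i) (Nat.ble (nat_lit 7483) i)) (Nat.ble (nat_lit 7481) i)) (Nat.ble (nat_lit 7476) i))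
noncomputable def t7486_7488 (i : ℕ) : ℕ := (@Bool.rec (fun _ => ℕ) l7486 l7487 (Nat.ble (nat_lit 7487) i))
noncomputable def t7488_7490 (i : ℕ) : ℕ := (@Bool.rec (fun _ => ℕ) l7488 l7489 (Nat.ble (nat_lit 7489) i))
noncomputable def t7490_7492 (i : ℕ) : ℕ := (@Bool.rec (fun _ => ℕ) l7490 l7491 (Nat.ble (nat_lit 7491) i))
noncomputable def t7492_7495 (i : ℕ) : ℕ := (@Bool.rec (fun _ => ℕ) l7492 (@Bool.rec (fun _ => ℕ) l7493 l7494 (Nat.ble (nat_lit 7494) i)) (Nat.ble (nat_lit 7493) i))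
noncomputable def t7495_7497 (i : ℕ) : ℕ := (@Bool.rec (fun _ => ℕ) l7495 l7496 (Nat.ble (nat_lit 7496) i))
noncomputable def t7497_7500 (i : ℕ) : ℕ := (@Bool.rec (fun _ => ℕ) l7497 (@Bool.rec (fun _ => ℕ) l7498 l7499 (Nat.ble (nat_lit 7499) i)) (Nat.ble (nat_lit 7498) i))
noncomputable def t7500_7502 (i : ℕ) : ℕ := (@Bool.rec (fun _ => ℕ) l7500 l7501 (Nat.ble (nat_lit 7501) i))
noncomputable def t7502_7505 (i : ℕ) : ℕ := (@Bool.rec (fun _ => ℕ) l7502 (@Bool.rec (fun _ => ℕ) l7503 l7504 (Nat.ble (nat_lit 7504) i)) (Nat.ble (nat_lit 7503) i))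
noncomputable def t7486_7505 (i : ℕ) : ℕ := (@Bool.rec (fun _ => ℕ) (@Bool.rec (fun _ => ℕ) (@Bool.rec (fun _ => ℕ) (t7486_7488 i) (t7488_7490 i) (Nat.ble (nat_lit 7488) i)) (@Bool.rec (fun _ => ℕ) (t7490_7492 i) (t7492_7495 i) (Nat.ble (nat_lit 7492) i)) (Nat.ble (nat_lit 7490) i)) (@Bool.rec (fun _ => ℕ) (@Bool.rec (fun _ => ℕ) (t7495_7497 i) (t7497_7500 i) (Nat.ble (nat_lit 7497) i)) (@Bool.rec (fun _ => ℕ) (t7500_7502 i) (t7502_7505 i) (Nat.ble (nat_lit 7502) i)) (Nat.ble (nat_lit 7500) i)) (Nat.ble (nat_lit 7495) i))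
noncomputable def t7355_7505 (i : ℕ) : ℕ := (@Bool.rec (fun _ => ℕ) (@Bool.rec (fun _ => ℕ) (@Bool.rec (fun _ => ℕ) (t7355_7373 i) (t7373_7392 i) (Nat.ble (nat_lit 7373) i)) (@Bool.rec (fun _ => ℕ) (t7392_7411 i) (t7411_7430 i) (Nat.ble (nat_lit 7411) i)) (Nat.ble (nat_lit 7392) i)) (@Bool.rec (fun _ => ℕ) (@Bool.rec (fun _ => ℕ) (t7430_7448 i) (t7448_7467 i) (Nat.ble (nat_lit 7448) i)) (@Bool.rec (fun _ => ℕ) (t7467_7486 i) (t7486_7505 i) (Nat.ble (nat_lit 7486) i)) (Nat.ble (nat_lit 7467) i)) (Nat.ble (nat_lit 7430) i))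
noncomputable def t7505_7507 (i : ℕ) : ℕ := (@Bool.rec (fun _ => ℕ) l7505 l7506 (Nat.ble (nat_lit 7506) i))
noncomputable def t7507_7509 (i : ℕ) : ℕ := (@Bool.rec (fun _ => ℕ) l7507 l7508 (Nat.ble (nat_lit 7508) i))
noncomputable def t7509_7511 (i : ℕ) : ℕ := (@Bool.rec (fun _ => ℕ) l7509 l7510 (Nat.ble (nat_lit 7510) i))
noncomputable def t7511_7514 (i : ℕ) : ℕ := (@Bool.rec (fun _ => ℕ) l7511 (@Bool.rec (fun _ => ℕ) l7512 l7513 (Nat.ble (nat_lit 7513) i)) (Nat.ble (nat_lit 7512) i))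
noncomputable def t7514_7516 (i : ℕ) : ℕ := (@Bool.rec (fun _ => ℕ) l7514 l7515 (Nat.ble (nat_lit 7515) i))
noncomputable def t7516_7518 (i : ℕ) : ℕ := (@Bool.rec (fun _ => ℕ) l7516 l7517 (Nat.ble (nat_lit 7517) i))
noncomputable def t7518_7520 (i : ℕ) : ℕ := (@Bool.rec (fun _ => ℕ) l7518 l7519 (Nat.ble (nat_lit 7519) i))
noncomputable def t7520_7523 (i : ℕ) : ℕ := (@Bool.rec (fun _ => ℕ) l7520 (@Bool.rec (fun _ => ℕ) l7521 l7522 (Nat.ble (nat_lit 7522) i)) (Nat.ble (nat_lit 7521) i))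
noncomputable def t7505_7523 (i : ℕ) : ℕ := (@Bool.rec (fun _ => ℕ) (@Bool.rec (fun _ => ℕ) (@Bool.rec (fun _ => ℕ) (t7505_7507 i) (t7507_7509 i) (Nat.ble (nat_lit 7507) i)) (@Bool.rec (fun _ => ℕ) (t7509_7511 i) (t7511_7514 i) (Nat.ble (nat_lit 7511) i)) (Nat.ble (nat_lit 7509) i)) (@Bool.rec (fun _ => ℕ) (@Bool.rec (fun _ => ℕ) (t7514_7516 i) (t7516_7518 i) (Nat.ble (nat_lit 7516) i)) (@Bool.rec (fun _ => ℕ) (t7518_7520 i) (t7520_7523 i) (Nat.ble (nat_lit 7520) i)) (Nat.ble (nat_lit 7518) i)) (Nat.ble (nat_lit 7514) i))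
noncomputable def t7523_7525 (i : ℕ) : ℕ := (@Bool.rec (fun _ => ℕ) l7523 l7524 (Nat.ble (nat_lit 7524) i))
noncomputable def t7525_7527 (i : ℕ) : ℕ := (@Bool.rec (fun _ => ℕ) l7525 l7526 (Nat.ble (nat_lit 7526) i))
noncomputable def t7527_7529 (i : ℕ) : ℕ := (@Bool.rec (fun _ => ℕ) l7527 l7528 (Nat.ble (nat_lit 7528) i))
noncomputable def t7529_7532 (i : ℕ) : ℕ := (@Bool.rec (fun _ => ℕ) l7529 (@Bool.rec (fun _ => ℕ) l7530 l7531 (Nat.ble (nat_lit 7531) i)) (Nat.ble (nat_lit 7530) i))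
noncomputable def t7532_7534 (i : ℕ) : ℕ := (@Bool.rec (fun _ => ℕ) l7532 l7533 (Nat.ble (nat_lit 7533) i))
noncomputable def t7534_7537 (i : ℕ) : ℕ := (@Bool.rec (fun _ => ℕ) l7534 (@Bool.rec (fun _ => ℕ) l7535 l7536 (Nat.ble (nat_lit 7536) i)) (Nat.ble (nat_lit 7535) i))
noncomputable def t7537_7539 (i : ℕ) : ℕ := (@Bool.rec (fun _ => ℕ) l7537 l7538 (Nat.ble (nat_lit 7538) i))
noncomputable def t7539_7542 (i : ℕ) : ℕ := (@Bool.rec (fun _ => ℕ) l7539 (@Bool.rec (fun _ => ℕ) l7540 l7541 (Nat.ble (nat_lit 7541) i)) (Nat.ble (nat_lit 7540) i))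
noncomputable def t7523_7542 (i : ℕ) : ℕ := (@Bool.rec (fun _ => ℕ) (@Bool.rec (fun _ => ℕ) (@Bool.rec (fun _ => ℕ) (t7523_7525 i) (t7525_7527 i) (Nat.ble (nat_lit 7525) i)) (@Bool.rec (fun _ => ℕ) (t7527_7529 i) (t7529_7532 i) (Nat.ble (nat_lit 7529) i)) (Nat.ble (nat_lit 7527) i)) (@Bool.rec (fun _ => ℕ) (@Bool.rec (fun _ => ℕ) (t7532_7534 i) (t7534_7537 i) (Nat.ble (nat_lit 7534) i)) (@Bool.rec (fun _ => ℕ) (t7537_7539 i) (t7539_7542 i) (Nat.ble (nat_lit 7539) i)) (Nat.ble (nat_lit 7537) i)) (Nat.ble (nat_lit 7532) i))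
noncomputable def t7542_7544 (i : ℕ) : ℕ := (@Bool.rec (fun _ => ℕ) l7542 l7543 (Nat.ble (nat_lit 7543) i))
noncomputable def t7544_7546 (i : ℕ) : ℕ := (@Bool.rec (fun _ => ℕ) l7544 l7545 (Nat.ble (nat_lit 7545) i))
noncomputable def t7546_7548 (i : ℕ) : ℕ := (@Bool.rec (fun _ => ℕ) l7546 l7547 (Nat.ble (nat_lit 7547) i))
noncomputable def t7548_7551 (i : ℕ) : ℕ := (@Bool.rec (fun _ => ℕ) l7548 (@Bool.rec (fun _ => ℕ) l7549 l7550 (Nat.ble (nat_lit 7550) i)) (Nat.ble (nat_lit 7549) i))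
noncomputable def t7551_7553 (i : ℕ) : ℕ := (@Bool.rec (fun _ => ℕ) l7551 l7552 (Nat.ble (nat_lit 7552) i))
noncomputable def t7553_7556 (i : ℕ) : ℕ := (@Bool.rec (fun _ => ℕ) l7553 (@Bool.rec (fun _ => ℕ) l7554 l7555 (Nat.ble (nat_lit 7555) i)) (Nat.ble (nat_lit 7554) i))
noncomputable def t7556_7558 (i : ℕ) : ℕ := (@Bool.rec (fun _ => ℕ) l7556 l7557 (Nat.ble (nat_lit 7557) i))
noncomputable def t7558_7561 (i : ℕ) : ℕ := (@Bool.rec (fun _ => ℕ) l7558 (@Bool.rec (fun _ => ℕ) l7559 l7560 (Nat.ble (nat_lit 7560) i)) (Nat.ble (nat_lit 7559) i))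
noncomputable def t7542_7561 (i : ℕ) : ℕ := (@Bool.rec (fun _ => ℕ) (@Bool.rec (fun _ => ℕ) (@Bool.rec (fun _ => ℕ) (t7542_7544 i) (t7544_7546 i) (Nat.ble (nat_lit 7544) i)) (@Bool.rec (fun _ => ℕ) (t7546_7548 i) (t7548_7551 i) (Nat.ble (nat_lit 7548) i)) (Nat.ble (nat_lit 7546) i)) (@Bool.rec (fun _ => ℕ) (@Bool.rec (fun _ => ℕ) (t7551_7553 i) (t7553_7556 i) (Nat.ble (nat_lit 7553) i)) (@Bool.rec (fun _ => ℕ) (t7556_7558 i) (t7558_7561 i) (Nat.ble (nat_lit 7558) i)) (Nat.ble (nat_lit 7556) i)) (Nat.ble (nat_lit 7551) i))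
noncomputable def t7561_7563 (i : ℕ) : ℕ := (@Bool.rec (fun _ => ℕ) l7561 l7562 (Nat.ble (nat_lit 7562) i))
noncomputable def t7563_7565 (i : ℕ) : ℕ := (@Bool.rec (fun _ => ℕ) l7563 l7564 (Nat.ble (nat_lit 7564) i))
noncomputable def t7565_7567 (i : ℕ) : ℕ := (@Bool.rec (fun _ => ℕ) l7565 l7566 (Nat.ble (nat_lit 7566) i))
noncomputable def t7567_7570 (i : ℕ) : ℕ := (@Bool.rec (fun _ => ℕ) l7567 (@Bool.rec (fun _ => ℕ) l7568 l7569 (Nat.ble (nat_lit 7569) i)) (Nat.ble (nat_lit 7568) i))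
noncomputable def t7570_7572 (i : ℕ) : ℕ := (@Bool.rec (fun _ => ℕ) l7570 l7571 (Nat.ble (nat_lit 7571) i))
noncomputable def t7572_7575 (i : ℕ) : ℕ := (@Bool.rec (fun _ => ℕ) l7572 (@Bool.rec (fun _ => ℕ) l7573 l7574 (Nat.ble (nat_lit 7574) i)) (Nat.ble (nat_lit 7573) i))
noncomputable def t7575_7577 (i : ℕ) : ℕ := (@Bool.rec (fun _ => ℕ) l7575 l7576 (Nat.ble (nat_lit 7576) i))
noncomputable def t7577_7580 (i : ℕ) : ℕ := (@Bool.rec (fun _ => ℕ) l7577 (@Bool.rec (fun _ => ℕ) l7578 l7579 (Nat.ble (nat_lit 7579) i)) (Nat.ble (nat_lit 7578) i))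
noncomputable def t7561_7580 (i : ℕ) : ℕ := (@Bool.rec (fun _ => ℕ) (@Bool.rec (fun _ => ℕ) (@Bool.rec (fun _ => ℕ) (t7561_7563 i) (t7563_7565 i) (Nat.ble (nat_lit 7563) i)) (@Bool.rec (fun _ => ℕ) (t7565_7567 i) (t7567_7570 i) (Nat.ble (nat_lit 7567) i)) (Nat.ble (nat_lit 7565) i)) (@Bool.rec (fun _ => ℕ) (@Bool.rec (fun _ => ℕ) (t7570_7572 i) (t7572_7575 i) (Nat.ble (nat_lit 7572) i)) (@Bool.rec (fun _ => ℕ) (t7575_7577 i) (t7577_7580 i) (Nat.ble (nat_lit 7577) i)) (Nat.ble (nat_lit 7575) i)) (Nat.ble (nat_lit 7570) i))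
noncomputable def t7580_7582 (i : ℕ) : ℕ := (@Bool.rec (fun _ => ℕ) l7580 l7581 (Nat.ble (nat_lit 7581) i))
noncomputable def t7582_7584 (i : ℕ) : ℕ := (@Bool.rec (fun _ => ℕ) l7582 l7583 (Nat.ble (nat_lit 7583) i))
noncomputable def t7584_7586 (i : ℕ) : ℕ := (@Bool.rec (fun _ => ℕ) l7584 l7585 (Nat.ble (nat_lit 7585) i))
noncomputable def t7586_7589 (i : ℕ) : ℕ := (@Bool.rec (fun _ => ℕ) l7586 (@Bool.rec (fun _ => ℕ) l7587 l7588 (Nat.ble (nat_lit 7588) i)) (Nat.ble (nat_lit 7587) i))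
noncomputable def t7589_7591 (i : ℕ) : ℕ := (@Bool.rec (fun _ => ℕ) l7589 l7590 (Nat.ble (nat_lit 7590) i))
noncomputable def t7591_7593 (i : ℕ) : ℕ := (@Bool.rec (fun _ => ℕ) l7591 l7592 (Nat.ble (nat_lit 7592) i))
noncomputable def t7593_7595 (i : ℕ) : ℕ := (@Bool.rec (fun _ => ℕ) l7593 l7594 (Nat.ble (nat_lit 7594) i))
noncomputable def t7595_7598 (i : ℕ) : ℕ := (@Bool.rec (fun _ => ℕ) l7595 (@Bool.rec (fun _ => ℕ) l7596 l7597 (Nat.ble (nat_lit 7597) i)) (Nat.ble (nat_lit 7596) i))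
noncomputable def t7580_7598 (i : ℕ) : ℕ := (@Bool.rec (fun _ => ℕ) (@Bool.rec (fun _ => ℕ) (@Bool.rec (fun _ => ℕ) (t7580_7582 i) (t7582_7584 i) (Nat.ble (nat_lit 7582) i)) (@Bool.rec (fun _ => ℕ) (t7584_7586 i) (t7586_7589 i) (Nat.ble (nat_lit 7586) i)) (Nat.ble (nat_lit 7584) i)) (@Bool.rec (fun _ => ℕ) (@Bool.rec (fun _ => ℕ) (t7589_7591 i) (t7591_7593 i) (Nat.ble (nat_lit 7591) i)) (@Bool.rec (fun _ => ℕ) (t7593_7595 i) (t7595_7598 i) (Nat.ble (nat_lit 7595) i)) (Nat.ble (nat_lit 7593) i)) (Nat.ble (nat_lit 7589) i))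
noncomputable def t7598_7600 (i : ℕ) : ℕ := (@Bool.rec (fun _ => ℕ) l7598 l7599 (Nat.ble (nat_lit 7599) i))
noncomputable def t7600_7602 (i : ℕ) : ℕ := (@Bool.rec (fun _ => ℕ) l7600 l7601 (Nat.ble (nat_lit 7601) i))
noncomputable def t7602_7604 (i : ℕ) : ℕ := (@Bool.rec (fun _ => ℕ) l7602 l7603 (Nat.ble (nat_lit 7603) i))
noncomputable def t7604_7607 (i : ℕ) : ℕ := (@Bool.rec (fun _ => ℕ) l7604 (@Bool.rec (fun _ => ℕ) l7605 l7606 (Nat.ble (nat_lit 7606) i)) (Nat.ble (nat_lit 7605) i))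
noncomputable def t7607_7609 (i : ℕ) : ℕ := (@Bool.rec (fun _ => ℕ) l7607 l7608 (Nat.ble (nat_lit 7608) i))
noncomputable def t7609_7612 (i : ℕ) : ℕ := (@Bool.rec (fun _ => ℕ) l7609 (@Bool.rec (fun _ => ℕ) l7610 l7611 (Nat.ble (nat_lit 7611) i)) (Nat.ble (nat_lit 7610) i))
noncomputable def t7612_7614 (i : ℕ) : ℕ := (@Bool.rec (fun _ => ℕ) l7612 l7613 (Nat.ble (nat_lit 7613) i))
noncomputable def t7614_7617 (i : ℕ) : ℕ := (@Bool.rec (fun _ => ℕ) l7614 (@Bool.rec (fun _ => ℕ) l7615 l7616 (Nat.ble (nat_lit 7616) i)) (Nat.ble (nat_lit 7615) i))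
noncomputable def t7598_7617 (i : ℕ) : ℕ := (@Bool.rec (fun _ => ℕ) (@Bool.rec (fun _ => ℕ) (@Bool.rec (fun _ => ℕ) (t7598_7600 i) (t7600_7602 i) (Nat.ble (nat_lit 7600) i)) (@Bool.rec (fun _ => ℕ) (t7602_7604 i) (t7604_7607 i) (Nat.ble (nat_lit 7604) i)) (Nat.ble (nat_lit 7602) i)) (@Bool.rec (fun _ => ℕ) (@Bool.rec (fun _ => ℕ) (t7607_7609 i) (t7609_7612 i) (Nat.ble (nat_lit 7609) i)) (@Bool.rec (fun _ => ℕ) (t7612_7614 i) (t7614_7617 i) (Nat.ble (nat_lit 7614) i)) (Nat.ble (nat_lit 7612) i)) (Nat.ble (nat_lit 7607) i))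
noncomputable def t7617_7619 (i : ℕ) : ℕ := (@Bool.rec (fun _ => ℕ) l7617 l7618 (Nat.ble (nat_lit 7618) i))
noncomputable def t7619_7621 (i : ℕ) : ℕ := (@Bool.rec (fun _ => ℕ) l7619 l7620 (Nat.ble (nat_lit 7620) i))
noncomputable def t7621_7623 (i : ℕ) : ℕ := (@Bool.rec (fun _ => ℕ) l7621 l7622 (Nat.ble (nat_lit 7622) i))
noncomputable def t7623_7626 (i : ℕ) : ℕ := (@Bool.rec (fun _ => ℕ) l7623 (@Bool.rec (fun _ => ℕ) l7624 l7625 (Nat.ble (nat_lit 7625) i)) (Nat.ble (nat_lit 7624) i))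
noncomputable def t7626_7628 (i : ℕ) : ℕ := (@Bool.rec (fun _ => ℕ) l7626 l7627 (Nat.ble (nat_lit 7627) i))
noncomputable def t7628_7631 (i : ℕ) : ℕ := (@Bool.rec (fun _ => ℕ) l7628 (@Bool.rec (fun _ => ℕ) l7629 l7630 (Nat.ble (nat_lit 7630) i)) (Nat.ble (nat_lit 7629) i))
noncomputable def t7631_7633 (i : ℕ) : ℕ := (@Bool.rec (fun _ => ℕ) l7631 l7632 (Nat.ble (nat_lit 7632) i))
noncomputable def t7633_7636 (i : ℕ) : ℕ := (@Bool.rec (fun _ => ℕ) l7633 (@Bool.rec (fun _ => ℕ) l7634 l7635 (Nat.ble (nat_lit 7635) i)) (Nat.ble (nat_lit 7634) i))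
noncomputable def t7617_7636 (i : ℕ) : ℕ := (@Bool.rec (fun _ => ℕ) (@Bool.rec (fun _ => ℕ) (@Bool.rec (fun _ => ℕ) (t7617_7619 i) (t7619_7621 i) (Nat.ble (nat_lit 7619) i)) (@Bool.rec (fun _ => ℕ) (t7621_7623 i) (t7623_7626 i) (Nat.ble (nat_lit 7623) i)) (Nat.ble (nat_lit 7621) i)) (@Bool.rec (fun _ => ℕ) (@Bool.rec (fun _ => ℕ) (t7626_7628 i) (t7628_7631 i) (Nat.ble (nat_lit 7628) i)) (@Bool.rec (fun _ => ℕ) (t7631_7633 i) (t7633_7636 i) (Nat.ble (nat_lit 7633) i)) (Nat.ble (nat_lit 7631) i)) (Nat.ble (nat_lit 7626) i))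
noncomputable def t7636_7638 (i : ℕ) : ℕ := (@Bool.rec (fun _ => ℕ) l7636 l7637 (Nat.ble (nat_lit 7637) i))
noncomputable def t7638_7640 (i : ℕ) : ℕ := (@Bool.rec (fun _ => ℕ) l7638 l7639 (Nat.ble (nat_lit 7639) i))
noncomputable def t7640_7642 (i : ℕ) : ℕ := (@Bool.rec (fun _ => ℕ) l7640 l7641 (Nat.ble (nat_lit 7641) i))
noncomputable def t7642_7645 (i : ℕ) : ℕ := (@Bool.rec (fun _ => ℕ) l7642 (@Bool.rec (fun _ => ℕ) l7643 l7644 (Nat.ble (nat_lit 7644) i)) (Nat.ble (nat_lit 7643) i))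
noncomputable def t7645_7647 (i : ℕ) : ℕ := (@Bool.rec (fun _ => ℕ) l7645 l7646 (Nat.ble (nat_lit 7646) i))
noncomputable def t7647_7650 (i : ℕ) : ℕ := (@Bool.rec (fun _ => ℕ) l7647 (@Bool.rec (fun _ => ℕ) l7648 l7649 (Nat.ble (nat_lit 7649) i)) (Nat.ble (nat_lit 7648) i))
noncomputable def t7650_7652 (i : ℕ) : ℕ := (@Bool.rec (fun _ => ℕ) l7650 l7651 (Nat.ble (nat_lit 7651) i))
noncomputable def t7652_7655 (i : ℕ) : ℕ := (@Bool.rec (fun _ => ℕ) l7652 (@Bool.rec (fun _ => ℕ) l7653 l7654 (Nat.ble (nat_lit 7654) i)) (Nat.ble (nat_lit 7653) i))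
noncomputable def t7636_7655 (i : ℕ) : ℕ := (@Bool.rec (fun _ => ℕ) (@Bool.rec (fun _ => ℕ) (@Bool.rec (fun _ => ℕ) (t7636_7638 i) (t7638_7640 i) (Nat.ble (nat_lit 7638) i)) (@Bool.rec (fun _ => ℕ) (t7640_7642 i) (t7642_7645 i) (Nat.ble (nat_lit 7642) i)) (Nat.ble (nat_lit 7640) i)) (@Bool.rec (fun _ => ℕ) (@Bool.rec (fun _ => ℕ) (t7645_7647 i) (t7647_7650 i) (Nat.ble (nat_lit 7647) i)) (@Bool.rec (fun _ => ℕ) (t7650_7652 i) (t7652_7655 i) (Nat.ble (nat_lit 7652) i)) (Nat.ble (nat_lit 7650) i)) (Nat.ble (nat_lit 7645) i))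
noncomputable def t7505_7655 (i : ℕ) : ℕ := (@Bool.rec (fun _ => ℕ) (@Bool.rec (fun _ => ℕ) (@Bool.rec (fun _ => ℕ) (t7505_7523 i) (t7523_7542 i) (Nat.ble (nat_lit 7523) i)) (@Bool.rec (fun _ => ℕ) (t7542_7561 i) (t7561_7580 i) (Nat.ble (nat_lit 7561) i)) (Nat.ble (nat_lit 7542) i)) (@Bool.rec (fun _ => ℕ) (@Bool.rec (fun _ => ℕ) (t7580_7598 i) (t7598_7617 i) (Nat.ble (nat_lit 7598) i)) (@Bool.rec (fun _ => ℕ) (t7617_7636 i) (t7636_7655 i) (Nat.ble (nat_lit 7636) i)) (Nat.ble (nat_lit 7617) i)) (Nat.ble (nat_lit 7580) i))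
noncomputable def t7655_7657 (i : ℕ) : ℕ := (@Bool.rec (fun _ => ℕ) l7655 l7656 (Nat.ble (nat_lit 7656) i))
noncomputable def t7657_7659 (i : ℕ) : ℕ := (@Bool.rec (fun _ => ℕ) l7657 l7658 (Nat.ble (nat_lit 7658) i))
noncomputable def t7659_7661 (i : ℕ) : ℕ := (@Bool.rec (fun _ => ℕ) l7659 l7660 (Nat.ble (nat_lit 7660) i))
noncomputable def t7661_7664 (i : ℕ) : ℕ := (@Bool.rec (fun _ => ℕ) l7661 (@Bool.rec (fun _ => ℕ) l7662 l7663 (Nat.ble (nat_lit 7663) i)) (Nat.ble (nat_lit 7662) i))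
noncomputable def t7664_7666 (i : ℕ) : ℕ := (@Bool.rec (fun _ => ℕ) l7664 l7665 (Nat.ble (nat_lit 7665) i))
noncomputable def t7666_7668 (i : ℕ) : ℕ := (@Bool.rec (fun _ => ℕ) l7666 l7667 (Nat.ble (nat_lit 7667) i))
noncomputable def t7668_7670 (i : ℕ) : ℕ := (@Bool.rec (fun _ => ℕ) l7668 l7669 (Nat.ble (nat_lit 7669) i))
noncomputable def t7670_7673 (i : ℕ) : ℕ := (@Bool.rec (fun _ => ℕ) l7670 (@Bool.rec (fun _ => ℕ) l7671 l7672 (Nat.ble (nat_lit 7672) i)) (Nat.ble (nat_lit 7671) i))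
noncomputable def t7655_7673 (i : ℕ) : ℕ := (@Bool.rec (fun _ => ℕ) (@Bool.rec (fun _ => ℕ) (@Bool.rec (fun _ => ℕ) (t7655_7657 i) (t7657_7659 i) (Nat.ble (nat_lit 7657) i)) (@Bool.rec (fun _ => ℕ) (t7659_7661 i) (t7661_7664 i) (Nat.ble (nat_lit 7661) i)) (Nat.ble (nat_lit 7659) i)) (@Bool.rec (fun _ => ℕ) (@Bool.rec (fun _ => ℕ) (t7664_7666 i) (t7666_7668 i) (Nat.ble (nat_lit 7666) i)) (@Bool.rec (fun _ => ℕ) (t7668_7670 i) (t7670_7673 i) (Nat.ble (nat_lit 7670) i)) (Nat.ble (nat_lit 7668) i)) (Nat.ble (nat_lit 7664) i))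
noncomputable def t7673_7675 (i : ℕ) : ℕ := (@Bool.rec (fun _ => ℕ) l7673 l7674 (Nat.ble (nat_lit 7674) i))
noncomputable def t7675_7677 (i : ℕ) : ℕ := (@Bool.rec (fun _ => ℕ) l7675 l7676 (Nat.ble (nat_lit 7676) i))
noncomputable def t7677_7679 (i : ℕ) : ℕ := (@Bool.rec (fun _ => ℕ) l7677 l7678 (Nat.ble (nat_lit 7678) i))
noncomputable def t7679_7682 (i : ℕ) : ℕ := (@Bool.rec (fun _ => ℕ) l7679 (@Bool.rec (fun _ => ℕ) l7680 l7681 (Nat.ble (nat_lit 7681) i)) (Nat.ble (nat_lit 7680) i))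
noncomputable def t7682_7684 (i : ℕ) : ℕ := (@Bool.rec (fun _ => ℕ) l7682 l7683 (Nat.ble (nat_lit 7683) i))
noncomputable def t7684_7687 (i : ℕ) : ℕ := (@Bool.rec (fun _ => ℕ) l7684 (@Bool.rec (fun _ => ℕ) l7685 l7686 (Nat.ble (nat_lit 7686) i)) (Nat.ble (nat_lit 7685) i))
noncomputable def t7687_7689 (i : ℕ) : ℕ := (@Bool.rec (fun _ => ℕ) l7687 l7688 (Nat.ble (nat_lit 7688) i))
noncomputable def t7689_7692 (i : ℕ) : ℕ := (@Bool.rec (fun _ => ℕ) l7689 (@Bool.rec (fun _ => ℕ) l7690 l7691 (Nat.ble (nat_lit 7691) i)) (Nat.ble (nat_lit 7690) i))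
noncomputable def t7673_7692 (i : ℕ) : ℕ := (@Bool.rec (fun _ => ℕ) (@Bool.rec (fun _ => ℕ) (@Bool.rec (fun _ => ℕ) (t7673_7675 i) (t7675_7677 i) (Nat.ble (nat_lit 7675) i)) (@Bool.rec (fun _ => ℕ) (t7677_7679 i) (t7679_7682 i) (Nat.ble (nat_lit 7679) i)) (Nat.ble (nat_lit 7677) i)) (@Bool.rec (fun _ => ℕ) (@Bool.rec (fun _ => ℕ) (t7682_7684 i) (t7684_7687 i) (Nat.ble (nat_lit 7684) i)) (@Bool.rec (fun _ => ℕ) (t7687_7689 i) (t7689_7692 i) (Nat.ble (nat_lit 7689) i)) (Nat.ble (nat_lit 7687) i)) (Nat.ble (nat_lit 7682) i))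
noncomputable def t7692_7694 (i : ℕ) : ℕ := (@Bool.rec (fun _ => ℕ) l7692 l7693 (Nat.ble (nat_lit 7693) i))
noncomputable def t7694_7696 (i : ℕ) : ℕ := (@Bool.rec (fun _ => ℕ) l7694 l7695 (Nat.ble (nat_lit 7695) i))
noncomputable def t7696_7698 (i : ℕ) : ℕ := (@Bool.rec (fun _ => ℕ) l7696 l7697 (Nat.ble (nat_lit 7697) i))
noncomputable def t7698_7701 (i : ℕ) : ℕ := (@Bool.rec (fun _ => ℕ) l7698 (@Bool.rec (fun _ => ℕ) l7699 l7700 (Nat.ble (nat_lit 7700) i)) (Nat.ble (nat_lit 7699) i))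
noncomputable def t7701_7703 (i : ℕ) : ℕ := (@Bool.rec (fun _ => ℕ) l7701 l7702 (Nat.ble (nat_lit 7702) i))
noncomputable def t7703_7706 (i : ℕ) : ℕ := (@Bool.rec (fun _ => ℕ) l7703 (@Bool.rec (fun _ => ℕ) l7704 l7705 (Nat.ble (nat_lit 7705) i)) (Nat.ble (nat_lit 7704) i))
noncomputable def t7706_7708 (i : ℕ) : ℕ := (@Bool.rec (fun _ => ℕ) l7706 l7707 (Nat.ble (nat_lit 7707) i))
noncomputable def t7708_7711 (i : ℕ) : ℕ := (@Bool.rec (fun _ => ℕ) l7708 (@Bool.rec (fun _ => ℕ) l7709 l7710 (Nat.ble (nat_lit 7710) i)) (Nat.ble (nat_lit 7709) i))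
noncomputable def t7692_7711 (i : ℕ) : ℕ := (@Bool.rec (fun _ => ℕ) (@Bool.rec (fun _ => ℕ) (@Bool.rec (fun _ => ℕ) (t7692_7694 i) (t7694_7696 i) (Nat.ble (nat_lit 7694) i)) (@Bool.rec (fun _ => ℕ) (t7696_7698 i) (t7698_7701 i) (Nat.ble (nat_lit 7698) i)) (Nat.ble (nat_lit 7696) i)) (@Bool.rec (fun _ => ℕ) (@Bool.rec (fun _ => ℕ) (t7701_7703 i) (t7703_7706 i) (Nat.ble (nat_lit 7703) i)) (@Bool.rec (fun _ => ℕ) (t7706_7708 i) (t7708_7711 i) (Nat.ble (nat_lit 7708) i)) (Nat.ble (nat_lit 7706) i)) (Nat.ble (nat_lit 7701) i))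
noncomputable def t7711_7713 (i : ℕ) : ℕ := (@Bool.rec (fun _ => ℕ) l7711 l7712 (Nat.ble (nat_lit 7712) i))
noncomputable def t7713_7715 (i : ℕ) : ℕ := (@Bool.rec (fun _ => ℕ) l7713 l7714 (Nat.ble (nat_lit 7714) i))
noncomputable def t7715_7717 (i : ℕ) : ℕ := (@Bool.rec (fun _ => ℕ) l7715 l7716 (Nat.ble (nat_lit 7716) i))
noncomputable def t7717_7720 (i : ℕ) : ℕ := (@Bool.rec (fun _ => ℕ) l7717 (@Bool.rec (fun _ => ℕ) l7718 l7719 (Nat.ble (nat_lit 7719) i)) (Nat.ble (nat_lit 7718) i))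
noncomputable def t7720_7722 (i : ℕ) : ℕ := (@Bool.rec (fun _ => ℕ) l7720 l7721 (Nat.ble (nat_lit 7721) i))
noncomputable def t7722_7725 (i : ℕ) : ℕ := (@Bool.rec (fun _ => ℕ) l7722 (@Bool.rec (fun _ => ℕ) l7723 l7724 (Nat.ble (nat_lit 7724) i)) (Nat.ble (nat_lit 7723) i))
noncomputable def t7725_7727 (i : ℕ) : ℕ := (@Bool.rec (fun _ => ℕ) l7725 l7726 (Nat.ble (nat_lit 7726) i))
noncomputable def t7727_7730 (i : ℕ) : ℕ := (@Bool.rec (fun _ => ℕ) l7727 (@Bool.rec (fun _ => ℕ) l7728 l7729 (Nat.ble (nat_lit 7729) i)) (Nat.ble (nat_lit 7728) i))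
noncomputable def t7711_7730 (i : ℕ) : ℕ := (@Bool.rec (fun _ => ℕ) (@Bool.rec (fun _ => ℕ) (@Bool.rec (fun _ => ℕ) (t7711_7713 i) (t7713_7715 i) (Nat.ble (nat_lit 7713) i)) (@Bool.rec (fun _ => ℕ) (t7715_7717 i) (t7717_7720 i) (Nat.ble (nat_lit 7717) i)) (Nat.ble (nat_lit 7715) i)) (@Bool.rec (fun _ => ℕ) (@Bool.rec (fun _ => ℕ) (t7720_7722 i) (t7722_7725 i) (Nat.ble (nat_lit 7722) i)) (@Bool.rec (fun _ => ℕ) (t7725_7727 i) (t7727_7730 i) (Nat.ble (nat_lit 7727) i)) (Nat.ble (nat_lit 7725) i)) (Nat.ble (nat_lit 7720) i))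
noncomputable def t7730_7732 (i : ℕ) : ℕ := (@Bool.rec (fun _ => ℕ) l7730 l7731 (Nat.ble (nat_lit 7731) i))
noncomputable def t7732_7734 (i : ℕ) : ℕ := (@Bool.rec (fun _ => ℕ) l7732 l7733 (Nat.ble (nat_lit 7733) i))
noncomputable def t7734_7736 (i : ℕ) : ℕ := (@Bool.rec (fun _ => ℕ) l7734 l7735 (Nat.ble (nat_lit 7735) i))
noncomputable def t7736_7739 (i : ℕ) : ℕ := (@Bool.rec (fun _ => ℕ) l7736 (@Bool.rec (fun _ => ℕ) l7737 l7738 (Nat.ble (nat_lit 7738) i)) (Nat.ble (nat_lit 7737) i))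
noncomputable def t7739_7741 (i : ℕ) : ℕ := (@Bool.rec (fun _ => ℕ) l7739 l7740 (Nat.ble (nat_lit 7740) i))
noncomputable def t7741_7743 (i : ℕ) : ℕ := (@Bool.rec (fun _ => ℕ) l7741 l7742 (Nat.ble (nat_lit 7742) i))
noncomputable def t7743_7745 (i : ℕ) : ℕ := (@Bool.rec (fun _ => ℕ) l7743 l7744 (Nat.ble (nat_lit 7744) i))
noncomputable def t7745_7748 (i : ℕ) : ℕ := (@Bool.rec (fun _ => ℕ) l7745 (@Bool.rec (fun _ => ℕ) l7746 l7747 (Nat.ble (nat_lit 7747) i)) (Nat.ble (nat_lit 7746) i))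
noncomputable def t7730_7748 (i : ℕ) : ℕ := (@Bool.rec (fun _ => ℕ) (@Bool.rec (fun _ => ℕ) (@Bool.rec (fun _ => ℕ) (t7730_7732 i) (t7732_7734 i) (Nat.ble (nat_lit 7732) i)) (@Bool.rec (fun _ => ℕ) (t7734_7736 i) (t7736_7739 i) (Nat.ble (nat_lit 7736) i)) (Nat.ble (nat_lit 7734) i)) (@Bool.rec (fun _ => ℕ) (@Bool.rec (fun _ => ℕ) (t7739_7741 i) (t7741_7743 i) (Nat.ble (nat_lit 7741) i)) (@Bool.rec (fun _ => ℕ) (t7743_7745 i) (t7745_7748 i) (Nat.ble (nat_lit 7745) i)) (Nat.ble (nat_lit 7743) i)) (Nat.ble (nat_lit 7739) i))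
noncomputable def t7748_7750 (i : ℕ) : ℕ := (@Bool.rec (fun _ => ℕ) l7748 l7749 (Nat.ble (nat_lit 7749) i))
noncomputable def t7750_7752 (i : ℕ) : ℕ := (@Bool.rec (fun _ => ℕ) l7750 l7751 (Nat.ble (nat_lit 7751) i))
noncomputable def t7752_7754 (i : ℕ) : ℕ := (@Bool.rec (fun _ => ℕ) l7752 l7753 (Nat.ble (nat_lit 7753) i))
noncomputable def t7754_7757 (i : ℕ) : ℕ := (@Bool.rec (fun _ => ℕ) l7754 (@Bool.rec (fun _ => ℕ) l7755 l7756 (Nat.ble (nat_lit 7756) i)) (Nat.ble (nat_lit 7755) i))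
noncomputable def t7757_7759 (i : ℕ) : ℕ := (@Bool.rec (fun _ => ℕ) l7757 l7758 (Nat.ble (nat_lit 7758) i))
noncomputable def t7759_7762 (i : ℕ) : ℕ := (@Bool.rec (fun _ => ℕ) l7759 (@Bool.rec (fun _ => ℕ) l7760 l7761 (Nat.ble (nat_lit 7761) i)) (Nat.ble (nat_lit 7760) i))
noncomputable def t7762_7764 (i : ℕ) : ℕ := (@Bool.rec (fun _ => ℕ) l7762 l7763 (Nat.ble (nat_lit 7763) i))
noncomputable def t7764_7767 (i : ℕ) : ℕ := (@Bool.rec (fun _ => ℕ) l7764 (@Bool.rec (fun _ => ℕ) l7765 l7766 (Nat.ble (nat_lit 7766) i)) (Nat.ble (nat_lit 7765) i))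
noncomputable def t7748_7767 (i : ℕ) : ℕ := (@Bool.rec (fun _ => ℕ) (@Bool.rec (fun _ => ℕ) (@Bool.rec (fun _ => ℕ) (t7748_7750 i) (t7750_7752 i) (Nat.ble (nat_lit 7750) i)) (@Bool.rec (fun _ => ℕ) (t7752_7754 i) (t7754_7757 i) (Nat.ble (nat_lit 7754) i)) (Nat.ble (nat_lit 7752) i)) (@Bool.rec (fun _ => ℕ) (@Bool.rec (fun _ => ℕ) (t7757_7759 i) (t7759_7762 i) (Nat.ble (nat_lit 7759) i)) (@Bool.rec (fun _ => ℕ) (t7762_7764 i) (t7764_7767 i) (Nat.ble (nat_lit 7764) i)) (Nat.ble (nat_lit 7762) i)) (Nat.ble (nat_lit 7757) i))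
noncomputable def t7767_7769 (i : ℕ) : ℕ := (@Bool.rec (fun _ => ℕ) l7767 l7768 (Nat.ble (nat_lit 7768) i))
noncomputable def t7769_7771 (i : ℕ) : ℕ := (@Bool.rec (fun _ => ℕ) l7769 l7770 (Nat.ble (nat_lit 7770) i))
noncomputable def t7771_7773 (i : ℕ) : ℕ := (@Bool.rec (fun _ => ℕ) l7771 l7772 (Nat.ble (nat_lit 7772) i))
noncomputable def t7773_7776 (i : ℕ) : ℕ := (@Bool.rec (fun _ => ℕ) l7773 (@Bool.rec (fun _ => ℕ) l7774 l7775 (Nat.ble (nat_lit 7775) i)) (Nat.ble (nat_lit 7774) i))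
noncomputable def t7776_7778 (i : ℕ) : ℕ := (@Bool.rec (fun _ => ℕ) l7776 l7777 (Nat.ble (nat_lit 7777) i))
noncomputable def t7778_7781 (i : ℕ) : ℕ := (@Bool.rec (fun _ => ℕ) l7778 (@Bool.rec (fun _ => ℕ) l7779 l7780 (Nat.ble (nat_lit 7780) i)) (Nat.ble (nat_lit 7779) i))
noncomputable def t7781_7783 (i : ℕ) : ℕ := (@Bool.rec (fun _ => ℕ) l7781 l7782 (Nat.ble (nat_lit 7782) i))
noncomputable def t7783_7786 (i : ℕ) : ℕ := (@Bool.rec (fun _ => ℕ) l7783 (@Bool.rec (fun _ => ℕ) l7784 l7785 (Nat.ble (nat_lit 7785) i)) (Nat.ble (nat_lit 7784) i))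
noncomputable def t7767_7786 (i : ℕ) : ℕ := (@Bool.rec (fun _ => ℕ) (@Bool.rec (fun _ => ℕ) (@Bool.rec (fun _ => ℕ) (t7767_7769 i) (t7769_7771 i) (Nat.ble (nat_lit 7769) i)) (@Bool.rec (fun _ => ℕ) (t7771_7773 i) (t7773_7776 i) (Nat.ble (nat_lit 7773) i)) (Nat.ble (nat_lit 7771) i)) (@Bool.rec (fun _ => ℕ) (@Bool.rec (fun _ => ℕ) (t7776_7778 i) (t7778_7781 i) (Nat.ble (nat_lit 7778) i)) (@Bool.rec (fun _ => ℕ) (t7781_7783 i) (t7783_7786 i) (Nat.ble (nat_lit 7783) i)) (Nat.ble (nat_lit 7781) i)) (Nat.ble (nat_lit 7776) i))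
noncomputable def t7786_7788 (i : ℕ) : ℕ := (@Bool.rec (fun _ => ℕ) l7786 l7787 (Nat.ble (nat_lit 7787) i))
noncomputable def t7788_7790 (i : ℕ) : ℕ := (@Bool.rec (fun _ => ℕ) l7788 l7789 (Nat.ble (nat_lit 7789) i))
noncomputable def t7790_7792 (i : ℕ) : ℕ := (@Bool.rec (fun _ => ℕ) l7790 l7791 (Nat.ble (nat_lit 7791) i))
noncomputable def t7792_7795 (i : ℕ) : ℕ := (@Bool.rec (fun _ => ℕ) l7792 (@Bool.rec (fun _ => ℕ) l7793 l7794 (Nat.ble (nat_lit 7794) i)) (Nat.ble (nat_lit 7793) i))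
noncomputable def t7795_7797 (i : ℕ) : ℕ := (@Bool.rec (fun _ => ℕ) l7795 l7796 (Nat.ble (nat_lit 7796) i))
noncomputable def t7797_7800 (i : ℕ) : ℕ := (@Bool.rec (fun _ => ℕ) l7797 (@Bool.rec (fun _ => ℕ) l7798 l7799 (Nat.ble (nat_lit 7799) i)) (Nat.ble (nat_lit 7798) i))
noncomputable def t7800_7802 (i : ℕ) : ℕ := (@Bool.rec (fun _ => ℕ) l7800 l7801 (Nat.ble (nat_lit 7801) i))
noncomputable def t7802_7805 (i : ℕ) : ℕ := (@Bool.rec (fun _ => ℕ) l7802 (@Bool.rec (fun _ => ℕ) l7803 l7804 (Nat.ble (nat_lit 7804) i)) (Nat.ble (nat_lit 7803) i))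
noncomputable def t7786_7805 (i : ℕ) : ℕ := (@Bool.rec (fun _ => ℕ) (@Bool.rec (fun _ => ℕ) (@Bool.rec (fun _ => ℕ) (t7786_7788 i) (t7788_7790 i) (Nat.ble (nat_lit 7788) i)) (@Bool.rec (fun _ => ℕ) (t7790_7792 i) (t7792_7795 i) (Nat.ble (nat_lit 7792) i)) (Nat.ble (nat_lit 7790) i)) (@Bool.rec (fun _ => ℕ) (@Bool.rec (fun _ => ℕ) (t7795_7797 i) (t7797_7800 i) (Nat.ble (nat_lit 7797) i)) (@Bool.rec (fun _ => ℕ) (t7800_7802 i) (t7802_7805 i) (Nat.ble (nat_lit 7802) i)) (Nat.ble (nat_lit 7800) i)) (Nat.ble (nat_lit 7795) i))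
noncomputable def t7655_7805 (i : ℕ) : ℕ := (@Bool.rec (fun _ => ℕ) (@Bool.rec (fun _ => ℕ) (@Bool.rec (fun _ => ℕ) (t7655_7673 i) (t7673_7692 i) (Nat.ble (nat_lit 7673) i)) (@Bool.rec (fun _ => ℕ) (t7692_7711 i) (t7711_7730 i) (Nat.ble (nat_lit 7711) i)) (Nat.ble (nat_lit 7692) i)) (@Bool.rec (fun _ => ℕ) (@Bool.rec (fun _ => ℕ) (t7730_7748 i) (t7748_7767 i) (Nat.ble (nat_lit 7748) i)) (@Bool.rec (fun _ => ℕ) (t7767_7786 i) (t7786_7805 i) (Nat.ble (nat_lit 7786) i)) (Nat.ble (nat_lit 7767) i)) (Nat.ble (nat_lit 7730) i))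
noncomputable def t7805_7807 (i : ℕ) : ℕ := (@Bool.rec (fun _ => ℕ) l7805 l7806 (Nat.ble (nat_lit 7806) i))
noncomputable def t7807_7809 (i : ℕ) : ℕ := (@Bool.rec (fun _ => ℕ) l7807 l7808 (Nat.ble (nat_lit 7808) i))
noncomputable def t7809_7811 (i : ℕ) : ℕ := (@Bool.rec (fun _ => ℕ) l7809 l7810 (Nat.ble (nat_lit 7810) i))
noncomputable def t7811_7814 (i : ℕ) : ℕ := (@Bool.rec (fun _ => ℕ) l7811 (@Bool.rec (fun _ => ℕ) l7812 l7813 (Nat.ble (nat_lit 7813) i)) (Nat.ble (nat_lit 7812) i))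
noncomputable def t7814_7816 (i : ℕ) : ℕ := (@Bool.rec (fun _ => ℕ) l7814 l7815 (Nat.ble (nat_lit 7815) i))
noncomputable def t7816_7818 (i : ℕ) : ℕ := (@Bool.rec (fun _ => ℕ) l7816 l7817 (Nat.ble (nat_lit 7817) i))
noncomputable def t7818_7820 (i : ℕ) : ℕ := (@Bool.rec (fun _ => ℕ) l7818 l7819 (Nat.ble (nat_lit 7819) i))
noncomputable def t7820_7823 (i : ℕ) : ℕ := (@Bool.rec (fun _ => ℕ) l7820 (@Bool.rec (fun _ => ℕ) l7821 l7822 (Nat.ble (nat_lit 7822) i)) (Nat.ble (nat_lit 7821) i))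
noncomputable def t7805_7823 (i : ℕ) : ℕ := (@Bool.rec (fun _ => ℕ) (@Bool.rec (fun _ => ℕ) (@Bool.rec (fun _ => ℕ) (t7805_7807 i) (t7807_7809 i) (Nat.ble (nat_lit 7807) i)) (@Bool.rec (fun _ => ℕ) (t7809_7811 i) (t7811_7814 i) (Nat.ble (nat_lit 7811) i)) (Nat.ble (nat_lit 7809) i)) (@Bool.rec (fun _ => ℕ) (@Bool.rec (fun _ => ℕ) (t7814_7816 i) (t7816_7818 i) (Nat.ble (nat_lit 7816) i)) (@Bool.rec (fun _ => ℕ) (t7818_7820 i) (t7820_7823 i) (Nat.ble (nat_lit 7820) i)) (Nat.ble (nat_lit 7818) i)) (Nat.ble (nat_lit 7814) i))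
noncomputable def t7823_7825 (i : ℕ) : ℕ := (@Bool.rec (fun _ => ℕ) l7823 l7824 (Nat.ble (nat_lit 7824) i))
noncomputable def t7825_7827 (i : ℕ) : ℕ := (@Bool.rec (fun _ => ℕ) l7825 l7826 (Nat.ble (nat_lit 7826) i))
noncomputable def t7827_7829 (i : ℕ) : ℕ := (@Bool.rec (fun _ => ℕ) l7827 l7828 (Nat.ble (nat_lit 7828) i))
noncomputable def t7829_7832 (i : ℕ) : ℕ := (@Bool.rec (fun _ => ℕ) l7829 (@Bool.rec (fun _ => ℕ) l7830 l7831 (Nat.ble (nat_lit 7831) i)) (Nat.ble (nat_lit 7830) i))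
noncomputable def t7832_7834 (i : ℕ) : ℕ := (@Bool.rec (fun _ => ℕ) l7832 l7833 (Nat.ble (nat_lit 7833) i))
noncomputable def t7834_7837 (i : ℕ) : ℕ := (@Bool.rec (fun _ => ℕ) l7834 (@Bool.rec (fun _ => ℕ) l7835 l7836 (Nat.ble (nat_lit 7836) i)) (Nat.ble (nat_lit 7835) i))
noncomputable def t7837_7839 (i : ℕ) : ℕ := (@Bool.rec (fun _ => ℕ) l7837 l7838 (Nat.ble (nat_lit 7838) i))
noncomputable def t7839_7842 (i : ℕ) : ℕ := (@Bool.rec (fun _ => ℕ) l7839 (@Bool.rec (fun _ => ℕ) l7840 l7841 (Nat.ble (nat_lit 7841) i)) (Nat.ble (nat_lit 7840) i))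
noncomputable def t7823_7842 (i : ℕ) : ℕ := (@Bool.rec (fun _ => ℕ) (@Bool.rec (fun _ => ℕ) (@Bool.rec (fun _ => ℕ) (t7823_7825 i) (t7825_7827 i) (Nat.ble (nat_lit 7825) i)) (@Bool.rec (fun _ => ℕ) (t7827_7829 i) (t7829_7832 i) (Nat.ble (nat_lit 7829) i)) (Nat.ble (nat_lit 7827) i)) (@Bool.rec (fun _ => ℕ) (@Bool.rec (fun _ => ℕ) (t7832_7834 i) (t7834_7837 i) (Nat.ble (nat_lit 7834) i)) (@Bool.rec (fun _ => ℕ) (t7837_7839 i) (t7839_7842 i) (Nat.ble (nat_lit 7839) i)) (Nat.ble (nat_lit 7837) i)) (Nat.ble (nat_lit 7832) i))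
noncomputable def t7842_7844 (i : ℕ) : ℕ := (@Bool.rec (fun _ => ℕ) l7842 l7843 (Nat.ble (nat_lit 7843) i))
noncomputable def t7844_7846 (i : ℕ) : ℕ := (@Bool.rec (fun _ => ℕ) l7844 l7845 (Nat.ble (nat_lit 7845) i))
noncomputable def t7846_7848 (i : ℕ) : ℕ := (@Bool.rec (fun _ => ℕ) l7846 l7847 (Nat.ble (nat_lit 7847) i))
noncomputable def t7848_7851 (i : ℕ) : ℕ := (@Bool.rec (fun _ => ℕ) l7848 (@Bool.rec (fun _ => ℕ) l7849 l7850 (Nat.ble (nat_lit 7850) i)) (Nat.ble (nat_lit 7849) i))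
noncomputable def t7851_7853 (i : ℕ) : ℕ := (@Bool.rec (fun _ => ℕ) l7851 l7852 (Nat.ble (nat_lit 7852) i))
noncomputable def t7853_7856 (i : ℕ) : ℕ := (@Bool.rec (fun _ => ℕ) l7853 (@Bool.rec (fun _ => ℕ) l7854 l7855 (Nat.ble (nat_lit 7855) i)) (Nat.ble (nat_lit 7854) i))
noncomputable def t7856_7858 (i : ℕ) : ℕ := (@Bool.rec (fun _ => ℕ) l7856 l7857 (Nat.ble (nat_lit 7857) i))
noncomputable def t7858_7861 (i : ℕ) : ℕ := (@Bool.rec (fun _ => ℕ) l7858 (@Bool.rec (fun _ => ℕ) l7859 l7860 (Nat.ble (nat_lit 7860) i)) (Nat.ble (nat_lit 7859) i))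
noncomputable def t7842_7861 (i : ℕ) : ℕ := (@Bool.rec (fun _ => ℕ) (@Bool.rec (fun _ => ℕ) (@Bool.rec (fun _ => ℕ) (t7842_7844 i) (t7844_7846 i) (Nat.ble (nat_lit 7844) i)) (@Bool.rec (fun _ => ℕ) (t7846_7848 i) (t7848_7851 i) (Nat.ble (nat_lit 7848) i)) (Nat.ble (nat_lit 7846) i)) (@Bool.rec (fun _ => ℕ) (@Bool.rec (fun _ => ℕ) (t7851_7853 i) (t7853_7856 i) (Nat.ble (nat_lit 7853) i)) (@Bool.rec (fun _ => ℕ) (t7856_7858 i) (t7858_7861 i) (Nat.ble (nat_lit 7858) i)) (Nat.ble (nat_lit 7856) i)) (Nat.ble (nat_lit 7851) i))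
noncomputable def t7861_7863 (i : ℕ) : ℕ := (@Bool.rec (fun _ => ℕ) l7861 l7862 (Nat.ble (nat_lit 7862) i))
noncomputable def t7863_7865 (i : ℕ) : ℕ := (@Bool.rec (fun _ => ℕ) l7863 l7864 (Nat.ble (nat_lit 7864) i))
noncomputable def t7865_7867 (i : ℕ) : ℕ := (@Bool.rec (fun _ => ℕ) l7865 l7866 (Nat.ble (nat_lit 7866) i))
noncomputable def t7867_7870 (i : ℕ) : ℕ := (@Bool.rec (fun _ => ℕ) l7867 (@Bool.rec (fun _ => ℕ) l7868 l7869 (Nat.ble (nat_lit 7869) i)) (Nat.ble (nat_lit 7868) i))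
noncomputable def t7870_7872 (i : ℕ) : ℕ := (@Bool.rec (fun _ => ℕ) l7870 l7871 (Nat.ble (nat_lit 7871) i))
noncomputable def t7872_7875 (i : ℕ) : ℕ := (@Bool.rec (fun _ => ℕ) l7872 (@Bool.rec (fun _ => ℕ) l7873 l7874 (Nat.ble (nat_lit 7874) i)) (Nat.ble (nat_lit 7873) i))
noncomputable def t7875_7877 (i : ℕ) : ℕ := (@Bool.rec (fun _ => ℕ) l7875 l7876 (Nat.ble (nat_lit 7876) i))
noncomputable def t7877_7880 (i : ℕ) : ℕ := (@Bool.rec (fun _ => ℕ) l7877 (@Bool.rec (fun _ => ℕ) l7878 l7879 (Nat.ble (nat_lit 7879) i)) (Nat.ble (nat_lit 7878) i))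
noncomputable def t7861_7880 (i : ℕ) : ℕ := (@Bool.rec (fun _ => ℕ) (@Bool.rec (fun _ => ℕ) (@Bool.rec (fun _ => ℕ) (t7861_7863 i) (t7863_7865 i) (Nat.ble (nat_lit 7863) i)) (@Bool.rec (fun _ => ℕ) (t7865_7867 i) (t7867_7870 i) (Nat.ble (nat_lit 7867) i)) (Nat.ble (nat_lit 7865) i)) (@Bool.rec (fun _ => ℕ) (@Bool.rec (fun _ => ℕ) (t7870_7872 i) (t7872_7875 i) (Nat.ble (nat_lit 7872) i)) (@Bool.rec (fun _ => ℕ) (t7875_7877 i) (t7877_7880 i) (Nat.ble (nat_lit 7877) i)) (Nat.ble (nat_lit 7875) i)) (Nat.ble (nat_lit 7870) i))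
noncomputable def t7880_7882 (i : ℕ) : ℕ := (@Bool.rec (fun _ => ℕ) l7880 l7881 (Nat.ble (nat_lit 7881) i))
noncomputable def t7882_7884 (i : ℕ) : ℕ := (@Bool.rec (fun _ => ℕ) l7882 l7883 (Nat.ble (nat_lit 7883) i))
noncomputable def t7884_7886 (i : ℕ) : ℕ := (@Bool.rec (fun _ => ℕ) l7884 l7885 (Nat.ble (nat_lit 7885) i))
noncomputable def t7886_7889 (i : ℕ) : ℕ := (@Bool.rec (fun _ => ℕ) l7886 (@Bool.rec (fun _ => ℕ) l7887 l7888 (Nat.ble (nat_lit 7888) i)) (Nat.ble (nat_lit 7887) i))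
noncomputable def t7889_7891 (i : ℕ) : ℕ := (@Bool.rec (fun _ => ℕ) l7889 l7890 (Nat.ble (nat_lit 7890) i))
noncomputable def t7891_7893 (i : ℕ) : ℕ := (@Bool.rec (fun _ => ℕ) l7891 l7892 (Nat.ble (nat_lit 7892) i))
noncomputable def t7893_7895 (i : ℕ) : ℕ := (@Bool.rec (fun _ => ℕ) l7893 l7894 (Nat.ble (nat_lit 7894) i))
noncomputable def t7895_7898 (i : ℕ) : ℕ := (@Bool.rec (fun _ => ℕ) l7895 (@Bool.rec (fun _ => ℕ) l7896 l7897 (Nat.ble (nat_lit 7897) i)) (Nat.ble (nat_lit 7896) i))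
noncomputable def t7880_7898 (i : ℕ) : ℕ := (@Bool.rec (fun _ => ℕ) (@Bool.rec (fun _ => ℕ) (@Bool.rec (fun _ => ℕ) (t7880_7882 i) (t7882_7884 i) (Nat.ble (nat_lit 7882) i)) (@Bool.rec (fun _ => ℕ) (t7884_7886 i) (t7886_7889 i) (Nat.ble (nat_lit 7886) i)) (Nat.ble (nat_lit 7884) i)) (@Bool.rec (fun _ => ℕ) (@Bool.rec (fun _ => ℕ) (t7889_7891 i) (t7891_7893 i) (Nat.ble (nat_lit 7891) i)) (@Bool.rec (fun _ => ℕ) (t7893_7895 i) (t7895_7898 i) (Nat.ble (nat_lit 7895) i)) (Nat.ble (nat_lit 7893) i)) (Nat.ble (nat_lit 7889) i))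
noncomputable def t7898_7900 (i : ℕ) : ℕ := (@Bool.rec (fun _ => ℕ) l7898 l7899 (Nat.ble (nat_lit 7899) i))
noncomputable def t7900_7902 (i : ℕ) : ℕ := (@Bool.rec (fun _ => ℕ) l7900 l7901 (Nat.ble (nat_lit 7901) i))
noncomputable def t7902_7904 (i : ℕ) : ℕ := (@Bool.rec (fun _ => ℕ) l7902 l7903 (Nat.ble (nat_lit 7903) i))
noncomputable def t7904_7907 (i : ℕ) : ℕ := (@Bool.rec (fun _ => ℕ) l7904 (@Bool.rec (fun _ => ℕ) l7905 l7906 (Nat.ble (nat_lit 7906) i)) (Nat.ble (nat_lit 7905) i))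
noncomputable def t7907_7909 (i : ℕ) : ℕ := (@Bool.rec (fun _ => ℕ) l7907 l7908 (Nat.ble (nat_lit 7908) i))
noncomputable def t7909_7912 (i : ℕ) : ℕ := (@Bool.rec (fun _ => ℕ) l7909 (@Bool.rec (fun _ => ℕ) l7910 l7911 (Nat.ble (nat_lit 7911) i)) (Nat.ble (nat_lit 7910) i))
noncomputable def t7912_7914 (i : ℕ) : ℕ := (@Bool.rec (fun _ => ℕ) l7912 l7913 (Nat.ble (nat_lit 7913) i))
noncomputable def t7914_7917 (i : ℕ) : ℕ := (@Bool.rec (fun _ => ℕ) l7914 (@Bool.rec (fun _ => ℕ) l7915 l7916 (Nat.ble (nat_lit 7916) i)) (Nat.ble (nat_lit 7915) i))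
noncomputable def t7898_7917 (i : ℕ) : ℕ := (@Bool.rec (fun _ => ℕ) (@Bool.rec (fun _ => ℕ) (@Bool.rec (fun _ => ℕ) (t7898_7900 i) (t7900_7902 i) (Nat.ble (nat_lit 7900) i)) (@Bool.rec (fun _ => ℕ) (t7902_7904 i) (t7904_7907 i) (Nat.ble (nat_lit 7904) i)) (Nat.ble (nat_lit 7902) i)) (@Bool.rec (fun _ => ℕ) (@Bool.rec (fun _ => ℕ) (t7907_7909 i) (t7909_7912 i) (Nat.ble (nat_lit 7909) i)) (@Bool.rec (fun _ => ℕ) (t7912_7914 i) (t7914_7917 i) (Nat.ble (nat_lit 7914) i)) (Nat.ble (nat_lit 7912) i)) (Nat.ble (nat_lit 7907) i))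
noncomputable def t7917_7919 (i : ℕ) : ℕ := (@Bool.rec (fun _ => ℕ) l7917 l7918 (Nat.ble (nat_lit 7918) i))
noncomputable def t7919_7921 (i : ℕ) : ℕ := (@Bool.rec (fun _ => ℕ) l7919 l7920 (Nat.ble (nat_lit 7920) i))
noncomputable def t7921_7923 (i : ℕ) : ℕ := (@Bool.rec (fun _ => ℕ) l7921 l7922 (Nat.ble (nat_lit 7922) i))
noncomputable def t7923_7926 (i : ℕ) : ℕ := (@Bool.rec (fun _ => ℕ) l7923 (@Bool.rec (fun _ => ℕ) l7924 l7925 (Nat.ble (nat_lit 7925) i)) (Nat.ble (nat_lit 7924) i))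
noncomputable def t7926_7928 (i : ℕ) : ℕ := (@Bool.rec (fun _ => ℕ) l7926 l7927 (Nat.ble (nat_lit 7927) i))
noncomputable def t7928_7931 (i : ℕ) : ℕ := (@Bool.rec (fun _ => ℕ) l7928 (@Bool.rec (fun _ => ℕ) l7929 l7930 (Nat.ble (nat_lit 7930) i)) (Nat.ble (nat_lit 7929) i))
noncomputable def t7931_7933 (i : ℕ) : ℕ := (@Bool.rec (fun _ => ℕ) l7931 l7932 (Nat.ble (nat_lit 7932) i))
noncomputable def t7933_7936 (i : ℕ) : ℕ := (@Bool.rec (fun _ => ℕ) l7933 (@Bool.rec (fun _ => ℕ) l7934 l7935 (Nat.ble (nat_lit 7935) i)) (Nat.ble (nat_lit 7934) i))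
noncomputable def t7917_7936 (i : ℕ) : ℕ := (@Bool.rec (fun _ => ℕ) (@Bool.rec (fun _ => ℕ) (@Bool.rec (fun _ => ℕ) (t7917_7919 i) (t7919_7921 i) (Nat.ble (nat_lit 7919) i)) (@Bool.rec (fun _ => ℕ) (t7921_7923 i) (t7923_7926 i) (Nat.ble (nat_lit 7923) i)) (Nat.ble (nat_lit 7921) i)) (@Bool.rec (fun _ => ℕ) (@Bool.rec (fun _ => ℕ) (t7926_7928 i) (t7928_7931 i) (Nat.ble (nat_lit 7928) i)) (@Bool.rec (fun _ => ℕ) (t7931_7933 i) (t7933_7936 i) (Nat.ble (nat_lit 7933) i)) (Nat.ble (nat_lit 7931) i)) (Nat.ble (nat_lit 7926) i))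
noncomputable def t7936_7938 (i : ℕ) : ℕ := (@Bool.rec (fun _ => ℕ) l7936 l7937 (Nat.ble (nat_lit 7937) i))
noncomputable def t7938_7940 (i : ℕ) : ℕ := (@Bool.rec (fun _ => ℕ) l7938 l7939 (Nat.ble (nat_lit 7939) i))
noncomputable def t7940_7942 (i : ℕ) : ℕ := (@Bool.rec (fun _ => ℕ) l7940 l7941 (Nat.ble (nat_lit 7941) i))
noncomputable def t7942_7945 (i : ℕ) : ℕ := (@Bool.rec (fun _ => ℕ) l7942 (@Bool.rec (fun _ => ℕ) l7943 l7944 (Nat.ble (nat_lit 7944) i)) (Nat.ble (nat_lit 7943) i))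
noncomputable def t7945_7947 (i : ℕ) : ℕ := (@Bool.rec (fun _ => ℕ) l7945 l7946 (Nat.ble (nat_lit 7946) i))
noncomputable def t7947_7950 (i : ℕ) : ℕ := (@Bool.rec (fun _ => ℕ) l7947 (@Bool.rec (fun _ => ℕ) l7948 l7949 (Nat.ble (nat_lit 7949) i)) (Nat.ble (nat_lit 7948) i))
noncomputable def t7950_7952 (i : ℕ) : ℕ := (@Bool.rec (fun _ => ℕ) l7950 l7951 (Nat.ble (nat_lit 7951) i))
noncomputable def t7952_7955 (i : ℕ) : ℕ := (@Bool.rec (fun _ => ℕ) l7952 (@Bool.rec (fun _ => ℕ) l7953 l7954 (Nat.ble (nat_lit 7954) i)) (Nat.ble (nat_lit 7953) i))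
noncomputable def t7936_7955 (i : ℕ) : ℕ := (@Bool.rec (fun _ => ℕ) (@Bool.rec (fun _ => ℕ) (@Bool.rec (fun _ => ℕ) (t7936_7938 i) (t7938_7940 i) (Nat.ble (nat_lit 7938) i)) (@Bool.rec (fun _ => ℕ) (t7940_7942 i) (t7942_7945 i) (Nat.ble (nat_lit 7942) i)) (Nat.ble (nat_lit 7940) i)) (@Bool.rec (fun _ => ℕ) (@Bool.rec (fun _ => ℕ) (t7945_7947 i) (t7947_7950 i) (Nat.ble (nat_lit 7947) i)) (@Bool.rec (fun _ => ℕ) (t7950_7952 i) (t7952_7955 i) (Nat.ble (nat_lit 7952) i)) (Nat.ble (nat_lit 7950) i)) (Nat.ble (nat_lit 7945) i))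
noncomputable def t7805_7955 (i : ℕ) : ℕ := (@Bool.rec (fun _ => ℕ) (@Bool.rec (fun _ => ℕ) (@Bool.rec (fun _ => ℕ) (t7805_7823 i) (t7823_7842 i) (Nat.ble (nat_lit 7823) i)) (@Bool.rec (fun _ => ℕ) (t7842_7861 i) (t7861_7880 i) (Nat.ble (nat_lit 7861) i)) (Nat.ble (nat_lit 7842) i)) (@Bool.rec (fun _ => ℕ) (@Bool.rec (fun _ => ℕ) (t7880_7898 i) (t7898_7917 i) (Nat.ble (nat_lit 7898) i)) (@Bool.rec (fun _ => ℕ) (t7917_7936 i) (t7936_7955 i) (Nat.ble (nat_lit 7936) i)) (Nat.ble (nat_lit 7917) i)) (Nat.ble (nat_lit 7880) i))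
noncomputable def t7955_7957 (i : ℕ) : ℕ := (@Bool.rec (fun _ => ℕ) l7955 l7956 (Nat.ble (nat_lit 7956) i))
noncomputable def t7957_7959 (i : ℕ) : ℕ := (@Bool.rec (fun _ => ℕ) l7957 l7958 (Nat.ble (nat_lit 7958) i))
noncomputable def t7959_7961 (i : ℕ) : ℕ := (@Bool.rec (fun _ => ℕ) l7959 l7960 (Nat.ble (nat_lit 7960) i))
noncomputable def t7961_7964 (i : ℕ) : ℕ := (@Bool.rec (fun _ => ℕ) l7961 (@Bool.rec (fun _ => ℕ) l7962 l7963 (Nat.ble (nat_lit 7963) i)) (Nat.ble (nat_lit 7962) i))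
noncomputable def t7964_7966 (i : ℕ) : ℕ := (@Bool.rec (fun _ => ℕ) l7964 l7965 (Nat.ble (nat_lit 7965) i))
noncomputable def t7966_7968 (i : ℕ) : ℕ := (@Bool.rec (fun _ => ℕ) l7966 l7967 (Nat.ble (nat_lit 7967) i))
noncomputable def t7968_7970 (i : ℕ) : ℕ := (@Bool.rec (fun _ => ℕ) l7968 l7969 (Nat.ble (nat_lit 7969) i))
noncomputable def t7970_7973 (i : ℕ) : ℕ := (@Bool.rec (fun _ => ℕ) l7970 (@Bool.rec (fun _ => ℕ) l7971 l7972 (Nat.ble (nat_lit 7972) i)) (Nat.ble (nat_lit 7971) i))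
noncomputable def t7955_7973 (i : ℕ) : ℕ := (@Bool.rec (fun _ => ℕ) (@Bool.rec (fun _ => ℕ) (@Bool.rec (fun _ => ℕ) (t7955_7957 i) (t7957_7959 i) (Nat.ble (nat_lit 7957) i)) (@Bool.rec (fun _ => ℕ) (t7959_7961 i) (t7961_7964 i) (Nat.ble (nat_lit 7961) i)) (Nat.ble (nat_lit 7959) i)) (@Bool.rec (fun _ => ℕ) (@Bool.rec (fun _ => ℕ) (t7964_7966 i) (t7966_7968 i) (Nat.ble (nat_lit 7966) i)) (@Bool.rec (fun _ => ℕ) (t7968_7970 i) (t7970_7973 i) (Nat.ble (nat_lit 7970) i)) (Nat.ble (nat_lit 7968) i)) (Nat.ble (nat_lit 7964) i))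
noncomputable def t7973_7975 (i : ℕ) : ℕ := (@Bool.rec (fun _ => ℕ) l7973 l7974 (Nat.ble (nat_lit 7974) i))
noncomputable def t7975_7977 (i : ℕ) : ℕ := (@Bool.rec (fun _ => ℕ) l7975 l7976 (Nat.ble (nat_lit 7976) i))
noncomputable def t7977_7979 (i : ℕ) : ℕ := (@Bool.rec (fun _ => ℕ) l7977 l7978 (Nat.ble (nat_lit 7978) i))
noncomputable def t7979_7982 (i : ℕ) : ℕ := (@Bool.rec (fun _ => ℕ) l7979 (@Bool.rec (fun _ => ℕ) l7980 l7981 (Nat.ble (nat_lit 7981) i)) (Nat.ble (nat_lit 7980) i))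
noncomputable def t7982_7984 (i : ℕ) : ℕ := (@Bool.rec (fun _ => ℕ) l7982 l7983 (Nat.ble (nat_lit 7983) i))
noncomputable def t7984_7987 (i : ℕ) : ℕ := (@Bool.rec (fun _ => ℕ) l7984 (@Bool.rec (fun _ => ℕ) l7985 l7986 (Nat.ble (nat_lit 7986) i)) (Nat.ble (nat_lit 7985) i))
noncomputable def t7987_7989 (i : ℕ) : ℕ := (@Bool.rec (fun _ => ℕ) l7987 l7988 (Nat.ble (nat_lit 7988) i))
noncomputable def t7989_7992 (i : ℕ) : ℕ := (@Bool.rec (fun _ => ℕ) l7989 (@Bool.rec (fun _ => ℕ) l7990 l7991 (Nat.ble (nat_lit 7991) i)) (Nat.ble (nat_lit 7990) i))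
noncomputable def t7973_7992 (i : ℕ) : ℕ := (@Bool.rec (fun _ => ℕ) (@Bool.rec (fun _ => ℕ) (@Bool.rec (fun _ => ℕ) (t7973_7975 i) (t7975_7977 i) (Nat.ble (nat_lit 7975) i)) (@Bool.rec (fun _ => ℕ) (t7977_7979 i) (t7979_7982 i) (Nat.ble (nat_lit 7979) i)) (Nat.ble (nat_lit 7977) i)) (@Bool.rec (fun _ => ℕ) (@Bool.rec (fun _ => ℕ) (t7982_7984 i) (t7984_7987 i) (Nat.ble (nat_lit 7984) i)) (@Bool.rec (fun _ => ℕ) (t7987_7989 i) (t7989_7992 i) (Nat.ble (nat_lit 7989) i)) (Nat.ble (nat_lit 7987) i)) (Nat.ble (nat_lit 7982) i))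
noncomputable def t7992_7994 (i : ℕ) : ℕ := (@Bool.rec (fun _ => ℕ) l7992 l7993 (Nat.ble (nat_lit 7993) i))
noncomputable def t7994_7996 (i : ℕ) : ℕ := (@Bool.rec (fun _ => ℕ) l7994 l7995 (Nat.ble (nat_lit 7995) i))
noncomputable def t7996_7998 (i : ℕ) : ℕ := (@Bool.rec (fun _ => ℕ) l7996 l7997 (Nat.ble (nat_lit 7997) i))
noncomputable def t7998_8001 (i : ℕ) : ℕ := (@Bool.rec (fun _ => ℕ) l7998 (@Bool.rec (fun _ => ℕ) l7999 l8000 (Nat.ble (nat_lit 8000) i)) (Nat.ble (nat_lit 7999) i))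
noncomputable def t8001_8003 (i : ℕ) : ℕ := (@Bool.rec (fun _ => ℕ) l8001 l8002 (Nat.ble (nat_lit 8002) i))
noncomputable def t8003_8006 (i : ℕ) : ℕ := (@Bool.rec (fun _ => ℕ) l8003 (@Bool.rec (fun _ => ℕ) l8004 l8005 (Nat.ble (nat_lit 8005) i)) (Nat.ble (nat_lit 8004) i))
noncomputable def t8006_8008 (i : ℕ) : ℕ := (@Bool.rec (fun _ => ℕ) l8006 l8007 (Nat.ble (nat_lit 8007) i))
noncomputable def t8008_8011 (i : ℕ) : ℕ := (@Bool.rec (fun _ => ℕ) l8008 (@Bool.rec (fun _ => ℕ) l8009 l8010 (Nat.ble (nat_lit 8010) i)) (Nat.ble (nat_lit 8009) i))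
noncomputable def t7992_8011 (i : ℕ) : ℕ := (@Bool.rec (fun _ => ℕ) (@Bool.rec (fun _ => ℕ) (@Bool.rec (fun _ => ℕ) (t7992_7994 i) (t7994_7996 i) (Nat.ble (nat_lit 7994) i)) (@Bool.rec (fun _ => ℕ) (t7996_7998 i) (t7998_8001 i) (Nat.ble (nat_lit 7998) i)) (Nat.ble (nat_lit 7996) i)) (@Bool.rec (fun _ => ℕ) (@Bool.rec (fun _ => ℕ) (t8001_8003 i) (t8003_8006 i) (Nat.ble (nat_lit 8003) i)) (@Bool.rec (fun _ => ℕ) (t8006_8008 i) (t8008_8011 i) (Nat.ble (nat_lit 8008) i)) (Nat.ble (nat_lit 8006) i)) (Nat.ble (nat_lit 8001) i))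
noncomputable def t8011_8013 (i : ℕ) : ℕ := (@Bool.rec (fun _ => ℕ) l8011 l8012 (Nat.ble (nat_lit 8012) i))
noncomputable def t8013_8015 (i : ℕ) : ℕ := (@Bool.rec (fun _ => ℕ) l8013 l8014 (Nat.ble (nat_lit 8014) i))
noncomputable def t8015_8017 (i : ℕ) : ℕ := (@Bool.rec (fun _ => ℕ) l8015 l8016 (Nat.ble (nat_lit 8016) i))
noncomputable def t8017_8020 (i : ℕ) : ℕ := (@Bool.rec (fun _ => ℕ) l8017 (@Bool.rec (fun _ => ℕ) l8018 l8019 (Nat.ble (nat_lit 8019) i)) (Nat.ble (nat_lit 8018) i))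
noncomputable def t8020_8022 (i : ℕ) : ℕ := (@Bool.rec (fun _ => ℕ) l8020 l8021 (Nat.ble (nat_lit 8021) i))
noncomputable def t8022_8025 (i : ℕ) : ℕ := (@Bool.rec (fun _ => ℕ) l8022 (@Bool.rec (fun _ => ℕ) l8023 l8024 (Nat.ble (nat_lit 8024) i)) (Nat.ble (nat_lit 8023) i))
noncomputable def t8025_8027 (i : ℕ) : ℕ := (@Bool.rec (fun _ => ℕ) l8025 l8026 (Nat.ble (nat_lit 8026) i))
noncomputable def t8027_8030 (i : ℕ) : ℕ := (@Bool.rec (fun _ => ℕ) l8027 (@Bool.rec (fun _ => ℕ) l8028 l8029 (Nat.ble (nat_lit 8029) i)) (Nat.ble (nat_lit 8028) i))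
noncomputable def t8011_8030 (i : ℕ) : ℕ := (@Bool.rec (fun _ => ℕ) (@Bool.rec (fun _ => ℕ) (@Bool.rec (fun _ => ℕ) (t8011_8013 i) (t8013_8015 i) (Nat.ble (nat_lit 8013) i)) (@Bool.rec (fun _ => ℕ) (t8015_8017 i) (t8017_8020 i) (Nat.ble (nat_lit 8017) i)) (Nat.ble (nat_lit 8015) i)) (@Bool.rec (fun _ => ℕ) (@Bool.rec (fun _ => ℕ) (t8020_8022 i) (t8022_8025 i) (Nat.ble (nat_lit 8022) i)) (@Bool.rec (fun _ => ℕ) (t8025_8027 i) (t8027_8030 i) (Nat.ble (nat_lit 8027) i)) (Nat.ble (nat_lit 8025) i)) (Nat.ble (nat_lit 8020) i))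
noncomputable def t8030_8032 (i : ℕ) : ℕ := (@Bool.rec (fun _ => ℕ) l8030 l8031 (Nat.ble (nat_lit 8031) i))
noncomputable def t8032_8034 (i : ℕ) : ℕ := (@Bool.rec (fun _ => ℕ) l8032 l8033 (Nat.ble (nat_lit 8033) i))
noncomputable def t8034_8036 (i : ℕ) : ℕ := (@Bool.rec (fun _ => ℕ) l8034 l8035 (Nat.ble (nat_lit 8035) i))
noncomputable def t8036_8039 (i : ℕ) : ℕ := (@Bool.rec (fun _ => ℕ) l8036 (@Bool.rec (fun _ => ℕ) l8037 l8038 (Nat.ble (nat_lit 8038) i)) (Nat.ble (nat_lit 8037) i))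
noncomputable def t8039_8041 (i : ℕ) : ℕ := (@Bool.rec (fun _ => ℕ) l8039 l8040 (Nat.ble (nat_lit 8040) i))
noncomputable def t8041_8043 (i : ℕ) : ℕ := (@Bool.rec (fun _ => ℕ) l8041 l8042 (Nat.ble (nat_lit 8042) i))
noncomputable def t8043_8045 (i : ℕ) : ℕ := (@Bool.rec (fun _ => ℕ) l8043 l8044 (Nat.ble (nat_lit 8044) i))
noncomputable def t8045_8048 (i : ℕ) : ℕ := (@Bool.rec (fun _ => ℕ) l8045 (@Bool.rec (fun _ => ℕ) l8046 l8047 (Nat.ble (nat_lit 8047) i)) (Nat.ble (nat_lit 8046) i))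
noncomputable def t8030_8048 (i : ℕ) : ℕ := (@Bool.rec (fun _ => ℕ) (@Bool.rec (fun _ => ℕ) (@Bool.rec (fun _ => ℕ) (t8030_8032 i) (t8032_8034 i) (Nat.ble (nat_lit 8032) i)) (@Bool.rec (fun _ => ℕ) (t8034_8036 i) (t8036_8039 i) (Nat.ble (nat_lit 8036) i)) (Nat.ble (nat_lit 8034) i)) (@Bool.rec (fun _ => ℕ) (@Bool.rec (fun _ => ℕ) (t8039_8041 i) (t8041_8043 i) (Nat.ble (nat_lit 8041) i)) (@Bool.rec (fun _ => ℕ) (t8043_8045 i) (t8045_8048 i) (Nat.ble (nat_lit 8045) i)) (Nat.ble (nat_lit 8043) i)) (Nat.ble (nat_lit 8039) i))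
noncomputable def t8048_8050 (i : ℕ) : ℕ := (@Bool.rec (fun _ => ℕ) l8048 l8049 (Nat.ble (nat_lit 8049) i))
noncomputable def t8050_8052 (i : ℕ) : ℕ := (@Bool.rec (fun _ => ℕ) l8050 l8051 (Nat.ble (nat_lit 8051) i))
noncomputable def t8052_8054 (i : ℕ) : ℕ := (@Bool.rec (fun _ => ℕ) l8052 l8053 (Nat.ble (nat_lit 8053) i))
noncomputable def t8054_8057 (i : ℕ) : ℕ := (@Bool.rec (fun _ => ℕ) l8054 (@Bool.rec (fun _ => ℕ) l8055 l8056 (Nat.ble (nat_lit 8056) i)) (Nat.ble (nat_lit 8055) i))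
noncomputable def t8057_8059 (i : ℕ) : ℕ := (@Bool.rec (fun _ => ℕ) l8057 l8058 (Nat.ble (nat_lit 8058) i))
noncomputable def t8059_8062 (i : ℕ) : ℕ := (@Bool.rec (fun _ => ℕ) l8059 (@Bool.rec (fun _ => ℕ) l8060 l8061 (Nat.ble (nat_lit 8061) i)) (Nat.ble (nat_lit 8060) i))
noncomputable def t8062_8064 (i : ℕ) : ℕ := (@Bool.rec (fun _ => ℕ) l8062 l8063 (Nat.ble (nat_lit 8063) i))
noncomputable def t8064_8067 (i : ℕ) : ℕ := (@Bool.rec (fun _ => ℕ) l8064 (@Bool.rec (fun _ => ℕ) l8065 l8066 (Nat.ble (nat_lit 8066) i)) (Nat.ble (nat_lit 8065) i))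
noncomputable def t8048_8067 (i : ℕ) : ℕ := (@Bool.rec (fun _ => ℕ) (@Bool.rec (fun _ => ℕ) (@Bool.rec (fun _ => ℕ) (t8048_8050 i) (t8050_8052 i) (Nat.ble (nat_lit 8050) i)) (@Bool.rec (fun _ => ℕ) (t8052_8054 i) (t8054_8057 i) (Nat.ble (nat_lit 8054) i)) (Nat.ble (nat_lit 8052) i)) (@Bool.rec (fun _ => ℕ) (@Bool.rec (fun _ => ℕ) (t8057_8059 i) (t8059_8062 i) (Nat.ble (nat_lit 8059) i)) (@Bool.rec (fun _ => ℕ) (t8062_8064 i) (t8064_8067 i) (Nat.ble (nat_lit 8064) i)) (Nat.ble (nat_lit 8062) i)) (Nat.ble (nat_lit 8057) i))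
noncomputable def t8067_8069 (i : ℕ) : ℕ := (@Bool.rec (fun _ => ℕ) l8067 l8068 (Nat.ble (nat_lit 8068) i))
noncomputable def t8069_8071 (i : ℕ) : ℕ := (@Bool.rec (fun _ => ℕ) l8069 l8070 (Nat.ble (nat_lit 8070) i))
noncomputable def t8071_8073 (i : ℕ) : ℕ := (@Bool.rec (fun _ => ℕ) l8071 l8072 (Nat.ble (nat_lit 8072) i))
noncomputable def t8073_8076 (i : ℕ) : ℕ := (@Bool.rec (fun _ => ℕ) l8073 (@Bool.rec (fun _ => ℕ) l8074 l8075 (Nat.ble (nat_lit 8075) i)) (Nat.ble (nat_lit 8074) i))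
noncomputable def t8076_8078 (i : ℕ) : ℕ := (@Bool.rec (fun _ => ℕ) l8076 l8077 (Nat.ble (nat_lit 8077) i))
noncomputable def t8078_8081 (i : ℕ) : ℕ := (@Bool.rec (fun _ => ℕ) l8078 (@Bool.rec (fun _ => ℕ) l8079 l8080 (Nat.ble (nat_lit 8080) i)) (Nat.ble (nat_lit 8079) i))
noncomputable def t8081_8083 (i : ℕ) : ℕ := (@Bool.rec (fun _ => ℕ) l8081 l8082 (Nat.ble (nat_lit 8082) i))
noncomputable def t8083_8086 (i : ℕ) : ℕ := (@Bool.rec (fun _ => ℕ) l8083 (@Bool.rec (fun _ => ℕ) l8084 l8085 (Nat.ble (nat_lit 8085) i)) (Nat.ble (nat_lit 8084) i))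
noncomputable def t8067_8086 (i : ℕ) : ℕ := (@Bool.rec (fun _ => ℕ) (@Bool.rec (fun _ => ℕ) (@Bool.rec (fun _ => ℕ) (t8067_8069 i) (t8069_8071 i) (Nat.ble (nat_lit 8069) i)) (@Bool.rec (fun _ => ℕ) (t8071_8073 i) (t8073_8076 i) (Nat.ble (nat_lit 8073) i)) (Nat.ble (nat_lit 8071) i)) (@Bool.rec (fun _ => ℕ) (@Bool.rec (fun _ => ℕ) (t8076_8078 i) (t8078_8081 i) (Nat.ble (nat_lit 8078) i)) (@Bool.rec (fun _ => ℕ) (t8081_8083 i) (t8083_8086 i) (Nat.ble (nat_lit 8083) i)) (Nat.ble (nat_lit 8081) i)) (Nat.ble (nat_lit 8076) i))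
noncomputable def t8086_8088 (i : ℕ) : ℕ := (@Bool.rec (fun _ => ℕ) l8086 l8087 (Nat.ble (nat_lit 8087) i))
noncomputable def t8088_8090 (i : ℕ) : ℕ := (@Bool.rec (fun _ => ℕ) l8088 l8089 (Nat.ble (nat_lit 8089) i))
noncomputable def t8090_8092 (i : ℕ) : ℕ := (@Bool.rec (fun _ => ℕ) l8090 l8091 (Nat.ble (nat_lit 8091) i))
noncomputable def t8092_8095 (i : ℕ) : ℕ := (@Bool.rec (fun _ => ℕ) l8092 (@Bool.rec (fun _ => ℕ) l8093 l8094 (Nat.ble (nat_lit 8094) i)) (Nat.ble (nat_lit 8093) i))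
noncomputable def t8095_8097 (i : ℕ) : ℕ := (@Bool.rec (fun _ => ℕ) l8095 l8096 (Nat.ble (nat_lit 8096) i))
noncomputable def t8097_8100 (i : ℕ) : ℕ := (@Bool.rec (fun _ => ℕ) l8097 (@Bool.rec (fun _ => ℕ) l8098 l8099 (Nat.ble (nat_lit 8099) i)) (Nat.ble (nat_lit 8098) i))
noncomputable def t8100_8102 (i : ℕ) : ℕ := (@Bool.rec (fun _ => ℕ) l8100 l8101 (Nat.ble (nat_lit 8101) i))
noncomputable def t8102_8105 (i : ℕ) : ℕ := (@Bool.rec (fun _ => ℕ) l8102 (@Bool.rec (fun _ => ℕ) l8103 l8104 (Nat.ble (nat_lit 8104) i)) (Nat.ble (nat_lit 8103) i))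
noncomputable def t8086_8105 (i : ℕ) : ℕ := (@Bool.rec (fun _ => ℕ) (@Bool.rec (fun _ => ℕ) (@Bool.rec (fun _ => ℕ) (t8086_8088 i) (t8088_8090 i) (Nat.ble (nat_lit 8088) i)) (@Bool.rec (fun _ => ℕ) (t8090_8092 i) (t8092_8095 i) (Nat.ble (nat_lit 8092) i)) (Nat.ble (nat_lit 8090) i)) (@Bool.rec (fun _ => ℕ) (@Bool.rec (fun _ => ℕ) (t8095_8097 i) (t8097_8100 i) (Nat.ble (nat_lit 8097) i)) (@Bool.rec (fun _ => ℕ) (t8100_8102 i) (t8102_8105 i) (Nat.ble (nat_lit 8102) i)) (Nat.ble (nat_lit 8100) i)) (Nat.ble (nat_lit 8095) i))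
noncomputable def t7955_8105 (i : ℕ) : ℕ := (@Bool.rec (fun _ => ℕ) (@Bool.rec (fun _ => ℕ) (@Bool.rec (fun _ => ℕ) (t7955_7973 i) (t7973_7992 i) (Nat.ble (nat_lit 7973) i)) (@Bool.rec (fun _ => ℕ) (t7992_8011 i) (t8011_8030 i) (Nat.ble (nat_lit 8011) i)) (Nat.ble (nat_lit 7992) i)) (@Bool.rec (fun _ => ℕ) (@Bool.rec (fun _ => ℕ) (t8030_8048 i) (t8048_8067 i) (Nat.ble (nat_lit 8048) i)) (@Bool.rec (fun _ => ℕ) (t8067_8086 i) (t8086_8105 i) (Nat.ble (nat_lit 8086) i)) (Nat.ble (nat_lit 8067) i)) (Nat.ble (nat_lit 8030) i))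
noncomputable def t8105_8107 (i : ℕ) : ℕ := (@Bool.rec (fun _ => ℕ) l8105 l8106 (Nat.ble (nat_lit 8106) i))
noncomputable def t8107_8109 (i : ℕ) : ℕ := (@Bool.rec (fun _ => ℕ) l8107 l8108 (Nat.ble (nat_lit 8108) i))
noncomputable def t8109_8111 (i : ℕ) : ℕ := (@Bool.rec (fun _ => ℕ) l8109 l8110 (Nat.ble (nat_lit 8110) i))
noncomputable def t8111_8114 (i : ℕ) : ℕ := (@Bool.rec (fun _ => ℕ) l8111 (@Bool.rec (fun _ => ℕ) l8112 l8113 (Nat.ble (nat_lit 8113) i)) (Nat.ble (nat_lit 8112) i))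
noncomputable def t8114_8116 (i : ℕ) : ℕ := (@Bool.rec (fun _ => ℕ) l8114 l8115 (Nat.ble (nat_lit 8115) i))
noncomputable def t8116_8118 (i : ℕ) : ℕ := (@Bool.rec (fun _ => ℕ) l8116 l8117 (Nat.ble (nat_lit 8117) i))
noncomputable def t8118_8120 (i : ℕ) : ℕ := (@Bool.rec (fun _ => ℕ) l8118 l8119 (Nat.ble (nat_lit 8119) i))
noncomputable def t8120_8123 (i : ℕ) : ℕ := (@Bool.rec (fun _ => ℕ) l8120 (@Bool.rec (fun _ => ℕ) l8121 l8122 (Nat.ble (nat_lit 8122) i)) (Nat.ble (nat_lit 8121) i))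
noncomputable def t8105_8123 (i : ℕ) : ℕ := (@Bool.rec (fun _ => ℕ) (@Bool.rec (fun _ => ℕ) (@Bool.rec (fun _ => ℕ) (t8105_8107 i) (t8107_8109 i) (Nat.ble (nat_lit 8107) i)) (@Bool.rec (fun _ => ℕ) (t8109_8111 i) (t8111_8114 i) (Nat.ble (nat_lit 8111) i)) (Nat.ble (nat_lit 8109) i)) (@Bool.rec (fun _ => ℕ) (@Bool.rec (fun _ => ℕ) (t8114_8116 i) (t8116_8118 i) (Nat.ble (nat_lit 8116) i)) (@Bool.rec (fun _ => ℕ) (t8118_8120 i) (t8120_8123 i) (Nat.ble (nat_lit 8120) i)) (Nat.ble (nat_lit 8118) i)) (Nat.ble (nat_lit 8114) i))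
noncomputable def t8123_8125 (i : ℕ) : ℕ := (@Bool.rec (fun _ => ℕ) l8123 l8124 (Nat.ble (nat_lit 8124) i))
noncomputable def t8125_8127 (i : ℕ) : ℕ := (@Bool.rec (fun _ => ℕ) l8125 l8126 (Nat.ble (nat_lit 8126) i))
noncomputable def t8127_8129 (i : ℕ) : ℕ := (@Bool.rec (fun _ => ℕ) l8127 l8128 (Nat.ble (nat_lit 8128) i))
noncomputable def t8129_8132 (i : ℕ) : ℕ := (@Bool.rec (fun _ => ℕ) l8129 (@Bool.rec (fun _ => ℕ) l8130 l8131 (Nat.ble (nat_lit 8131) i)) (Nat.ble (nat_lit 8130) i))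
noncomputable def t8132_8134 (i : ℕ) : ℕ := (@Bool.rec (fun _ => ℕ) l8132 l8133 (Nat.ble (nat_lit 8133) i))
noncomputable def t8134_8137 (i : ℕ) : ℕ := (@Bool.rec (fun _ => ℕ) l8134 (@Bool.rec (fun _ => ℕ) l8135 l8136 (Nat.ble (nat_lit 8136) i)) (Nat.ble (nat_lit 8135) i))
noncomputable def t8137_8139 (i : ℕ) : ℕ := (@Bool.rec (fun _ => ℕ) l8137 l8138 (Nat.ble (nat_lit 8138) i))
noncomputable def t8139_8142 (i : ℕ) : ℕ := (@Bool.rec (fun _ => ℕ) l8139 (@Bool.rec (fun _ => ℕ) l8140 l8141 (Nat.ble (nat_lit 8141) i)) (Nat.ble (nat_lit 8140) i))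
noncomputable def t8123_8142 (i : ℕ) : ℕ := (@Bool.rec (fun _ => ℕ) (@Bool.rec (fun _ => ℕ) (@Bool.rec (fun _ => ℕ) (t8123_8125 i) (t8125_8127 i) (Nat.ble (nat_lit 8125) i)) (@Bool.rec (fun _ => ℕ) (t8127_8129 i) (t8129_8132 i) (Nat.ble (nat_lit 8129) i)) (Nat.ble (nat_lit 8127) i)) (@Bool.rec (fun _ => ℕ) (@Bool.rec (fun _ => ℕ) (t8132_8134 i) (t8134_8137 i) (Nat.ble (nat_lit 8134) i)) (@Bool.rec (fun _ => ℕ) (t8137_8139 i) (t8139_8142 i) (Nat.ble (nat_lit 8139) i)) (Nat.ble (nat_lit 8137) i)) (Nat.ble (nat_lit 8132) i))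
noncomputable def t8142_8144 (i : ℕ) : ℕ := (@Bool.rec (fun _ => ℕ) l8142 l8143 (Nat.ble (nat_lit 8143) i))
noncomputable def t8144_8146 (i : ℕ) : ℕ := (@Bool.rec (fun _ => ℕ) l8144 l8145 (Nat.ble (nat_lit 8145) i))
noncomputable def t8146_8148 (i : ℕ) : ℕ := (@Bool.rec (fun _ => ℕ) l8146 l8147 (Nat.ble (nat_lit 8147) i))
noncomputable def t8148_8151 (i : ℕ) : ℕ := (@Bool.rec (fun _ => ℕ) l8148 (@Bool.rec (fun _ => ℕ) l8149 l8150 (Nat.ble (nat_lit 8150) i)) (Nat.ble (nat_lit 8149) i))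
noncomputable def t8151_8153 (i : ℕ) : ℕ := (@Bool.rec (fun _ => ℕ) l8151 l8152 (Nat.ble (nat_lit 8152) i))
noncomputable def t8153_8156 (i : ℕ) : ℕ := (@Bool.rec (fun _ => ℕ) l8153 (@Bool.rec (fun _ => ℕ) l8154 l8155 (Nat.ble (nat_lit 8155) i)) (Nat.ble (nat_lit 8154) i))
noncomputable def t8156_8158 (i : ℕ) : ℕ := (@Bool.rec (fun _ => ℕ) l8156 l8157 (Nat.ble (nat_lit 8157) i))
noncomputable def t8158_8161 (i : ℕ) : ℕ := (@Bool.rec (fun _ => ℕ) l8158 (@Bool.rec (fun _ => ℕ) l8159 l8160 (Nat.ble (nat_lit 8160) i)) (Nat.ble (nat_lit 8159) i))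
noncomputable def t8142_8161 (i : ℕ) : ℕ := (@Bool.rec (fun _ => ℕ) (@Bool.rec (fun _ => ℕ) (@Bool.rec (fun _ => ℕ) (t8142_8144 i) (t8144_8146 i) (Nat.ble (nat_lit 8144) i)) (@Bool.rec (fun _ => ℕ) (t8146_8148 i) (t8148_8151 i) (Nat.ble (nat_lit 8148) i)) (Nat.ble (nat_lit 8146) i)) (@Bool.rec (fun _ => ℕ) (@Bool.rec (fun _ => ℕ) (t8151_8153 i) (t8153_8156 i) (Nat.ble (nat_lit 8153) i)) (@Bool.rec (fun _ => ℕ) (t8156_8158 i) (t8158_8161 i) (Nat.ble (nat_lit 8158) i)) (Nat.ble (nat_lit 8156) i)) (Nat.ble (nat_lit 8151) i))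
noncomputable def t8161_8163 (i : ℕ) : ℕ := (@Bool.rec (fun _ => ℕ) l8161 l8162 (Nat.ble (nat_lit 8162) i))
noncomputable def t8163_8165 (i : ℕ) : ℕ := (@Bool.rec (fun _ => ℕ) l8163 l8164 (Nat.ble (nat_lit 8164) i))
noncomputable def t8165_8167 (i : ℕ) : ℕ := (@Bool.rec (fun _ => ℕ) l8165 l8166 (Nat.ble (nat_lit 8166) i))
noncomputable def t8167_8170 (i : ℕ) : ℕ := (@Bool.rec (fun _ => ℕ) l8167 (@Bool.rec (fun _ => ℕ) l8168 l8169 (Nat.ble (nat_lit 8169) i)) (Nat.ble (nat_lit 8168) i))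
noncomputable def t8170_8172 (i : ℕ) : ℕ := (@Bool.rec (fun _ => ℕ) l8170 l8171 (Nat.ble (nat_lit 8171) i))
noncomputable def t8172_8175 (i : ℕ) : ℕ := (@Bool.rec (fun _ => ℕ) l8172 (@Bool.rec (fun _ => ℕ) l8173 l8174 (Nat.ble (nat_lit 8174) i)) (Nat.ble (nat_lit 8173) i))
noncomputable def t8175_8177 (i : ℕ) : ℕ := (@Bool.rec (fun _ => ℕ) l8175 l8176 (Nat.ble (nat_lit 8176) i))
noncomputable def t8177_8180 (i : ℕ) : ℕ := (@Bool.rec (fun _ => ℕ) l8177 (@Bool.rec (fun _ => ℕ) l8178 l8179 (Nat.ble (nat_lit 8179) i)) (Nat.ble (nat_lit 8178) i))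
noncomputable def t8161_8180 (i : ℕ) : ℕ := (@Bool.rec (fun _ => ℕ) (@Bool.rec (fun _ => ℕ) (@Bool.rec (fun _ => ℕ) (t8161_8163 i) (t8163_8165 i) (Nat.ble (nat_lit 8163) i)) (@Bool.rec (fun _ => ℕ) (t8165_8167 i) (t8167_8170 i) (Nat.ble (nat_lit 8167) i)) (Nat.ble (nat_lit 8165) i)) (@Bool.rec (fun _ => ℕ) (@Bool.rec (fun _ => ℕ) (t8170_8172 i) (t8172_8175 i) (Nat.ble (nat_lit 8172) i)) (@Bool.rec (fun _ => ℕ) (t8175_8177 i) (t8177_8180 i) (Nat.ble (nat_lit 8177) i)) (Nat.ble (nat_lit 8175) i)) (Nat.ble (nat_lit 8170) i))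
noncomputable def t8180_8182 (i : ℕ) : ℕ := (@Bool.rec (fun _ => ℕ) l8180 l8181 (Nat.ble (nat_lit 8181) i))
noncomputable def t8182_8184 (i : ℕ) : ℕ := (@Bool.rec (fun _ => ℕ) l8182 l8183 (Nat.ble (nat_lit 8183) i))
noncomputable def t8184_8186 (i : ℕ) : ℕ := (@Bool.rec (fun _ => ℕ) l8184 l8185 (Nat.ble (nat_lit 8185) i))
noncomputable def t8186_8189 (i : ℕ) : ℕ := (@Bool.rec (fun _ => ℕ) l8186 (@Bool.rec (fun _ => ℕ) l8187 l8188 (Nat.ble (nat_lit 8188) i)) (Nat.ble (nat_lit 8187) i))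
noncomputable def t8189_8191 (i : ℕ) : ℕ := (@Bool.rec (fun _ => ℕ) l8189 l8190 (Nat.ble (nat_lit 8190) i))
noncomputable def t8191_8193 (i : ℕ) : ℕ := (@Bool.rec (fun _ => ℕ) l8191 l8192 (Nat.ble (nat_lit 8192) i))
noncomputable def t8193_8195 (i : ℕ) : ℕ := (@Bool.rec (fun _ => ℕ) l8193 l8194 (Nat.ble (nat_lit 8194) i))
noncomputable def t8195_8198 (i : ℕ) : ℕ := (@Bool.rec (fun _ => ℕ) l8195 (@Bool.rec (fun _ => ℕ) l8196 l8197 (Nat.ble (nat_lit 8197) i)) (Nat.ble (nat_lit 8196) i))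
noncomputable def t8180_8198 (i : ℕ) : ℕ := (@Bool.rec (fun _ => ℕ) (@Bool.rec (fun _ => ℕ) (@Bool.rec (fun _ => ℕ) (t8180_8182 i) (t8182_8184 i) (Nat.ble (nat_lit 8182) i)) (@Bool.rec (fun _ => ℕ) (t8184_8186 i) (t8186_8189 i) (Nat.ble (nat_lit 8186) i)) (Nat.ble (nat_lit 8184) i)) (@Bool.rec (fun _ => ℕ) (@Bool.rec (fun _ => ℕ) (t8189_8191 i) (t8191_8193 i) (Nat.ble (nat_lit 8191) i)) (@Bool.rec (fun _ => ℕ) (t8193_8195 i) (t8195_8198 i) (Nat.ble (nat_lit 8195) i)) (Nat.ble (nat_lit 8193) i)) (Nat.ble (nat_lit 8189) i))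
noncomputable def t8198_8200 (i : ℕ) : ℕ := (@Bool.rec (fun _ => ℕ) l8198 l8199 (Nat.ble (nat_lit 8199) i))
noncomputable def t8200_8202 (i : ℕ) : ℕ := (@Bool.rec (fun _ => ℕ) l8200 l8201 (Nat.ble (nat_lit 8201) i))
noncomputable def t8202_8204 (i : ℕ) : ℕ := (@Bool.rec (fun _ => ℕ) l8202 l8203 (Nat.ble (nat_lit 8203) i))
noncomputable def t8204_8207 (i : ℕ) : ℕ := (@Bool.rec (fun _ => ℕ) l8204 (@Bool.rec (fun _ => ℕ) l8205 l8206 (Nat.ble (nat_lit 8206) i)) (Nat.ble (nat_lit 8205) i))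
noncomputable def t8207_8209 (i : ℕ) : ℕ := (@Bool.rec (fun _ => ℕ) l8207 l8208 (Nat.ble (nat_lit 8208) i))
noncomputable def t8209_8212 (i : ℕ) : ℕ := (@Bool.rec (fun _ => ℕ) l8209 (@Bool.rec (fun _ => ℕ) l8210 l8211 (Nat.ble (nat_lit 8211) i)) (Nat.ble (nat_lit 8210) i))
noncomputable def t8212_8214 (i : ℕ) : ℕ := (@Bool.rec (fun _ => ℕ) l8212 l8213 (Nat.ble (nat_lit 8213) i))
noncomputable def t8214_8217 (i : ℕ) : ℕ := (@Bool.rec (fun _ => ℕ) l8214 (@Bool.rec (fun _ => ℕ) l8215 l8216 (Nat.ble (nat_lit 8216) i)) (Nat.ble (nat_lit 8215) i))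
noncomputable def t8198_8217 (i : ℕ) : ℕ := (@Bool.rec (fun _ => ℕ) (@Bool.rec (fun _ => ℕ) (@Bool.rec (fun _ => ℕ) (t8198_8200 i) (t8200_8202 i) (Nat.ble (nat_lit 8200) i)) (@Bool.rec (fun _ => ℕ) (t8202_8204 i) (t8204_8207 i) (Nat.ble (nat_lit 8204) i)) (Nat.ble (nat_lit 8202) i)) (@Bool.rec (fun _ => ℕ) (@Bool.rec (fun _ => ℕ) (t8207_8209 i) (t8209_8212 i) (Nat.ble (nat_lit 8209) i)) (@Bool.rec (fun _ => ℕ) (t8212_8214 i) (t8214_8217 i) (Nat.ble (nat_lit 8214) i)) (Nat.ble (nat_lit 8212) i)) (Nat.ble (nat_lit 8207) i))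
noncomputable def t8217_8219 (i : ℕ) : ℕ := (@Bool.rec (fun _ => ℕ) l8217 l8218 (Nat.ble (nat_lit 8218) i))
noncomputable def t8219_8221 (i : ℕ) : ℕ := (@Bool.rec (fun _ => ℕ) l8219 l8220 (Nat.ble (nat_lit 8220) i))
noncomputable def t8221_8223 (i : ℕ) : ℕ := (@Bool.rec (fun _ => ℕ) l8221 l8222 (Nat.ble (nat_lit 8222) i))
noncomputable def t8223_8226 (i : ℕ) : ℕ := (@Bool.rec (fun _ => ℕ) l8223 (@Bool.rec (fun _ => ℕ) l8224 l8225 (Nat.ble (nat_lit 8225) i)) (Nat.ble (nat_lit 8224) i))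
noncomputable def t8226_8228 (i : ℕ) : ℕ := (@Bool.rec (fun _ => ℕ) l8226 l8227 (Nat.ble (nat_lit 8227) i))
noncomputable def t8228_8231 (i : ℕ) : ℕ := (@Bool.rec (fun _ => ℕ) l8228 (@Bool.rec (fun _ => ℕ) l8229 l8230 (Nat.ble (nat_lit 8230) i)) (Nat.ble (nat_lit 8229) i))
noncomputable def t8231_8233 (i : ℕ) : ℕ := (@Bool.rec (fun _ => ℕ) l8231 l8232 (Nat.ble (nat_lit 8232) i))
noncomputable def t8233_8236 (i : ℕ) : ℕ := (@Bool.rec (fun _ => ℕ) l8233 (@Bool.rec (fun _ => ℕ) l8234 l8235 (Nat.ble (nat_lit 8235) i)) (Nat.ble (nat_lit 8234) i))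
noncomputable def t8217_8236 (i : ℕ) : ℕ := (@Bool.rec (fun _ => ℕ) (@Bool.rec (fun _ => ℕ) (@Bool.rec (fun _ => ℕ) (t8217_8219 i) (t8219_8221 i) (Nat.ble (nat_lit 8219) i)) (@Bool.rec (fun _ => ℕ) (t8221_8223 i) (t8223_8226 i) (Nat.ble (nat_lit 8223) i)) (Nat.ble (nat_lit 8221) i)) (@Bool.rec (fun _ => ℕ) (@Bool.rec (fun _ => ℕ) (t8226_8228 i) (t8228_8231 i) (Nat.ble (nat_lit 8228) i)) (@Bool.rec (fun _ => ℕ) (t8231_8233 i) (t8233_8236 i) (Nat.ble (nat_lit 8233) i)) (Nat.ble (nat_lit 8231) i)) (Nat.ble (nat_lit 8226) i))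
noncomputable def t8236_8238 (i : ℕ) : ℕ := (@Bool.rec (fun _ => ℕ) l8236 l8237 (Nat.ble (nat_lit 8237) i))
noncomputable def t8238_8240 (i : ℕ) : ℕ := (@Bool.rec (fun _ => ℕ) l8238 l8239 (Nat.ble (nat_lit 8239) i))
noncomputable def t8240_8242 (i : ℕ) : ℕ := (@Bool.rec (fun _ => ℕ) l8240 l8241 (Nat.ble (nat_lit 8241) i))
noncomputable def t8242_8245 (i : ℕ) : ℕ := (@Bool.rec (fun _ => ℕ) l8242 (@Bool.rec (fun _ => ℕ) l8243 l8244 (Nat.ble (nat_lit 8244) i)) (Nat.ble (nat_lit 8243) i))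
noncomputable def t8245_8247 (i : ℕ) : ℕ := (@Bool.rec (fun _ => ℕ) l8245 l8246 (Nat.ble (nat_lit 8246) i))
noncomputable def t8247_8250 (i : ℕ) : ℕ := (@Bool.rec (fun _ => ℕ) l8247 (@Bool.rec (fun _ => ℕ) l8248 l8249 (Nat.ble (nat_lit 8249) i)) (Nat.ble (nat_lit 8248) i))
noncomputable def t8250_8252 (i : ℕ) : ℕ := (@Bool.rec (fun _ => ℕ) l8250 l8251 (Nat.ble (nat_lit 8251) i))
noncomputable def t8252_8255 (i : ℕ) : ℕ := (@Bool.rec (fun _ => ℕ) l8252 (@Bool.rec (fun _ => ℕ) l8253 l8254 (Nat.ble (nat_lit 8254) i)) (Nat.ble (nat_lit 8253) i))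
noncomputable def t8236_8255 (i : ℕ) : ℕ := (@Bool.rec (fun _ => ℕ) (@Bool.rec (fun _ => ℕ) (@Bool.rec (fun _ => ℕ) (t8236_8238 i) (t8238_8240 i) (Nat.ble (nat_lit 8238) i)) (@Bool.rec (fun _ => ℕ) (t8240_8242 i) (t8242_8245 i) (Nat.ble (nat_lit 8242) i)) (Nat.ble (nat_lit 8240) i)) (@Bool.rec (fun _ => ℕ) (@Bool.rec (fun _ => ℕ) (t8245_8247 i) (t8247_8250 i) (Nat.ble (nat_lit 8247) i)) (@Bool.rec (fun _ => ℕ) (t8250_8252 i) (t8252_8255 i) (Nat.ble (nat_lit 8252) i)) (Nat.ble (nat_lit 8250) i)) (Nat.ble (nat_lit 8245) i))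
noncomputable def t8105_8255 (i : ℕ) : ℕ := (@Bool.rec (fun _ => ℕ) (@Bool.rec (fun _ => ℕ) (@Bool.rec (fun _ => ℕ) (t8105_8123 i) (t8123_8142 i) (Nat.ble (nat_lit 8123) i)) (@Bool.rec (fun _ => ℕ) (t8142_8161 i) (t8161_8180 i) (Nat.ble (nat_lit 8161) i)) (Nat.ble (nat_lit 8142) i)) (@Bool.rec (fun _ => ℕ) (@Bool.rec (fun _ => ℕ) (t8180_8198 i) (t8198_8217 i) (Nat.ble (nat_lit 8198) i)) (@Bool.rec (fun _ => ℕ) (t8217_8236 i) (t8236_8255 i) (Nat.ble (nat_lit 8236) i)) (Nat.ble (nat_lit 8217) i)) (Nat.ble (nat_lit 8180) i))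
noncomputable def t8255_8257 (i : ℕ) : ℕ := (@Bool.rec (fun _ => ℕ) l8255 l8256 (Nat.ble (nat_lit 8256) i))
noncomputable def t8257_8259 (i : ℕ) : ℕ := (@Bool.rec (fun _ => ℕ) l8257 l8258 (Nat.ble (nat_lit 8258) i))
noncomputable def t8259_8261 (i : ℕ) : ℕ := (@Bool.rec (fun _ => ℕ) l8259 l8260 (Nat.ble (nat_lit 8260) i))
noncomputable def t8261_8264 (i : ℕ) : ℕ := (@Bool.rec (fun _ => ℕ) l8261 (@Bool.rec (fun _ => ℕ) l8262 l8263 (Nat.ble (nat_lit 8263) i)) (Nat.ble (nat_lit 8262) i))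
noncomputable def t8264_8266 (i : ℕ) : ℕ := (@Bool.rec (fun _ => ℕ) l8264 l8265 (Nat.ble (nat_lit 8265) i))
noncomputable def t8266_8268 (i : ℕ) : ℕ := (@Bool.rec (fun _ => ℕ) l8266 l8267 (Nat.ble (nat_lit 8267) i))
noncomputable def t8268_8270 (i : ℕ) : ℕ := (@Bool.rec (fun _ => ℕ) l8268 l8269 (Nat.ble (nat_lit 8269) i))
noncomputable def t8270_8273 (i : ℕ) : ℕ := (@Bool.rec (fun _ => ℕ) l8270 (@Bool.rec (fun _ => ℕ) l8271 l8272 (Nat.ble (nat_lit 8272) i)) (Nat.ble (nat_lit 8271) i))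
noncomputable def t8255_8273 (i : ℕ) : ℕ := (@Bool.rec (fun _ => ℕ) (@Bool.rec (fun _ => ℕ) (@Bool.rec (fun _ => ℕ) (t8255_8257 i) (t8257_8259 i) (Nat.ble (nat_lit 8257) i)) (@Bool.rec (fun _ => ℕ) (t8259_8261 i) (t8261_8264 i) (Nat.ble (nat_lit 8261) i)) (Nat.ble (nat_lit 8259) i)) (@Bool.rec (fun _ => ℕ) (@Bool.rec (fun _ => ℕ) (t8264_8266 i) (t8266_8268 i) (Nat.ble (nat_lit 8266) i)) (@Bool.rec (fun _ => ℕ) (t8268_8270 i) (t8270_8273 i) (Nat.ble (nat_lit 8270) i)) (Nat.ble (nat_lit 8268) i)) (Nat.ble (nat_lit 8264) i))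
noncomputable def t8273_8275 (i : ℕ) : ℕ := (@Bool.rec (fun _ => ℕ) l8273 l8274 (Nat.ble (nat_lit 8274) i))
noncomputable def t8275_8277 (i : ℕ) : ℕ := (@Bool.rec (fun _ => ℕ) l8275 l8276 (Nat.ble (nat_lit 8276) i))
noncomputable def t8277_8279 (i : ℕ) : ℕ := (@Bool.rec (fun _ => ℕ) l8277 l8278 (Nat.ble (nat_lit 8278) i))
noncomputable def t8279_8282 (i : ℕ) : ℕ := (@Bool.rec (fun _ => ℕ) l8279 (@Bool.rec (fun _ => ℕ) l8280 l8281 (Nat.ble (nat_lit 8281) i)) (Nat.ble (nat_lit 8280) i))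
noncomputable def t8282_8284 (i : ℕ) : ℕ := (@Bool.rec (fun _ => ℕ) l8282 l8283 (Nat.ble (nat_lit 8283) i))
noncomputable def t8284_8287 (i : ℕ) : ℕ := (@Bool.rec (fun _ => ℕ) l8284 (@Bool.rec (fun _ => ℕ) l8285 l8286 (Nat.ble (nat_lit 8286) i)) (Nat.ble (nat_lit 8285) i))
noncomputable def t8287_8289 (i : ℕ) : ℕ := (@Bool.rec (fun _ => ℕ) l8287 l8288 (Nat.ble (nat_lit 8288) i))
noncomputable def t8289_8292 (i : ℕ) : ℕ := (@Bool.rec (fun _ => ℕ) l8289 (@Bool.rec (fun _ => ℕ) l8290 l8291 (Nat.ble (nat_lit 8291) i)) (Nat.ble (nat_lit 8290) i))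
noncomputable def t8273_8292 (i : ℕ) : ℕ := (@Bool.rec (fun _ => ℕ) (@Bool.rec (fun _ => ℕ) (@Bool.rec (fun _ => ℕ) (t8273_8275 i) (t8275_8277 i) (Nat.ble (nat_lit 8275) i)) (@Bool.rec (fun _ => ℕ) (t8277_8279 i) (t8279_8282 i) (Nat.ble (nat_lit 8279) i)) (Nat.ble (nat_lit 8277) i)) (@Bool.rec (fun _ => ℕ) (@Bool.rec (fun _ => ℕ) (t8282_8284 i) (t8284_8287 i) (Nat.ble (nat_lit 8284) i)) (@Bool.rec (fun _ => ℕ) (t8287_8289 i) (t8289_8292 i) (Nat.ble (nat_lit 8289) i)) (Nat.ble (nat_lit 8287) i)) (Nat.ble (nat_lit 8282) i))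
noncomputable def t8292_8294 (i : ℕ) : ℕ := (@Bool.rec (fun _ => ℕ) l8292 l8293 (Nat.ble (nat_lit 8293) i))
noncomputable def t8294_8296 (i : ℕ) : ℕ := (@Bool.rec (fun _ => ℕ) l8294 l8295 (Nat.ble (nat_lit 8295) i))
noncomputable def t8296_8298 (i : ℕ) : ℕ := (@Bool.rec (fun _ => ℕ) l8296 l8297 (Nat.ble (nat_lit 8297) i))
noncomputable def t8298_8301 (i : ℕ) : ℕ := (@Bool.rec (fun _ => ℕ) l8298 (@Bool.rec (fun _ => ℕ) l8299 l8300 (Nat.ble (nat_lit 8300) i)) (Nat.ble (nat_lit 8299) i))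
noncomputable def t8301_8303 (i : ℕ) : ℕ := (@Bool.rec (fun _ => ℕ) l8301 l8302 (Nat.ble (nat_lit 8302) i))
noncomputable def t8303_8306 (i : ℕ) : ℕ := (@Bool.rec (fun _ => ℕ) l8303 (@Bool.rec (fun _ => ℕ) l8304 l8305 (Nat.ble (nat_lit 8305) i)) (Nat.ble (nat_lit 8304) i))
noncomputable def t8306_8308 (i : ℕ) : ℕ := (@Bool.rec (fun _ => ℕ) l8306 l8307 (Nat.ble (nat_lit 8307) i))
noncomputable def t8308_8311 (i : ℕ) : ℕ := (@Bool.rec (fun _ => ℕ) l8308 (@Bool.rec (fun _ => ℕ) l8309 l8310 (Nat.ble (nat_lit 8310) i)) (Nat.ble (nat_lit 8309) i))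
noncomputable def t8292_8311 (i : ℕ) : ℕ := (@Bool.rec (fun _ => ℕ) (@Bool.rec (fun _ => ℕ) (@Bool.rec (fun _ => ℕ) (t8292_8294 i) (t8294_8296 i) (Nat.ble (nat_lit 8294) i)) (@Bool.rec (fun _ => ℕ) (t8296_8298 i) (t8298_8301 i) (Nat.ble (nat_lit 8298) i)) (Nat.ble (nat_lit 8296) i)) (@Bool.rec (fun _ => ℕ) (@Bool.rec (fun _ => ℕ) (t8301_8303 i) (t8303_8306 i) (Nat.ble (nat_lit 8303) i)) (@Bool.rec (fun _ => ℕ) (t8306_8308 i) (t8308_8311 i) (Nat.ble (nat_lit 8308) i)) (Nat.ble (nat_lit 8306) i)) (Nat.ble (nat_lit 8301) i))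
noncomputable def t8311_8313 (i : ℕ) : ℕ := (@Bool.rec (fun _ => ℕ) l8311 l8312 (Nat.ble (nat_lit 8312) i))
noncomputable def t8313_8315 (i : ℕ) : ℕ := (@Bool.rec (fun _ => ℕ) l8313 l8314 (Nat.ble (nat_lit 8314) i))
noncomputable def t8315_8317 (i : ℕ) : ℕ := (@Bool.rec (fun _ => ℕ) l8315 l8316 (Nat.ble (nat_lit 8316) i))
noncomputable def t8317_8320 (i : ℕ) : ℕ := (@Bool.rec (fun _ => ℕ) l8317 (@Bool.rec (fun _ => ℕ) l8318 l8319 (Nat.ble (nat_lit 8319) i)) (Nat.ble (nat_lit 8318) i))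
noncomputable def t8320_8322 (i : ℕ) : ℕ := (@Bool.rec (fun _ => ℕ) l8320 l8321 (Nat.ble (nat_lit 8321) i))
noncomputable def t8322_8325 (i : ℕ) : ℕ := (@Bool.rec (fun _ => ℕ) l8322 (@Bool.rec (fun _ => ℕ) l8323 l8324 (Nat.ble (nat_lit 8324) i)) (Nat.ble (nat_lit 8323) i))
noncomputable def t8325_8327 (i : ℕ) : ℕ := (@Bool.rec (fun _ => ℕ) l8325 l8326 (Nat.ble (nat_lit 8326) i))
noncomputable def t8327_8330 (i : ℕ) : ℕ := (@Bool.rec (fun _ => ℕ) l8327 (@Bool.rec (fun _ => ℕ) l8328 l8329 (Nat.ble (nat_lit 8329) i)) (Nat.ble (nat_lit 8328) i))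
noncomputable def t8311_8330 (i : ℕ) : ℕ := (@Bool.rec (fun _ => ℕ) (@Bool.rec (fun _ => ℕ) (@Bool.rec (fun _ => ℕ) (t8311_8313 i) (t8313_8315 i) (Nat.ble (nat_lit 8313) i)) (@Bool.rec (fun _ => ℕ) (t8315_8317 i) (t8317_8320 i) (Nat.ble (nat_lit 8317) i)) (Nat.ble (nat_lit 8315) i)) (@Bool.rec (fun _ => ℕ) (@Bool.rec (fun _ => ℕ) (t8320_8322 i) (t8322_8325 i) (Nat.ble (nat_lit 8322) i)) (@Bool.rec (fun _ => ℕ) (t8325_8327 i) (t8327_8330 i) (Nat.ble (nat_lit 8327) i)) (Nat.ble (nat_lit 8325) i)) (Nat.ble (nat_lit 8320) i))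
noncomputable def t8330_8332 (i : ℕ) : ℕ := (@Bool.rec (fun _ => ℕ) l8330 l8331 (Nat.ble (nat_lit 8331) i))
noncomputable def t8332_8334 (i : ℕ) : ℕ := (@Bool.rec (fun _ => ℕ) l8332 l8333 (Nat.ble (nat_lit 8333) i))
noncomputable def t8334_8336 (i : ℕ) : ℕ := (@Bool.rec (fun _ => ℕ) l8334 l8335 (Nat.ble (nat_lit 8335) i))
noncomputable def t8336_8339 (i : ℕ) : ℕ := (@Bool.rec (fun _ => ℕ) l8336 (@Bool.rec (fun _ => ℕ) l8337 l8338 (Nat.ble (nat_lit 8338) i)) (Nat.ble (nat_lit 8337) i))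
noncomputable def t8339_8341 (i : ℕ) : ℕ := (@Bool.rec (fun _ => ℕ) l8339 l8340 (Nat.ble (nat_lit 8340) i))
noncomputable def t8341_8344 (i : ℕ) : ℕ := (@Bool.rec (fun _ => ℕ) l8341 (@Bool.rec (fun _ => ℕ) l8342 l8343 (Nat.ble (nat_lit 8343) i)) (Nat.ble (nat_lit 8342) i))
noncomputable def t8344_8346 (i : ℕ) : ℕ := (@Bool.rec (fun _ => ℕ) l8344 l8345 (Nat.ble (nat_lit 8345) i))
noncomputable def t8346_8349 (i : ℕ) : ℕ := (@Bool.rec (fun _ => ℕ) l8346 (@Bool.rec (fun _ => ℕ) l8347 l8348 (Nat.ble (nat_lit 8348) i)) (Nat.ble (nat_lit 8347) i))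
noncomputable def t8330_8349 (i : ℕ) : ℕ := (@Bool.rec (fun _ => ℕ) (@Bool.rec (fun _ => ℕ) (@Bool.rec (fun _ => ℕ) (t8330_8332 i) (t8332_8334 i) (Nat.ble (nat_lit 8332) i)) (@Bool.rec (fun _ => ℕ) (t8334_8336 i) (t8336_8339 i) (Nat.ble (nat_lit 8336) i)) (Nat.ble (nat_lit 8334) i)) (@Bool.rec (fun _ => ℕ) (@Bool.rec (fun _ => ℕ) (t8339_8341 i) (t8341_8344 i) (Nat.ble (nat_lit 8341) i)) (@Bool.rec (fun _ => ℕ) (t8344_8346 i) (t8346_8349 i) (Nat.ble (nat_lit 8346) i)) (Nat.ble (nat_lit 8344) i)) (Nat.ble (nat_lit 8339) i))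
noncomputable def t8349_8351 (i : ℕ) : ℕ := (@Bool.rec (fun _ => ℕ) l8349 l8350 (Nat.ble (nat_lit 8350) i))
noncomputable def t8351_8353 (i : ℕ) : ℕ := (@Bool.rec (fun _ => ℕ) l8351 l8352 (Nat.ble (nat_lit 8352) i))
noncomputable def t8353_8355 (i : ℕ) : ℕ := (@Bool.rec (fun _ => ℕ) l8353 l8354 (Nat.ble (nat_lit 8354) i))
noncomputable def t8355_8358 (i : ℕ) : ℕ := (@Bool.rec (fun _ => ℕ) l8355 (@Bool.rec (fun _ => ℕ) l8356 l8357 (Nat.ble (nat_lit 8357) i)) (Nat.ble (nat_lit 8356) i))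
noncomputable def t8358_8360 (i : ℕ) : ℕ := (@Bool.rec (fun _ => ℕ) l8358 l8359 (Nat.ble (nat_lit 8359) i))
noncomputable def t8360_8363 (i : ℕ) : ℕ := (@Bool.rec (fun _ => ℕ) l8360 (@Bool.rec (fun _ => ℕ) l8361 l8362 (Nat.ble (nat_lit 8362) i)) (Nat.ble (nat_lit 8361) i))
noncomputable def t8363_8365 (i : ℕ) : ℕ := (@Bool.rec (fun _ => ℕ) l8363 l8364 (Nat.ble (nat_lit 8364) i))
noncomputable def t8365_8368 (i : ℕ) : ℕ := (@Bool.rec (fun _ => ℕ) l8365 (@Bool.rec (fun _ => ℕ) l8366 l8367 (Nat.ble (nat_lit 8367) i)) (Nat.ble (nat_lit 8366) i))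
noncomputable def t8349_8368 (i : ℕ) : ℕ := (@Bool.rec (fun _ => ℕ) (@Bool.rec (fun _ => ℕ) (@Bool.rec (fun _ => ℕ) (t8349_8351 i) (t8351_8353 i) (Nat.ble (nat_lit 8351) i)) (@Bool.rec (fun _ => ℕ) (t8353_8355 i) (t8355_8358 i) (Nat.ble (nat_lit 8355) i)) (Nat.ble (nat_lit 8353) i)) (@Bool.rec (fun _ => ℕ) (@Bool.rec (fun _ => ℕ) (t8358_8360 i) (t8360_8363 i) (Nat.ble (nat_lit 8360) i)) (@Bool.rec (fun _ => ℕ) (t8363_8365 i) (t8365_8368 i) (Nat.ble (nat_lit 8365) i)) (Nat.ble (nat_lit 8363) i)) (Nat.ble (nat_lit 8358) i))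
noncomputable def t8368_8370 (i : ℕ) : ℕ := (@Bool.rec (fun _ => ℕ) l8368 l8369 (Nat.ble (nat_lit 8369) i))
noncomputable def t8370_8372 (i : ℕ) : ℕ := (@Bool.rec (fun _ => ℕ) l8370 l8371 (Nat.ble (nat_lit 8371) i))
noncomputable def t8372_8374 (i : ℕ) : ℕ := (@Bool.rec (fun _ => ℕ) l8372 l8373 (Nat.ble (nat_lit 8373) i))
noncomputable def t8374_8377 (i : ℕ) : ℕ := (@Bool.rec (fun _ => ℕ) l8374 (@Bool.rec (fun _ => ℕ) l8375 l8376 (Nat.ble (nat_lit 8376) i)) (Nat.ble (nat_lit 8375) i))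
noncomputable def t8377_8379 (i : ℕ) : ℕ := (@Bool.rec (fun _ => ℕ) l8377 l8378 (Nat.ble (nat_lit 8378) i))
noncomputable def t8379_8382 (i : ℕ) : ℕ := (@Bool.rec (fun _ => ℕ) l8379 (@Bool.rec (fun _ => ℕ) l8380 l8381 (Nat.ble (nat_lit 8381) i)) (Nat.ble (nat_lit 8380) i))
noncomputable def t8382_8384 (i : ℕ) : ℕ := (@Bool.rec (fun _ => ℕ) l8382 l8383 (Nat.ble (nat_lit 8383) i))
noncomputable def t8384_8387 (i : ℕ) : ℕ := (@Bool.rec (fun _ => ℕ) l8384 (@Bool.rec (fun _ => ℕ) l8385 l8386 (Nat.ble (nat_lit 8386) i)) (Nat.ble (nat_lit 8385) i))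
noncomputable def t8368_8387 (i : ℕ) : ℕ := (@Bool.rec (fun _ => ℕ) (@Bool.rec (fun _ => ℕ) (@Bool.rec (fun _ => ℕ) (t8368_8370 i) (t8370_8372 i) (Nat.ble (nat_lit 8370) i)) (@Bool.rec (fun _ => ℕ) (t8372_8374 i) (t8374_8377 i) (Nat.ble (nat_lit 8374) i)) (Nat.ble (nat_lit 8372) i)) (@Bool.rec (fun _ => ℕ) (@Bool.rec (fun _ => ℕ) (t8377_8379 i) (t8379_8382 i) (Nat.ble (nat_lit 8379) i)) (@Bool.rec (fun _ => ℕ) (t8382_8384 i) (t8384_8387 i) (Nat.ble (nat_lit 8384) i)) (Nat.ble (nat_lit 8382) i)) (Nat.ble (nat_lit 8377) i))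
noncomputable def t8387_8389 (i : ℕ) : ℕ := (@Bool.rec (fun _ => ℕ) l8387 l8388 (Nat.ble (nat_lit 8388) i))
noncomputable def t8389_8391 (i : ℕ) : ℕ := (@Bool.rec (fun _ => ℕ) l8389 l8390 (Nat.ble (nat_lit 8390) i))
noncomputable def t8391_8393 (i : ℕ) : ℕ := (@Bool.rec (fun _ => ℕ) l8391 l8392 (Nat.ble (nat_lit 8392) i))
noncomputable def t8393_8396 (i : ℕ) : ℕ := (@Bool.rec (fun _ => ℕ) l8393 (@Bool.rec (fun _ => ℕ) l8394 l8395 (Nat.ble (nat_lit 8395) i)) (Nat.ble (nat_lit 8394) i))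
noncomputable def t8396_8398 (i : ℕ) : ℕ := (@Bool.rec (fun _ => ℕ) l8396 l8397 (Nat.ble (nat_lit 8397) i))
noncomputable def t8398_8401 (i : ℕ) : ℕ := (@Bool.rec (fun _ => ℕ) l8398 (@Bool.rec (fun _ => ℕ) l8399 l8400 (Nat.ble (nat_lit 8400) i)) (Nat.ble (nat_lit 8399) i))
noncomputable def t8401_8403 (i : ℕ) : ℕ := (@Bool.rec (fun _ => ℕ) l8401 l8402 (Nat.ble (nat_lit 8402) i))
noncomputable def t8403_8406 (i : ℕ) : ℕ := (@Bool.rec (fun _ => ℕ) l8403 (@Bool.rec (fun _ => ℕ) l8404 l8405 (Nat.ble (nat_lit 8405) i)) (Nat.ble (nat_lit 8404) i))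
noncomputable def t8387_8406 (i : ℕ) : ℕ := (@Bool.rec (fun _ => ℕ) (@Bool.rec (fun _ => ℕ) (@Bool.rec (fun _ => ℕ) (t8387_8389 i) (t8389_8391 i) (Nat.ble (nat_lit 8389) i)) (@Bool.rec (fun _ => ℕ) (t8391_8393 i) (t8393_8396 i) (Nat.ble (nat_lit 8393) i)) (Nat.ble (nat_lit 8391) i)) (@Bool.rec (fun _ => ℕ) (@Bool.rec (fun _ => ℕ) (t8396_8398 i) (t8398_8401 i) (Nat.ble (nat_lit 8398) i)) (@Bool.rec (fun _ => ℕ) (t8401_8403 i) (t8403_8406 i) (Nat.ble (nat_lit 8403) i)) (Nat.ble (nat_lit 8401) i)) (Nat.ble (nat_lit 8396) i))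
noncomputable def t8255_8406 (i : ℕ) : ℕ := (@Bool.rec (fun _ => ℕ) (@Bool.rec (fun _ => ℕ) (@Bool.rec (fun _ => ℕ) (t8255_8273 i) (t8273_8292 i) (Nat.ble (nat_lit 8273) i)) (@Bool.rec (fun _ => ℕ) (t8292_8311 i) (t8311_8330 i) (Nat.ble (nat_lit 8311) i)) (Nat.ble (nat_lit 8292) i)) (@Bool.rec (fun _ => ℕ) (@Bool.rec (fun _ => ℕ) (t8330_8349 i) (t8349_8368 i) (Nat.ble (nat_lit 8349) i)) (@Bool.rec (fun _ => ℕ) (t8368_8387 i) (t8387_8406 i) (Nat.ble (nat_lit 8387) i)) (Nat.ble (nat_lit 8368) i)) (Nat.ble (nat_lit 8330) i))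
noncomputable def t7205_8406 (i : ℕ) : ℕ := (@Bool.rec (fun _ => ℕ) (@Bool.rec (fun _ => ℕ) (@Bool.rec (fun _ => ℕ) (t7205_7355 i) (t7355_7505 i) (Nat.ble (nat_lit 7355) i)) (@Bool.rec (fun _ => ℕ) (t7505_7655 i) (t7655_7805 i) (Nat.ble (nat_lit 7655) i)) (Nat.ble (nat_lit 7505) i)) (@Bool.rec (fun _ => ℕ) (@Bool.rec (fun _ => ℕ) (t7805_7955 i) (t7955_8105 i) (Nat.ble (nat_lit 7955) i)) (@Bool.rec (fun _ => ℕ) (t8105_8255 i) (t8255_8406 i) (Nat.ble (nat_lit 8255) i)) (Nat.ble (nat_lit 8105) i)) (Nat.ble (nat_lit 7805) i))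
noncomputable def t8406_8408 (i : ℕ) : ℕ := (@Bool.rec (fun _ => ℕ) l8406 l8407 (Nat.ble (nat_lit 8407) i))
noncomputable def t8408_8410 (i : ℕ) : ℕ := (@Bool.rec (fun _ => ℕ) l8408 l8409 (Nat.ble (nat_lit 8409) i))
noncomputable def t8410_8412 (i : ℕ) : ℕ := (@Bool.rec (fun _ => ℕ) l8410 l8411 (Nat.ble (nat_lit 8411) i))
noncomputable def t8412_8415 (i : ℕ) : ℕ := (@Bool.rec (fun _ => ℕ) l8412 (@Bool.rec (fun _ => ℕ) l8413 l8414 (Nat.ble (nat_lit 8414) i)) (Nat.ble (nat_lit 8413) i))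
noncomputable def t8415_8417 (i : ℕ) : ℕ := (@Bool.rec (fun _ => ℕ) l8415 l8416 (Nat.ble (nat_lit 8416) i))
noncomputable def t8417_8419 (i : ℕ) : ℕ := (@Bool.rec (fun _ => ℕ) l8417 l8418 (Nat.ble (nat_lit 8418) i))
noncomputable def t8419_8421 (i : ℕ) : ℕ := (@Bool.rec (fun _ => ℕ) l8419 l8420 (Nat.ble (nat_lit 8420) i))
noncomputable def t8421_8424 (i : ℕ) : ℕ := (@Bool.rec (fun _ => ℕ) l8421 (@Bool.rec (fun _ => ℕ) l8422 l8423 (Nat.ble (nat_lit 8423) i)) (Nat.ble (nat_lit 8422) i))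
noncomputable def t8406_8424 (i : ℕ) : ℕ := (@Bool.rec (fun _ => ℕ) (@Bool.rec (fun _ => ℕ) (@Bool.rec (fun _ => ℕ) (t8406_8408 i) (t8408_8410 i) (Nat.ble (nat_lit 8408) i)) (@Bool.rec (fun _ => ℕ) (t8410_8412 i) (t8412_8415 i) (Nat.ble (nat_lit 8412) i)) (Nat.ble (nat_lit 8410) i)) (@Bool.rec (fun _ => ℕ) (@Bool.rec (fun _ => ℕ) (t8415_8417 i) (t8417_8419 i) (Nat.ble (nat_lit 8417) i)) (@Bool.rec (fun _ => ℕ) (t8419_8421 i) (t8421_8424 i) (Nat.ble (nat_lit 8421) i)) (Nat.ble (nat_lit 8419) i)) (Nat.ble (nat_lit 8415) i))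
noncomputable def t8424_8426 (i : ℕ) : ℕ := (@Bool.rec (fun _ => ℕ) l8424 l8425 (Nat.ble (nat_lit 8425) i))
noncomputable def t8426_8428 (i : ℕ) : ℕ := (@Bool.rec (fun _ => ℕ) l8426 l8427 (Nat.ble (nat_lit 8427) i))
noncomputable def t8428_8430 (i : ℕ) : ℕ := (@Bool.rec (fun _ => ℕ) l8428 l8429 (Nat.ble (nat_lit 8429) i))
noncomputable def t8430_8433 (i : ℕ) : ℕ := (@Bool.rec (fun _ => ℕ) l8430 (@Bool.rec (fun _ => ℕ) l8431 l8432 (Nat.ble (nat_lit 8432) i)) (Nat.ble (nat_lit 8431) i))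
noncomputable def t8433_8435 (i : ℕ) : ℕ := (@Bool.rec (fun _ => ℕ) l8433 l8434 (Nat.ble (nat_lit 8434) i))
noncomputable def t8435_8438 (i : ℕ) : ℕ := (@Bool.rec (fun _ => ℕ) l8435 (@Bool.rec (fun _ => ℕ) l8436 l8437 (Nat.ble (nat_lit 8437) i)) (Nat.ble (nat_lit 8436) i))
noncomputable def t8438_8440 (i : ℕ) : ℕ := (@Bool.rec (fun _ => ℕ) l8438 l8439 (Nat.ble (nat_lit 8439) i))
noncomputable def t8440_8443 (i : ℕ) : ℕ := (@Bool.rec (fun _ => ℕ) l8440 (@Bool.rec (fun _ => ℕ) l8441 l8442 (Nat.ble (nat_lit 8442) i)) (Nat.ble (nat_lit 8441) i))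
noncomputable def t8424_8443 (i : ℕ) : ℕ := (@Bool.rec (fun _ => ℕ) (@Bool.rec (fun _ => ℕ) (@Bool.rec (fun _ => ℕ) (t8424_8426 i) (t8426_8428 i) (Nat.ble (nat_lit 8426) i)) (@Bool.rec (fun _ => ℕ) (t8428_8430 i) (t8430_8433 i) (Nat.ble (nat_lit 8430) i)) (Nat.ble (nat_lit 8428) i)) (@Bool.rec (fun _ => ℕ) (@Bool.rec (fun _ => ℕ) (t8433_8435 i) (t8435_8438 i) (Nat.ble (nat_lit 8435) i)) (@Bool.rec (fun _ => ℕ) (t8438_8440 i) (t8440_8443 i) (Nat.ble (nat_lit 8440) i)) (Nat.ble (nat_lit 8438) i)) (Nat.ble (nat_lit 8433) i))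
noncomputable def t8443_8445 (i : ℕ) : ℕ := (@Bool.rec (fun _ => ℕ) l8443 l8444 (Nat.ble (nat_lit 8444) i))
noncomputable def t8445_8447 (i : ℕ) : ℕ := (@Bool.rec (fun _ => ℕ) l8445 l8446 (Nat.ble (nat_lit 8446) i))
noncomputable def t8447_8449 (i : ℕ) : ℕ := (@Bool.rec (fun _ => ℕ) l8447 l8448 (Nat.ble (nat_lit 8448) i))
noncomputable def t8449_8452 (i : ℕ) : ℕ := (@Bool.rec (fun _ => ℕ) l8449 (@Bool.rec (fun _ => ℕ) l8450 l8451 (Nat.ble (nat_lit 8451) i)) (Nat.ble (nat_lit 8450) i))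
noncomputable def t8452_8454 (i : ℕ) : ℕ := (@Bool.rec (fun _ => ℕ) l8452 l8453 (Nat.ble (nat_lit 8453) i))
noncomputable def t8454_8457 (i : ℕ) : ℕ := (@Bool.rec (fun _ => ℕ) l8454 (@Bool.rec (fun _ => ℕ) l8455 l8456 (Nat.ble (nat_lit 8456) i)) (Nat.ble (nat_lit 8455) i))
noncomputable def t8457_8459 (i : ℕ) : ℕ := (@Bool.rec (fun _ => ℕ) l8457 l8458 (Nat.ble (nat_lit 8458) i))
noncomputable def t8459_8462 (i : ℕ) : ℕ := (@Bool.rec (fun _ => ℕ) l8459 (@Bool.rec (fun _ => ℕ) l8460 l8461 (Nat.ble (nat_lit 8461) i)) (Nat.ble (nat_lit 8460) i))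
noncomputable def t8443_8462 (i : ℕ) : ℕ := (@Bool.rec (fun _ => ℕ) (@Bool.rec (fun _ => ℕ) (@Bool.rec (fun _ => ℕ) (t8443_8445 i) (t8445_8447 i) (Nat.ble (nat_lit 8445) i)) (@Bool.rec (fun _ => ℕ) (t8447_8449 i) (t8449_8452 i) (Nat.ble (nat_lit 8449) i)) (Nat.ble (nat_lit 8447) i)) (@Bool.rec (fun _ => ℕ) (@Bool.rec (fun _ => ℕ) (t8452_8454 i) (t8454_8457 i) (Nat.ble (nat_lit 8454) i)) (@Bool.rec (fun _ => ℕ) (t8457_8459 i) (t8459_8462 i) (Nat.ble (nat_lit 8459) i)) (Nat.ble (nat_lit 8457) i)) (Nat.ble (nat_lit 8452) i))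
noncomputable def t8462_8464 (i : ℕ) : ℕ := (@Bool.rec (fun _ => ℕ) l8462 l8463 (Nat.ble (nat_lit 8463) i))
noncomputable def t8464_8466 (i : ℕ) : ℕ := (@Bool.rec (fun _ => ℕ) l8464 l8465 (Nat.ble (nat_lit 8465) i))
noncomputable def t8466_8468 (i : ℕ) : ℕ := (@Bool.rec (fun _ => ℕ) l8466 l8467 (Nat.ble (nat_lit 8467) i))
noncomputable def t8468_8471 (i : ℕ) : ℕ := (@Bool.rec (fun _ => ℕ) l8468 (@Bool.rec (fun _ => ℕ) l8469 l8470 (Nat.ble (nat_lit 8470) i)) (Nat.ble (nat_lit 8469) i))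
noncomputable def t8471_8473 (i : ℕ) : ℕ := (@Bool.rec (fun _ => ℕ) l8471 l8472 (Nat.ble (nat_lit 8472) i))
noncomputable def t8473_8476 (i : ℕ) : ℕ := (@Bool.rec (fun _ => ℕ) l8473 (@Bool.rec (fun _ => ℕ) l8474 l8475 (Nat.ble (nat_lit 8475) i)) (Nat.ble (nat_lit 8474) i))
noncomputable def t8476_8478 (i : ℕ) : ℕ := (@Bool.rec (fun _ => ℕ) l8476 l8477 (Nat.ble (nat_lit 8477) i))
noncomputable def t8478_8481 (i : ℕ) : ℕ := (@Bool.rec (fun _ => ℕ) l8478 (@Bool.rec (fun _ => ℕ) l8479 l8480 (Nat.ble (nat_lit 8480) i)) (Nat.ble (nat_lit 8479) i))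
noncomputable def t8462_8481 (i : ℕ) : ℕ := (@Bool.rec (fun _ => ℕ) (@Bool.rec (fun _ => ℕ) (@Bool.rec (fun _ => ℕ) (t8462_8464 i) (t8464_8466 i) (Nat.ble (nat_lit 8464) i)) (@Bool.rec (fun _ => ℕ) (t8466_8468 i) (t8468_8471 i) (Nat.ble (nat_lit 8468) i)) (Nat.ble (nat_lit 8466) i)) (@Bool.rec (fun _ => ℕ) (@Bool.rec (fun _ => ℕ) (t8471_8473 i) (t8473_8476 i) (Nat.ble (nat_lit 8473) i)) (@Bool.rec (fun _ => ℕ) (t8476_8478 i) (t8478_8481 i) (Nat.ble (nat_lit 8478) i)) (Nat.ble (nat_lit 8476) i)) (Nat.ble (nat_lit 8471) i))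
noncomputable def t8481_8483 (i : ℕ) : ℕ := (@Bool.rec (fun _ => ℕ) l8481 l8482 (Nat.ble (nat_lit 8482) i))
noncomputable def t8483_8485 (i : ℕ) : ℕ := (@Bool.rec (fun _ => ℕ) l8483 l8484 (Nat.ble (nat_lit 8484) i))
noncomputable def t8485_8487 (i : ℕ) : ℕ := (@Bool.rec (fun _ => ℕ) l8485 l8486 (Nat.ble (nat_lit 8486) i))
noncomputable def t8487_8490 (i : ℕ) : ℕ := (@Bool.rec (fun _ => ℕ) l8487 (@Bool.rec (fun _ => ℕ) l8488 l8489 (Nat.ble (nat_lit 8489) i)) (Nat.ble (nat_lit 8488) i))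
noncomputable def t8490_8492 (i : ℕ) : ℕ := (@Bool.rec (fun _ => ℕ) l8490 l8491 (Nat.ble (nat_lit 8491) i))
noncomputable def t8492_8494 (i : ℕ) : ℕ := (@Bool.rec (fun _ => ℕ) l8492 l8493 (Nat.ble (nat_lit 8493) i))
noncomputable def t8494_8496 (i : ℕ) : ℕ := (@Bool.rec (fun _ => ℕ) l8494 l8495 (Nat.ble (nat_lit 8495) i))
noncomputable def t8496_8499 (i : ℕ) : ℕ := (@Bool.rec (fun _ => ℕ) l8496 (@Bool.rec (fun _ => ℕ) l8497 l8498 (Nat.ble (nat_lit 8498) i)) (Nat.ble (nat_lit 8497) i))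
noncomputable def t8481_8499 (i : ℕ) : ℕ := (@Bool.rec (fun _ => ℕ) (@Bool.rec (fun _ => ℕ) (@Bool.rec (fun _ => ℕ) (t8481_8483 i) (t8483_8485 i) (Nat.ble (nat_lit 8483) i)) (@Bool.rec (fun _ => ℕ) (t8485_8487 i) (t8487_8490 i) (Nat.ble (nat_lit 8487) i)) (Nat.ble (nat_lit 8485) i)) (@Bool.rec (fun _ => ℕ) (@Bool.rec (fun _ => ℕ) (t8490_8492 i) (t8492_8494 i) (Nat.ble (nat_lit 8492) i)) (@Bool.rec (fun _ => ℕ) (t8494_8496 i) (t8496_8499 i) (Nat.ble (nat_lit 8496) i)) (Nat.ble (nat_lit 8494) i)) (Nat.ble (nat_lit 8490) i))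
noncomputable def t8499_8501 (i : ℕ) : ℕ := (@Bool.rec (fun _ => ℕ) l8499 l8500 (Nat.ble (nat_lit 8500) i))
noncomputable def t8501_8503 (i : ℕ) : ℕ := (@Bool.rec (fun _ => ℕ) l8501 l8502 (Nat.ble (nat_lit 8502) i))
noncomputable def t8503_8505 (i : ℕ) : ℕ := (@Bool.rec (fun _ => ℕ) l8503 l8504 (Nat.ble (nat_lit 8504) i))
noncomputable def t8505_8508 (i : ℕ) : ℕ := (@Bool.rec (fun _ => ℕ) l8505 (@Bool.rec (fun _ => ℕ) l8506 l8507 (Nat.ble (nat_lit 8507) i)) (Nat.ble (nat_lit 8506) i))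
noncomputable def t8508_8510 (i : ℕ) : ℕ := (@Bool.rec (fun _ => ℕ) l8508 l8509 (Nat.ble (nat_lit 8509) i))
noncomputable def t8510_8513 (i : ℕ) : ℕ := (@Bool.rec (fun _ => ℕ) l8510 (@Bool.rec (fun _ => ℕ) l8511 l8512 (Nat.ble (nat_lit 8512) i)) (Nat.ble (nat_lit 8511) i))
noncomputable def t8513_8515 (i : ℕ) : ℕ := (@Bool.rec (fun _ => ℕ) l8513 l8514 (Nat.ble (nat_lit 8514) i))
noncomputable def t8515_8518 (i : ℕ) : ℕ := (@Bool.rec (fun _ => ℕ) l8515 (@Bool.rec (fun _ => ℕ) l8516 l8517 (Nat.ble (nat_lit 8517) i)) (Nat.ble (nat_lit 8516) i))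
noncomputable def t8499_8518 (i : ℕ) : ℕ := (@Bool.rec (fun _ => ℕ) (@Bool.rec (fun _ => ℕ) (@Bool.rec (fun _ => ℕ) (t8499_8501 i) (t8501_8503 i) (Nat.ble (nat_lit 8501) i)) (@Bool.rec (fun _ => ℕ) (t8503_8505 i) (t8505_8508 i) (Nat.ble (nat_lit 8505) i)) (Nat.ble (nat_lit 8503) i)) (@Bool.rec (fun _ => ℕ) (@Bool.rec (fun _ => ℕ) (t8508_8510 i) (t8510_8513 i) (Nat.ble (nat_lit 8510) i)) (@Bool.rec (fun _ => ℕ) (t8513_8515 i) (t8515_8518 i) (Nat.ble (nat_lit 8515) i)) (Nat.ble (nat_lit 8513) i)) (Nat.ble (nat_lit 8508) i))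
noncomputable def t8518_8520 (i : ℕ) : ℕ := (@Bool.rec (fun _ => ℕ) l8518 l8519 (Nat.ble (nat_lit 8519) i))
noncomputable def t8520_8522 (i : ℕ) : ℕ := (@Bool.rec (fun _ => ℕ) l8520 l8521 (Nat.ble (nat_lit 8521) i))
noncomputable def t8522_8524 (i : ℕ) : ℕ := (@Bool.rec (fun _ => ℕ) l8522 l8523 (Nat.ble (nat_lit 8523) i))
noncomputable def t8524_8527 (i : ℕ) : ℕ := (@Bool.rec (fun _ => ℕ) l8524 (@Bool.rec (fun _ => ℕ) l8525 l8526 (Nat.ble (nat_lit 8526) i)) (Nat.ble (nat_lit 8525) i))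
noncomputable def t8527_8529 (i : ℕ) : ℕ := (@Bool.rec (fun _ => ℕ) l8527 l8528 (Nat.ble (nat_lit 8528) i))
noncomputable def t8529_8532 (i : ℕ) : ℕ := (@Bool.rec (fun _ => ℕ) l8529 (@Bool.rec (fun _ => ℕ) l8530 l8531 (Nat.ble (nat_lit 8531) i)) (Nat.ble (nat_lit 8530) i))
noncomputable def t8532_8534 (i : ℕ) : ℕ := (@Bool.rec (fun _ => ℕ) l8532 l8533 (Nat.ble (nat_lit 8533) i))
noncomputable def t8534_8537 (i : ℕ) : ℕ := (@Bool.rec (fun _ => ℕ) l8534 (@Bool.rec (fun _ => ℕ) l8535 l8536 (Nat.ble (nat_lit 8536) i)) (Nat.ble (nat_lit 8535) i))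
noncomputable def t8518_8537 (i : ℕ) : ℕ := (@Bool.rec (fun _ => ℕ) (@Bool.rec (fun _ => ℕ) (@Bool.rec (fun _ => ℕ) (t8518_8520 i) (t8520_8522 i) (Nat.ble (nat_lit 8520) i)) (@Bool.rec (fun _ => ℕ) (t8522_8524 i) (t8524_8527 i) (Nat.ble (nat_lit 8524) i)) (Nat.ble (nat_lit 8522) i)) (@Bool.rec (fun _ => ℕ) (@Bool.rec (fun _ => ℕ) (t8527_8529 i) (t8529_8532 i) (Nat.ble (nat_lit 8529) i)) (@Bool.rec (fun _ => ℕ) (t8532_8534 i) (t8534_8537 i) (Nat.ble (nat_lit 8534) i)) (Nat.ble (nat_lit 8532) i)) (Nat.ble (nat_lit 8527) i))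
noncomputable def t8537_8539 (i : ℕ) : ℕ := (@Bool.rec (fun _ => ℕ) l8537 l8538 (Nat.ble (nat_lit 8538) i))
noncomputable def t8539_8541 (i : ℕ) : ℕ := (@Bool.rec (fun _ => ℕ) l8539 l8540 (Nat.ble (nat_lit 8540) i))
noncomputable def t8541_8543 (i : ℕ) : ℕ := (@Bool.rec (fun _ => ℕ) l8541 l8542 (Nat.ble (nat_lit 8542) i))
noncomputable def t8543_8546 (i : ℕ) : ℕ := (@Bool.rec (fun _ => ℕ) l8543 (@Bool.rec (fun _ => ℕ) l8544 l8545 (Nat.ble (nat_lit 8545) i)) (Nat.ble (nat_lit 8544) i))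
noncomputable def t8546_8548 (i : ℕ) : ℕ := (@Bool.rec (fun _ => ℕ) l8546 l8547 (Nat.ble (nat_lit 8547) i))
noncomputable def t8548_8551 (i : ℕ) : ℕ := (@Bool.rec (fun _ => ℕ) l8548 (@Bool.rec (fun _ => ℕ) l8549 l8550 (Nat.ble (nat_lit 8550) i)) (Nat.ble (nat_lit 8549) i))
noncomputable def t8551_8553 (i : ℕ) : ℕ := (@Bool.rec (fun _ => ℕ) l8551 l8552 (Nat.ble (nat_lit 8552) i))
noncomputable def t8553_8556 (i : ℕ) : ℕ := (@Bool.rec (fun _ => ℕ) l8553 (@Bool.rec (fun _ => ℕ) l8554 l8555 (Nat.ble (nat_lit 8555) i)) (Nat.ble (nat_lit 8554) i))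
noncomputable def t8537_8556 (i : ℕ) : ℕ := (@Bool.rec (fun _ => ℕ) (@Bool.rec (fun _ => ℕ) (@Bool.rec (fun _ => ℕ) (t8537_8539 i) (t8539_8541 i) (Nat.ble (nat_lit 8539) i)) (@Bool.rec (fun _ => ℕ) (t8541_8543 i) (t8543_8546 i) (Nat.ble (nat_lit 8543) i)) (Nat.ble (nat_lit 8541) i)) (@Bool.rec (fun _ => ℕ) (@Bool.rec (fun _ => ℕ) (t8546_8548 i) (t8548_8551 i) (Nat.ble (nat_lit 8548) i)) (@Bool.rec (fun _ => ℕ) (t8551_8553 i) (t8553_8556 i) (Nat.ble (nat_lit 8553) i)) (Nat.ble (nat_lit 8551) i)) (Nat.ble (nat_lit 8546) i))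
noncomputable def t8406_8556 (i : ℕ) : ℕ := (@Bool.rec (fun _ => ℕ) (@Bool.rec (fun _ => ℕ) (@Bool.rec (fun _ => ℕ) (t8406_8424 i) (t8424_8443 i) (Nat.ble (nat_lit 8424) i)) (@Bool.rec (fun _ => ℕ) (t8443_8462 i) (t8462_8481 i) (Nat.ble (nat_lit 8462) i)) (Nat.ble (nat_lit 8443) i)) (@Bool.rec (fun _ => ℕ) (@Bool.rec (fun _ => ℕ) (t8481_8499 i) (t8499_8518 i) (Nat.ble (nat_lit 8499) i)) (@Bool.rec (fun _ => ℕ) (t8518_8537 i) (t8537_8556 i) (Nat.ble (nat_lit 8537) i)) (Nat.ble (nat_lit 8518) i)) (Nat.ble (nat_lit 8481) i))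
noncomputable def t8556_8558 (i : ℕ) : ℕ := (@Bool.rec (fun _ => ℕ) l8556 l8557 (Nat.ble (nat_lit 8557) i))
noncomputable def t8558_8560 (i : ℕ) : ℕ := (@Bool.rec (fun _ => ℕ) l8558 l8559 (Nat.ble (nat_lit 8559) i))
noncomputable def t8560_8562 (i : ℕ) : ℕ := (@Bool.rec (fun _ => ℕ) l8560 l8561 (Nat.ble (nat_lit 8561) i))
noncomputable def t8562_8565 (i : ℕ) : ℕ := (@Bool.rec (fun _ => ℕ) l8562 (@Bool.rec (fun _ => ℕ) l8563 l8564 (Nat.ble (nat_lit 8564) i)) (Nat.ble (nat_lit 8563) i))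
noncomputable def t8565_8567 (i : ℕ) : ℕ := (@Bool.rec (fun _ => ℕ) l8565 l8566 (Nat.ble (nat_lit 8566) i))
noncomputable def t8567_8569 (i : ℕ) : ℕ := (@Bool.rec (fun _ => ℕ) l8567 l8568 (Nat.ble (nat_lit 8568) i))
noncomputable def t8569_8571 (i : ℕ) : ℕ := (@Bool.rec (fun _ => ℕ) l8569 l8570 (Nat.ble (nat_lit 8570) i))
noncomputable def t8571_8574 (i : ℕ) : ℕ := (@Bool.rec (fun _ => ℕ) l8571 (@Bool.rec (fun _ => ℕ) l8572 l8573 (Nat.ble (nat_lit 8573) i)) (Nat.ble (nat_lit 8572) i))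
noncomputable def t8556_8574 (i : ℕ) : ℕ := (@Bool.rec (fun _ => ℕ) (@Bool.rec (fun _ => ℕ) (@Bool.rec (fun _ => ℕ) (t8556_8558 i) (t8558_8560 i) (Nat.ble (nat_lit 8558) i)) (@Bool.rec (fun _ => ℕ) (t8560_8562 i) (t8562_8565 i) (Nat.ble (nat_lit 8562) i)) (Nat.ble (nat_lit 8560) i)) (@Bool.rec (fun _ => ℕ) (@Bool.rec (fun _ => ℕ) (t8565_8567 i) (t8567_8569 i) (Nat.ble (nat_lit 8567) i)) (@Bool.rec (fun _ => ℕ) (t8569_8571 i) (t8571_8574 i) (Nat.ble (nat_lit 8571) i)) (Nat.ble (nat_lit 8569) i)) (Nat.ble (nat_lit 8565) i))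
noncomputable def t8574_8576 (i : ℕ) : ℕ := (@Bool.rec (fun _ => ℕ) l8574 l8575 (Nat.ble (nat_lit 8575) i))
noncomputable def t8576_8578 (i : ℕ) : ℕ := (@Bool.rec (fun _ => ℕ) l8576 l8577 (Nat.ble (nat_lit 8577) i))
noncomputable def t8578_8580 (i : ℕ) : ℕ := (@Bool.rec (fun _ => ℕ) l8578 l8579 (Nat.ble (nat_lit 8579) i))
noncomputable def t8580_8583 (i : ℕ) : ℕ := (@Bool.rec (fun _ => ℕ) l8580 (@Bool.rec (fun _ => ℕ) l8581 l8582 (Nat.ble (nat_lit 8582) i)) (Nat.ble (nat_lit 8581) i))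
noncomputable def t8583_8585 (i : ℕ) : ℕ := (@Bool.rec (fun _ => ℕ) l8583 l8584 (Nat.ble (nat_lit 8584) i))
noncomputable def t8585_8588 (i : ℕ) : ℕ := (@Bool.rec (fun _ => ℕ) l8585 (@Bool.rec (fun _ => ℕ) l8586 l8587 (Nat.ble (nat_lit 8587) i)) (Nat.ble (nat_lit 8586) i))
noncomputable def t8588_8590 (i : ℕ) : ℕ := (@Bool.rec (fun _ => ℕ) l8588 l8589 (Nat.ble (nat_lit 8589) i))
noncomputable def t8590_8593 (i : ℕ) : ℕ := (@Bool.rec (fun _ => ℕ) l8590 (@Bool.rec (fun _ => ℕ) l8591 l8592 (Nat.ble (nat_lit 8592) i)) (Nat.ble (nat_lit 8591) i))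
noncomputable def t8574_8593 (i : ℕ) : ℕ := (@Bool.rec (fun _ => ℕ) (@Bool.rec (fun _ => ℕ) (@Bool.rec (fun _ => ℕ) (t8574_8576 i) (t8576_8578 i) (Nat.ble (nat_lit 8576) i)) (@Bool.rec (fun _ => ℕ) (t8578_8580 i) (t8580_8583 i) (Nat.ble (nat_lit 8580) i)) (Nat.ble (nat_lit 8578) i)) (@Bool.rec (fun _ => ℕ) (@Bool.rec (fun _ => ℕ) (t8583_8585 i) (t8585_8588 i) (Nat.ble (nat_lit 8585) i)) (@Bool.rec (fun _ => ℕ) (t8588_8590 i) (t8590_8593 i) (Nat.ble (nat_lit 8590) i)) (Nat.ble (nat_lit 8588) i)) (Nat.ble (nat_lit 8583) i))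
noncomputable def t8593_8595 (i : ℕ) : ℕ := (@Bool.rec (fun _ => ℕ) l8593 l8594 (Nat.ble (nat_lit 8594) i))
noncomputable def t8595_8597 (i : ℕ) : ℕ := (@Bool.rec (fun _ => ℕ) l8595 l8596 (Nat.ble (nat_lit 8596) i))
noncomputable def t8597_8599 (i : ℕ) : ℕ := (@Bool.rec (fun _ => ℕ) l8597 l8598 (Nat.ble (nat_lit 8598) i))
noncomputable def t8599_8602 (i : ℕ) : ℕ := (@Bool.rec (fun _ => ℕ) l8599 (@Bool.rec (fun _ => ℕ) l8600 l8601 (Nat.ble (nat_lit 8601) i)) (Nat.ble (nat_lit 8600) i))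
noncomputable def t8602_8604 (i : ℕ) : ℕ := (@Bool.rec (fun _ => ℕ) l8602 l8603 (Nat.ble (nat_lit 8603) i))
noncomputable def t8604_8607 (i : ℕ) : ℕ := (@Bool.rec (fun _ => ℕ) l8604 (@Bool.rec (fun _ => ℕ) l8605 l8606 (Nat.ble (nat_lit 8606) i)) (Nat.ble (nat_lit 8605) i))
noncomputable def t8607_8609 (i : ℕ) : ℕ := (@Bool.rec (fun _ => ℕ) l8607 l8608 (Nat.ble (nat_lit 8608) i))
noncomputable def t8609_8612 (i : ℕ) : ℕ := (@Bool.rec (fun _ => ℕ) l8609 (@Bool.rec (fun _ => ℕ) l8610 l8611 (Nat.ble (nat_lit 8611) i)) (Nat.ble (nat_lit 8610) i))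
noncomputable def t8593_8612 (i : ℕ) : ℕ := (@Bool.rec (fun _ => ℕ) (@Bool.rec (fun _ => ℕ) (@Bool.rec (fun _ => ℕ) (t8593_8595 i) (t8595_8597 i) (Nat.ble (nat_lit 8595) i)) (@Bool.rec (fun _ => ℕ) (t8597_8599 i) (t8599_8602 i) (Nat.ble (nat_lit 8599) i)) (Nat.ble (nat_lit 8597) i)) (@Bool.rec (fun _ => ℕ) (@Bool.rec (fun _ => ℕ) (t8602_8604 i) (t8604_8607 i) (Nat.ble (nat_lit 8604) i)) (@Bool.rec (fun _ => ℕ) (t8607_8609 i) (t8609_8612 i) (Nat.ble (nat_lit 8609) i)) (Nat.ble (nat_lit 8607) i)) (Nat.ble (nat_lit 8602) i))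
noncomputable def t8612_8614 (i : ℕ) : ℕ := (@Bool.rec (fun _ => ℕ) l8612 l8613 (Nat.ble (nat_lit 8613) i))
noncomputable def t8614_8616 (i : ℕ) : ℕ := (@Bool.rec (fun _ => ℕ) l8614 l8615 (Nat.ble (nat_lit 8615) i))
noncomputable def t8616_8618 (i : ℕ) : ℕ := (@Bool.rec (fun _ => ℕ) l8616 l8617 (Nat.ble (nat_lit 8617) i))
noncomputable def t8618_8621 (i : ℕ) : ℕ := (@Bool.rec (fun _ => ℕ) l8618 (@Bool.rec (fun _ => ℕ) l8619 l8620 (Nat.ble (nat_lit 8620) i)) (Nat.ble (nat_lit 8619) i))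
noncomputable def t8621_8623 (i : ℕ) : ℕ := (@Bool.rec (fun _ => ℕ) l8621 l8622 (Nat.ble (nat_lit 8622) i))
noncomputable def t8623_8626 (i : ℕ) : ℕ := (@Bool.rec (fun _ => ℕ) l8623 (@Bool.rec (fun _ => ℕ) l8624 l8625 (Nat.ble (nat_lit 8625) i)) (Nat.ble (nat_lit 8624) i))
noncomputable def t8626_8628 (i : ℕ) : ℕ := (@Bool.rec (fun _ => ℕ) l8626 l8627 (Nat.ble (nat_lit 8627) i))
noncomputable def t8628_8631 (i : ℕ) : ℕ := (@Bool.rec (fun _ => ℕ) l8628 (@Bool.rec (fun _ => ℕ) l8629 l8630 (Nat.ble (nat_lit 8630) i)) (Nat.ble (nat_lit 8629) i))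
noncomputable def t8612_8631 (i : ℕ) : ℕ := (@Bool.rec (fun _ => ℕ) (@Bool.rec (fun _ => ℕ) (@Bool.rec (fun _ => ℕ) (t8612_8614 i) (t8614_8616 i) (Nat.ble (nat_lit 8614) i)) (@Bool.rec (fun _ => ℕ) (t8616_8618 i) (t8618_8621 i) (Nat.ble (nat_lit 8618) i)) (Nat.ble (nat_lit 8616) i)) (@Bool.rec (fun _ => ℕ) (@Bool.rec (fun _ => ℕ) (t8621_8623 i) (t8623_8626 i) (Nat.ble (nat_lit 8623) i)) (@Bool.rec (fun _ => ℕ) (t8626_8628 i) (t8628_8631 i) (Nat.ble (nat_lit 8628) i)) (Nat.ble (nat_lit 8626) i)) (Nat.ble (nat_lit 8621) i))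
noncomputable def t8631_8633 (i : ℕ) : ℕ := (@Bool.rec (fun _ => ℕ) l8631 l8632 (Nat.ble (nat_lit 8632) i))
noncomputable def t8633_8635 (i : ℕ) : ℕ := (@Bool.rec (fun _ => ℕ) l8633 l8634 (Nat.ble (nat_lit 8634) i))
noncomputable def t8635_8637 (i : ℕ) : ℕ := (@Bool.rec (fun _ => ℕ) l8635 l8636 (Nat.ble (nat_lit 8636) i))
noncomputable def t8637_8640 (i : ℕ) : ℕ := (@Bool.rec (fun _ => ℕ) l8637 (@Bool.rec (fun _ => ℕ) l8638 l8639 (Nat.ble (nat_lit 8639) i)) (Nat.ble (nat_lit 8638) i))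
noncomputable def t8640_8642 (i : ℕ) : ℕ := (@Bool.rec (fun _ => ℕ) l8640 l8641 (Nat.ble (nat_lit 8641) i))
noncomputable def t8642_8644 (i : ℕ) : ℕ := (@Bool.rec (fun _ => ℕ) l8642 l8643 (Nat.ble (nat_lit 8643) i))
noncomputable def t8644_8646 (i : ℕ) : ℕ := (@Bool.rec (fun _ => ℕ) l8644 l8645 (Nat.ble (nat_lit 8645) i))
noncomputable def t8646_8649 (i : ℕ) : ℕ := (@Bool.rec (fun _ => ℕ) l8646 (@Bool.rec (fun _ => ℕ) l8647 l8648 (Nat.ble (nat_lit 8648) i)) (Nat.ble (nat_lit 8647) i))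
noncomputable def t8631_8649 (i : ℕ) : ℕ := (@Bool.rec (fun _ => ℕ) (@Bool.rec (fun _ => ℕ) (@Bool.rec (fun _ => ℕ) (t8631_8633 i) (t8633_8635 i) (Nat.ble (nat_lit 8633) i)) (@Bool.rec (fun _ => ℕ) (t8635_8637 i) (t8637_8640 i) (Nat.ble (nat_lit 8637) i)) (Nat.ble (nat_lit 8635) i)) (@Bool.rec (fun _ => ℕ) (@Bool.rec (fun _ => ℕ) (t8640_8642 i) (t8642_8644 i) (Nat.ble (nat_lit 8642) i)) (@Bool.rec (fun _ => ℕ) (t8644_8646 i) (t8646_8649 i) (Nat.ble (nat_lit 8646) i)) (Nat.ble (nat_lit 8644) i)) (Nat.ble (nat_lit 8640) i))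
noncomputable def t8649_8651 (i : ℕ) : ℕ := (@Bool.rec (fun _ => ℕ) l8649 l8650 (Nat.ble (nat_lit 8650) i))
noncomputable def t8651_8653 (i : ℕ) : ℕ := (@Bool.rec (fun _ => ℕ) l8651 l8652 (Nat.ble (nat_lit 8652) i))
noncomputable def t8653_8655 (i : ℕ) : ℕ := (@Bool.rec (fun _ => ℕ) l8653 l8654 (Nat.ble (nat_lit 8654) i))
noncomputable def t8655_8658 (i : ℕ) : ℕ := (@Bool.rec (fun _ => ℕ) l8655 (@Bool.rec (fun _ => ℕ) l8656 l8657 (Nat.ble (nat_lit 8657) i)) (Nat.ble (nat_lit 8656) i))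
noncomputable def t8658_8660 (i : ℕ) : ℕ := (@Bool.rec (fun _ => ℕ) l8658 l8659 (Nat.ble (nat_lit 8659) i))
noncomputable def t8660_8663 (i : ℕ) : ℕ := (@Bool.rec (fun _ => ℕ) l8660 (@Bool.rec (fun _ => ℕ) l8661 l8662 (Nat.ble (nat_lit 8662) i)) (Nat.ble (nat_lit 8661) i))
noncomputable def t8663_8665 (i : ℕ) : ℕ := (@Bool.rec (fun _ => ℕ) l8663 l8664 (Nat.ble (nat_lit 8664) i))
noncomputable def t8665_8668 (i : ℕ) : ℕ := (@Bool.rec (fun _ => ℕ) l8665 (@Bool.rec (fun _ => ℕ) l8666 l8667 (Nat.ble (nat_lit 8667) i)) (Nat.ble (nat_lit 8666) i))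
noncomputable def t8649_8668 (i : ℕ) : ℕ := (@Bool.rec (fun _ => ℕ) (@Bool.rec (fun _ => ℕ) (@Bool.rec (fun _ => ℕ) (t8649_8651 i) (t8651_8653 i) (Nat.ble (nat_lit 8651) i)) (@Bool.rec (fun _ => ℕ) (t8653_8655 i) (t8655_8658 i) (Nat.ble (nat_lit 8655) i)) (Nat.ble (nat_lit 8653) i)) (@Bool.rec (fun _ => ℕ) (@Bool.rec (fun _ => ℕ) (t8658_8660 i) (t8660_8663 i) (Nat.ble (nat_lit 8660) i)) (@Bool.rec (fun _ => ℕ) (t8663_8665 i) (t8665_8668 i) (Nat.ble (nat_lit 8665) i)) (Nat.ble (nat_lit 8663) i)) (Nat.ble (nat_lit 8658) i))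
noncomputable def t8668_8670 (i : ℕ) : ℕ := (@Bool.rec (fun _ => ℕ) l8668 l8669 (Nat.ble (nat_lit 8669) i))
noncomputable def t8670_8672 (i : ℕ) : ℕ := (@Bool.rec (fun _ => ℕ) l8670 l8671 (Nat.ble (nat_lit 8671) i))
noncomputable def t8672_8674 (i : ℕ) : ℕ := (@Bool.rec (fun _ => ℕ) l8672 l8673 (Nat.ble (nat_lit 8673) i))
noncomputable def t8674_8677 (i : ℕ) : ℕ := (@Bool.rec (fun _ => ℕ) l8674 (@Bool.rec (fun _ => ℕ) l8675 l8676 (Nat.ble (nat_lit 8676) i)) (Nat.ble (nat_lit 8675) i))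
noncomputable def t8677_8679 (i : ℕ) : ℕ := (@Bool.rec (fun _ => ℕ) l8677 l8678 (Nat.ble (nat_lit 8678) i))
noncomputable def t8679_8682 (i : ℕ) : ℕ := (@Bool.rec (fun _ => ℕ) l8679 (@Bool.rec (fun _ => ℕ) l8680 l8681 (Nat.ble (nat_lit 8681) i)) (Nat.ble (nat_lit 8680) i))
noncomputable def t8682_8684 (i : ℕ) : ℕ := (@Bool.rec (fun _ => ℕ) l8682 l8683 (Nat.ble (nat_lit 8683) i))
noncomputable def t8684_8687 (i : ℕ) : ℕ := (@Bool.rec (fun _ => ℕ) l8684 (@Bool.rec (fun _ => ℕ) l8685 l8686 (Nat.ble (nat_lit 8686) i)) (Nat.ble (nat_lit 8685) i))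
noncomputable def t8668_8687 (i : ℕ) : ℕ := (@Bool.rec (fun _ => ℕ) (@Bool.rec (fun _ => ℕ) (@Bool.rec (fun _ => ℕ) (t8668_8670 i) (t8670_8672 i) (Nat.ble (nat_lit 8670) i)) (@Bool.rec (fun _ => ℕ) (t8672_8674 i) (t8674_8677 i) (Nat.ble (nat_lit 8674) i)) (Nat.ble (nat_lit 8672) i)) (@Bool.rec (fun _ => ℕ) (@Bool.rec (fun _ => ℕ) (t8677_8679 i) (t8679_8682 i) (Nat.ble (nat_lit 8679) i)) (@Bool.rec (fun _ => ℕ) (t8682_8684 i) (t8684_8687 i) (Nat.ble (nat_lit 8684) i)) (Nat.ble (nat_lit 8682) i)) (Nat.ble (nat_lit 8677) i))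
noncomputable def t8687_8689 (i : ℕ) : ℕ := (@Bool.rec (fun _ => ℕ) l8687 l8688 (Nat.ble (nat_lit 8688) i))
noncomputable def t8689_8691 (i : ℕ) : ℕ := (@Bool.rec (fun _ => ℕ) l8689 l8690 (Nat.ble (nat_lit 8690) i))
noncomputable def t8691_8693 (i : ℕ) : ℕ := (@Bool.rec (fun _ => ℕ) l8691 l8692 (Nat.ble (nat_lit 8692) i))
noncomputable def t8693_8696 (i : ℕ) : ℕ := (@Bool.rec (fun _ => ℕ) l8693 (@Bool.rec (fun _ => ℕ) l8694 l8695 (Nat.ble (nat_lit 8695) i)) (Nat.ble (nat_lit 8694) i))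
noncomputable def t8696_8698 (i : ℕ) : ℕ := (@Bool.rec (fun _ => ℕ) l8696 l8697 (Nat.ble (nat_lit 8697) i))
noncomputable def t8698_8701 (i : ℕ) : ℕ := (@Bool.rec (fun _ => ℕ) l8698 (@Bool.rec (fun _ => ℕ) l8699 l8700 (Nat.ble (nat_lit 8700) i)) (Nat.ble (nat_lit 8699) i))
noncomputable def t8701_8703 (i : ℕ) : ℕ := (@Bool.rec (fun _ => ℕ) l8701 l8702 (Nat.ble (nat_lit 8702) i))
noncomputable def t8703_8706 (i : ℕ) : ℕ := (@Bool.rec (fun _ => ℕ) l8703 (@Bool.rec (fun _ => ℕ) l8704 l8705 (Nat.ble (nat_lit 8705) i)) (Nat.ble (nat_lit 8704) i))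
noncomputable def t8687_8706 (i : ℕ) : ℕ := (@Bool.rec (fun _ => ℕ) (@Bool.rec (fun _ => ℕ) (@Bool.rec (fun _ => ℕ) (t8687_8689 i) (t8689_8691 i) (Nat.ble (nat_lit 8689) i)) (@Bool.rec (fun _ => ℕ) (t8691_8693 i) (t8693_8696 i) (Nat.ble (nat_lit 8693) i)) (Nat.ble (nat_lit 8691) i)) (@Bool.rec (fun _ => ℕ) (@Bool.rec (fun _ => ℕ) (t8696_8698 i) (t8698_8701 i) (Nat.ble (nat_lit 8698) i)) (@Bool.rec (fun _ => ℕ) (t8701_8703 i) (t8703_8706 i) (Nat.ble (nat_lit 8703) i)) (Nat.ble (nat_lit 8701) i)) (Nat.ble (nat_lit 8696) i))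
noncomputable def t8556_8706 (i : ℕ) : ℕ := (@Bool.rec (fun _ => ℕ) (@Bool.rec (fun _ => ℕ) (@Bool.rec (fun _ => ℕ) (t8556_8574 i) (t8574_8593 i) (Nat.ble (nat_lit 8574) i)) (@Bool.rec (fun _ => ℕ) (t8593_8612 i) (t8612_8631 i) (Nat.ble (nat_lit 8612) i)) (Nat.ble (nat_lit 8593) i)) (@Bool.rec (fun _ => ℕ) (@Bool.rec (fun _ => ℕ) (t8631_8649 i) (t8649_8668 i) (Nat.ble (nat_lit 8649) i)) (@Bool.rec (fun _ => ℕ) (t8668_8687 i) (t8687_8706 i) (Nat.ble (nat_lit 8687) i)) (Nat.ble (nat_lit 8668) i)) (Nat.ble (nat_lit 8631) i))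
noncomputable def t8706_8708 (i : ℕ) : ℕ := (@Bool.rec (fun _ => ℕ) l8706 l8707 (Nat.ble (nat_lit 8707) i))
noncomputable def t8708_8710 (i : ℕ) : ℕ := (@Bool.rec (fun _ => ℕ) l8708 l8709 (Nat.ble (nat_lit 8709) i))
noncomputable def t8710_8712 (i : ℕ) : ℕ := (@Bool.rec (fun _ => ℕ) l8710 l8711 (Nat.ble (nat_lit 8711) i))
noncomputable def t8712_8715 (i : ℕ) : ℕ := (@Bool.rec (fun _ => ℕ) l8712 (@Bool.rec (fun _ => ℕ) l8713 l8714 (Nat.ble (nat_lit 8714) i)) (Nat.ble (nat_lit 8713) i))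
noncomputable def t8715_8717 (i : ℕ) : ℕ := (@Bool.rec (fun _ => ℕ) l8715 l8716 (Nat.ble (nat_lit 8716) i))
noncomputable def t8717_8719 (i : ℕ) : ℕ := (@Bool.rec (fun _ => ℕ) l8717 l8718 (Nat.ble (nat_lit 8718) i))
noncomputable def t8719_8721 (i : ℕ) : ℕ := (@Bool.rec (fun _ => ℕ) l8719 l8720 (Nat.ble (nat_lit 8720) i))
noncomputable def t8721_8724 (i : ℕ) : ℕ := (@Bool.rec (fun _ => ℕ) l8721 (@Bool.rec (fun _ => ℕ) l8722 l8723 (Nat.ble (nat_lit 8723) i)) (Nat.ble (nat_lit 8722) i))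
noncomputable def t8706_8724 (i : ℕ) : ℕ := (@Bool.rec (fun _ => ℕ) (@Bool.rec (fun _ => ℕ) (@Bool.rec (fun _ => ℕ) (t8706_8708 i) (t8708_8710 i) (Nat.ble (nat_lit 8708) i)) (@Bool.rec (fun _ => ℕ) (t8710_8712 i) (t8712_8715 i) (Nat.ble (nat_lit 8712) i)) (Nat.ble (nat_lit 8710) i)) (@Bool.rec (fun _ => ℕ) (@Bool.rec (fun _ => ℕ) (t8715_8717 i) (t8717_8719 i) (Nat.ble (nat_lit 8717) i)) (@Bool.rec (fun _ => ℕ) (t8719_8721 i) (t8721_8724 i) (Nat.ble (nat_lit 8721) i)) (Nat.ble (nat_lit 8719) i)) (Nat.ble (nat_lit 8715) i))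
noncomputable def t8724_8726 (i : ℕ) : ℕ := (@Bool.rec (fun _ => ℕ) l8724 l8725 (Nat.ble (nat_lit 8725) i))
noncomputable def t8726_8728 (i : ℕ) : ℕ := (@Bool.rec (fun _ => ℕ) l8726 l8727 (Nat.ble (nat_lit 8727) i))
noncomputable def t8728_8730 (i : ℕ) : ℕ := (@Bool.rec (fun _ => ℕ) l8728 l8729 (Nat.ble (nat_lit 8729) i))
noncomputable def t8730_8733 (i : ℕ) : ℕ := (@Bool.rec (fun _ => ℕ) l8730 (@Bool.rec (fun _ => ℕ) l8731 l8732 (Nat.ble (nat_lit 8732) i)) (Nat.ble (nat_lit 8731) i))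
noncomputable def t8733_8735 (i : ℕ) : ℕ := (@Bool.rec (fun _ => ℕ) l8733 l8734 (Nat.ble (nat_lit 8734) i))
noncomputable def t8735_8738 (i : ℕ) : ℕ := (@Bool.rec (fun _ => ℕ) l8735 (@Bool.rec (fun _ => ℕ) l8736 l8737 (Nat.ble (nat_lit 8737) i)) (Nat.ble (nat_lit 8736) i))
noncomputable def t8738_8740 (i : ℕ) : ℕ := (@Bool.rec (fun _ => ℕ) l8738 l8739 (Nat.ble (nat_lit 8739) i))
noncomputable def t8740_8743 (i : ℕ) : ℕ := (@Bool.rec (fun _ => ℕ) l8740 (@Bool.rec (fun _ => ℕ) l8741 l8742 (Nat.ble (nat_lit 8742) i)) (Nat.ble (nat_lit 8741) i))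
noncomputable def t8724_8743 (i : ℕ) : ℕ := (@Bool.rec (fun _ => ℕ) (@Bool.rec (fun _ => ℕ) (@Bool.rec (fun _ => ℕ) (t8724_8726 i) (t8726_8728 i) (Nat.ble (nat_lit 8726) i)) (@Bool.rec (fun _ => ℕ) (t8728_8730 i) (t8730_8733 i) (Nat.ble (nat_lit 8730) i)) (Nat.ble (nat_lit 8728) i)) (@Bool.rec (fun _ => ℕ) (@Bool.rec (fun _ => ℕ) (t8733_8735 i) (t8735_8738 i) (Nat.ble (nat_lit 8735) i)) (@Bool.rec (fun _ => ℕ) (t8738_8740 i) (t8740_8743 i) (Nat.ble (nat_lit 8740) i)) (Nat.ble (nat_lit 8738) i)) (Nat.ble (nat_lit 8733) i))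
noncomputable def t8743_8745 (i : ℕ) : ℕ := (@Bool.rec (fun _ => ℕ) l8743 l8744 (Nat.ble (nat_lit 8744) i))
noncomputable def t8745_8747 (i : ℕ) : ℕ := (@Bool.rec (fun _ => ℕ) l8745 l8746 (Nat.ble (nat_lit 8746) i))
noncomputable def t8747_8749 (i : ℕ) : ℕ := (@Bool.rec (fun _ => ℕ) l8747 l8748 (Nat.ble (nat_lit 8748) i))
noncomputable def t8749_8752 (i : ℕ) : ℕ := (@Bool.rec (fun _ => ℕ) l8749 (@Bool.rec (fun _ => ℕ) l8750 l8751 (Nat.ble (nat_lit 8751) i)) (Nat.ble (nat_lit 8750) i))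
noncomputable def t8752_8754 (i : ℕ) : ℕ := (@Bool.rec (fun _ => ℕ) l8752 l8753 (Nat.ble (nat_lit 8753) i))
noncomputable def t8754_8757 (i : ℕ) : ℕ := (@Bool.rec (fun _ => ℕ) l8754 (@Bool.rec (fun _ => ℕ) l8755 l8756 (Nat.ble (nat_lit 8756) i)) (Nat.ble (nat_lit 8755) i))
noncomputable def t8757_8759 (i : ℕ) : ℕ := (@Bool.rec (fun _ => ℕ) l8757 l8758 (Nat.ble (nat_lit 8758) i))
noncomputable def t8759_8762 (i : ℕ) : ℕ := (@Bool.rec (fun _ => ℕ) l8759 (@Bool.rec (fun _ => ℕ) l8760 l8761 (Nat.ble (nat_lit 8761) i)) (Nat.ble (nat_lit 8760) i))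
noncomputable def t8743_8762 (i : ℕ) : ℕ := (@Bool.rec (fun _ => ℕ) (@Bool.rec (fun _ => ℕ) (@Bool.rec (fun _ => ℕ) (t8743_8745 i) (t8745_8747 i) (Nat.ble (nat_lit 8745) i)) (@Bool.rec (fun _ => ℕ) (t8747_8749 i) (t8749_8752 i) (Nat.ble (nat_lit 8749) i)) (Nat.ble (nat_lit 8747) i)) (@Bool.rec (fun _ => ℕ) (@Bool.rec (fun _ => ℕ) (t8752_8754 i) (t8754_8757 i) (Nat.ble (nat_lit 8754) i)) (@Bool.rec (fun _ => ℕ) (t8757_8759 i) (t8759_8762 i) (Nat.ble (nat_lit 8759) i)) (Nat.ble (nat_lit 8757) i)) (Nat.ble (nat_lit 8752) i))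
noncomputable def t8762_8764 (i : ℕ) : ℕ := (@Bool.rec (fun _ => ℕ) l8762 l8763 (Nat.ble (nat_lit 8763) i))
noncomputable def t8764_8766 (i : ℕ) : ℕ := (@Bool.rec (fun _ => ℕ) l8764 l8765 (Nat.ble (nat_lit 8765) i))
noncomputable def t8766_8768 (i : ℕ) : ℕ := (@Bool.rec (fun _ => ℕ) l8766 l8767 (Nat.ble (nat_lit 8767) i))
noncomputable def t8768_8771 (i : ℕ) : ℕ := (@Bool.rec (fun _ => ℕ) l8768 (@Bool.rec (fun _ => ℕ) l8769 l8770 (Nat.ble (nat_lit 8770) i)) (Nat.ble (nat_lit 8769) i))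
noncomputable def t8771_8773 (i : ℕ) : ℕ := (@Bool.rec (fun _ => ℕ) l8771 l8772 (Nat.ble (nat_lit 8772) i))
noncomputable def t8773_8776 (i : ℕ) : ℕ := (@Bool.rec (fun _ => ℕ) l8773 (@Bool.rec (fun _ => ℕ) l8774 l8775 (Nat.ble (nat_lit 8775) i)) (Nat.ble (nat_lit 8774) i))
noncomputable def t8776_8778 (i : ℕ) : ℕ := (@Bool.rec (fun _ => ℕ) l8776 l8777 (Nat.ble (nat_lit 8777) i))
noncomputable def t8778_8781 (i : ℕ) : ℕ := (@Bool.rec (fun _ => ℕ) l8778 (@Bool.rec (fun _ => ℕ) l8779 l8780 (Nat.ble (nat_lit 8780) i)) (Nat.ble (nat_lit 8779) i))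
noncomputable def t8762_8781 (i : ℕ) : ℕ := (@Bool.rec (fun _ => ℕ) (@Bool.rec (fun _ => ℕ) (@Bool.rec (fun _ => ℕ) (t8762_8764 i) (t8764_8766 i) (Nat.ble (nat_lit 8764) i)) (@Bool.rec (fun _ => ℕ) (t8766_8768 i) (t8768_8771 i) (Nat.ble (nat_lit 8768) i)) (Nat.ble (nat_lit 8766) i)) (@Bool.rec (fun _ => ℕ) (@Bool.rec (fun _ => ℕ) (t8771_8773 i) (t8773_8776 i) (Nat.ble (nat_lit 8773) i)) (@Bool.rec (fun _ => ℕ) (t8776_8778 i) (t8778_8781 i) (Nat.ble (nat_lit 8778) i)) (Nat.ble (nat_lit 8776) i)) (Nat.ble (nat_lit 8771) i))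
noncomputable def t8781_8783 (i : ℕ) : ℕ := (@Bool.rec (fun _ => ℕ) l8781 l8782 (Nat.ble (nat_lit 8782) i))
noncomputable def t8783_8785 (i : ℕ) : ℕ := (@Bool.rec (fun _ => ℕ) l8783 l8784 (Nat.ble (nat_lit 8784) i))
noncomputable def t8785_8787 (i : ℕ) : ℕ := (@Bool.rec (fun _ => ℕ) l8785 l8786 (Nat.ble (nat_lit 8786) i))
noncomputable def t8787_8790 (i : ℕ) : ℕ := (@Bool.rec (fun _ => ℕ) l8787 (@Bool.rec (fun _ => ℕ) l8788 l8789 (Nat.ble (nat_lit 8789) i)) (Nat.ble (nat_lit 8788) i))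
noncomputable def t8790_8792 (i : ℕ) : ℕ := (@Bool.rec (fun _ => ℕ) l8790 l8791 (Nat.ble (nat_lit 8791) i))
noncomputable def t8792_8794 (i : ℕ) : ℕ := (@Bool.rec (fun _ => ℕ) l8792 l8793 (Nat.ble (nat_lit 8793) i))
noncomputable def t8794_8796 (i : ℕ) : ℕ := (@Bool.rec (fun _ => ℕ) l8794 l8795 (Nat.ble (nat_lit 8795) i))
noncomputable def t8796_8799 (i : ℕ) : ℕ := (@Bool.rec (fun _ => ℕ) l8796 (@Bool.rec (fun _ => ℕ) l8797 l8798 (Nat.ble (nat_lit 8798) i)) (Nat.ble (nat_lit 8797) i))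
noncomputable def t8781_8799 (i : ℕ) : ℕ := (@Bool.rec (fun _ => ℕ) (@Bool.rec (fun _ => ℕ) (@Bool.rec (fun _ => ℕ) (t8781_8783 i) (t8783_8785 i) (Nat.ble (nat_lit 8783) i)) (@Bool.rec (fun _ => ℕ) (t8785_8787 i) (t8787_8790 i) (Nat.ble (nat_lit 8787) i)) (Nat.ble (nat_lit 8785) i)) (@Bool.rec (fun _ => ℕ) (@Bool.rec (fun _ => ℕ) (t8790_8792 i) (t8792_8794 i) (Nat.ble (nat_lit 8792) i)) (@Bool.rec (fun _ => ℕ) (t8794_8796 i) (t8796_8799 i) (Nat.ble (nat_lit 8796) i)) (Nat.ble (nat_lit 8794) i)) (Nat.ble (nat_lit 8790) i))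
noncomputable def t8799_8801 (i : ℕ) : ℕ := (@Bool.rec (fun _ => ℕ) l8799 l8800 (Nat.ble (nat_lit 8800) i))
noncomputable def t8801_8803 (i : ℕ) : ℕ := (@Bool.rec (fun _ => ℕ) l8801 l8802 (Nat.ble (nat_lit 8802) i))
noncomputable def t8803_8805 (i : ℕ) : ℕ := (@Bool.rec (fun _ => ℕ) l8803 l8804 (Nat.ble (nat_lit 8804) i))
noncomputable def t8805_8808 (i : ℕ) : ℕ := (@Bool.rec (fun _ => ℕ) l8805 (@Bool.rec (fun _ => ℕ) l8806 l8807 (Nat.ble (nat_lit 8807) i)) (Nat.ble (nat_lit 8806) i))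
noncomputable def t8808_8810 (i : ℕ) : ℕ := (@Bool.rec (fun _ => ℕ) l8808 l8809 (Nat.ble (nat_lit 8809) i))
noncomputable def t8810_8813 (i : ℕ) : ℕ := (@Bool.rec (fun _ => ℕ) l8810 (@Bool.rec (fun _ => ℕ) l8811 l8812 (Nat.ble (nat_lit 8812) i)) (Nat.ble (nat_lit 8811) i))
noncomputable def t8813_8815 (i : ℕ) : ℕ := (@Bool.rec (fun _ => ℕ) l8813 l8814 (Nat.ble (nat_lit 8814) i))
noncomputable def t8815_8818 (i : ℕ) : ℕ := (@Bool.rec (fun _ => ℕ) l8815 (@Bool.rec (fun _ => ℕ) l8816 l8817 (Nat.ble (nat_lit 8817) i)) (Nat.ble (nat_lit 8816) i))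
noncomputable def t8799_8818 (i : ℕ) : ℕ := (@Bool.rec (fun _ => ℕ) (@Bool.rec (fun _ => ℕ) (@Bool.rec (fun _ => ℕ) (t8799_8801 i) (t8801_8803 i) (Nat.ble (nat_lit 8801) i)) (@Bool.rec (fun _ => ℕ) (t8803_8805 i) (t8805_8808 i) (Nat.ble (nat_lit 8805) i)) (Nat.ble (nat_lit 8803) i)) (@Bool.rec (fun _ => ℕ) (@Bool.rec (fun _ => ℕ) (t8808_8810 i) (t8810_8813 i) (Nat.ble (nat_lit 8810) i)) (@Bool.rec (fun _ => ℕ) (t8813_8815 i) (t8815_8818 i) (Nat.ble (nat_lit 8815) i)) (Nat.ble (nat_lit 8813) i)) (Nat.ble (nat_lit 8808) i))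
noncomputable def t8818_8820 (i : ℕ) : ℕ := (@Bool.rec (fun _ => ℕ) l8818 l8819 (Nat.ble (nat_lit 8819) i))
noncomputable def t8820_8822 (i : ℕ) : ℕ := (@Bool.rec (fun _ => ℕ) l8820 l8821 (Nat.ble (nat_lit 8821) i))
noncomputable def t8822_8824 (i : ℕ) : ℕ := (@Bool.rec (fun _ => ℕ) l8822 l8823 (Nat.ble (nat_lit 8823) i))
noncomputable def t8824_8827 (i : ℕ) : ℕ := (@Bool.rec (fun _ => ℕ) l8824 (@Bool.rec (fun _ => ℕ) l8825 l8826 (Nat.ble (nat_lit 8826) i)) (Nat.ble (nat_lit 8825) i))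
noncomputable def t8827_8829 (i : ℕ) : ℕ := (@Bool.rec (fun _ => ℕ) l8827 l8828 (Nat.ble (nat_lit 8828) i))
noncomputable def t8829_8832 (i : ℕ) : ℕ := (@Bool.rec (fun _ => ℕ) l8829 (@Bool.rec (fun _ => ℕ) l8830 l8831 (Nat.ble (nat_lit 8831) i)) (Nat.ble (nat_lit 8830) i))
noncomputable def t8832_8834 (i : ℕ) : ℕ := (@Bool.rec (fun _ => ℕ) l8832 l8833 (Nat.ble (nat_lit 8833) i))
noncomputable def t8834_8837 (i : ℕ) : ℕ := (@Bool.rec (fun _ => ℕ) l8834 (@Bool.rec (fun _ => ℕ) l8835 l8836 (Nat.ble (nat_lit 8836) i)) (Nat.ble (nat_lit 8835) i))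
noncomputable def t8818_8837 (i : ℕ) : ℕ := (@Bool.rec (fun _ => ℕ) (@Bool.rec (fun _ => ℕ) (@Bool.rec (fun _ => ℕ) (t8818_8820 i) (t8820_8822 i) (Nat.ble (nat_lit 8820) i)) (@Bool.rec (fun _ => ℕ) (t8822_8824 i) (t8824_8827 i) (Nat.ble (nat_lit 8824) i)) (Nat.ble (nat_lit 8822) i)) (@Bool.rec (fun _ => ℕ) (@Bool.rec (fun _ => ℕ) (t8827_8829 i) (t8829_8832 i) (Nat.ble (nat_lit 8829) i)) (@Bool.rec (fun _ => ℕ) (t8832_8834 i) (t8834_8837 i) (Nat.ble (nat_lit 8834) i)) (Nat.ble (nat_lit 8832) i)) (Nat.ble (nat_lit 8827) i))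
noncomputable def t8837_8839 (i : ℕ) : ℕ := (@Bool.rec (fun _ => ℕ) l8837 l8838 (Nat.ble (nat_lit 8838) i))
noncomputable def t8839_8841 (i : ℕ) : ℕ := (@Bool.rec (fun _ => ℕ) l8839 l8840 (Nat.ble (nat_lit 8840) i))
noncomputable def t8841_8843 (i : ℕ) : ℕ := (@Bool.rec (fun _ => ℕ) l8841 l8842 (Nat.ble (nat_lit 8842) i))
noncomputable def t8843_8846 (i : ℕ) : ℕ := (@Bool.rec (fun _ => ℕ) l8843 (@Bool.rec (fun _ => ℕ) l8844 l8845 (Nat.ble (nat_lit 8845) i)) (Nat.ble (nat_lit 8844) i))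
noncomputable def t8846_8848 (i : ℕ) : ℕ := (@Bool.rec (fun _ => ℕ) l8846 l8847 (Nat.ble (nat_lit 8847) i))
noncomputable def t8848_8851 (i : ℕ) : ℕ := (@Bool.rec (fun _ => ℕ) l8848 (@Bool.rec (fun _ => ℕ) l8849 l8850 (Nat.ble (nat_lit 8850) i)) (Nat.ble (nat_lit 8849) i))
noncomputable def t8851_8853 (i : ℕ) : ℕ := (@Bool.rec (fun _ => ℕ) l8851 l8852 (Nat.ble (nat_lit 8852) i))
noncomputable def t8853_8856 (i : ℕ) : ℕ := (@Bool.rec (fun _ => ℕ) l8853 (@Bool.rec (fun _ => ℕ) l8854 l8855 (Nat.ble (nat_lit 8855) i)) (Nat.ble (nat_lit 8854) i))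
noncomputable def t8837_8856 (i : ℕ) : ℕ := (@Bool.rec (fun _ => ℕ) (@Bool.rec (fun _ => ℕ) (@Bool.rec (fun _ => ℕ) (t8837_8839 i) (t8839_8841 i) (Nat.ble (nat_lit 8839) i)) (@Bool.rec (fun _ => ℕ) (t8841_8843 i) (t8843_8846 i) (Nat.ble (nat_lit 8843) i)) (Nat.ble (nat_lit 8841) i)) (@Bool.rec (fun _ => ℕ) (@Bool.rec (fun _ => ℕ) (t8846_8848 i) (t8848_8851 i) (Nat.ble (nat_lit 8848) i)) (@Bool.rec (fun _ => ℕ) (t8851_8853 i) (t8853_8856 i) (Nat.ble (nat_lit 8853) i)) (Nat.ble (nat_lit 8851) i)) (Nat.ble (nat_lit 8846) i))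
noncomputable def t8706_8856 (i : ℕ) : ℕ := (@Bool.rec (fun _ => ℕ) (@Bool.rec (fun _ => ℕ) (@Bool.rec (fun _ => ℕ) (t8706_8724 i) (t8724_8743 i) (Nat.ble (nat_lit 8724) i)) (@Bool.rec (fun _ => ℕ) (t8743_8762 i) (t8762_8781 i) (Nat.ble (nat_lit 8762) i)) (Nat.ble (nat_lit 8743) i)) (@Bool.rec (fun _ => ℕ) (@Bool.rec (fun _ => ℕ) (t8781_8799 i) (t8799_8818 i) (Nat.ble (nat_lit 8799) i)) (@Bool.rec (fun _ => ℕ) (t8818_8837 i) (t8837_8856 i) (Nat.ble (nat_lit 8837) i)) (Nat.ble (nat_lit 8818) i)) (Nat.ble (nat_lit 8781) i))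
noncomputable def t8856_8858 (i : ℕ) : ℕ := (@Bool.rec (fun _ => ℕ) l8856 l8857 (Nat.ble (nat_lit 8857) i))
noncomputable def t8858_8860 (i : ℕ) : ℕ := (@Bool.rec (fun _ => ℕ) l8858 l8859 (Nat.ble (nat_lit 8859) i))
noncomputable def t8860_8862 (i : ℕ) : ℕ := (@Bool.rec (fun _ => ℕ) l8860 l8861 (Nat.ble (nat_lit 8861) i))
noncomputable def t8862_8865 (i : ℕ) : ℕ := (@Bool.rec (fun _ => ℕ) l8862 (@Bool.rec (fun _ => ℕ) l8863 l8864 (Nat.ble (nat_lit 8864) i)) (Nat.ble (nat_lit 8863) i))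
noncomputable def t8865_8867 (i : ℕ) : ℕ := (@Bool.rec (fun _ => ℕ) l8865 l8866 (Nat.ble (nat_lit 8866) i))
noncomputable def t8867_8869 (i : ℕ) : ℕ := (@Bool.rec (fun _ => ℕ) l8867 l8868 (Nat.ble (nat_lit 8868) i))
noncomputable def t8869_8871 (i : ℕ) : ℕ := (@Bool.rec (fun _ => ℕ) l8869 l8870 (Nat.ble (nat_lit 8870) i))
noncomputable def t8871_8874 (i : ℕ) : ℕ := (@Bool.rec (fun _ => ℕ) l8871 (@Bool.rec (fun _ => ℕ) l8872 l8873 (Nat.ble (nat_lit 8873) i)) (Nat.ble (nat_lit 8872) i))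
noncomputable def t8856_8874 (i : ℕ) : ℕ := (@Bool.rec (fun _ => ℕ) (@Bool.rec (fun _ => ℕ) (@Bool.rec (fun _ => ℕ) (t8856_8858 i) (t8858_8860 i) (Nat.ble (nat_lit 8858) i)) (@Bool.rec (fun _ => ℕ) (t8860_8862 i) (t8862_8865 i) (Nat.ble (nat_lit 8862) i)) (Nat.ble (nat_lit 8860) i)) (@Bool.rec (fun _ => ℕ) (@Bool.rec (fun _ => ℕ) (t8865_8867 i) (t8867_8869 i) (Nat.ble (nat_lit 8867) i)) (@Bool.rec (fun _ => ℕ) (t8869_8871 i) (t8871_8874 i) (Nat.ble (nat_lit 8871) i)) (Nat.ble (nat_lit 8869) i)) (Nat.ble (nat_lit 8865) i))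
noncomputable def t8874_8876 (i : ℕ) : ℕ := (@Bool.rec (fun _ => ℕ) l8874 l8875 (Nat.ble (nat_lit 8875) i))
noncomputable def t8876_8878 (i : ℕ) : ℕ := (@Bool.rec (fun _ => ℕ) l8876 l8877 (Nat.ble (nat_lit 8877) i))
noncomputable def t8878_8880 (i : ℕ) : ℕ := (@Bool.rec (fun _ => ℕ) l8878 l8879 (Nat.ble (nat_lit 8879) i))
noncomputable def t8880_8883 (i : ℕ) : ℕ := (@Bool.rec (fun _ => ℕ) l8880 (@Bool.rec (fun _ => ℕ) l8881 l8882 (Nat.ble (nat_lit 8882) i)) (Nat.ble (nat_lit 8881) i))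
noncomputable def t8883_8885 (i : ℕ) : ℕ := (@Bool.rec (fun _ => ℕ) l8883 l8884 (Nat.ble (nat_lit 8884) i))
noncomputable def t8885_8888 (i : ℕ) : ℕ := (@Bool.rec (fun _ => ℕ) l8885 (@Bool.rec (fun _ => ℕ) l8886 l8887 (Nat.ble (nat_lit 8887) i)) (Nat.ble (nat_lit 8886) i))
noncomputable def t8888_8890 (i : ℕ) : ℕ := (@Bool.rec (fun _ => ℕ) l8888 l8889 (Nat.ble (nat_lit 8889) i))
noncomputable def t8890_8893 (i : ℕ) : ℕ := (@Bool.rec (fun _ => ℕ) l8890 (@Bool.rec (fun _ => ℕ) l8891 l8892 (Nat.ble (nat_lit 8892) i)) (Nat.ble (nat_lit 8891) i))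
noncomputable def t8874_8893 (i : ℕ) : ℕ := (@Bool.rec (fun _ => ℕ) (@Bool.rec (fun _ => ℕ) (@Bool.rec (fun _ => ℕ) (t8874_8876 i) (t8876_8878 i) (Nat.ble (nat_lit 8876) i)) (@Bool.rec (fun _ => ℕ) (t8878_8880 i) (t8880_8883 i) (Nat.ble (nat_lit 8880) i)) (Nat.ble (nat_lit 8878) i)) (@Bool.rec (fun _ => ℕ) (@Bool.rec (fun _ => ℕ) (t8883_8885 i) (t8885_8888 i) (Nat.ble (nat_lit 8885) i)) (@Bool.rec (fun _ => ℕ) (t8888_8890 i) (t8890_8893 i) (Nat.ble (nat_lit 8890) i)) (Nat.ble (nat_lit 8888) i)) (Nat.ble (nat_lit 8883) i))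
noncomputable def t8893_8895 (i : ℕ) : ℕ := (@Bool.rec (fun _ => ℕ) l8893 l8894 (Nat.ble (nat_lit 8894) i))
noncomputable def t8895_8897 (i : ℕ) : ℕ := (@Bool.rec (fun _ => ℕ) l8895 l8896 (Nat.ble (nat_lit 8896) i))
noncomputable def t8897_8899 (i : ℕ) : ℕ := (@Bool.rec (fun _ => ℕ) l8897 l8898 (Nat.ble (nat_lit 8898) i))
noncomputable def t8899_8902 (i : ℕ) : ℕ := (@Bool.rec (fun _ => ℕ) l8899 (@Bool.rec (fun _ => ℕ) l8900 l8901 (Nat.ble (nat_lit 8901) i)) (Nat.ble (nat_lit 8900) i))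
noncomputable def t8902_8904 (i : ℕ) : ℕ := (@Bool.rec (fun _ => ℕ) l8902 l8903 (Nat.ble (nat_lit 8903) i))
noncomputable def t8904_8907 (i : ℕ) : ℕ := (@Bool.rec (fun _ => ℕ) l8904 (@Bool.rec (fun _ => ℕ) l8905 l8906 (Nat.ble (nat_lit 8906) i)) (Nat.ble (nat_lit 8905) i))
noncomputable def t8907_8909 (i : ℕ) : ℕ := (@Bool.rec (fun _ => ℕ) l8907 l8908 (Nat.ble (nat_lit 8908) i))
noncomputable def t8909_8912 (i : ℕ) : ℕ := (@Bool.rec (fun _ => ℕ) l8909 (@Bool.rec (fun _ => ℕ) l8910 l8911 (Nat.ble (nat_lit 8911) i)) (Nat.ble (nat_lit 8910) i))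
noncomputable def t8893_8912 (i : ℕ) : ℕ := (@Bool.rec (fun _ => ℕ) (@Bool.rec (fun _ => ℕ) (@Bool.rec (fun _ => ℕ) (t8893_8895 i) (t8895_8897 i) (Nat.ble (nat_lit 8895) i)) (@Bool.rec (fun _ => ℕ) (t8897_8899 i) (t8899_8902 i) (Nat.ble (nat_lit 8899) i)) (Nat.ble (nat_lit 8897) i)) (@Bool.rec (fun _ => ℕ) (@Bool.rec (fun _ => ℕ) (t8902_8904 i) (t8904_8907 i) (Nat.ble (nat_lit 8904) i)) (@Bool.rec (fun _ => ℕ) (t8907_8909 i) (t8909_8912 i) (Nat.ble (nat_lit 8909) i)) (Nat.ble (nat_lit 8907) i)) (Nat.ble (nat_lit 8902) i))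
noncomputable def t8912_8914 (i : ℕ) : ℕ := (@Bool.rec (fun _ => ℕ) l8912 l8913 (Nat.ble (nat_lit 8913) i))
noncomputable def t8914_8916 (i : ℕ) : ℕ := (@Bool.rec (fun _ => ℕ) l8914 l8915 (Nat.ble (nat_lit 8915) i))
noncomputable def t8916_8918 (i : ℕ) : ℕ := (@Bool.rec (fun _ => ℕ) l8916 l8917 (Nat.ble (nat_lit 8917) i))
noncomputable def t8918_8921 (i : ℕ) : ℕ := (@Bool.rec (fun _ => ℕ) l8918 (@Bool.rec (fun _ => ℕ) l8919 l8920 (Nat.ble (nat_lit 8920) i)) (Nat.ble (nat_lit 8919) i))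
noncomputable def t8921_8923 (i : ℕ) : ℕ := (@Bool.rec (fun _ => ℕ) l8921 l8922 (Nat.ble (nat_lit 8922) i))
noncomputable def t8923_8926 (i : ℕ) : ℕ := (@Bool.rec (fun _ => ℕ) l8923 (@Bool.rec (fun _ => ℕ) l8924 l8925 (Nat.ble (nat_lit 8925) i)) (Nat.ble (nat_lit 8924) i))
noncomputable def t8926_8928 (i : ℕ) : ℕ := (@Bool.rec (fun _ => ℕ) l8926 l8927 (Nat.ble (nat_lit 8927) i))
noncomputable def t8928_8931 (i : ℕ) : ℕ := (@Bool.rec (fun _ => ℕ) l8928 (@Bool.rec (fun _ => ℕ) l8929 l8930 (Nat.ble (nat_lit 8930) i)) (Nat.ble (nat_lit 8929) i))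
noncomputable def t8912_8931 (i : ℕ) : ℕ := (@Bool.rec (fun _ => ℕ) (@Bool.rec (fun _ => ℕ) (@Bool.rec (fun _ => ℕ) (t8912_8914 i) (t8914_8916 i) (Nat.ble (nat_lit 8914) i)) (@Bool.rec (fun _ => ℕ) (t8916_8918 i) (t8918_8921 i) (Nat.ble (nat_lit 8918) i)) (Nat.ble (nat_lit 8916) i)) (@Bool.rec (fun _ => ℕ) (@Bool.rec (fun _ => ℕ) (t8921_8923 i) (t8923_8926 i) (Nat.ble (nat_lit 8923) i)) (@Bool.rec (fun _ => ℕ) (t8926_8928 i) (t8928_8931 i) (Nat.ble (nat_lit 8928) i)) (Nat.ble (nat_lit 8926) i)) (Nat.ble (nat_lit 8921) i))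
noncomputable def t8931_8933 (i : ℕ) : ℕ := (@Bool.rec (fun _ => ℕ) l8931 l8932 (Nat.ble (nat_lit 8932) i))
noncomputable def t8933_8935 (i : ℕ) : ℕ := (@Bool.rec (fun _ => ℕ) l8933 l8934 (Nat.ble (nat_lit 8934) i))
noncomputable def t8935_8937 (i : ℕ) : ℕ := (@Bool.rec (fun _ => ℕ) l8935 l8936 (Nat.ble (nat_lit 8936) i))
noncomputable def t8937_8940 (i : ℕ) : ℕ := (@Bool.rec (fun _ => ℕ) l8937 (@Bool.rec (fun _ => ℕ) l8938 l8939 (Nat.ble (nat_lit 8939) i)) (Nat.ble (nat_lit 8938) i))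
noncomputable def t8940_8942 (i : ℕ) : ℕ := (@Bool.rec (fun _ => ℕ) l8940 l8941 (Nat.ble (nat_lit 8941) i))
noncomputable def t8942_8944 (i : ℕ) : ℕ := (@Bool.rec (fun _ => ℕ) l8942 l8943 (Nat.ble (nat_lit 8943) i))
noncomputable def t8944_8946 (i : ℕ) : ℕ := (@Bool.rec (fun _ => ℕ) l8944 l8945 (Nat.ble (nat_lit 8945) i))
noncomputable def t8946_8949 (i : ℕ) : ℕ := (@Bool.rec (fun _ => ℕ) l8946 (@Bool.rec (fun _ => ℕ) l8947 l8948 (Nat.ble (nat_lit 8948) i)) (Nat.ble (nat_lit 8947) i))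
noncomputable def t8931_8949 (i : ℕ) : ℕ := (@Bool.rec (fun _ => ℕ) (@Bool.rec (fun _ => ℕ) (@Bool.rec (fun _ => ℕ) (t8931_8933 i) (t8933_8935 i) (Nat.ble (nat_lit 8933) i)) (@Bool.rec (fun _ => ℕ) (t8935_8937 i) (t8937_8940 i) (Nat.ble (nat_lit 8937) i)) (Nat.ble (nat_lit 8935) i)) (@Bool.rec (fun _ => ℕ) (@Bool.rec (fun _ => ℕ) (t8940_8942 i) (t8942_8944 i) (Nat.ble (nat_lit 8942) i)) (@Bool.rec (fun _ => ℕ) (t8944_8946 i) (t8946_8949 i) (Nat.ble (nat_lit 8946) i)) (Nat.ble (nat_lit 8944) i)) (Nat.ble (nat_lit 8940) i))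
noncomputable def t8949_8951 (i : ℕ) : ℕ := (@Bool.rec (fun _ => ℕ) l8949 l8950 (Nat.ble (nat_lit 8950) i))
noncomputable def t8951_8953 (i : ℕ) : ℕ := (@Bool.rec (fun _ => ℕ) l8951 l8952 (Nat.ble (nat_lit 8952) i))
noncomputable def t8953_8955 (i : ℕ) : ℕ := (@Bool.rec (fun _ => ℕ) l8953 l8954 (Nat.ble (nat_lit 8954) i))
noncomputable def t8955_8958 (i : ℕ) : ℕ := (@Bool.rec (fun _ => ℕ) l8955 (@Bool.rec (fun _ => ℕ) l8956 l8957 (Nat.ble (nat_lit 8957) i)) (Nat.ble (nat_lit 8956) i))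
noncomputable def t8958_8960 (i : ℕ) : ℕ := (@Bool.rec (fun _ => ℕ) l8958 l8959 (Nat.ble (nat_lit 8959) i))
noncomputable def t8960_8963 (i : ℕ) : ℕ := (@Bool.rec (fun _ => ℕ) l8960 (@Bool.rec (fun _ => ℕ) l8961 l8962 (Nat.ble (nat_lit 8962) i)) (Nat.ble (nat_lit 8961) i))
noncomputable def t8963_8965 (i : ℕ) : ℕ := (@Bool.rec (fun _ => ℕ) l8963 l8964 (Nat.ble (nat_lit 8964) i))
noncomputable def t8965_8968 (i : ℕ) : ℕ := (@Bool.rec (fun _ => ℕ) l8965 (@Bool.rec (fun _ => ℕ) l8966 l8967 (Nat.ble (nat_lit 8967) i)) (Nat.ble (nat_lit 8966) i))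
noncomputable def t8949_8968 (i : ℕ) : ℕ := (@Bool.rec (fun _ => ℕ) (@Bool.rec (fun _ => ℕ) (@Bool.rec (fun _ => ℕ) (t8949_8951 i) (t8951_8953 i) (Nat.ble (nat_lit 8951) i)) (@Bool.rec (fun _ => ℕ) (t8953_8955 i) (t8955_8958 i) (Nat.ble (nat_lit 8955) i)) (Nat.ble (nat_lit 8953) i)) (@Bool.rec (fun _ => ℕ) (@Bool.rec (fun _ => ℕ) (t8958_8960 i) (t8960_8963 i) (Nat.ble (nat_lit 8960) i)) (@Bool.rec (fun _ => ℕ) (t8963_8965 i) (t8965_8968 i) (Nat.ble (nat_lit 8965) i)) (Nat.ble (nat_lit 8963) i)) (Nat.ble (nat_lit 8958) i))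
noncomputable def t8968_8970 (i : ℕ) : ℕ := (@Bool.rec (fun _ => ℕ) l8968 l8969 (Nat.ble (nat_lit 8969) i))
noncomputable def t8970_8972 (i : ℕ) : ℕ := (@Bool.rec (fun _ => ℕ) l8970 l8971 (Nat.ble (nat_lit 8971) i))
noncomputable def t8972_8974 (i : ℕ) : ℕ := (@Bool.rec (fun _ => ℕ) l8972 l8973 (Nat.ble (nat_lit 8973) i))
noncomputable def t8974_8977 (i : ℕ) : ℕ := (@Bool.rec (fun _ => ℕ) l8974 (@Bool.rec (fun _ => ℕ) l8975 l8976 (Nat.ble (nat_lit 8976) i)) (Nat.ble (nat_lit 8975) i))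
noncomputable def t8977_8979 (i : ℕ) : ℕ := (@Bool.rec (fun _ => ℕ) l8977 l8978 (Nat.ble (nat_lit 8978) i))
noncomputable def t8979_8982 (i : ℕ) : ℕ := (@Bool.rec (fun _ => ℕ) l8979 (@Bool.rec (fun _ => ℕ) l8980 l8981 (Nat.ble (nat_lit 8981) i)) (Nat.ble (nat_lit 8980) i))
noncomputable def t8982_8984 (i : ℕ) : ℕ := (@Bool.rec (fun _ => ℕ) l8982 l8983 (Nat.ble (nat_lit 8983) i))
noncomputable def t8984_8987 (i : ℕ) : ℕ := (@Bool.rec (fun _ => ℕ) l8984 (@Bool.rec (fun _ => ℕ) l8985 l8986 (Nat.ble (nat_lit 8986) i)) (Nat.ble (nat_lit 8985) i))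
noncomputable def t8968_8987 (i : ℕ) : ℕ := (@Bool.rec (fun _ => ℕ) (@Bool.rec (fun _ => ℕ) (@Bool.rec (fun _ => ℕ) (t8968_8970 i) (t8970_8972 i) (Nat.ble (nat_lit 8970) i)) (@Bool.rec (fun _ => ℕ) (t8972_8974 i) (t8974_8977 i) (Nat.ble (nat_lit 8974) i)) (Nat.ble (nat_lit 8972) i)) (@Bool.rec (fun _ => ℕ) (@Bool.rec (fun _ => ℕ) (t8977_8979 i) (t8979_8982 i) (Nat.ble (nat_lit 8979) i)) (@Bool.rec (fun _ => ℕ) (t8982_8984 i) (t8984_8987 i) (Nat.ble (nat_lit 8984) i)) (Nat.ble (nat_lit 8982) i)) (Nat.ble (nat_lit 8977) i))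
noncomputable def t8987_8989 (i : ℕ) : ℕ := (@Bool.rec (fun _ => ℕ) l8987 l8988 (Nat.ble (nat_lit 8988) i))
noncomputable def t8989_8991 (i : ℕ) : ℕ := (@Bool.rec (fun _ => ℕ) l8989 l8990 (Nat.ble (nat_lit 8990) i))
noncomputable def t8991_8993 (i : ℕ) : ℕ := (@Bool.rec (fun _ => ℕ) l8991 l8992 (Nat.ble (nat_lit 8992) i))
noncomputable def t8993_8996 (i : ℕ) : ℕ := (@Bool.rec (fun _ => ℕ) l8993 (@Bool.rec (fun _ => ℕ) l8994 l8995 (Nat.ble (nat_lit 8995) i)) (Nat.ble (nat_lit 8994) i))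
noncomputable def t8996_8998 (i : ℕ) : ℕ := (@Bool.rec (fun _ => ℕ) l8996 l8997 (Nat.ble (nat_lit 8997) i))
noncomputable def t8998_9001 (i : ℕ) : ℕ := (@Bool.rec (fun _ => ℕ) l8998 (@Bool.rec (fun _ => ℕ) l8999 l9000 (Nat.ble (nat_lit 9000) i)) (Nat.ble (nat_lit 8999) i))
noncomputable def t9001_9003 (i : ℕ) : ℕ := (@Bool.rec (fun _ => ℕ) l9001 l9002 (Nat.ble (nat_lit 9002) i))
noncomputable def t9003_9006 (i : ℕ) : ℕ := (@Bool.rec (fun _ => ℕ) l9003 (@Bool.rec (fun _ => ℕ) l9004 l9005 (Nat.ble (nat_lit 9005) i)) (Nat.ble (nat_lit 9004) i))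
noncomputable def t8987_9006 (i : ℕ) : ℕ := (@Bool.rec (fun _ => ℕ) (@Bool.rec (fun _ => ℕ) (@Bool.rec (fun _ => ℕ) (t8987_8989 i) (t8989_8991 i) (Nat.ble (nat_lit 8989) i)) (@Bool.rec (fun _ => ℕ) (t8991_8993 i) (t8993_8996 i) (Nat.ble (nat_lit 8993) i)) (Nat.ble (nat_lit 8991) i)) (@Bool.rec (fun _ => ℕ) (@Bool.rec (fun _ => ℕ) (t8996_8998 i) (t8998_9001 i) (Nat.ble (nat_lit 8998) i)) (@Bool.rec (fun _ => ℕ) (t9001_9003 i) (t9003_9006 i) (Nat.ble (nat_lit 9003) i)) (Nat.ble (nat_lit 9001) i)) (Nat.ble (nat_lit 8996) i))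
noncomputable def t8856_9006 (i : ℕ) : ℕ := (@Bool.rec (fun _ => ℕ) (@Bool.rec (fun _ => ℕ) (@Bool.rec (fun _ => ℕ) (t8856_8874 i) (t8874_8893 i) (Nat.ble (nat_lit 8874) i)) (@Bool.rec (fun _ => ℕ) (t8893_8912 i) (t8912_8931 i) (Nat.ble (nat_lit 8912) i)) (Nat.ble (nat_lit 8893) i)) (@Bool.rec (fun _ => ℕ) (@Bool.rec (fun _ => ℕ) (t8931_8949 i) (t8949_8968 i) (Nat.ble (nat_lit 8949) i)) (@Bool.rec (fun _ => ℕ) (t8968_8987 i) (t8987_9006 i) (Nat.ble (nat_lit 8987) i)) (Nat.ble (nat_lit 8968) i)) (Nat.ble (nat_lit 8931) i))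
noncomputable def t9006_9008 (i : ℕ) : ℕ := (@Bool.rec (fun _ => ℕ) l9006 l9007 (Nat.ble (nat_lit 9007) i))
noncomputable def t9008_9010 (i : ℕ) : ℕ := (@Bool.rec (fun _ => ℕ) l9008 l9009 (Nat.ble (nat_lit 9009) i))
noncomputable def t9010_9012 (i : ℕ) : ℕ := (@Bool.rec (fun _ => ℕ) l9010 l9011 (Nat.ble (nat_lit 9011) i))
noncomputable def t9012_9015 (i : ℕ) : ℕ := (@Bool.rec (fun _ => ℕ) l9012 (@Bool.rec (fun _ => ℕ) l9013 l9014 (Nat.ble (nat_lit 9014) i)) (Nat.ble (nat_lit 9013) i))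
noncomputable def t9015_9017 (i : ℕ) : ℕ := (@Bool.rec (fun _ => ℕ) l9015 l9016 (Nat.ble (nat_lit 9016) i))
noncomputable def t9017_9019 (i : ℕ) : ℕ := (@Bool.rec (fun _ => ℕ) l9017 l9018 (Nat.ble (nat_lit 9018) i))
noncomputable def t9019_9021 (i : ℕ) : ℕ := (@Bool.rec (fun _ => ℕ) l9019 l9020 (Nat.ble (nat_lit 9020) i))
noncomputable def t9021_9024 (i : ℕ) : ℕ := (@Bool.rec (fun _ => ℕ) l9021 (@Bool.rec (fun _ => ℕ) l9022 l9023 (Nat.ble (nat_lit 9023) i)) (Nat.ble (nat_lit 9022) i))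
noncomputable def t9006_9024 (i : ℕ) : ℕ := (@Bool.rec (fun _ => ℕ) (@Bool.rec (fun _ => ℕ) (@Bool.rec (fun _ => ℕ) (t9006_9008 i) (t9008_9010 i) (Nat.ble (nat_lit 9008) i)) (@Bool.rec (fun _ => ℕ) (t9010_9012 i) (t9012_9015 i) (Nat.ble (nat_lit 9012) i)) (Nat.ble (nat_lit 9010) i)) (@Bool.rec (fun _ => ℕ) (@Bool.rec (fun _ => ℕ) (t9015_9017 i) (t9017_9019 i) (Nat.ble (nat_lit 9017) i)) (@Bool.rec (fun _ => ℕ) (t9019_9021 i) (t9021_9024 i) (Nat.ble (nat_lit 9021) i)) (Nat.ble (nat_lit 9019) i)) (Nat.ble (nat_lit 9015) i))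
noncomputable def t9024_9026 (i : ℕ) : ℕ := (@Bool.rec (fun _ => ℕ) l9024 l9025 (Nat.ble (nat_lit 9025) i))
noncomputable def t9026_9028 (i : ℕ) : ℕ := (@Bool.rec (fun _ => ℕ) l9026 l9027 (Nat.ble (nat_lit 9027) i))
noncomputable def t9028_9030 (i : ℕ) : ℕ := (@Bool.rec (fun _ => ℕ) l9028 l9029 (Nat.ble (nat_lit 9029) i))
noncomputable def t9030_9033 (i : ℕ) : ℕ := (@Bool.rec (fun _ => ℕ) l9030 (@Bool.rec (fun _ => ℕ) l9031 l9032 (Nat.ble (nat_lit 9032) i)) (Nat.ble (nat_lit 9031) i))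
noncomputable def t9033_9035 (i : ℕ) : ℕ := (@Bool.rec (fun _ => ℕ) l9033 l9034 (Nat.ble (nat_lit 9034) i))
noncomputable def t9035_9038 (i : ℕ) : ℕ := (@Bool.rec (fun _ => ℕ) l9035 (@Bool.rec (fun _ => ℕ) l9036 l9037 (Nat.ble (nat_lit 9037) i)) (Nat.ble (nat_lit 9036) i))
noncomputable def t9038_9040 (i : ℕ) : ℕ := (@Bool.rec (fun _ => ℕ) l9038 l9039 (Nat.ble (nat_lit 9039) i))
noncomputable def t9040_9043 (i : ℕ) : ℕ := (@Bool.rec (fun _ => ℕ) l9040 (@Bool.rec (fun _ => ℕ) l9041 l9042 (Nat.ble (nat_lit 9042) i)) (Nat.ble (nat_lit 9041) i))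
noncomputable def t9024_9043 (i : ℕ) : ℕ := (@Bool.rec (fun _ => ℕ) (@Bool.rec (fun _ => ℕ) (@Bool.rec (fun _ => ℕ) (t9024_9026 i) (t9026_9028 i) (Nat.ble (nat_lit 9026) i)) (@Bool.rec (fun _ => ℕ) (t9028_9030 i) (t9030_9033 i) (Nat.ble (nat_lit 9030) i)) (Nat.ble (nat_lit 9028) i)) (@Bool.rec (fun _ => ℕ) (@Bool.rec (fun _ => ℕ) (t9033_9035 i) (t9035_9038 i) (Nat.ble (nat_lit 9035) i)) (@Bool.rec (fun _ => ℕ) (t9038_9040 i) (t9040_9043 i) (Nat.ble (nat_lit 9040) i)) (Nat.ble (nat_lit 9038) i)) (Nat.ble (nat_lit 9033) i))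
noncomputable def t9043_9045 (i : ℕ) : ℕ := (@Bool.rec (fun _ => ℕ) l9043 l9044 (Nat.ble (nat_lit 9044) i))
noncomputable def t9045_9047 (i : ℕ) : ℕ := (@Bool.rec (fun _ => ℕ) l9045 l9046 (Nat.ble (nat_lit 9046) i))
noncomputable def t9047_9049 (i : ℕ) : ℕ := (@Bool.rec (fun _ => ℕ) l9047 l9048 (Nat.ble (nat_lit 9048) i))
noncomputable def t9049_9052 (i : ℕ) : ℕ := (@Bool.rec (fun _ => ℕ) l9049 (@Bool.rec (fun _ => ℕ) l9050 l9051 (Nat.ble (nat_lit 9051) i)) (Nat.ble (nat_lit 9050) i))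
noncomputable def t9052_9054 (i : ℕ) : ℕ := (@Bool.rec (fun _ => ℕ) l9052 l9053 (Nat.ble (nat_lit 9053) i))
noncomputable def t9054_9057 (i : ℕ) : ℕ := (@Bool.rec (fun _ => ℕ) l9054 (@Bool.rec (fun _ => ℕ) l9055 l9056 (Nat.ble (nat_lit 9056) i)) (Nat.ble (nat_lit 9055) i))
noncomputable def t9057_9059 (i : ℕ) : ℕ := (@Bool.rec (fun _ => ℕ) l9057 l9058 (Nat.ble (nat_lit 9058) i))
noncomputable def t9059_9062 (i : ℕ) : ℕ := (@Bool.rec (fun _ => ℕ) l9059 (@Bool.rec (fun _ => ℕ) l9060 l9061 (Nat.ble (nat_lit 9061) i)) (Nat.ble (nat_lit 9060) i))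
noncomputable def t9043_9062 (i : ℕ) : ℕ := (@Bool.rec (fun _ => ℕ) (@Bool.rec (fun _ => ℕ) (@Bool.rec (fun _ => ℕ) (t9043_9045 i) (t9045_9047 i) (Nat.ble (nat_lit 9045) i)) (@Bool.rec (fun _ => ℕ) (t9047_9049 i) (t9049_9052 i) (Nat.ble (nat_lit 9049) i)) (Nat.ble (nat_lit 9047) i)) (@Bool.rec (fun _ => ℕ) (@Bool.rec (fun _ => ℕ) (t9052_9054 i) (t9054_9057 i) (Nat.ble (nat_lit 9054) i)) (@Bool.rec (fun _ => ℕ) (t9057_9059 i) (t9059_9062 i) (Nat.ble (nat_lit 9059) i)) (Nat.ble (nat_lit 9057) i)) (Nat.ble (nat_lit 9052) i))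
noncomputable def t9062_9064 (i : ℕ) : ℕ := (@Bool.rec (fun _ => ℕ) l9062 l9063 (Nat.ble (nat_lit 9063) i))
noncomputable def t9064_9066 (i : ℕ) : ℕ := (@Bool.rec (fun _ => ℕ) l9064 l9065 (Nat.ble (nat_lit 9065) i))
noncomputable def t9066_9068 (i : ℕ) : ℕ := (@Bool.rec (fun _ => ℕ) l9066 l9067 (Nat.ble (nat_lit 9067) i))
noncomputable def t9068_9071 (i : ℕ) : ℕ := (@Bool.rec (fun _ => ℕ) l9068 (@Bool.rec (fun _ => ℕ) l9069 l9070 (Nat.ble (nat_lit 9070) i)) (Nat.ble (nat_lit 9069) i))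
noncomputable def t9071_9073 (i : ℕ) : ℕ := (@Bool.rec (fun _ => ℕ) l9071 l9072 (Nat.ble (nat_lit 9072) i))
noncomputable def t9073_9076 (i : ℕ) : ℕ := (@Bool.rec (fun _ => ℕ) l9073 (@Bool.rec (fun _ => ℕ) l9074 l9075 (Nat.ble (nat_lit 9075) i)) (Nat.ble (nat_lit 9074) i))
noncomputable def t9076_9078 (i : ℕ) : ℕ := (@Bool.rec (fun _ => ℕ) l9076 l9077 (Nat.ble (nat_lit 9077) i))
noncomputable def t9078_9081 (i : ℕ) : ℕ := (@Bool.rec (fun _ => ℕ) l9078 (@Bool.rec (fun _ => ℕ) l9079 l9080 (Nat.ble (nat_lit 9080) i)) (Nat.ble (nat_lit 9079) i))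
noncomputable def t9062_9081 (i : ℕ) : ℕ := (@Bool.rec (fun _ => ℕ) (@Bool.rec (fun _ => ℕ) (@Bool.rec (fun _ => ℕ) (t9062_9064 i) (t9064_9066 i) (Nat.ble (nat_lit 9064) i)) (@Bool.rec (fun _ => ℕ) (t9066_9068 i) (t9068_9071 i) (Nat.ble (nat_lit 9068) i)) (Nat.ble (nat_lit 9066) i)) (@Bool.rec (fun _ => ℕ) (@Bool.rec (fun _ => ℕ) (t9071_9073 i) (t9073_9076 i) (Nat.ble (nat_lit 9073) i)) (@Bool.rec (fun _ => ℕ) (t9076_9078 i) (t9078_9081 i) (Nat.ble (nat_lit 9078) i)) (Nat.ble (nat_lit 9076) i)) (Nat.ble (nat_lit 9071) i))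
noncomputable def t9081_9083 (i : ℕ) : ℕ := (@Bool.rec (fun _ => ℕ) l9081 l9082 (Nat.ble (nat_lit 9082) i))
noncomputable def t9083_9085 (i : ℕ) : ℕ := (@Bool.rec (fun _ => ℕ) l9083 l9084 (Nat.ble (nat_lit 9084) i))
noncomputable def t9085_9087 (i : ℕ) : ℕ := (@Bool.rec (fun _ => ℕ) l9085 l9086 (Nat.ble (nat_lit 9086) i))
noncomputable def t9087_9090 (i : ℕ) : ℕ := (@Bool.rec (fun _ => ℕ) l9087 (@Bool.rec (fun _ => ℕ) l9088 l9089 (Nat.ble (nat_lit 9089) i)) (Nat.ble (nat_lit 9088) i))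
noncomputable def t9090_9092 (i : ℕ) : ℕ := (@Bool.rec (fun _ => ℕ) l9090 l9091 (Nat.ble (nat_lit 9091) i))
noncomputable def t9092_9094 (i : ℕ) : ℕ := (@Bool.rec (fun _ => ℕ) l9092 l9093 (Nat.ble (nat_lit 9093) i))
noncomputable def t9094_9096 (i : ℕ) : ℕ := (@Bool.rec (fun _ => ℕ) l9094 l9095 (Nat.ble (nat_lit 9095) i))
noncomputable def t9096_9099 (i : ℕ) : ℕ := (@Bool.rec (fun _ => ℕ) l9096 (@Bool.rec (fun _ => ℕ) l9097 l9098 (Nat.ble (nat_lit 9098) i)) (Nat.ble (nat_lit 9097) i))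
noncomputable def t9081_9099 (i : ℕ) : ℕ := (@Bool.rec (fun _ => ℕ) (@Bool.rec (fun _ => ℕ) (@Bool.rec (fun _ => ℕ) (t9081_9083 i) (t9083_9085 i) (Nat.ble (nat_lit 9083) i)) (@Bool.rec (fun _ => ℕ) (t9085_9087 i) (t9087_9090 i) (Nat.ble (nat_lit 9087) i)) (Nat.ble (nat_lit 9085) i)) (@Bool.rec (fun _ => ℕ) (@Bool.rec (fun _ => ℕ) (t9090_9092 i) (t9092_9094 i) (Nat.ble (nat_lit 9092) i)) (@Bool.rec (fun _ => ℕ) (t9094_9096 i) (t9096_9099 i) (Nat.ble (nat_lit 9096) i)) (Nat.ble (nat_lit 9094) i)) (Nat.ble (nat_lit 9090) i))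
noncomputable def t9099_9101 (i : ℕ) : ℕ := (@Bool.rec (fun _ => ℕ) l9099 l9100 (Nat.ble (nat_lit 9100) i))
noncomputable def t9101_9103 (i : ℕ) : ℕ := (@Bool.rec (fun _ => ℕ) l9101 l9102 (Nat.ble (nat_lit 9102) i))
noncomputable def t9103_9105 (i : ℕ) : ℕ := (@Bool.rec (fun _ => ℕ) l9103 l9104 (Nat.ble (nat_lit 9104) i))
noncomputable def t9105_9108 (i : ℕ) : ℕ := (@Bool.rec (fun _ => ℕ) l9105 (@Bool.rec (fun _ => ℕ) l9106 l9107 (Nat.ble (nat_lit 9107) i)) (Nat.ble (nat_lit 9106) i))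
noncomputable def t9108_9110 (i : ℕ) : ℕ := (@Bool.rec (fun _ => ℕ) l9108 l9109 (Nat.ble (nat_lit 9109) i))
noncomputable def t9110_9113 (i : ℕ) : ℕ := (@Bool.rec (fun _ => ℕ) l9110 (@Bool.rec (fun _ => ℕ) l9111 l9112 (Nat.ble (nat_lit 9112) i)) (Nat.ble (nat_lit 9111) i))
noncomputable def t9113_9115 (i : ℕ) : ℕ := (@Bool.rec (fun _ => ℕ) l9113 l9114 (Nat.ble (nat_lit 9114) i))
noncomputable def t9115_9118 (i : ℕ) : ℕ := (@Bool.rec (fun _ => ℕ) l9115 (@Bool.rec (fun _ => ℕ) l9116 l9117 (Nat.ble (nat_lit 9117) i)) (Nat.ble (nat_lit 9116) i))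
noncomputable def t9099_9118 (i : ℕ) : ℕ := (@Bool.rec (fun _ => ℕ) (@Bool.rec (fun _ => ℕ) (@Bool.rec (fun _ => ℕ) (t9099_9101 i) (t9101_9103 i) (Nat.ble (nat_lit 9101) i)) (@Bool.rec (fun _ => ℕ) (t9103_9105 i) (t9105_9108 i) (Nat.ble (nat_lit 9105) i)) (Nat.ble (nat_lit 9103) i)) (@Bool.rec (fun _ => ℕ) (@Bool.rec (fun _ => ℕ) (t9108_9110 i) (t9110_9113 i) (Nat.ble (nat_lit 9110) i)) (@Bool.rec (fun _ => ℕ) (t9113_9115 i) (t9115_9118 i) (Nat.ble (nat_lit 9115) i)) (Nat.ble (nat_lit 9113) i)) (Nat.ble (nat_lit 9108) i))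
noncomputable def t9118_9120 (i : ℕ) : ℕ := (@Bool.rec (fun _ => ℕ) l9118 l9119 (Nat.ble (nat_lit 9119) i))
noncomputable def t9120_9122 (i : ℕ) : ℕ := (@Bool.rec (fun _ => ℕ) l9120 l9121 (Nat.ble (nat_lit 9121) i))
noncomputable def t9122_9124 (i : ℕ) : ℕ := (@Bool.rec (fun _ => ℕ) l9122 l9123 (Nat.ble (nat_lit 9123) i))
noncomputable def t9124_9127 (i : ℕ) : ℕ := (@Bool.rec (fun _ => ℕ) l9124 (@Bool.rec (fun _ => ℕ) l9125 l9126 (Nat.ble (nat_lit 9126) i)) (Nat.ble (nat_lit 9125) i))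
noncomputable def t9127_9129 (i : ℕ) : ℕ := (@Bool.rec (fun _ => ℕ) l9127 l9128 (Nat.ble (nat_lit 9128) i))
noncomputable def t9129_9132 (i : ℕ) : ℕ := (@Bool.rec (fun _ => ℕ) l9129 (@Bool.rec (fun _ => ℕ) l9130 l9131 (Nat.ble (nat_lit 9131) i)) (Nat.ble (nat_lit 9130) i))
noncomputable def t9132_9134 (i : ℕ) : ℕ := (@Bool.rec (fun _ => ℕ) l9132 l9133 (Nat.ble (nat_lit 9133) i))
noncomputable def t9134_9137 (i : ℕ) : ℕ := (@Bool.rec (fun _ => ℕ) l9134 (@Bool.rec (fun _ => ℕ) l9135 l9136 (Nat.ble (nat_lit 9136) i)) (Nat.ble (nat_lit 9135) i))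
noncomputable def t9118_9137 (i : ℕ) : ℕ := (@Bool.rec (fun _ => ℕ) (@Bool.rec (fun _ => ℕ) (@Bool.rec (fun _ => ℕ) (t9118_9120 i) (t9120_9122 i) (Nat.ble (nat_lit 9120) i)) (@Bool.rec (fun _ => ℕ) (t9122_9124 i) (t9124_9127 i) (Nat.ble (nat_lit 9124) i)) (Nat.ble (nat_lit 9122) i)) (@Bool.rec (fun _ => ℕ) (@Bool.rec (fun _ => ℕ) (t9127_9129 i) (t9129_9132 i) (Nat.ble (nat_lit 9129) i)) (@Bool.rec (fun _ => ℕ) (t9132_9134 i) (t9134_9137 i) (Nat.ble (nat_lit 9134) i)) (Nat.ble (nat_lit 9132) i)) (Nat.ble (nat_lit 9127) i))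
noncomputable def t9137_9139 (i : ℕ) : ℕ := (@Bool.rec (fun _ => ℕ) l9137 l9138 (Nat.ble (nat_lit 9138) i))
noncomputable def t9139_9141 (i : ℕ) : ℕ := (@Bool.rec (fun _ => ℕ) l9139 l9140 (Nat.ble (nat_lit 9140) i))
noncomputable def t9141_9143 (i : ℕ) : ℕ := (@Bool.rec (fun _ => ℕ) l9141 l9142 (Nat.ble (nat_lit 9142) i))
noncomputable def t9143_9146 (i : ℕ) : ℕ := (@Bool.rec (fun _ => ℕ) l9143 (@Bool.rec (fun _ => ℕ) l9144 l9145 (Nat.ble (nat_lit 9145) i)) (Nat.ble (nat_lit 9144) i))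
noncomputable def t9146_9148 (i : ℕ) : ℕ := (@Bool.rec (fun _ => ℕ) l9146 l9147 (Nat.ble (nat_lit 9147) i))
noncomputable def t9148_9151 (i : ℕ) : ℕ := (@Bool.rec (fun _ => ℕ) l9148 (@Bool.rec (fun _ => ℕ) l9149 l9150 (Nat.ble (nat_lit 9150) i)) (Nat.ble (nat_lit 9149) i))
noncomputable def t9151_9153 (i : ℕ) : ℕ := (@Bool.rec (fun _ => ℕ) l9151 l9152 (Nat.ble (nat_lit 9152) i))
noncomputable def t9153_9156 (i : ℕ) : ℕ := (@Bool.rec (fun _ => ℕ) l9153 (@Bool.rec (fun _ => ℕ) l9154 l9155 (Nat.ble (nat_lit 9155) i)) (Nat.ble (nat_lit 9154) i))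
noncomputable def t9137_9156 (i : ℕ) : ℕ := (@Bool.rec (fun _ => ℕ) (@Bool.rec (fun _ => ℕ) (@Bool.rec (fun _ => ℕ) (t9137_9139 i) (t9139_9141 i) (Nat.ble (nat_lit 9139) i)) (@Bool.rec (fun _ => ℕ) (t9141_9143 i) (t9143_9146 i) (Nat.ble (nat_lit 9143) i)) (Nat.ble (nat_lit 9141) i)) (@Bool.rec (fun _ => ℕ) (@Bool.rec (fun _ => ℕ) (t9146_9148 i) (t9148_9151 i) (Nat.ble (nat_lit 9148) i)) (@Bool.rec (fun _ => ℕ) (t9151_9153 i) (t9153_9156 i) (Nat.ble (nat_lit 9153) i)) (Nat.ble (nat_lit 9151) i)) (Nat.ble (nat_lit 9146) i))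
noncomputable def t9006_9156 (i : ℕ) : ℕ := (@Bool.rec (fun _ => ℕ) (@Bool.rec (fun _ => ℕ) (@Bool.rec (fun _ => ℕ) (t9006_9024 i) (t9024_9043 i) (Nat.ble (nat_lit 9024) i)) (@Bool.rec (fun _ => ℕ) (t9043_9062 i) (t9062_9081 i) (Nat.ble (nat_lit 9062) i)) (Nat.ble (nat_lit 9043) i)) (@Bool.rec (fun _ => ℕ) (@Bool.rec (fun _ => ℕ) (t9081_9099 i) (t9099_9118 i) (Nat.ble (nat_lit 9099) i)) (@Bool.rec (fun _ => ℕ) (t9118_9137 i) (t9137_9156 i) (Nat.ble (nat_lit 9137) i)) (Nat.ble (nat_lit 9118) i)) (Nat.ble (nat_lit 9081) i))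
noncomputable def t9156_9158 (i : ℕ) : ℕ := (@Bool.rec (fun _ => ℕ) l9156 l9157 (Nat.ble (nat_lit 9157) i))
noncomputable def t9158_9160 (i : ℕ) : ℕ := (@Bool.rec (fun _ => ℕ) l9158 l9159 (Nat.ble (nat_lit 9159) i))
noncomputable def t9160_9162 (i : ℕ) : ℕ := (@Bool.rec (fun _ => ℕ) l9160 l9161 (Nat.ble (nat_lit 9161) i))
noncomputable def t9162_9165 (i : ℕ) : ℕ := (@Bool.rec (fun _ => ℕ) l9162 (@Bool.rec (fun _ => ℕ) l9163 l9164 (Nat.ble (nat_lit 9164) i)) (Nat.ble (nat_lit 9163) i))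
noncomputable def t9165_9167 (i : ℕ) : ℕ := (@Bool.rec (fun _ => ℕ) l9165 l9166 (Nat.ble (nat_lit 9166) i))
noncomputable def t9167_9169 (i : ℕ) : ℕ := (@Bool.rec (fun _ => ℕ) l9167 l9168 (Nat.ble (nat_lit 9168) i))
noncomputable def t9169_9171 (i : ℕ) : ℕ := (@Bool.rec (fun _ => ℕ) l9169 l9170 (Nat.ble (nat_lit 9170) i))
noncomputable def t9171_9174 (i : ℕ) : ℕ := (@Bool.rec (fun _ => ℕ) l9171 (@Bool.rec (fun _ => ℕ) l9172 l9173 (Nat.ble (nat_lit 9173) i)) (Nat.ble (nat_lit 9172) i))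
noncomputable def t9156_9174 (i : ℕ) : ℕ := (@Bool.rec (fun _ => ℕ) (@Bool.rec (fun _ => ℕ) (@Bool.rec (fun _ => ℕ) (t9156_9158 i) (t9158_9160 i) (Nat.ble (nat_lit 9158) i)) (@Bool.rec (fun _ => ℕ) (t9160_9162 i) (t9162_9165 i) (Nat.ble (nat_lit 9162) i)) (Nat.ble (nat_lit 9160) i)) (@Bool.rec (fun _ => ℕ) (@Bool.rec (fun _ => ℕ) (t9165_9167 i) (t9167_9169 i) (Nat.ble (nat_lit 9167) i)) (@Bool.rec (fun _ => ℕ) (t9169_9171 i) (t9171_9174 i) (Nat.ble (nat_lit 9171) i)) (Nat.ble (nat_lit 9169) i)) (Nat.ble (nat_lit 9165) i))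
noncomputable def t9174_9176 (i : ℕ) : ℕ := (@Bool.rec (fun _ => ℕ) l9174 l9175 (Nat.ble (nat_lit 9175) i))
noncomputable def t9176_9178 (i : ℕ) : ℕ := (@Bool.rec (fun _ => ℕ) l9176 l9177 (Nat.ble (nat_lit 9177) i))
noncomputable def t9178_9180 (i : ℕ) : ℕ := (@Bool.rec (fun _ => ℕ) l9178 l9179 (Nat.ble (nat_lit 9179) i))
noncomputable def t9180_9183 (i : ℕ) : ℕ := (@Bool.rec (fun _ => ℕ) l9180 (@Bool.rec (fun _ => ℕ) l9181 l9182 (Nat.ble (nat_lit 9182) i)) (Nat.ble (nat_lit 9181) i))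
noncomputable def t9183_9185 (i : ℕ) : ℕ := (@Bool.rec (fun _ => ℕ) l9183 l9184 (Nat.ble (nat_lit 9184) i))
noncomputable def t9185_9188 (i : ℕ) : ℕ := (@Bool.rec (fun _ => ℕ) l9185 (@Bool.rec (fun _ => ℕ) l9186 l9187 (Nat.ble (nat_lit 9187) i)) (Nat.ble (nat_lit 9186) i))
noncomputable def t9188_9190 (i : ℕ) : ℕ := (@Bool.rec (fun _ => ℕ) l9188 l9189 (Nat.ble (nat_lit 9189) i))
noncomputable def t9190_9193 (i : ℕ) : ℕ := (@Bool.rec (fun _ => ℕ) l9190 (@Bool.rec (fun _ => ℕ) l9191 l9192 (Nat.ble (nat_lit 9192) i)) (Nat.ble (nat_lit 9191) i))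
noncomputable def t9174_9193 (i : ℕ) : ℕ := (@Bool.rec (fun _ => ℕ) (@Bool.rec (fun _ => ℕ) (@Bool.rec (fun _ => ℕ) (t9174_9176 i) (t9176_9178 i) (Nat.ble (nat_lit 9176) i)) (@Bool.rec (fun _ => ℕ) (t9178_9180 i) (t9180_9183 i) (Nat.ble (nat_lit 9180) i)) (Nat.ble (nat_lit 9178) i)) (@Bool.rec (fun _ => ℕ) (@Bool.rec (fun _ => ℕ) (t9183_9185 i) (t9185_9188 i) (Nat.ble (nat_lit 9185) i)) (@Bool.rec (fun _ => ℕ) (t9188_9190 i) (t9190_9193 i) (Nat.ble (nat_lit 9190) i)) (Nat.ble (nat_lit 9188) i)) (Nat.ble (nat_lit 9183) i))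
noncomputable def t9193_9195 (i : ℕ) : ℕ := (@Bool.rec (fun _ => ℕ) l9193 l9194 (Nat.ble (nat_lit 9194) i))
noncomputable def t9195_9197 (i : ℕ) : ℕ := (@Bool.rec (fun _ => ℕ) l9195 l9196 (Nat.ble (nat_lit 9196) i))
noncomputable def t9197_9199 (i : ℕ) : ℕ := (@Bool.rec (fun _ => ℕ) l9197 l9198 (Nat.ble (nat_lit 9198) i))
noncomputable def t9199_9202 (i : ℕ) : ℕ := (@Bool.rec (fun _ => ℕ) l9199 (@Bool.rec (fun _ => ℕ) l9200 l9201 (Nat.ble (nat_lit 9201) i)) (Nat.ble (nat_lit 9200) i))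
noncomputable def t9202_9204 (i : ℕ) : ℕ := (@Bool.rec (fun _ => ℕ) l9202 l9203 (Nat.ble (nat_lit 9203) i))
noncomputable def t9204_9207 (i : ℕ) : ℕ := (@Bool.rec (fun _ => ℕ) l9204 (@Bool.rec (fun _ => ℕ) l9205 l9206 (Nat.ble (nat_lit 9206) i)) (Nat.ble (nat_lit 9205) i))
noncomputable def t9207_9209 (i : ℕ) : ℕ := (@Bool.rec (fun _ => ℕ) l9207 l9208 (Nat.ble (nat_lit 9208) i))
noncomputable def t9209_9212 (i : ℕ) : ℕ := (@Bool.rec (fun _ => ℕ) l9209 (@Bool.rec (fun _ => ℕ) l9210 l9211 (Nat.ble (nat_lit 9211) i)) (Nat.ble (nat_lit 9210) i))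
noncomputable def t9193_9212 (i : ℕ) : ℕ := (@Bool.rec (fun _ => ℕ) (@Bool.rec (fun _ => ℕ) (@Bool.rec (fun _ => ℕ) (t9193_9195 i) (t9195_9197 i) (Nat.ble (nat_lit 9195) i)) (@Bool.rec (fun _ => ℕ) (t9197_9199 i) (t9199_9202 i) (Nat.ble (nat_lit 9199) i)) (Nat.ble (nat_lit 9197) i)) (@Bool.rec (fun _ => ℕ) (@Bool.rec (fun _ => ℕ) (t9202_9204 i) (t9204_9207 i) (Nat.ble (nat_lit 9204) i)) (@Bool.rec (fun _ => ℕ) (t9207_9209 i) (t9209_9212 i) (Nat.ble (nat_lit 9209) i)) (Nat.ble (nat_lit 9207) i)) (Nat.ble (nat_lit 9202) i))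
noncomputable def t9212_9214 (i : ℕ) : ℕ := (@Bool.rec (fun _ => ℕ) l9212 l9213 (Nat.ble (nat_lit 9213) i))
noncomputable def t9214_9216 (i : ℕ) : ℕ := (@Bool.rec (fun _ => ℕ) l9214 l9215 (Nat.ble (nat_lit 9215) i))
noncomputable def t9216_9218 (i : ℕ) : ℕ := (@Bool.rec (fun _ => ℕ) l9216 l9217 (Nat.ble (nat_lit 9217) i))
noncomputable def t9218_9221 (i : ℕ) : ℕ := (@Bool.rec (fun _ => ℕ) l9218 (@Bool.rec (fun _ => ℕ) l9219 l9220 (Nat.ble (nat_lit 9220) i)) (Nat.ble (nat_lit 9219) i))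
noncomputable def t9221_9223 (i : ℕ) : ℕ := (@Bool.rec (fun _ => ℕ) l9221 l9222 (Nat.ble (nat_lit 9222) i))
noncomputable def t9223_9226 (i : ℕ) : ℕ := (@Bool.rec (fun _ => ℕ) l9223 (@Bool.rec (fun _ => ℕ) l9224 l9225 (Nat.ble (nat_lit 9225) i)) (Nat.ble (nat_lit 9224) i))
noncomputable def t9226_9228 (i : ℕ) : ℕ := (@Bool.rec (fun _ => ℕ) l9226 l9227 (Nat.ble (nat_lit 9227) i))
noncomputable def t9228_9231 (i : ℕ) : ℕ := (@Bool.rec (fun _ => ℕ) l9228 (@Bool.rec (fun _ => ℕ) l9229 l9230 (Nat.ble (nat_lit 9230) i)) (Nat.ble (nat_lit 9229) i))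
noncomputable def t9212_9231 (i : ℕ) : ℕ := (@Bool.rec (fun _ => ℕ) (@Bool.rec (fun _ => ℕ) (@Bool.rec (fun _ => ℕ) (t9212_9214 i) (t9214_9216 i) (Nat.ble (nat_lit 9214) i)) (@Bool.rec (fun _ => ℕ) (t9216_9218 i) (t9218_9221 i) (Nat.ble (nat_lit 9218) i)) (Nat.ble (nat_lit 9216) i)) (@Bool.rec (fun _ => ℕ) (@Bool.rec (fun _ => ℕ) (t9221_9223 i) (t9223_9226 i) (Nat.ble (nat_lit 9223) i)) (@Bool.rec (fun _ => ℕ) (t9226_9228 i) (t9228_9231 i) (Nat.ble (nat_lit 9228) i)) (Nat.ble (nat_lit 9226) i)) (Nat.ble (nat_lit 9221) i))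
noncomputable def t9231_9233 (i : ℕ) : ℕ := (@Bool.rec (fun _ => ℕ) l9231 l9232 (Nat.ble (nat_lit 9232) i))
noncomputable def t9233_9235 (i : ℕ) : ℕ := (@Bool.rec (fun _ => ℕ) l9233 l9234 (Nat.ble (nat_lit 9234) i))
noncomputable def t9235_9237 (i : ℕ) : ℕ := (@Bool.rec (fun _ => ℕ) l9235 l9236 (Nat.ble (nat_lit 9236) i))
noncomputable def t9237_9240 (i : ℕ) : ℕ := (@Bool.rec (fun _ => ℕ) l9237 (@Bool.rec (fun _ => ℕ) l9238 l9239 (Nat.ble (nat_lit 9239) i)) (Nat.ble (nat_lit 9238) i))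
noncomputable def t9240_9242 (i : ℕ) : ℕ := (@Bool.rec (fun _ => ℕ) l9240 l9241 (Nat.ble (nat_lit 9241) i))
noncomputable def t9242_9244 (i : ℕ) : ℕ := (@Bool.rec (fun _ => ℕ) l9242 l9243 (Nat.ble (nat_lit 9243) i))
noncomputable def t9244_9246 (i : ℕ) : ℕ := (@Bool.rec (fun _ => ℕ) l9244 l9245 (Nat.ble (nat_lit 9245) i))
noncomputable def t9246_9249 (i : ℕ) : ℕ := (@Bool.rec (fun _ => ℕ) l9246 (@Bool.rec (fun _ => ℕ) l9247 l9248 (Nat.ble (nat_lit 9248) i)) (Nat.ble (nat_lit 9247) i))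
noncomputable def t9231_9249 (i : ℕ) : ℕ := (@Bool.rec (fun _ => ℕ) (@Bool.rec (fun _ => ℕ) (@Bool.rec (fun _ => ℕ) (t9231_9233 i) (t9233_9235 i) (Nat.ble (nat_lit 9233) i)) (@Bool.rec (fun _ => ℕ) (t9235_9237 i) (t9237_9240 i) (Nat.ble (nat_lit 9237) i)) (Nat.ble (nat_lit 9235) i)) (@Bool.rec (fun _ => ℕ) (@Bool.rec (fun _ => ℕ) (t9240_9242 i) (t9242_9244 i) (Nat.ble (nat_lit 9242) i)) (@Bool.rec (fun _ => ℕ) (t9244_9246 i) (t9246_9249 i) (Nat.ble (nat_lit 9246) i)) (Nat.ble (nat_lit 9244) i)) (Nat.ble (nat_lit 9240) i))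
noncomputable def t9249_9251 (i : ℕ) : ℕ := (@Bool.rec (fun _ => ℕ) l9249 l9250 (Nat.ble (nat_lit 9250) i))
noncomputable def t9251_9253 (i : ℕ) : ℕ := (@Bool.rec (fun _ => ℕ) l9251 l9252 (Nat.ble (nat_lit 9252) i))
noncomputable def t9253_9255 (i : ℕ) : ℕ := (@Bool.rec (fun _ => ℕ) l9253 l9254 (Nat.ble (nat_lit 9254) i))
noncomputable def t9255_9258 (i : ℕ) : ℕ := (@Bool.rec (fun _ => ℕ) l9255 (@Bool.rec (fun _ => ℕ) l9256 l9257 (Nat.ble (nat_lit 9257) i)) (Nat.ble (nat_lit 9256) i))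
noncomputable def t9258_9260 (i : ℕ) : ℕ := (@Bool.rec (fun _ => ℕ) l9258 l9259 (Nat.ble (nat_lit 9259) i))
noncomputable def t9260_9263 (i : ℕ) : ℕ := (@Bool.rec (fun _ => ℕ) l9260 (@Bool.rec (fun _ => ℕ) l9261 l9262 (Nat.ble (nat_lit 9262) i)) (Nat.ble (nat_lit 9261) i))
noncomputable def t9263_9265 (i : ℕ) : ℕ := (@Bool.rec (fun _ => ℕ) l9263 l9264 (Nat.ble (nat_lit 9264) i))
noncomputable def t9265_9268 (i : ℕ) : ℕ := (@Bool.rec (fun _ => ℕ) l9265 (@Bool.rec (fun _ => ℕ) l9266 l9267 (Nat.ble (nat_lit 9267) i)) (Nat.ble (nat_lit 9266) i))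
noncomputable def t9249_9268 (i : ℕ) : ℕ := (@Bool.rec (fun _ => ℕ) (@Bool.rec (fun _ => ℕ) (@Bool.rec (fun _ => ℕ) (t9249_9251 i) (t9251_9253 i) (Nat.ble (nat_lit 9251) i)) (@Bool.rec (fun _ => ℕ) (t9253_9255 i) (t9255_9258 i) (Nat.ble (nat_lit 9255) i)) (Nat.ble (nat_lit 9253) i)) (@Bool.rec (fun _ => ℕ) (@Bool.rec (fun _ => ℕ) (t9258_9260 i) (t9260_9263 i) (Nat.ble (nat_lit 9260) i)) (@Bool.rec (fun _ => ℕ) (t9263_9265 i) (t9265_9268 i) (Nat.ble (nat_lit 9265) i)) (Nat.ble (nat_lit 9263) i)) (Nat.ble (nat_lit 9258) i))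
noncomputable def t9268_9270 (i : ℕ) : ℕ := (@Bool.rec (fun _ => ℕ) l9268 l9269 (Nat.ble (nat_lit 9269) i))
noncomputable def t9270_9272 (i : ℕ) : ℕ := (@Bool.rec (fun _ => ℕ) l9270 l9271 (Nat.ble (nat_lit 9271) i))
noncomputable def t9272_9274 (i : ℕ) : ℕ := (@Bool.rec (fun _ => ℕ) l9272 l9273 (Nat.ble (nat_lit 9273) i))
noncomputable def t9274_9277 (i : ℕ) : ℕ := (@Bool.rec (fun _ => ℕ) l9274 (@Bool.rec (fun _ => ℕ) l9275 l9276 (Nat.ble (nat_lit 9276) i)) (Nat.ble (nat_lit 9275) i))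
noncomputable def t9277_9279 (i : ℕ) : ℕ := (@Bool.rec (fun _ => ℕ) l9277 l9278 (Nat.ble (nat_lit 9278) i))
noncomputable def t9279_9282 (i : ℕ) : ℕ := (@Bool.rec (fun _ => ℕ) l9279 (@Bool.rec (fun _ => ℕ) l9280 l9281 (Nat.ble (nat_lit 9281) i)) (Nat.ble (nat_lit 9280) i))
noncomputable def t9282_9284 (i : ℕ) : ℕ := (@Bool.rec (fun _ => ℕ) l9282 l9283 (Nat.ble (nat_lit 9283) i))
noncomputable def t9284_9287 (i : ℕ) : ℕ := (@Bool.rec (fun _ => ℕ) l9284 (@Bool.rec (fun _ => ℕ) l9285 l9286 (Nat.ble (nat_lit 9286) i)) (Nat.ble (nat_lit 9285) i))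
noncomputable def t9268_9287 (i : ℕ) : ℕ := (@Bool.rec (fun _ => ℕ) (@Bool.rec (fun _ => ℕ) (@Bool.rec (fun _ => ℕ) (t9268_9270 i) (t9270_9272 i) (Nat.ble (nat_lit 9270) i)) (@Bool.rec (fun _ => ℕ) (t9272_9274 i) (t9274_9277 i) (Nat.ble (nat_lit 9274) i)) (Nat.ble (nat_lit 9272) i)) (@Bool.rec (fun _ => ℕ) (@Bool.rec (fun _ => ℕ) (t9277_9279 i) (t9279_9282 i) (Nat.ble (nat_lit 9279) i)) (@Bool.rec (fun _ => ℕ) (t9282_9284 i) (t9284_9287 i) (Nat.ble (nat_lit 9284) i)) (Nat.ble (nat_lit 9282) i)) (Nat.ble (nat_lit 9277) i))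
noncomputable def t9287_9289 (i : ℕ) : ℕ := (@Bool.rec (fun _ => ℕ) l9287 l9288 (Nat.ble (nat_lit 9288) i))
noncomputable def t9289_9291 (i : ℕ) : ℕ := (@Bool.rec (fun _ => ℕ) l9289 l9290 (Nat.ble (nat_lit 9290) i))
noncomputable def t9291_9293 (i : ℕ) : ℕ := (@Bool.rec (fun _ => ℕ) l9291 l9292 (Nat.ble (nat_lit 9292) i))
noncomputable def t9293_9296 (i : ℕ) : ℕ := (@Bool.rec (fun _ => ℕ) l9293 (@Bool.rec (fun _ => ℕ) l9294 l9295 (Nat.ble (nat_lit 9295) i)) (Nat.ble (nat_lit 9294) i))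
noncomputable def t9296_9298 (i : ℕ) : ℕ := (@Bool.rec (fun _ => ℕ) l9296 l9297 (Nat.ble (nat_lit 9297) i))
noncomputable def t9298_9301 (i : ℕ) : ℕ := (@Bool.rec (fun _ => ℕ) l9298 (@Bool.rec (fun _ => ℕ) l9299 l9300 (Nat.ble (nat_lit 9300) i)) (Nat.ble (nat_lit 9299) i))
noncomputable def t9301_9303 (i : ℕ) : ℕ := (@Bool.rec (fun _ => ℕ) l9301 l9302 (Nat.ble (nat_lit 9302) i))
noncomputable def t9303_9306 (i : ℕ) : ℕ := (@Bool.rec (fun _ => ℕ) l9303 (@Bool.rec (fun _ => ℕ) l9304 l9305 (Nat.ble (nat_lit 9305) i)) (Nat.ble (nat_lit 9304) i))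
noncomputable def t9287_9306 (i : ℕ) : ℕ := (@Bool.rec (fun _ => ℕ) (@Bool.rec (fun _ => ℕ) (@Bool.rec (fun _ => ℕ) (t9287_9289 i) (t9289_9291 i) (Nat.ble (nat_lit 9289) i)) (@Bool.rec (fun _ => ℕ) (t9291_9293 i) (t9293_9296 i) (Nat.ble (nat_lit 9293) i)) (Nat.ble (nat_lit 9291) i)) (@Bool.rec (fun _ => ℕ) (@Bool.rec (fun _ => ℕ) (t9296_9298 i) (t9298_9301 i) (Nat.ble (nat_lit 9298) i)) (@Bool.rec (fun _ => ℕ) (t9301_9303 i) (t9303_9306 i) (Nat.ble (nat_lit 9303) i)) (Nat.ble (nat_lit 9301) i)) (Nat.ble (nat_lit 9296) i))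
noncomputable def t9156_9306 (i : ℕ) : ℕ := (@Bool.rec (fun _ => ℕ) (@Bool.rec (fun _ => ℕ) (@Bool.rec (fun _ => ℕ) (t9156_9174 i) (t9174_9193 i) (Nat.ble (nat_lit 9174) i)) (@Bool.rec (fun _ => ℕ) (t9193_9212 i) (t9212_9231 i) (Nat.ble (nat_lit 9212) i)) (Nat.ble (nat_lit 9193) i)) (@Bool.rec (fun _ => ℕ) (@Bool.rec (fun _ => ℕ) (t9231_9249 i) (t9249_9268 i) (Nat.ble (nat_lit 9249) i)) (@Bool.rec (fun _ => ℕ) (t9268_9287 i) (t9287_9306 i) (Nat.ble (nat_lit 9287) i)) (Nat.ble (nat_lit 9268) i)) (Nat.ble (nat_lit 9231) i))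
noncomputable def t9306_9308 (i : ℕ) : ℕ := (@Bool.rec (fun _ => ℕ) l9306 l9307 (Nat.ble (nat_lit 9307) i))
noncomputable def t9308_9310 (i : ℕ) : ℕ := (@Bool.rec (fun _ => ℕ) l9308 l9309 (Nat.ble (nat_lit 9309) i))
noncomputable def t9310_9312 (i : ℕ) : ℕ := (@Bool.rec (fun _ => ℕ) l9310 l9311 (Nat.ble (nat_lit 9311) i))
noncomputable def t9312_9315 (i : ℕ) : ℕ := (@Bool.rec (fun _ => ℕ) l9312 (@Bool.rec (fun _ => ℕ) l9313 l9314 (Nat.ble (nat_lit 9314) i)) (Nat.ble (nat_lit 9313) i))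
noncomputable def t9315_9317 (i : ℕ) : ℕ := (@Bool.rec (fun _ => ℕ) l9315 l9316 (Nat.ble (nat_lit 9316) i))
noncomputable def t9317_9319 (i : ℕ) : ℕ := (@Bool.rec (fun _ => ℕ) l9317 l9318 (Nat.ble (nat_lit 9318) i))
noncomputable def t9319_9321 (i : ℕ) : ℕ := (@Bool.rec (fun _ => ℕ) l9319 l9320 (Nat.ble (nat_lit 9320) i))
noncomputable def t9321_9324 (i : ℕ) : ℕ := (@Bool.rec (fun _ => ℕ) l9321 (@Bool.rec (fun _ => ℕ) l9322 l9323 (Nat.ble (nat_lit 9323) i)) (Nat.ble (nat_lit 9322) i))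
noncomputable def t9306_9324 (i : ℕ) : ℕ := (@Bool.rec (fun _ => ℕ) (@Bool.rec (fun _ => ℕ) (@Bool.rec (fun _ => ℕ) (t9306_9308 i) (t9308_9310 i) (Nat.ble (nat_lit 9308) i)) (@Bool.rec (fun _ => ℕ) (t9310_9312 i) (t9312_9315 i) (Nat.ble (nat_lit 9312) i)) (Nat.ble (nat_lit 9310) i)) (@Bool.rec (fun _ => ℕ) (@Bool.rec (fun _ => ℕ) (t9315_9317 i) (t9317_9319 i) (Nat.ble (nat_lit 9317) i)) (@Bool.rec (fun _ => ℕ) (t9319_9321 i) (t9321_9324 i) (Nat.ble (nat_lit 9321) i)) (Nat.ble (nat_lit 9319) i)) (Nat.ble (nat_lit 9315) i))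
noncomputable def t9324_9326 (i : ℕ) : ℕ := (@Bool.rec (fun _ => ℕ) l9324 l9325 (Nat.ble (nat_lit 9325) i))
noncomputable def t9326_9328 (i : ℕ) : ℕ := (@Bool.rec (fun _ => ℕ) l9326 l9327 (Nat.ble (nat_lit 9327) i))
noncomputable def t9328_9330 (i : ℕ) : ℕ := (@Bool.rec (fun _ => ℕ) l9328 l9329 (Nat.ble (nat_lit 9329) i))
noncomputable def t9330_9333 (i : ℕ) : ℕ := (@Bool.rec (fun _ => ℕ) l9330 (@Bool.rec (fun _ => ℕ) l9331 l9332 (Nat.ble (nat_lit 9332) i)) (Nat.ble (nat_lit 9331) i))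
noncomputable def t9333_9335 (i : ℕ) : ℕ := (@Bool.rec (fun _ => ℕ) l9333 l9334 (Nat.ble (nat_lit 9334) i))
noncomputable def t9335_9338 (i : ℕ) : ℕ := (@Bool.rec (fun _ => ℕ) l9335 (@Bool.rec (fun _ => ℕ) l9336 l9337 (Nat.ble (nat_lit 9337) i)) (Nat.ble (nat_lit 9336) i))
noncomputable def t9338_9340 (i : ℕ) : ℕ := (@Bool.rec (fun _ => ℕ) l9338 l9339 (Nat.ble (nat_lit 9339) i))
noncomputable def t9340_9343 (i : ℕ) : ℕ := (@Bool.rec (fun _ => ℕ) l9340 (@Bool.rec (fun _ => ℕ) l9341 l9342 (Nat.ble (nat_lit 9342) i)) (Nat.ble (nat_lit 9341) i))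
noncomputable def t9324_9343 (i : ℕ) : ℕ := (@Bool.rec (fun _ => ℕ) (@Bool.rec (fun _ => ℕ) (@Bool.rec (fun _ => ℕ) (t9324_9326 i) (t9326_9328 i) (Nat.ble (nat_lit 9326) i)) (@Bool.rec (fun _ => ℕ) (t9328_9330 i) (t9330_9333 i) (Nat.ble (nat_lit 9330) i)) (Nat.ble (nat_lit 9328) i)) (@Bool.rec (fun _ => ℕ) (@Bool.rec (fun _ => ℕ) (t9333_9335 i) (t9335_9338 i) (Nat.ble (nat_lit 9335) i)) (@Bool.rec (fun _ => ℕ) (t9338_9340 i) (t9340_9343 i) (Nat.ble (nat_lit 9340) i)) (Nat.ble (nat_lit 9338) i)) (Nat.ble (nat_lit 9333) i))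
noncomputable def t9343_9345 (i : ℕ) : ℕ := (@Bool.rec (fun _ => ℕ) l9343 l9344 (Nat.ble (nat_lit 9344) i))
noncomputable def t9345_9347 (i : ℕ) : ℕ := (@Bool.rec (fun _ => ℕ) l9345 l9346 (Nat.ble (nat_lit 9346) i))
noncomputable def t9347_9349 (i : ℕ) : ℕ := (@Bool.rec (fun _ => ℕ) l9347 l9348 (Nat.ble (nat_lit 9348) i))
noncomputable def t9349_9352 (i : ℕ) : ℕ := (@Bool.rec (fun _ => ℕ) l9349 (@Bool.rec (fun _ => ℕ) l9350 l9351 (Nat.ble (nat_lit 9351) i)) (Nat.ble (nat_lit 9350) i))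
noncomputable def t9352_9354 (i : ℕ) : ℕ := (@Bool.rec (fun _ => ℕ) l9352 l9353 (Nat.ble (nat_lit 9353) i))
noncomputable def t9354_9357 (i : ℕ) : ℕ := (@Bool.rec (fun _ => ℕ) l9354 (@Bool.rec (fun _ => ℕ) l9355 l9356 (Nat.ble (nat_lit 9356) i)) (Nat.ble (nat_lit 9355) i))
noncomputable def t9357_9359 (i : ℕ) : ℕ := (@Bool.rec (fun _ => ℕ) l9357 l9358 (Nat.ble (nat_lit 9358) i))
noncomputable def t9359_9362 (i : ℕ) : ℕ := (@Bool.rec (fun _ => ℕ) l9359 (@Bool.rec (fun _ => ℕ) l9360 l9361 (Nat.ble (nat_lit 9361) i)) (Nat.ble (nat_lit 9360) i))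
noncomputable def t9343_9362 (i : ℕ) : ℕ := (@Bool.rec (fun _ => ℕ) (@Bool.rec (fun _ => ℕ) (@Bool.rec (fun _ => ℕ) (t9343_9345 i) (t9345_9347 i) (Nat.ble (nat_lit 9345) i)) (@Bool.rec (fun _ => ℕ) (t9347_9349 i) (t9349_9352 i) (Nat.ble (nat_lit 9349) i)) (Nat.ble (nat_lit 9347) i)) (@Bool.rec (fun _ => ℕ) (@Bool.rec (fun _ => ℕ) (t9352_9354 i) (t9354_9357 i) (Nat.ble (nat_lit 9354) i)) (@Bool.rec (fun _ => ℕ) (t9357_9359 i) (t9359_9362 i) (Nat.ble (nat_lit 9359) i)) (Nat.ble (nat_lit 9357) i)) (Nat.ble (nat_lit 9352) i))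
noncomputable def t9362_9364 (i : ℕ) : ℕ := (@Bool.rec (fun _ => ℕ) l9362 l9363 (Nat.ble (nat_lit 9363) i))
noncomputable def t9364_9366 (i : ℕ) : ℕ := (@Bool.rec (fun _ => ℕ) l9364 l9365 (Nat.ble (nat_lit 9365) i))
noncomputable def t9366_9368 (i : ℕ) : ℕ := (@Bool.rec (fun _ => ℕ) l9366 l9367 (Nat.ble (nat_lit 9367) i))
noncomputable def t9368_9371 (i : ℕ) : ℕ := (@Bool.rec (fun _ => ℕ) l9368 (@Bool.rec (fun _ => ℕ) l9369 l9370 (Nat.ble (nat_lit 9370) i)) (Nat.ble (nat_lit 9369) i))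
noncomputable def t9371_9373 (i : ℕ) : ℕ := (@Bool.rec (fun _ => ℕ) l9371 l9372 (Nat.ble (nat_lit 9372) i))
noncomputable def t9373_9376 (i : ℕ) : ℕ := (@Bool.rec (fun _ => ℕ) l9373 (@Bool.rec (fun _ => ℕ) l9374 l9375 (Nat.ble (nat_lit 9375) i)) (Nat.ble (nat_lit 9374) i))
noncomputable def t9376_9378 (i : ℕ) : ℕ := (@Bool.rec (fun _ => ℕ) l9376 l9377 (Nat.ble (nat_lit 9377) i))
noncomputable def t9378_9381 (i : ℕ) : ℕ := (@Bool.rec (fun _ => ℕ) l9378 (@Bool.rec (fun _ => ℕ) l9379 l9380 (Nat.ble (nat_lit 9380) i)) (Nat.ble (nat_lit 9379) i))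
noncomputable def t9362_9381 (i : ℕ) : ℕ := (@Bool.rec (fun _ => ℕ) (@Bool.rec (fun _ => ℕ) (@Bool.rec (fun _ => ℕ) (t9362_9364 i) (t9364_9366 i) (Nat.ble (nat_lit 9364) i)) (@Bool.rec (fun _ => ℕ) (t9366_9368 i) (t9368_9371 i) (Nat.ble (nat_lit 9368) i)) (Nat.ble (nat_lit 9366) i)) (@Bool.rec (fun _ => ℕ) (@Bool.rec (fun _ => ℕ) (t9371_9373 i) (t9373_9376 i) (Nat.ble (nat_lit 9373) i)) (@Bool.rec (fun _ => ℕ) (t9376_9378 i) (t9378_9381 i) (Nat.ble (nat_lit 9378) i)) (Nat.ble (nat_lit 9376) i)) (Nat.ble (nat_lit 9371) i))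
noncomputable def t9381_9383 (i : ℕ) : ℕ := (@Bool.rec (fun _ => ℕ) l9381 l9382 (Nat.ble (nat_lit 9382) i))
noncomputable def t9383_9385 (i : ℕ) : ℕ := (@Bool.rec (fun _ => ℕ) l9383 l9384 (Nat.ble (nat_lit 9384) i))
noncomputable def t9385_9387 (i : ℕ) : ℕ := (@Bool.rec (fun _ => ℕ) l9385 l9386 (Nat.ble (nat_lit 9386) i))
noncomputable def t9387_9390 (i : ℕ) : ℕ := (@Bool.rec (fun _ => ℕ) l9387 (@Bool.rec (fun _ => ℕ) l9388 l9389 (Nat.ble (nat_lit 9389) i)) (Nat.ble (nat_lit 9388) i))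
noncomputable def t9390_9392 (i : ℕ) : ℕ := (@Bool.rec (fun _ => ℕ) l9390 l9391 (Nat.ble (nat_lit 9391) i))
noncomputable def t9392_9394 (i : ℕ) : ℕ := (@Bool.rec (fun _ => ℕ) l9392 l9393 (Nat.ble (nat_lit 9393) i))
noncomputable def t9394_9396 (i : ℕ) : ℕ := (@Bool.rec (fun _ => ℕ) l9394 l9395 (Nat.ble (nat_lit 9395) i))
noncomputable def t9396_9399 (i : ℕ) : ℕ := (@Bool.rec (fun _ => ℕ) l9396 (@Bool.rec (fun _ => ℕ) l9397 l9398 (Nat.ble (nat_lit 9398) i)) (Nat.ble (nat_lit 9397) i))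
noncomputable def t9381_9399 (i : ℕ) : ℕ := (@Bool.rec (fun _ => ℕ) (@Bool.rec (fun _ => ℕ) (@Bool.rec (fun _ => ℕ) (t9381_9383 i) (t9383_9385 i) (Nat.ble (nat_lit 9383) i)) (@Bool.rec (fun _ => ℕ) (t9385_9387 i) (t9387_9390 i) (Nat.ble (nat_lit 9387) i)) (Nat.ble (nat_lit 9385) i)) (@Bool.rec (fun _ => ℕ) (@Bool.rec (fun _ => ℕ) (t9390_9392 i) (t9392_9394 i) (Nat.ble (nat_lit 9392) i)) (@Bool.rec (fun _ => ℕ) (t9394_9396 i) (t9396_9399 i) (Nat.ble (nat_lit 9396) i)) (Nat.ble (nat_lit 9394) i)) (Nat.ble (nat_lit 9390) i))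
noncomputable def t9399_9401 (i : ℕ) : ℕ := (@Bool.rec (fun _ => ℕ) l9399 l9400 (Nat.ble (nat_lit 9400) i))
noncomputable def t9401_9403 (i : ℕ) : ℕ := (@Bool.rec (fun _ => ℕ) l9401 l9402 (Nat.ble (nat_lit 9402) i))
noncomputable def t9403_9405 (i : ℕ) : ℕ := (@Bool.rec (fun _ => ℕ) l9403 l9404 (Nat.ble (nat_lit 9404) i))
noncomputable def t9405_9408 (i : ℕ) : ℕ := (@Bool.rec (fun _ => ℕ) l9405 (@Bool.rec (fun _ => ℕ) l9406 l9407 (Nat.ble (nat_lit 9407) i)) (Nat.ble (nat_lit 9406) i))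
noncomputable def t9408_9410 (i : ℕ) : ℕ := (@Bool.rec (fun _ => ℕ) l9408 l9409 (Nat.ble (nat_lit 9409) i))
noncomputable def t9410_9413 (i : ℕ) : ℕ := (@Bool.rec (fun _ => ℕ) l9410 (@Bool.rec (fun _ => ℕ) l9411 l9412 (Nat.ble (nat_lit 9412) i)) (Nat.ble (nat_lit 9411) i))
noncomputable def t9413_9415 (i : ℕ) : ℕ := (@Bool.rec (fun _ => ℕ) l9413 l9414 (Nat.ble (nat_lit 9414) i))
noncomputable def t9415_9418 (i : ℕ) : ℕ := (@Bool.rec (fun _ => ℕ) l9415 (@Bool.rec (fun _ => ℕ) l9416 l9417 (Nat.ble (nat_lit 9417) i)) (Nat.ble (nat_lit 9416) i))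
noncomputable def t9399_9418 (i : ℕ) : ℕ := (@Bool.rec (fun _ => ℕ) (@Bool.rec (fun _ => ℕ) (@Bool.rec (fun _ => ℕ) (t9399_9401 i) (t9401_9403 i) (Nat.ble (nat_lit 9401) i)) (@Bool.rec (fun _ => ℕ) (t9403_9405 i) (t9405_9408 i) (Nat.ble (nat_lit 9405) i)) (Nat.ble (nat_lit 9403) i)) (@Bool.rec (fun _ => ℕ) (@Bool.rec (fun _ => ℕ) (t9408_9410 i) (t9410_9413 i) (Nat.ble (nat_lit 9410) i)) (@Bool.rec (fun _ => ℕ) (t9413_9415 i) (t9415_9418 i) (Nat.ble (nat_lit 9415) i)) (Nat.ble (nat_lit 9413) i)) (Nat.ble (nat_lit 9408) i))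
noncomputable def t9418_9420 (i : ℕ) : ℕ := (@Bool.rec (fun _ => ℕ) l9418 l9419 (Nat.ble (nat_lit 9419) i))
noncomputable def t9420_9422 (i : ℕ) : ℕ := (@Bool.rec (fun _ => ℕ) l9420 l9421 (Nat.ble (nat_lit 9421) i))
noncomputable def t9422_9424 (i : ℕ) : ℕ := (@Bool.rec (fun _ => ℕ) l9422 l9423 (Nat.ble (nat_lit 9423) i))
noncomputable def t9424_9427 (i : ℕ) : ℕ := (@Bool.rec (fun _ => ℕ) l9424 (@Bool.rec (fun _ => ℕ) l9425 l9426 (Nat.ble (nat_lit 9426) i)) (Nat.ble (nat_lit 9425) i))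
noncomputable def t9427_9429 (i : ℕ) : ℕ := (@Bool.rec (fun _ => ℕ) l9427 l9428 (Nat.ble (nat_lit 9428) i))
noncomputable def t9429_9432 (i : ℕ) : ℕ := (@Bool.rec (fun _ => ℕ) l9429 (@Bool.rec (fun _ => ℕ) l9430 l9431 (Nat.ble (nat_lit 9431) i)) (Nat.ble (nat_lit 9430) i))
noncomputable def t9432_9434 (i : ℕ) : ℕ := (@Bool.rec (fun _ => ℕ) l9432 l9433 (Nat.ble (nat_lit 9433) i))
noncomputable def t9434_9437 (i : ℕ) : ℕ := (@Bool.rec (fun _ => ℕ) l9434 (@Bool.rec (fun _ => ℕ) l9435 l9436 (Nat.ble (nat_lit 9436) i)) (Nat.ble (nat_lit 9435) i))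
noncomputable def t9418_9437 (i : ℕ) : ℕ := (@Bool.rec (fun _ => ℕ) (@Bool.rec (fun _ => ℕ) (@Bool.rec (fun _ => ℕ) (t9418_9420 i) (t9420_9422 i) (Nat.ble (nat_lit 9420) i)) (@Bool.rec (fun _ => ℕ) (t9422_9424 i) (t9424_9427 i) (Nat.ble (nat_lit 9424) i)) (Nat.ble (nat_lit 9422) i)) (@Bool.rec (fun _ => ℕ) (@Bool.rec (fun _ => ℕ) (t9427_9429 i) (t9429_9432 i) (Nat.ble (nat_lit 9429) i)) (@Bool.rec (fun _ => ℕ) (t9432_9434 i) (t9434_9437 i) (Nat.ble (nat_lit 9434) i)) (Nat.ble (nat_lit 9432) i)) (Nat.ble (nat_lit 9427) i))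
noncomputable def t9437_9439 (i : ℕ) : ℕ := (@Bool.rec (fun _ => ℕ) l9437 l9438 (Nat.ble (nat_lit 9438) i))
noncomputable def t9439_9441 (i : ℕ) : ℕ := (@Bool.rec (fun _ => ℕ) l9439 l9440 (Nat.ble (nat_lit 9440) i))
noncomputable def t9441_9443 (i : ℕ) : ℕ := (@Bool.rec (fun _ => ℕ) l9441 l9442 (Nat.ble (nat_lit 9442) i))
noncomputable def t9443_9446 (i : ℕ) : ℕ := (@Bool.rec (fun _ => ℕ) l9443 (@Bool.rec (fun _ => ℕ) l9444 l9445 (Nat.ble (nat_lit 9445) i)) (Nat.ble (nat_lit 9444) i))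
noncomputable def t9446_9448 (i : ℕ) : ℕ := (@Bool.rec (fun _ => ℕ) l9446 l9447 (Nat.ble (nat_lit 9447) i))
noncomputable def t9448_9451 (i : ℕ) : ℕ := (@Bool.rec (fun _ => ℕ) l9448 (@Bool.rec (fun _ => ℕ) l9449 l9450 (Nat.ble (nat_lit 9450) i)) (Nat.ble (nat_lit 9449) i))
noncomputable def t9451_9453 (i : ℕ) : ℕ := (@Bool.rec (fun _ => ℕ) l9451 l9452 (Nat.ble (nat_lit 9452) i))
noncomputable def t9453_9456 (i : ℕ) : ℕ := (@Bool.rec (fun _ => ℕ) l9453 (@Bool.rec (fun _ => ℕ) l9454 l9455 (Nat.ble (nat_lit 9455) i)) (Nat.ble (nat_lit 9454) i))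
noncomputable def t9437_9456 (i : ℕ) : ℕ := (@Bool.rec (fun _ => ℕ) (@Bool.rec (fun _ => ℕ) (@Bool.rec (fun _ => ℕ) (t9437_9439 i) (t9439_9441 i) (Nat.ble (nat_lit 9439) i)) (@Bool.rec (fun _ => ℕ) (t9441_9443 i) (t9443_9446 i) (Nat.ble (nat_lit 9443) i)) (Nat.ble (nat_lit 9441) i)) (@Bool.rec (fun _ => ℕ) (@Bool.rec (fun _ => ℕ) (t9446_9448 i) (t9448_9451 i) (Nat.ble (nat_lit 9448) i)) (@Bool.rec (fun _ => ℕ) (t9451_9453 i) (t9453_9456 i) (Nat.ble (nat_lit 9453) i)) (Nat.ble (nat_lit 9451) i)) (Nat.ble (nat_lit 9446) i))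
noncomputable def t9306_9456 (i : ℕ) : ℕ := (@Bool.rec (fun _ => ℕ) (@Bool.rec (fun _ => ℕ) (@Bool.rec (fun _ => ℕ) (t9306_9324 i) (t9324_9343 i) (Nat.ble (nat_lit 9324) i)) (@Bool.rec (fun _ => ℕ) (t9343_9362 i) (t9362_9381 i) (Nat.ble (nat_lit 9362) i)) (Nat.ble (nat_lit 9343) i)) (@Bool.rec (fun _ => ℕ) (@Bool.rec (fun _ => ℕ) (t9381_9399 i) (t9399_9418 i) (Nat.ble (nat_lit 9399) i)) (@Bool.rec (fun _ => ℕ) (t9418_9437 i) (t9437_9456 i) (Nat.ble (nat_lit 9437) i)) (Nat.ble (nat_lit 9418) i)) (Nat.ble (nat_lit 9381) i))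
noncomputable def t9456_9458 (i : ℕ) : ℕ := (@Bool.rec (fun _ => ℕ) l9456 l9457 (Nat.ble (nat_lit 9457) i))
noncomputable def t9458_9460 (i : ℕ) : ℕ := (@Bool.rec (fun _ => ℕ) l9458 l9459 (Nat.ble (nat_lit 9459) i))
noncomputable def t9460_9462 (i : ℕ) : ℕ := (@Bool.rec (fun _ => ℕ) l9460 l9461 (Nat.ble (nat_lit 9461) i))
noncomputable def t9462_9465 (i : ℕ) : ℕ := (@Bool.rec (fun _ => ℕ) l9462 (@Bool.rec (fun _ => ℕ) l9463 l9464 (Nat.ble (nat_lit 9464) i)) (Nat.ble (nat_lit 9463) i))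
noncomputable def t9465_9467 (i : ℕ) : ℕ := (@Bool.rec (fun _ => ℕ) l9465 l9466 (Nat.ble (nat_lit 9466) i))
noncomputable def t9467_9469 (i : ℕ) : ℕ := (@Bool.rec (fun _ => ℕ) l9467 l9468 (Nat.ble (nat_lit 9468) i))
noncomputable def t9469_9471 (i : ℕ) : ℕ := (@Bool.rec (fun _ => ℕ) l9469 l9470 (Nat.ble (nat_lit 9470) i))
noncomputable def t9471_9474 (i : ℕ) : ℕ := (@Bool.rec (fun _ => ℕ) l9471 (@Bool.rec (fun _ => ℕ) l9472 l9473 (Nat.ble (nat_lit 9473) i)) (Nat.ble (nat_lit 9472) i))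
noncomputable def t9456_9474 (i : ℕ) : ℕ := (@Bool.rec (fun _ => ℕ) (@Bool.rec (fun _ => ℕ) (@Bool.rec (fun _ => ℕ) (t9456_9458 i) (t9458_9460 i) (Nat.ble (nat_lit 9458) i)) (@Bool.rec (fun _ => ℕ) (t9460_9462 i) (t9462_9465 i) (Nat.ble (nat_lit 9462) i)) (Nat.ble (nat_lit 9460) i)) (@Bool.rec (fun _ => ℕ) (@Bool.rec (fun _ => ℕ) (t9465_9467 i) (t9467_9469 i) (Nat.ble (nat_lit 9467) i)) (@Bool.rec (fun _ => ℕ) (t9469_9471 i) (t9471_9474 i) (Nat.ble (nat_lit 9471) i)) (Nat.ble (nat_lit 9469) i)) (Nat.ble (nat_lit 9465) i))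
noncomputable def t9474_9476 (i : ℕ) : ℕ := (@Bool.rec (fun _ => ℕ) l9474 l9475 (Nat.ble (nat_lit 9475) i))
noncomputable def t9476_9478 (i : ℕ) : ℕ := (@Bool.rec (fun _ => ℕ) l9476 l9477 (Nat.ble (nat_lit 9477) i))
noncomputable def t9478_9480 (i : ℕ) : ℕ := (@Bool.rec (fun _ => ℕ) l9478 l9479 (Nat.ble (nat_lit 9479) i))
noncomputable def t9480_9483 (i : ℕ) : ℕ := (@Bool.rec (fun _ => ℕ) l9480 (@Bool.rec (fun _ => ℕ) l9481 l9482 (Nat.ble (nat_lit 9482) i)) (Nat.ble (nat_lit 9481) i))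
noncomputable def t9483_9485 (i : ℕ) : ℕ := (@Bool.rec (fun _ => ℕ) l9483 l9484 (Nat.ble (nat_lit 9484) i))
noncomputable def t9485_9488 (i : ℕ) : ℕ := (@Bool.rec (fun _ => ℕ) l9485 (@Bool.rec (fun _ => ℕ) l9486 l9487 (Nat.ble (nat_lit 9487) i)) (Nat.ble (nat_lit 9486) i))
noncomputable def t9488_9490 (i : ℕ) : ℕ := (@Bool.rec (fun _ => ℕ) l9488 l9489 (Nat.ble (nat_lit 9489) i))
noncomputable def t9490_9493 (i : ℕ) : ℕ := (@Bool.rec (fun _ => ℕ) l9490 (@Bool.rec (fun _ => ℕ) l9491 l9492 (Nat.ble (nat_lit 9492) i)) (Nat.ble (nat_lit 9491) i))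
noncomputable def t9474_9493 (i : ℕ) : ℕ := (@Bool.rec (fun _ => ℕ) (@Bool.rec (fun _ => ℕ) (@Bool.rec (fun _ => ℕ) (t9474_9476 i) (t9476_9478 i) (Nat.ble (nat_lit 9476) i)) (@Bool.rec (fun _ => ℕ) (t9478_9480 i) (t9480_9483 i) (Nat.ble (nat_lit 9480) i)) (Nat.ble (nat_lit 9478) i)) (@Bool.rec (fun _ => ℕ) (@Bool.rec (fun _ => ℕ) (t9483_9485 i) (t9485_9488 i) (Nat.ble (nat_lit 9485) i)) (@Bool.rec (fun _ => ℕ) (t9488_9490 i) (t9490_9493 i) (Nat.ble (nat_lit 9490) i)) (Nat.ble (nat_lit 9488) i)) (Nat.ble (nat_lit 9483) i))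
noncomputable def t9493_9495 (i : ℕ) : ℕ := (@Bool.rec (fun _ => ℕ) l9493 l9494 (Nat.ble (nat_lit 9494) i))
noncomputable def t9495_9497 (i : ℕ) : ℕ := (@Bool.rec (fun _ => ℕ) l9495 l9496 (Nat.ble (nat_lit 9496) i))
noncomputable def t9497_9499 (i : ℕ) : ℕ := (@Bool.rec (fun _ => ℕ) l9497 l9498 (Nat.ble (nat_lit 9498) i))
noncomputable def t9499_9502 (i : ℕ) : ℕ := (@Bool.rec (fun _ => ℕ) l9499 (@Bool.rec (fun _ => ℕ) l9500 l9501 (Nat.ble (nat_lit 9501) i)) (Nat.ble (nat_lit 9500) i))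
noncomputable def t9502_9504 (i : ℕ) : ℕ := (@Bool.rec (fun _ => ℕ) l9502 l9503 (Nat.ble (nat_lit 9503) i))
noncomputable def t9504_9507 (i : ℕ) : ℕ := (@Bool.rec (fun _ => ℕ) l9504 (@Bool.rec (fun _ => ℕ) l9505 l9506 (Nat.ble (nat_lit 9506) i)) (Nat.ble (nat_lit 9505) i))
noncomputable def t9507_9509 (i : ℕ) : ℕ := (@Bool.rec (fun _ => ℕ) l9507 l9508 (Nat.ble (nat_lit 9508) i))
noncomputable def t9509_9512 (i : ℕ) : ℕ := (@Bool.rec (fun _ => ℕ) l9509 (@Bool.rec (fun _ => ℕ) l9510 l9511 (Nat.ble (nat_lit 9511) i)) (Nat.ble (nat_lit 9510) i))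
noncomputable def t9493_9512 (i : ℕ) : ℕ := (@Bool.rec (fun _ => ℕ) (@Bool.rec (fun _ => ℕ) (@Bool.rec (fun _ => ℕ) (t9493_9495 i) (t9495_9497 i) (Nat.ble (nat_lit 9495) i)) (@Bool.rec (fun _ => ℕ) (t9497_9499 i) (t9499_9502 i) (Nat.ble (nat_lit 9499) i)) (Nat.ble (nat_lit 9497) i)) (@Bool.rec (fun _ => ℕ) (@Bool.rec (fun _ => ℕ) (t9502_9504 i) (t9504_9507 i) (Nat.ble (nat_lit 9504) i)) (@Bool.rec (fun _ => ℕ) (t9507_9509 i) (t9509_9512 i) (Nat.ble (nat_lit 9509) i)) (Nat.ble (nat_lit 9507) i)) (Nat.ble (nat_lit 9502) i))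
noncomputable def t9512_9514 (i : ℕ) : ℕ := (@Bool.rec (fun _ => ℕ) l9512 l9513 (Nat.ble (nat_lit 9513) i))
noncomputable def t9514_9516 (i : ℕ) : ℕ := (@Bool.rec (fun _ => ℕ) l9514 l9515 (Nat.ble (nat_lit 9515) i))
noncomputable def t9516_9518 (i : ℕ) : ℕ := (@Bool.rec (fun _ => ℕ) l9516 l9517 (Nat.ble (nat_lit 9517) i))
noncomputable def t9518_9521 (i : ℕ) : ℕ := (@Bool.rec (fun _ => ℕ) l9518 (@Bool.rec (fun _ => ℕ) l9519 l9520 (Nat.ble (nat_lit 9520) i)) (Nat.ble (nat_lit 9519) i))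
noncomputable def t9521_9523 (i : ℕ) : ℕ := (@Bool.rec (fun _ => ℕ) l9521 l9522 (Nat.ble (nat_lit 9522) i))
noncomputable def t9523_9526 (i : ℕ) : ℕ := (@Bool.rec (fun _ => ℕ) l9523 (@Bool.rec (fun _ => ℕ) l9524 l9525 (Nat.ble (nat_lit 9525) i)) (Nat.ble (nat_lit 9524) i))
noncomputable def t9526_9528 (i : ℕ) : ℕ := (@Bool.rec (fun _ => ℕ) l9526 l9527 (Nat.ble (nat_lit 9527) i))
noncomputable def t9528_9531 (i : ℕ) : ℕ := (@Bool.rec (fun _ => ℕ) l9528 (@Bool.rec (fun _ => ℕ) l9529 l9530 (Nat.ble (nat_lit 9530) i)) (Nat.ble (nat_lit 9529) i))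
noncomputable def t9512_9531 (i : ℕ) : ℕ := (@Bool.rec (fun _ => ℕ) (@Bool.rec (fun _ => ℕ) (@Bool.rec (fun _ => ℕ) (t9512_9514 i) (t9514_9516 i) (Nat.ble (nat_lit 9514) i)) (@Bool.rec (fun _ => ℕ) (t9516_9518 i) (t9518_9521 i) (Nat.ble (nat_lit 9518) i)) (Nat.ble (nat_lit 9516) i)) (@Bool.rec (fun _ => ℕ) (@Bool.rec (fun _ => ℕ) (t9521_9523 i) (t9523_9526 i) (Nat.ble (nat_lit 9523) i)) (@Bool.rec (fun _ => ℕ) (t9526_9528 i) (t9528_9531 i) (Nat.ble (nat_lit 9528) i)) (Nat.ble (nat_lit 9526) i)) (Nat.ble (nat_lit 9521) i))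
noncomputable def t9531_9533 (i : ℕ) : ℕ := (@Bool.rec (fun _ => ℕ) l9531 l9532 (Nat.ble (nat_lit 9532) i))
noncomputable def t9533_9535 (i : ℕ) : ℕ := (@Bool.rec (fun _ => ℕ) l9533 l9534 (Nat.ble (nat_lit 9534) i))
noncomputable def t9535_9537 (i : ℕ) : ℕ := (@Bool.rec (fun _ => ℕ) l9535 l9536 (Nat.ble (nat_lit 9536) i))
noncomputable def t9537_9540 (i : ℕ) : ℕ := (@Bool.rec (fun _ => ℕ) l9537 (@Bool.rec (fun _ => ℕ) l9538 l9539 (Nat.ble (nat_lit 9539) i)) (Nat.ble (nat_lit 9538) i))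
noncomputable def t9540_9542 (i : ℕ) : ℕ := (@Bool.rec (fun _ => ℕ) l9540 l9541 (Nat.ble (nat_lit 9541) i))
noncomputable def t9542_9545 (i : ℕ) : ℕ := (@Bool.rec (fun _ => ℕ) l9542 (@Bool.rec (fun _ => ℕ) l9543 l9544 (Nat.ble (nat_lit 9544) i)) (Nat.ble (nat_lit 9543) i))
noncomputable def t9545_9547 (i : ℕ) : ℕ := (@Bool.rec (fun _ => ℕ) l9545 l9546 (Nat.ble (nat_lit 9546) i))
noncomputable def t9547_9550 (i : ℕ) : ℕ := (@Bool.rec (fun _ => ℕ) l9547 (@Bool.rec (fun _ => ℕ) l9548 l9549 (Nat.ble (nat_lit 9549) i)) (Nat.ble (nat_lit 9548) i))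
noncomputable def t9531_9550 (i : ℕ) : ℕ := (@Bool.rec (fun _ => ℕ) (@Bool.rec (fun _ => ℕ) (@Bool.rec (fun _ => ℕ) (t9531_9533 i) (t9533_9535 i) (Nat.ble (nat_lit 9533) i)) (@Bool.rec (fun _ => ℕ) (t9535_9537 i) (t9537_9540 i) (Nat.ble (nat_lit 9537) i)) (Nat.ble (nat_lit 9535) i)) (@Bool.rec (fun _ => ℕ) (@Bool.rec (fun _ => ℕ) (t9540_9542 i) (t9542_9545 i) (Nat.ble (nat_lit 9542) i)) (@Bool.rec (fun _ => ℕ) (t9545_9547 i) (t9547_9550 i) (Nat.ble (nat_lit 9547) i)) (Nat.ble (nat_lit 9545) i)) (Nat.ble (nat_lit 9540) i))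
noncomputable def t9550_9552 (i : ℕ) : ℕ := (@Bool.rec (fun _ => ℕ) l9550 l9551 (Nat.ble (nat_lit 9551) i))
noncomputable def t9552_9554 (i : ℕ) : ℕ := (@Bool.rec (fun _ => ℕ) l9552 l9553 (Nat.ble (nat_lit 9553) i))
noncomputable def t9554_9556 (i : ℕ) : ℕ := (@Bool.rec (fun _ => ℕ) l9554 l9555 (Nat.ble (nat_lit 9555) i))
noncomputable def t9556_9559 (i : ℕ) : ℕ := (@Bool.rec (fun _ => ℕ) l9556 (@Bool.rec (fun _ => ℕ) l9557 l9558 (Nat.ble (nat_lit 9558) i)) (Nat.ble (nat_lit 9557) i))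
noncomputable def t9559_9561 (i : ℕ) : ℕ := (@Bool.rec (fun _ => ℕ) l9559 l9560 (Nat.ble (nat_lit 9560) i))
noncomputable def t9561_9564 (i : ℕ) : ℕ := (@Bool.rec (fun _ => ℕ) l9561 (@Bool.rec (fun _ => ℕ) l9562 l9563 (Nat.ble (nat_lit 9563) i)) (Nat.ble (nat_lit 9562) i))
noncomputable def t9564_9566 (i : ℕ) : ℕ := (@Bool.rec (fun _ => ℕ) l9564 l9565 (Nat.ble (nat_lit 9565) i))
noncomputable def t9566_9569 (i : ℕ) : ℕ := (@Bool.rec (fun _ => ℕ) l9566 (@Bool.rec (fun _ => ℕ) l9567 l9568 (Nat.ble (nat_lit 9568) i)) (Nat.ble (nat_lit 9567) i))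
noncomputable def t9550_9569 (i : ℕ) : ℕ := (@Bool.rec (fun _ => ℕ) (@Bool.rec (fun _ => ℕ) (@Bool.rec (fun _ => ℕ) (t9550_9552 i) (t9552_9554 i) (Nat.ble (nat_lit 9552) i)) (@Bool.rec (fun _ => ℕ) (t9554_9556 i) (t9556_9559 i) (Nat.ble (nat_lit 9556) i)) (Nat.ble (nat_lit 9554) i)) (@Bool.rec (fun _ => ℕ) (@Bool.rec (fun _ => ℕ) (t9559_9561 i) (t9561_9564 i) (Nat.ble (nat_lit 9561) i)) (@Bool.rec (fun _ => ℕ) (t9564_9566 i) (t9566_9569 i) (Nat.ble (nat_lit 9566) i)) (Nat.ble (nat_lit 9564) i)) (Nat.ble (nat_lit 9559) i))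
noncomputable def t9569_9571 (i : ℕ) : ℕ := (@Bool.rec (fun _ => ℕ) l9569 l9570 (Nat.ble (nat_lit 9570) i))
noncomputable def t9571_9573 (i : ℕ) : ℕ := (@Bool.rec (fun _ => ℕ) l9571 l9572 (Nat.ble (nat_lit 9572) i))
noncomputable def t9573_9575 (i : ℕ) : ℕ := (@Bool.rec (fun _ => ℕ) l9573 l9574 (Nat.ble (nat_lit 9574) i))
noncomputable def t9575_9578 (i : ℕ) : ℕ := (@Bool.rec (fun _ => ℕ) l9575 (@Bool.rec (fun _ => ℕ) l9576 l9577 (Nat.ble (nat_lit 9577) i)) (Nat.ble (nat_lit 9576) i))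
noncomputable def t9578_9580 (i : ℕ) : ℕ := (@Bool.rec (fun _ => ℕ) l9578 l9579 (Nat.ble (nat_lit 9579) i))
noncomputable def t9580_9583 (i : ℕ) : ℕ := (@Bool.rec (fun _ => ℕ) l9580 (@Bool.rec (fun _ => ℕ) l9581 l9582 (Nat.ble (nat_lit 9582) i)) (Nat.ble (nat_lit 9581) i))
noncomputable def t9583_9585 (i : ℕ) : ℕ := (@Bool.rec (fun _ => ℕ) l9583 l9584 (Nat.ble (nat_lit 9584) i))
noncomputable def t9585_9588 (i : ℕ) : ℕ := (@Bool.rec (fun _ => ℕ) l9585 (@Bool.rec (fun _ => ℕ) l9586 l9587 (Nat.ble (nat_lit 9587) i)) (Nat.ble (nat_lit 9586) i))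
noncomputable def t9569_9588 (i : ℕ) : ℕ := (@Bool.rec (fun _ => ℕ) (@Bool.rec (fun _ => ℕ) (@Bool.rec (fun _ => ℕ) (t9569_9571 i) (t9571_9573 i) (Nat.ble (nat_lit 9571) i)) (@Bool.rec (fun _ => ℕ) (t9573_9575 i) (t9575_9578 i) (Nat.ble (nat_lit 9575) i)) (Nat.ble (nat_lit 9573) i)) (@Bool.rec (fun _ => ℕ) (@Bool.rec (fun _ => ℕ) (t9578_9580 i) (t9580_9583 i) (Nat.ble (nat_lit 9580) i)) (@Bool.rec (fun _ => ℕ) (t9583_9585 i) (t9585_9588 i) (Nat.ble (nat_lit 9585) i)) (Nat.ble (nat_lit 9583) i)) (Nat.ble (nat_lit 9578) i))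
noncomputable def t9588_9590 (i : ℕ) : ℕ := (@Bool.rec (fun _ => ℕ) l9588 l9589 (Nat.ble (nat_lit 9589) i))
noncomputable def t9590_9592 (i : ℕ) : ℕ := (@Bool.rec (fun _ => ℕ) l9590 l9591 (Nat.ble (nat_lit 9591) i))
noncomputable def t9592_9594 (i : ℕ) : ℕ := (@Bool.rec (fun _ => ℕ) l9592 l9593 (Nat.ble (nat_lit 9593) i))
noncomputable def t9594_9597 (i : ℕ) : ℕ := (@Bool.rec (fun _ => ℕ) l9594 (@Bool.rec (fun _ => ℕ) l9595 l9596 (Nat.ble (nat_lit 9596) i)) (Nat.ble (nat_lit 9595) i))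
noncomputable def t9597_9599 (i : ℕ) : ℕ := (@Bool.rec (fun _ => ℕ) l9597 l9598 (Nat.ble (nat_lit 9598) i))
noncomputable def t9599_9602 (i : ℕ) : ℕ := (@Bool.rec (fun _ => ℕ) l9599 (@Bool.rec (fun _ => ℕ) l9600 l9601 (Nat.ble (nat_lit 9601) i)) (Nat.ble (nat_lit 9600) i))
noncomputable def t9602_9604 (i : ℕ) : ℕ := (@Bool.rec (fun _ => ℕ) l9602 l9603 (Nat.ble (nat_lit 9603) i))
noncomputable def t9604_9607 (i : ℕ) : ℕ := (@Bool.rec (fun _ => ℕ) l9604 (@Bool.rec (fun _ => ℕ) l9605 l9606 (Nat.ble (nat_lit 9606) i)) (Nat.ble (nat_lit 9605) i))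
noncomputable def t9588_9607 (i : ℕ) : ℕ := (@Bool.rec (fun _ => ℕ) (@Bool.rec (fun _ => ℕ) (@Bool.rec (fun _ => ℕ) (t9588_9590 i) (t9590_9592 i) (Nat.ble (nat_lit 9590) i)) (@Bool.rec (fun _ => ℕ) (t9592_9594 i) (t9594_9597 i) (Nat.ble (nat_lit 9594) i)) (Nat.ble (nat_lit 9592) i)) (@Bool.rec (fun _ => ℕ) (@Bool.rec (fun _ => ℕ) (t9597_9599 i) (t9599_9602 i) (Nat.ble (nat_lit 9599) i)) (@Bool.rec (fun _ => ℕ) (t9602_9604 i) (t9604_9607 i) (Nat.ble (nat_lit 9604) i)) (Nat.ble (nat_lit 9602) i)) (Nat.ble (nat_lit 9597) i))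
noncomputable def t9456_9607 (i : ℕ) : ℕ := (@Bool.rec (fun _ => ℕ) (@Bool.rec (fun _ => ℕ) (@Bool.rec (fun _ => ℕ) (t9456_9474 i) (t9474_9493 i) (Nat.ble (nat_lit 9474) i)) (@Bool.rec (fun _ => ℕ) (t9493_9512 i) (t9512_9531 i) (Nat.ble (nat_lit 9512) i)) (Nat.ble (nat_lit 9493) i)) (@Bool.rec (fun _ => ℕ) (@Bool.rec (fun _ => ℕ) (t9531_9550 i) (t9550_9569 i) (Nat.ble (nat_lit 9550) i)) (@Bool.rec (fun _ => ℕ) (t9569_9588 i) (t9588_9607 i) (Nat.ble (nat_lit 9588) i)) (Nat.ble (nat_lit 9569) i)) (Nat.ble (nat_lit 9531) i))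
noncomputable def t8406_9607 (i : ℕ) : ℕ := (@Bool.rec (fun _ => ℕ) (@Bool.rec (fun _ => ℕ) (@Bool.rec (fun _ => ℕ) (t8406_8556 i) (t8556_8706 i) (Nat.ble (nat_lit 8556) i)) (@Bool.rec (fun _ => ℕ) (t8706_8856 i) (t8856_9006 i) (Nat.ble (nat_lit 8856) i)) (Nat.ble (nat_lit 8706) i)) (@Bool.rec (fun _ => ℕ) (@Bool.rec (fun _ => ℕ) (t9006_9156 i) (t9156_9306 i) (Nat.ble (nat_lit 9156) i)) (@Bool.rec (fun _ => ℕ) (t9306_9456 i) (t9456_9607 i) (Nat.ble (nat_lit 9456) i)) (Nat.ble (nat_lit 9306) i)) (Nat.ble (nat_lit 9006) i))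
noncomputable def T (i : ℕ) : ℕ := (@Bool.rec (fun _ => ℕ) (@Bool.rec (fun _ => ℕ) (@Bool.rec (fun _ => ℕ) (t0_1200 i) (t1200_2401 i) (Nat.ble (nat_lit 1200) i)) (@Bool.rec (fun _ => ℕ) (t2401_3602 i) (t3602_4803 i) (Nat.ble (nat_lit 3602) i)) (Nat.ble (nat_lit 2401) i)) (@Bool.rec (fun _ => ℕ) (@Bool.rec (fun _ => ℕ) (t4803_6004 i) (t6004_7205 i) (Nat.ble (nat_lit 6004) i)) (@Bool.rec (fun _ => ℕ) (t7205_8406 i) (t8406_9607 i) (Nat.ble (nat_lit 8406) i)) (Nat.ble (nat_lit 7205) i)) (Nat.ble (nat_lit 4803) i))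
noncomputable def r3_5 (i : ℕ) : ℕ := (@Bool.rec (fun _ => ℕ) (nat_lit 0x222202) (nat_lit 0x333302) (Nat.ble (nat_lit 4) i))
noncomputable def r6_8 (i : ℕ) : ℕ := (@Bool.rec (fun _ => ℕ) (nat_lit 0x555502) (nat_lit 0x666602) (Nat.ble (nat_lit 7) i))
noncomputable def r9_11 (i : ℕ) : ℕ := (@Bool.rec (fun _ => ℕ) (nat_lit 0x888802) (nat_lit 0x999902) (Nat.ble (nat_lit 10) i))
noncomputable def r0_11 (i : ℕ) : ℕ := (@Bool.rec (fun _ => ℕ) (@Bool.rec (fun _ => ℕ) (@Bool.rec (fun _ => ℕ) (nat_lit 0x0) (nat_lit 0x2) (Nat.ble (nat_lit 1) i)) (@Bool.rec (fun _ => ℕ) (nat_lit 0x111102) (r3_5 i) (Nat.ble (nat_lit 3) i)) (Nat.ble (nat_lit 2) i)) (@Bool.rec (fun _ => ℕ) (@Bool.rec (fun _ => ℕ) (nat_lit 0x444402) (r6_8 i) (Nat.ble (nat_lit 6) i)) (@Bool.rec (fun _ => ℕ) (nat_lit 0x777702) (r9_11 i) (Nat.ble (nat_lit 9) i)) (Nat.ble (nat_lit 8) i)) (Nat.ble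 (nat_lit 5) i))
noncomputable def r12_14 (i : ℕ) : ℕ := (@Bool.rec (fun _ => ℕ) (nat_lit 0xbbbb02) (nat_lit 0x74747474747406) (Nat.ble (nat_lit 13) i))
noncomputable def r15_17 (i : ℕ) : ℕ := (@Bool.rec (fun _ => ℕ) (nat_lit 0x7070707004) (nat_lit 0x7272727204) (Nat.ble (nat_lit 16) i))
noncomputable def r18_20 (i : ℕ) : ℕ := (@Bool.rec (fun _ => ℕ) (nat_lit 0x7878787804) (nat_lit 0x7373737304) (Nat.ble (nat_lit 19) i))
noncomputable def r21_23 (i : ℕ) : ℕ := (@Bool.rec (fun _ => ℕ) (nat_lit 0x7a7a7a7a04) (nat_lit 0x7b7b7b7b7b7b06) (Nat.ble (nat_lit 22) i))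
noncomputable def r11_23 (i : ℕ) : ℕ := (@Bool.rec (fun _ => ℕ) (@Bool.rec (fun _ => ℕ) (@Bool.rec (fun _ => ℕ) (nat_lit 0xaaaa02) (r12_14 i) (Nat.ble (nat_lit 12) i)) (@Bool.rec (fun _ => ℕ) (nat_lit 0x7171717104) (r15_17 i) (Nat.ble (nat_lit 15) i)) (Nat.ble (nat_lit 14) i)) (@Bool.rec (fun _ => ℕ) (@Bool.rec (fun _ => ℕ) (nat_lit 0x7575757504) (r18_20 i) (Nat.ble (nat_lit 18) i)) (@Bool.rec (fun _ => ℕ) (nat_lit 0x7676767604) (r21_23 i) (Nat.ble (nat_lit 21) i)) (Nat.ble (nat_lit 20) i)) (Nat.ble (nat_lit 17) i))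
noncomputable def r24_26 (i : ℕ) : ℕ := (@Bool.rec (fun _ => ℕ) (nat_lit 0x41414141414106) (nat_lit 0x4040404004) (Nat.ble (nat_lit 25) i))
noncomputable def r27_29 (i : ℕ) : ℕ := (@Bool.rec (fun _ => ℕ) (nat_lit 0x4545454504) (nat_lit 0x4848484804) (Nat.ble (nat_lit 28) i))
noncomputable def r30_32 (i : ℕ) : ℕ := (@Bool.rec (fun _ => ℕ) (nat_lit 0x4646464604) (nat_lit 0x4a4a4a4a04) (Nat.ble (nat_lit 31) i))
noncomputable def r33_35 (i : ℕ) : ℕ := (@Bool.rec (fun _ => ℕ) (nat_lit 0x4949494904) (nat_lit 0x10101010101006) (Nat.ble (nat_lit 34) i))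
noncomputable def r23_35 (i : ℕ) : ℕ := (@Bool.rec (fun _ => ℕ) (@Bool.rec (fun _ => ℕ) (@Bool.rec (fun _ => ℕ) (nat_lit 0x7979797904) (r24_26 i) (Nat.ble (nat_lit 24) i)) (@Bool.rec (fun _ => ℕ) (nat_lit 0x4242424204) (r27_29 i) (Nat.ble (nat_lit 27) i)) (Nat.ble (nat_lit 26) i)) (@Bool.rec (fun _ => ℕ) (@Bool.rec (fun _ => ℕ) (nat_lit 0x4343434304) (r30_32 i) (Nat.ble (nat_lit 30) i)) (@Bool.rec (fun _ => ℕ) (nat_lit 0x4b4b4b4b04) (r33_35 i) (Nat.ble (nat_lit 33) i)) (Nat.ble (nat_lit 32) i)) (Nat.ble (nat_lit 29) i))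
noncomputable def r36_38 (i : ℕ) : ℕ := (@Bool.rec (fun _ => ℕ) (nat_lit 0x1515151504) (nat_lit 0x1818181804) (Nat.ble (nat_lit 37) i))
noncomputable def r39_41 (i : ℕ) : ℕ := (@Bool.rec (fun _ => ℕ) (nat_lit 0x1616161604) (nat_lit 0x1a1a1a1a04) (Nat.ble (nat_lit 40) i))
noncomputable def r42_44 (i : ℕ) : ℕ := (@Bool.rec (fun _ => ℕ) (nat_lit 0x1919191904) (nat_lit 0x2020202020206) (Nat.ble (nat_lit 43) i))
noncomputable def r45_47 (i : ℕ) : ℕ := (@Bool.rec (fun _ => ℕ) (nat_lit 0x808080804) (nat_lit 0x3030303030306) (Nat.ble (nat_lit 46) i))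
noncomputable def r35_47 (i : ℕ) : ℕ := (@Bool.rec (fun _ => ℕ) (@Bool.rec (fun _ => ℕ) (@Bool.rec (fun _ => ℕ) (nat_lit 0x1212121204) (r36_38 i) (Nat.ble (nat_lit 36) i)) (@Bool.rec (fun _ => ℕ) (nat_lit 0x1313131304) (r39_41 i) (Nat.ble (nat_lit 39) i)) (Nat.ble (nat_lit 38) i)) (@Bool.rec (fun _ => ℕ) (@Bool.rec (fun _ => ℕ) (nat_lit 0x1b1b1b1b04) (r42_44 i) (Nat.ble (nat_lit 42) i)) (@Bool.rec (fun _ => ℕ) (nat_lit 0x505050504) (r45_47 i) (Nat.ble (nat_lit 45) i)) (Nat.ble (nat_lit 44) i)) (Nat.ble (nat_lit 41) i))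
noncomputable def r48_50 (i : ℕ) : ℕ := (@Bool.rec (fun _ => ℕ) (nat_lit 0xa0a0a0a04) (nat_lit 0xb0b0b0b04) (Nat.ble (nat_lit 49) i))
noncomputable def r51_53 (i : ℕ) : ℕ := (@Bool.rec (fun _ => ℕ) (nat_lit 0x25252525252506) (nat_lit 0x2828282804) (Nat.ble (nat_lit 52) i))
noncomputable def r54_56 (i : ℕ) : ℕ := (@Bool.rec (fun _ => ℕ) (nat_lit 0x2626262604) (nat_lit 0x2a2a2a2a04) (Nat.ble (nat_lit 55) i))
noncomputable def r57_59 (i : ℕ) : ℕ := (@Bool.rec (fun _ => ℕ) (nat_lit 0x2929292904) (nat_lit 0x58585858585806) (Nat.ble (nat_lit 58) i))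
noncomputable def r47_59 (i : ℕ) : ℕ := (@Bool.rec (fun _ => ℕ) (@Bool.rec (fun _ => ℕ) (@Bool.rec (fun _ => ℕ) (nat_lit 0x606060604) (r48_50 i) (Nat.ble (nat_lit 48) i)) (@Bool.rec (fun _ => ℕ) (nat_lit 0x909090904) (r51_53 i) (Nat.ble (nat_lit 51) i)) (Nat.ble (nat_lit 50) i)) (@Bool.rec (fun _ => ℕ) (@Bool.rec (fun _ => ℕ) (nat_lit 0x2323232304) (r54_56 i) (Nat.ble (nat_lit 54) i)) (@Bool.rec (fun _ => ℕ) (nat_lit 0x2b2b2b2b04) (r57_59 i) (Nat.ble (nat_lit 57) i)) (Nat.ble (nat_lit 56) i)) (Nat.ble (nat_lit 53) i))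
noncomputable def r60_62 (i : ℕ) : ℕ := (@Bool.rec (fun _ => ℕ) (nat_lit 0x5656565604) (nat_lit 0x5a5a5a5a04) (Nat.ble (nat_lit 61) i))
noncomputable def r63_65 (i : ℕ) : ℕ := (@Bool.rec (fun _ => ℕ) (nat_lit 0x5959595904) (nat_lit 0x8383838304) (Nat.ble (nat_lit 64) i))
noncomputable def r66_68 (i : ℕ) : ℕ := (@Bool.rec (fun _ => ℕ) (nat_lit 0x8a8a8a8a8a8a06) (nat_lit 0x8b8b8b8b04) (Nat.ble (nat_lit 67) i))
noncomputable def r69_71 (i : ℕ) : ℕ := (@Bool.rec (fun _ => ℕ) (nat_lit 0x36363636363606) (nat_lit 0x3a3a3a3a04) (Nat.ble (nat_lit 70) i))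
noncomputable def r59_71 (i : ℕ) : ℕ := (@Bool.rec (fun _ => ℕ) (@Bool.rec (fun _ => ℕ) (@Bool.rec (fun _ => ℕ) (nat_lit 0x5353535304) (r60_62 i) (Nat.ble (nat_lit 60) i)) (@Bool.rec (fun _ => ℕ) (nat_lit 0x5b5b5b5b04) (r63_65 i) (Nat.ble (nat_lit 63) i)) (Nat.ble (nat_lit 62) i)) (@Bool.rec (fun _ => ℕ) (@Bool.rec (fun _ => ℕ) (nat_lit 0x8686868604) (r66_68 i) (Nat.ble (nat_lit 66) i)) (@Bool.rec (fun _ => ℕ) (nat_lit 0x8989898904) (r69_71 i) (Nat.ble (nat_lit 69) i)) (Nat.ble (nat_lit 68) i)) (Nat.ble (nat_lit 65) i))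
noncomputable def r72_74 (i : ℕ) : ℕ := (@Bool.rec (fun _ => ℕ) (nat_lit 0x3939393904) (nat_lit 0x6a6a6a6a04) (Nat.ble (nat_lit 73) i))
noncomputable def r75_77 (i : ℕ) : ℕ := (@Bool.rec (fun _ => ℕ) (nat_lit 0x6969696904) (nat_lit 0xabababab04) (Nat.ble (nat_lit 76) i))
noncomputable def r78_80 (i : ℕ) : ℕ := (@Bool.rec (fun _ => ℕ) (nat_lit 0xb9b9b9b9b9b906) (nat_lit 0x9352014735201473520147352014735201473520147352014735201473520147935201473520147352014735201473520147352014735201473520147352014740) (Nat.ble (nat_lit 79) i))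
noncomputable def r81_83 (i : ℕ) : ℕ := (@Bool.rec (fun _ => ℕ) (nat_lit 0x147b90258a0360147b90258a0360147b90258a0360147b90258a0360147b90258a0360147b90258a0360147b90258a0360147b90258a0360147b90258a0360147b90258a0360147b90258a0360147b90258a0360147b90258a0360147b90258a0360147b90258a0360147b90258a0360147b90258a0360147b90258a0360147b90258a0360147b90258a0360147b90258a0360147b90258a0360147b90258a0360147b90258a0360147b90258a0360147b90258a0360147b90258a0360147b90258a0360147b90258a0360147b90258a0360147b90258a0360147b90258a0360147b90258a0360147b90258a036ee) (nat_lit 0x630a85209b7410630a85209b7410630a85209b7410630a85209b7410630a85209b7410630a85209b7410630a85209b7410630a85209b7410630a85209b7410630a85209b7410630a85209b7410630a85209b7410630a85209b7410630a85209b7410630a85209b7410630a85209b7410630a85209b7410630a85209b7410630a85209b7410630a85209b7410630a85209b7410630a85209b7410630a85209b7410630a85209b7410630a85209b7410630a85209b7410630a85209b7410630a85209b7410630a85209b7410630a85209b7410630a85209b7410630a85209b7410630a85209b7410630a85209b7410ee)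 (Nat.ble (nat_lit 82) i))
noncomputable def r71_83 (i : ℕ) : ℕ := (@Bool.rec (fun _ => ℕ) (@Bool.rec (fun _ => ℕ) (@Bool.rec (fun _ => ℕ) (nat_lit 0x3b3b3b3b04) (r72_74 i) (Nat.ble (nat_lit 72) i)) (@Bool.rec (fun _ => ℕ) (nat_lit 0x6b6b6b6b04) (r75_77 i) (Nat.ble (nat_lit 75) i)) (Nat.ble (nat_lit 74) i)) (@Bool.rec (fun _ => ℕ) (@Bool.rec (fun _ => ℕ) (nat_lit 0xa9a9a9a904) (r78_80 i) (Nat.ble (nat_lit 78) i)) (@Bool.rec (fun _ => ℕ) (nat_lit 0x7410253741025374102537410253741025374102537410253741025374102539741025374102537410253741025374102537410253741025374102537410253940) (r81_83 i) (Nat.ble (nat_lit 81) i)) (Nat.ble (nat_lit 80) i)) (Nat.ble (nat_lit 77) i))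
noncomputable def r84_86 (i : ℕ) : ℕ := (@Bool.rec (fun _ => ℕ) (nat_lit 0x6305204106305204106305204106305204106305204106305204106305204106305204106305204106305204106305204106305204106305204106305204106305204106305204106305204106305204106305204106305204105a) (nat_lit 0x1) (Nat.ble (nat_lit 85) i))
noncomputable def r87_89 (i : ℕ) : ℕ := (@Bool.rec (fun _ => ℕ) (nat_lit 0x2201) (nat_lit 0x3301) (Nat.ble (nat_lit 88) i))
noncomputable def r90_92 (i : ℕ) : ℕ := (@Bool.rec (fun _ => ℕ) (nat_lit 0x5501) (nat_lit 0x6601) (Nat.ble (nat_lit 91) i))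
noncomputable def r93_95 (i : ℕ) : ℕ := (@Bool.rec (fun _ => ℕ) (nat_lit 0x8801) (nat_lit 0xaa01) (Nat.ble (nat_lit 94) i))
noncomputable def r83_95 (i : ℕ) : ℕ := (@Bool.rec (fun _ => ℕ) (@Bool.rec (fun _ => ℕ) (@Bool.rec (fun _ => ℕ) (nat_lit 0x140250360140250360140250360140250360140250360140250360140250360140250360140250360140250360140250360140250360140250360140250360140250360140250360140250360140250360140250360140250365a) (r84_86 i) (Nat.ble (nat_lit 84) i)) (@Bool.rec (fun _ => ℕ) (nat_lit 0x1101) (r87_89 i) (Nat.ble (nat_lit 87) i)) (Nat.ble (nat_lit 86) i)) (@Bool.rec (fun _ => ℕ) (@Bool.rec (fun _ => ℕ) (nat_lit 0x4401) (r90_92 i) (Nat.ble (nat_lit 90) i)) (@Bool.rec (fun _ => ℕ) (nat_lit 0x7701) (r93_95 i) (Nat.ble (nat_lit 93) i)) (Nat.ble (nat_lit 92) i)) (Nat.ble (nat_lit 89) i))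
noncomputable def RT (i : ℕ) : ℕ := (@Bool.rec (fun _ => ℕ) (@Bool.rec (fun _ => ℕ) (@Bool.rec (fun _ => ℕ) (r0_11 i) (r11_23 i) (Nat.ble (nat_lit 11) i)) (@Bool.rec (fun _ => ℕ) (r23_35 i) (r35_47 i) (Nat.ble (nat_lit 35) i)) (Nat.ble (nat_lit 23) i)) (@Bool.rec (fun _ => ℕ) (@Bool.rec (fun _ => ℕ) (r47_59 i) (r59_71 i) (Nat.ble (nat_lit 59) i)) (@Bool.rec (fun _ => ℕ) (r71_83 i) (r83_95 i) (Nat.ble (nat_lit 83) i)) (Nat.ble (nat_lit 71) i)) (Nat.ble (nat_lit 47) i))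
def S : List ℕ := [0x1, 0x1101, 0x2201, 0x3301, 0x4401, 0x5501, 0x6601, 0x7701, 0x8801, 0x9901, 0xaa01]

end CfsgH7.Fi24.E12
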